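import Mathlib
import Cfsg.Agent.S1202
import Cfsg.Agent.TwoFusion.QDBasic
import Cfsg.Agent.TwoFusion.WreathedBasic
set_option linter.all false

/-!
# The automorphism group of a quasi-dihedral or wreathed 2-group is a 2-group

* `isPGroup_mulAut`;
* `comm_of_normalize`: elements of odd order normalizing such a subgroup centralize it;
* `exists_mul_centralizer`: `M = N C_M(S)` for a Sylow 2-subgroup `S` of this type and `S ≤ N ⊲ M`.
-/

set_option autoImplicit false
set_option linter.unusedSectionVars false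

namespace Cfsg.Agent.Classification.QDW.AutSylow

open Subgroup Cfsg.Agent.TwoFusion

theorem isPGroup_of_odd {A : Type*} [Group A] [Finite A] (h : ∀ a : A, Odd (orderOf a) → a = 1) :
    IsPGroup 2 A := by
  intro a
  obtain ⟨k, m, hm, hk⟩ := Nat.exists_eq_two_pow_mul_odd (orderOf_pos a).ne'
  refine ⟨k, h _ ?_⟩
  rw [orderOf_pow, hk, Nat.gcd_mul_right_left, Nat.mul_div_cancel_left _ (by positivity)]
  exact hm

/-- an odd power of a unit modulo a power of two -/
theorem eq_one_of_pow {n r : ℕ} (hn : 1 ≤ n) (hr : Odd r) {c : ZMod (2 ^ n)} (h : c ^ r = 1) : c = 1 := by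
  have hr0 : r ≠ 0 := by rintro rfl; exact (by decide : ¬ Odd 0) hr
  let v : (ZMod (2 ^ n))ˣ := Units.ofPowEqOne c r h hr0
  have h1 : v ^ r = 1 := Units.pow_ofPowEqOne h hr0
  have h2 : v ^ (2 ^ n).totient = 1 := ZMod.pow_totient v
  rw [Nat.totient_prime_pow Nat.prime_two (by omega)] at h2
  have h3 : (2 ^ (n - 1) * (2 - 1)) = 2 ^ (n - 1) := by norm_num
  rw [h3] at h2
  have h4 := orderOf_dvd_of_pow_eq_one h1
  have h5 := orderOf_dvd_of_pow_eq_one h2
  have h6 : Nat.Coprime r (2 ^ (n - 1)) := Nat.Coprime.pow_right _ (Nat.coprime_two_right.2 hr)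
  have h7 := Nat.dvd_gcd h4 h5
  rw [h6] at h7
  have h8 : v = 1 := orderOf_eq_one_iff.1 (Nat.dvd_one.1 h7)
  have h9 := congrArg (fun w : (ZMod (2 ^ n))ˣ => (w : ZMod (2 ^ n))) h8
  exact h9

theorem eq_zero_of_mul {n r : ℕ} (hr : Odd r) {c : ZMod (2 ^ n)} (h : (r : ZMod (2 ^ n)) * c = 0) :
    c = 0 := by
  have h1 : Nat.Coprime r (2 ^ n) := Nat.Coprime.pow_right _ (Nat.coprime_two_right.2 hr)
  have h2 : IsUnit (r : ZMod (2 ^ n)) := (ZMod.isUnit_iff_coprime r (2 ^ n)).2 h1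
  exact (h2.mul_right_eq_zero).1 h

theorem isPGroup_qd {S : Type*} [Group S] [Finite S] (hS : Cfsg.IsQuasiDihedral S) :
    IsPGroup 2 (MulAut S) := by
  obtain ⟨n, u, y, h⟩ := QDBasic.exists_qdcoord hS
  have hn := h.three_le
  have h20 : (2 : ZMod (2 ^ n)) * 2 ^ (n - 1) = 0 := QDBasic.two_mul_half n (by omega)
  have hupow : ∀ (a : ZMod (2 ^ n)) (k : ℕ), u a ^ k = u (k * a) := by
    intro a k
    induction k with
    | zero => simp [h.u_zero]
    | succ k ih => rw [pow_succ, ih, h.u_mul]; congr 1; push_cast; ring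
  have hu1 : ∀ a : ZMod (2 ^ n), u a = u 1 ^ a.val := by
    intro a
    rw [hupow, mul_one, ZMod.natCast_zmod_val]
  -- fourth powers outside the cyclic subgroup
  have h4 : ∀ b : ZMod (2 ^ n), (u b * y) ^ 4 = 1 := by
    intro b
    have h1 : (u b * y) ^ 2 = u (2 ^ (n - 1) * b) := by
      rw [sq, mul_assoc, ← mul_assoc y, h.y_u, mul_assoc (u _) y, h.y_y, mul_one, h.u_mul]
      congr 1; ring
    rw [show 4 = 2 * 2 from rfl, pow_mul, h1, hupow, ← h.u_zero]
    congr 1
    push_cast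
    linear_combination b * h20
  apply isPGroup_of_odd
  intro α hα
  set r := orderOf α with hr
  have hαr : α ^ r = 1 := pow_orderOf_eq_one α
  -- `α (u 1) = u c`
  obtain ⟨c, hc⟩ : ∃ c, α (u 1) = u c := by
    rcases h.cases (α (u 1)) with h1 | ⟨b, hb⟩
    · exact h1
    · exfalso
      have h1 : α (u 1 ^ 4) = 1 := by rw [map_pow, hb, h4]
      rw [map_eq_one_iff α α.injective, hupow, ← h.u_zero] at h1
      have h3 := h.u_inj _ _ h1
      have h5 : ((4 : ℕ) : ZMod (2 ^ n)) = 0 := by rw [← h3]; ring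
      rw [QDBasic.natCast_eq_zero_iff] at h5
      have h7 : 2 ^ 3 ∣ 2 ^ n := pow_dvd_pow 2 hn
      have h8 := Nat.le_of_dvd (by norm_num) (h7.trans h5)
      norm_num at h8
  have hαu : ∀ a, α (u a) = u (c * a) := by
    intro a
    rw [hu1 a, map_pow, hc, hupow]
    congr 1
    rw [ZMod.natCast_zmod_val, mul_comm]
  have hpow : ∀ (k : ℕ) (a), (α ^ k) (u a) = u (c ^ k * a) := by
    intro k
    induction k with
    | zero => intro a; simp
    | succ k ih =>
      intro a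
      rw [pow_succ, MulAut.mul_apply, hαu, ih, pow_succ]
      congr 1; ring
  have hc1 : c = 1 := by
    apply eq_one_of_pow (by omega) hα
    have h1 := hpow r 1
    rw [hαr, MulAut.one_apply, mul_one] at h1
    exact (h.u_inj _ _ h1).symm
  subst hc1
  have hαu' : ∀ a, α (u a) = u a := fun a => by rw [hαu, one_mul]
  -- `α y = u i y`
  obtain ⟨i, hi⟩ : ∃ i, α y = u i * y := by
    rcases h.cases (α y) with ⟨b, hb⟩ | h1
    · exfalso
      rw [← hαu' b] at hb
      have h1 := α.injective hb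
      exact h.u_ne b 0 (by rw [h.u_zero, one_mul]; exact h1.symm)
    · exact h1
  have hpowy : ∀ k : ℕ, (α ^ k) y = u (k * i) * y := by
    intro k
    induction k with
    | zero => simp [h.u_zero]
    | succ k ih =>
      rw [pow_succ', MulAut.mul_apply, ih, map_mul, hαu', hi, ← mul_assoc, h.u_mul]
      congr 2; push_cast; ring
  have hi0 : i = 0 := by
    apply eq_zero_of_mul hα
    have h1 := hpowy r
    rw [hαr, MulAut.one_apply] at h1
    have h3 : u 0 * y = u (r * i) * y := by rw [h.u_zero, one_mul]; exact h1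
    exact (h.u_inj _ _ (mul_right_cancel h3)).symm
  rw [hi0, h.u_zero, one_mul] at hi
  apply MulEquiv.ext
  intro x
  rcases h.cases x with ⟨a, rfl⟩ | ⟨a, rfl⟩
  · rw [hαu', MulAut.one_apply]
  · rw [map_mul, hαu', hi, MulAut.one_apply]

theorem isPGroup_wr {S : Type*} [Group S] [Finite S] (hS : Cfsg.IsWreathed S) :
    IsPGroup 2 (MulAut S) := by
  obtain ⟨n, u, z, h⟩ := WreathedBasic.exists_wcoord hS
  have h1 : IsPGroup 2 (MulAut (⊤ : Subgroup S)) := by
    by_contra hA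
    have h2 := (Cfsg.Agent.S1202.result hS n h.card ⊤ le_top hA).1
    have h3 : Subgroup.normalizer ((⊤ : Subgroup S) : Set S) = ⊤ := by
      rw [eq_top_iff]; exact Subgroup.le_normalizer
    rw [h3, Subgroup.relIndex_self] at h2
    norm_num at h2
  exact h1.of_equiv (MulAut.congr Subgroup.topEquiv)

theorem isPGroup_mulAut {S : Type*} [Group S] [Finite S]
    (hS : Cfsg.IsQuasiDihedral S ∨ Cfsg.IsWreathed S) : IsPGroup 2 (MulAut S) := by
  rcases hS with h | h
  · exact isPGroup_qd h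
  · exact isPGroup_wr h

variable {M : Type*} [Group M] [Finite M]

/-- Elements of odd order normalizing a quasi-dihedral or wreathed subgroup centralize it. -/
theorem comm_of_normalize (P : Subgroup M) (hP : Cfsg.IsQuasiDihedral P ∨ Cfsg.IsWreathed P) {h : M}
    (hn : h ∈ Subgroup.normalizer (P : Set M)) (hodd : Odd (orderOf h)) : ∀ s ∈ P, h * s = s * h := by
  have h1 := isPGroup_mulAut hP
  let f : Subgroup.normalizer (P : Set M) →* MulAut P := P.normalizerMonoidHom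
  obtain ⟨k, hk⟩ := h1 (f ⟨h, hn⟩)
  have h2 : (f ⟨h, hn⟩) ^ orderOf h = 1 := by
    rw [← map_pow]
    have : (⟨h, hn⟩ : Subgroup.normalizer (P : Set M)) ^ orderOf h = 1 :=
      Subtype.ext (by rw [Subgroup.coe_pow]; exact pow_orderOf_eq_one h)
    rw [this, map_one]
  have h3 := Nat.dvd_gcd (orderOf_dvd_of_pow_eq_one hk) (orderOf_dvd_of_pow_eq_one h2)
  have h4 : Nat.Coprime (2 ^ k) (orderOf h) := Nat.Coprime.pow_left _ (Nat.coprime_two_left.2 hodd)
  rw [h4] at h3
  have h5 : f ⟨h, hn⟩ = 1 := orderOf_eq_one_iff.1 (Nat.dvd_one.1 h3)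
  intro s hs
  have h6 := congrArg Subtype.val (DFunLike.congr_fun h5 (⟨s, hs⟩ : P))
  have h7 : h * s * h⁻¹ = s := h6
  exact mul_inv_eq_iff_eq_mul.1 h7

/-- `M = N C_M(S)`. -/
theorem exists_mul_centralizer (S : Sylow 2 M)
    (hS : Cfsg.IsQuasiDihedral (S : Subgroup M) ∨ Cfsg.IsWreathed (S : Subgroup M)) (N : Subgroup M)
    [hN : N.Normal] (hSN : (S : Subgroup M) ≤ N) (m : M) :
    ∃ n ∈ N, ∃ c, (∀ s ∈ S, c * s = s * c) ∧ m = n * c := by
  have : Fact (Nat.Prime 2) := ⟨Nat.prime_two⟩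
  -- Frattini
  have hfr : N ⊔ Subgroup.normalizer ((S : Subgroup M) : Set M) = ⊤ := by
    rw [sup_comm]
    exact Sylow.normalizer_sup_eq_top' S hSN
  have hm : m ∈ N ⊔ Subgroup.normalizer ((S : Subgroup M) : Set M) := by rw [hfr]; trivial
  obtain ⟨a, ha, b, hb, rfl⟩ := Subgroup.mem_sup_of_normal_left.1 hm
  -- split `b`
  obtain ⟨k, r, hr, hkr⟩ := Nat.exists_eq_two_pow_mul_odd (orderOf_pos b).ne'
  have hcop : Nat.Coprime (2 ^ k) r := Nat.Coprime.pow_left _ (Nat.coprime_two_left.2 hr)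
  have hb1 : b ^ (2 ^ k * r) = 1 := by rw [← hkr, pow_orderOf_eq_one]
  -- Bezout
  have hbez : (1 : ℤ) = (2 ^ k : ℕ) * (2 ^ k).gcdA r + r * (2 ^ k).gcdB r := by
    have := Nat.gcd_eq_gcd_ab (2 ^ k) r
    rw [hcop] at this
    exact_mod_cast this
  set b1 := b ^ ((r : ℤ) * (2 ^ k).gcdB r) with hb1d
  set b2 := b ^ (((2 ^ k : ℕ) : ℤ) * (2 ^ k).gcdA r) with hb2d
  have hbb : b = b1 * b2 := by
    rw [hb1d, hb2d, ← zpow_add, add_comm, ← hbez, zpow_one]
  have hb1N : b1 ∈ Subgroup.normalizer ((S : Subgroup M) : Set M) := zpow_mem hb _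
  have hb2N : b2 ∈ Subgroup.normalizer ((S : Subgroup M) : Set M) := zpow_mem hb _
  -- `b1` is a 2-element, so in `S`
  have hb1p : b1 ^ 2 ^ k = 1 := by
    have h1 : b1 ^ ((2 ^ k : ℕ) : ℤ) = (b ^ ((2 ^ k * r : ℕ) : ℤ)) ^ (2 ^ k).gcdB r := by
      rw [hb1d, ← zpow_mul, ← zpow_mul]; congr 1; push_cast; ring
    rw [zpow_natCast, zpow_natCast, hb1, one_zpow] at h1
    exact h1
  have hb1S : b1 ∈ (S : Subgroup M) := by
    have hp : IsPGroup 2 (zpowers b1) := by
      obtain ⟨j, -, hj⟩ := (Nat.dvd_prime_pow Nat.prime_two).1 (orderOf_dvd_of_pow_eq_one hb1p)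
      exact IsPGroup.of_card (n := j) (by rw [Nat.card_zpowers, hj])
    have h5 : IsPGroup 2 (((S : Subgroup M) ⊔ zpowers b1 : Subgroup M)) :=
      S.2.to_sup_of_normal_left' hp (by rw [zpowers_le]; exact hb1N)
    have h6 := S.3 h5 le_sup_left
    rw [← h6]
    exact (le_sup_right : zpowers b1 ≤ _) (mem_zpowers b1)
  -- `b2` has odd order
  have hb2r : b2 ^ r = 1 := by
    have h1 : b2 ^ ((r : ℕ) : ℤ) = (b ^ ((2 ^ k * r : ℕ) : ℤ)) ^ (2 ^ k).gcdA r := by
      rw [hb2d, ← zpow_mul, ← zpow_mul]; congr 1; push_cast; ring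
    rw [zpow_natCast, zpow_natCast, hb1, one_zpow] at h1
    exact h1
  have hb2o : Odd (orderOf b2) := Odd.of_dvd_nat hr (orderOf_dvd_of_pow_eq_one hb2r)
  have hb2c := comm_of_normalize (S : Subgroup M) hS hb2N hb2o
  exact ⟨a * b1, mul_mem ha (hSN hb1S), b2, hb2c, by rw [hbb, mul_assoc]⟩

end Cfsg.Agent.Classification.QDW.AutSylow
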