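import Mathlib
import Cfsg.Agent.Classification.InvCent.WreathedGramTwo
import Cfsg.Agent.S0281
import Cfsg.Agent.Classification.QDW.TypeHom
import Cfsg.Agent.Classification.InvCent.GUTwo
import Cfsg.Agent.Classification.RTwo.Main_mg
import Cfsg.Agent.LieClassical.SmallIso
import Cfsg.Agent.Classification.InvCent.GLTwo
import Cfsg.Agent.ClassicalGeometry.NegOneOmega
import Cfsg.Agent.Classification.QDW.AutSylow
import Cfsg.Agent.ClassicalGeometry.PoleCases
import Cfsg.Agent.ClassicalGeometry.PolePrime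
import Cfsg.Agent.ClassicalGeometry.PoleBridge
import Cfsg.Agent.ClassicalGeometry.PSL2Basic
import Cfsg.Agent.LieExceptional.PGLeqPSL
import Cfsg.Agent.S0806
import Cfsg.Agent.TwoFusion.SLTwoFacts
import Cfsg.Agent.Classification.QDW.NormBound_m3
import Cfsg.Agent.FastGrp
import Cfsg.Agent.Prune
set_option linter.all false

section
prune_inst 0x7fbcbcfa2fe88ddfdfff7e3dfed9dffc1090cfffbfdff9437fe061ff0f9f030009c56b8d0de010ff0ed6609410387803fb7eceffe86bdc7ffffd5ff41ffbee0fe5f6b508119080240f340ff603f0678a7f3fffffffffffffffffffffffffffbeffffffffffff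

-- part: Classification/QDW/GramInt
section
prune_inst 0x434305d0177220200001c2012220002b0310004020040880030a00706034fd060a94329014a200d1218269e003805000002100020402000000a00300000070120902c4e06c7c9030cae0099803183180c00000000000000000000000000041000000000000
set_option linter.all false
open scoped Cfsg.Agent.FastGrp

/-!
# The Gram matrix argument without the trivial character, integer vectors

Integer vectors `Φ i` (at least three) of norm `3` with mutual inner products `2`, `S` of norm `4`,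
`P` of norm `3`, `(Φ i, S) = 2`, `(P, Φ i) = 1`, `(P, S) = 2`, all orthogonal to a vector `d` without
zero entries.  Then `Φ i = a + b + L i`, `S = a + b + r₁ + r₂`, `P = a + r₁ + g` with signed unit
vectors.
-/

set_option autoImplicit false
set_option linter.unusedSectionVars false
set_option linter.unusedSimpArgs false

namespace Cfsg.Agent.Classification.QDW.GramInt

open Matrix

variable {ι : Type*} [Fintype ι] [DecidableEq ι]

/-- Signed unit vectors. -/
def U (v : ι → ℤ) : Prop := ∃ i, v = Pi.single i 1 ∨ v = Pi.single i (-1)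

theorem dot_self_nonneg (v : ι → ℤ) : 0 ≤ v ⬝ᵥ v :=
  Finset.sum_nonneg fun i _ => mul_self_nonneg (v i)

theorem eq_zero_of_dot {v : ι → ℤ} (h : v ⬝ᵥ v = 0) : v = 0 := by
  funext i
  have h1 := (Finset.sum_eq_zero_iff_of_nonneg (fun i _ => mul_self_nonneg (v i))).1 h i
    (Finset.mem_univ i)
  simpa using mul_self_eq_zero.1 h1

theorem U.norm {v : ι → ℤ} (h : U v) : v ⬝ᵥ v = 1 := by
  obtain ⟨i, rfl | rfl⟩ := h <;> simp only [_root_.dotProduct_single, _root_.Pi.single_eq_same, _root_.mul_one, _root_.Int.reduceNeg, _root_.mul_neg, _root_.neg_neg]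

theorem U.neg {v : ι → ℤ} (h : U v) : U (-v) := by
  obtain ⟨i, rfl | rfl⟩ := h
  · exact ⟨i, Or.inr (by rw [← Pi.single_neg])⟩
  · exact ⟨i, Or.inl (by rw [← Pi.single_neg, neg_neg])⟩

theorem U.dot_ne {v d : ι → ℤ} (h : U v) (hd : ∀ i, d i ≠ 0) : v ⬝ᵥ d ≠ 0 := by
  obtain ⟨i, rfl | rfl⟩ := h <;> simp only [hd i, _root_.single_dotProduct, _root_.one_mul, _root_.ne_eq, _root_.not_false_eq_true, _root_.Int.reduceNeg, _root_.neg_mul, _root_.neg_eq_zero]

/-- A vector of norm between one and three has a signed unit vector. -/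
theorem peel {v : ι → ℤ} (h0 : 0 < v ⬝ᵥ v) (h4 : v ⬝ᵥ v < 4) : ∃ r, U r ∧ v ⬝ᵥ r = 1 := by
  obtain ⟨i, hi⟩ : ∃ i, v i ≠ 0 := by
    by_contra hcon
    push Not at hcon
    rw [show v = 0 from funext hcon] at h0
    simp only [_root_.dotProduct_zero, _root_.lt_self_iff_false] at h0
  have h1 : v i * v i ≤ v ⬝ᵥ v :=
    Finset.single_le_sum (f := fun i => v i * v i) (fun i _ => mul_self_nonneg (v i))
      (Finset.mem_univ i)
  have h2 : v i = 1 ∨ v i = -1 := by
    have h3 : v i < 2 := by nlinarith only [h4, h1]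
    have h4 : -2 < v i := by nlinarith only [h4, h1]
    omega
  rcases h2 with h2 | h2
  · exact ⟨Pi.single i 1, ⟨i, Or.inl rfl⟩, by simp only [h2, _root_.dotProduct_single, _root_.mul_one]⟩
  · exact ⟨Pi.single i (-1), ⟨i, Or.inr rfl⟩, by simp only [h2, _root_.Int.reduceNeg, _root_.dotProduct_single, _root_.mul_neg, _root_.mul_one, _root_.neg_neg]⟩

theorem sub_norm {v r : ι → ℤ} (hr : U r) (h : v ⬝ᵥ r = 1) :
    (v - r) ⬝ᵥ (v - r) = v ⬝ᵥ v - 1 := by
  rw [sub_dotProduct, dotProduct_sub, dotProduct_sub, dotProduct_comm r v, h, hr.norm]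
  ring

theorem U_of_norm {v : ι → ℤ} (h : v ⬝ᵥ v = 1) : U v := by
  obtain ⟨r, hr, h1⟩ := peel (v := v) (by omega) (by omega)
  have h2 := eq_zero_of_dot (v := v - r) (by rw [sub_norm hr h1]; omega)
  rw [sub_eq_zero.1 h2]
  exact hr

/-- Two signed unit vectors, one contained in `f`, the other orthogonal to `f`, are orthogonal. -/
theorem U.dot {v w : ι → ℤ} (hv : U v) (hw : U w) : v ⬝ᵥ w = 0 ∨ v = w ∨ v = -w := by
  obtain ⟨i, hv⟩ := hv
  obtain ⟨j, hw⟩ := hw
  by_cases hij : i = j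
  · subst hij
    right
    rcases hv with rfl | rfl <;> rcases hw with rfl | rfl <;> simp [← Pi.single_neg]
  · left
    rcases hv with rfl | rfl <;> rcases hw with rfl | rfl <;> simp only [hij, Ne.symm hij, _root_.dotProduct_single, _root_.ne_eq, _root_.not_false_eq_true, _root_.Pi.single_eq_of_ne, _root_.mul_one, _root_.Int.reduceNeg, _root_.mul_neg, _root_.neg_zero]

theorem U.ortho {f v w : ι → ℤ} (hv : U v) (hw : U w) (h1 : f ⬝ᵥ v = 1) (h0 : f ⬝ᵥ w = 0) :
    v ⬝ᵥ w = 0 := by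
  rcases hv.dot hw with h | h | h
  · exact h
  · rw [h, h0] at h1; omega
  · rw [h, dotProduct_neg, h0] at h1; omega

theorem U.eq_of {v w : ι → ℤ} (hv : U v) (hw : U w) (h : v ⬝ᵥ w = 1) : v = w := by
  rcases hv.dot hw with h1 | h1 | h1
  · omega
  · exact h1
  · rw [h1, neg_dotProduct, hw.norm] at h; omega

/-- Norm two. -/
theorem split_two {v : ι → ℤ} (h : v ⬝ᵥ v = 2) :
    ∃ a b, U a ∧ U b ∧ v = a + b ∧ a ⬝ᵥ b = 0 := by
  obtain ⟨a, ha, h1⟩ := peel (v := v) (by omega) (by omega)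
  refine ⟨a, v - a, ha, U_of_norm (by rw [sub_norm ha h1]; omega), by abel, ?_⟩
  rw [dotProduct_sub, dotProduct_comm, h1, ha.norm, sub_self]

/-- The Gram data. -/
structure Hyp {Θ : Type*} [DecidableEq Θ] (d : ι → ℤ) (Φ : Θ → ι → ℤ) (S P : ι → ℤ) : Prop where
  ne : ∀ i, d i ≠ 0
  oneΦ : ∀ i, Φ i ⬝ᵥ d = 0
  oneS : S ⬝ᵥ d = 0
  oneP : P ⬝ᵥ d = 0
  ΦΦ : ∀ i j, Φ i ⬝ᵥ Φ j = if i = j then 3 else 2
  ΦS : ∀ i, Φ i ⬝ᵥ S = 2
  SS : S ⬝ᵥ S = 4
  PP : P ⬝ᵥ P = 3
  PΦ : ∀ i, P ⬝ᵥ Φ i = 1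
  PS : P ⬝ᵥ S = 2

variable {Θ : Type*} [DecidableEq Θ] {d : ι → ℤ} {Φ : Θ → ι → ℤ} {S P : ι → ℤ}

theorem Hyp.ΦΦ_self (h : Hyp d Φ S P) (i : Θ) : Φ i ⬝ᵥ Φ i = 3 := by rw [h.ΦΦ, if_pos rfl]

theorem Hyp.ΦΦ_ne (h : Hyp d Φ S P) {i j : Θ} (hij : i ≠ j) : Φ i ⬝ᵥ Φ j = 2 := by
  rw [h.ΦΦ, if_neg hij]

/-- First step: four orthogonal signed unit vectors. -/
theorem Hyp.exists_four (h : Hyp d Φ S P) {i j : Θ} (hij : i ≠ j) :
    ∃ a b c e : ι → ℤ, U a ∧ U b ∧ U c ∧ U e ∧ a ⬝ᵥ b = 0 ∧ a ⬝ᵥ c = 0 ∧ a ⬝ᵥ e = 0 ∧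
      b ⬝ᵥ c = 0 ∧ b ⬝ᵥ e = 0 ∧ c ⬝ᵥ e = 0 ∧ Φ i = a + b + c ∧ Φ j = a + b + e := by
  have hii := h.ΦΦ_self i
  have hjj := h.ΦΦ_self j
  have hi := h.ΦΦ_ne hij
  have hj := h.ΦΦ_ne hij.symm
  -- the difference
  have key : ∃ c e : ι → ℤ, U c ∧ U e ∧ c ⬝ᵥ e = 0 ∧ Φ i - Φ j = c - e ∧ Φ i ⬝ᵥ c = 1 ∧
      Φ i ⬝ᵥ e = 0 := by
    obtain ⟨c, e, hc, he, hce, hce0⟩ := split_two (v := Φ i - Φ j) (by
      rw [sub_dotProduct, dotProduct_sub, dotProduct_sub, hii, hjj, hi, hj]; norm_num)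
    have h1 : Φ i ⬝ᵥ c + Φ i ⬝ᵥ e = 1 := by
      rw [← dotProduct_add, ← hce, dotProduct_sub, hii, hi]; norm_num
    have h2 : (Φ i - (Φ i ⬝ᵥ c) • c - (Φ i ⬝ᵥ e) • e) ⬝ᵥ (Φ i - (Φ i ⬝ᵥ c) • c - (Φ i ⬝ᵥ e) • e) =
        3 - (Φ i ⬝ᵥ c) ^ 2 - (Φ i ⬝ᵥ e) ^ 2 := by
      simp only [sub_dotProduct, dotProduct_sub, smul_dotProduct, dotProduct_smul, hii, hc.norm,
        he.norm, hce0, dotProduct_comm e c, dotProduct_comm c (Φ i), dotProduct_comm e (Φ i),
        smul_eq_mul]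
      ring
    have h3 := dot_self_nonneg (Φ i - (Φ i ⬝ᵥ c) • c - (Φ i ⬝ᵥ e) • e)
    rw [h2] at h3
    have h4 : (Φ i ⬝ᵥ c = 1 ∧ Φ i ⬝ᵥ e = 0) ∨ (Φ i ⬝ᵥ c = 0 ∧ Φ i ⬝ᵥ e = 1) := by
      generalize Φ i ⬝ᵥ c = x at *
      generalize Φ i ⬝ᵥ e = y at *
      have h5 : y = 1 - x := by omega
      subst h5
      have h6 : -1 < x := by nlinarith only [h3]
      have h7 : x < 2 := by nlinarith only [h3]
      have : x = 0 ∨ x = 1 := by omega
      rcases this with rfl | rfl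
      · right; omega
      · left; omega
    rcases h4 with ⟨h4, h5⟩ | ⟨h4, h5⟩
    · exact ⟨c, -e, hc, he.neg, by rw [dotProduct_neg, hce0, neg_zero], by rw [hce]; abel, h4,
        by rw [dotProduct_neg, h5, neg_zero]⟩
    · exact ⟨e, -c, he, hc.neg, by rw [dotProduct_neg, dotProduct_comm, hce0, neg_zero],
        by rw [hce]; abel, h5, by rw [dotProduct_neg, h4, neg_zero]⟩
  obtain ⟨c, e, hc, he, hce, hsub, h1, h0⟩ := key
  obtain ⟨a, b, ha, hb, hab, hab0⟩ := split_two (v := Φ i - c) (by rw [sub_norm hc h1, hii]; rfl)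
  have fa : (Φ i - c) ⬝ᵥ a = 1 := by
    rw [hab, add_dotProduct, ha.norm, dotProduct_comm b a, hab0]; rfl
  have fb : (Φ i - c) ⬝ᵥ b = 1 := by
    rw [hab, add_dotProduct, hb.norm, hab0]; rfl
  have fc : (Φ i - c) ⬝ᵥ c = 0 := by rw [sub_dotProduct, h1, hc.norm, sub_self]
  have fe : (Φ i - c) ⬝ᵥ e = 0 := by rw [sub_dotProduct, h0, hce, sub_self]
  refine ⟨a, b, c, e, ha, hb, hc, he, hab0, ha.ortho hc fa fc, ha.ortho he fa fe,
    hb.ortho hc fb fc, hb.ortho he fb fe, hce, ?_, ?_⟩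
  · rw [← hab]; abel
  · rw [← hab, show Φ j = Φ i - (Φ i - Φ j) by abel, hsub]; abel

/-- Bessel for four vectors. -/
theorem bessel_four {a b c e v : ι → ℤ} (ha : U a) (hb : U b) (hc : U c) (he : U e)
    (hab : a ⬝ᵥ b = 0) (hac : a ⬝ᵥ c = 0) (hae : a ⬝ᵥ e = 0) (hbc : b ⬝ᵥ c = 0)
    (hbe : b ⬝ᵥ e = 0) (hce : c ⬝ᵥ e = 0) :
    (v - (v ⬝ᵥ a) • a - (v ⬝ᵥ b) • b - (v ⬝ᵥ c) • c - (v ⬝ᵥ e) • e) ⬝ᵥ
      (v - (v ⬝ᵥ a) • a - (v ⬝ᵥ b) • b - (v ⬝ᵥ c) • c - (v ⬝ᵥ e) • e) =
      v ⬝ᵥ v - (v ⬝ᵥ a) ^ 2 - (v ⬝ᵥ b) ^ 2 - (v ⬝ᵥ c) ^ 2 - (v ⬝ᵥ e) ^ 2 := by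
  simp only [sub_dotProduct, dotProduct_sub, smul_dotProduct, dotProduct_smul, ha.norm, hb.norm,
    hc.norm, he.norm, hab, hac, hae, hbc, hbe, hce, dotProduct_comm b a, dotProduct_comm c a,
    dotProduct_comm e a, dotProduct_comm c b, dotProduct_comm e b, dotProduct_comm e c,
    dotProduct_comm a v, dotProduct_comm b v, dotProduct_comm c v, dotProduct_comm e v,
    smul_eq_mul]
  ring

/-- No vector of the family is `a + c + e`. -/
theorem Hyp.not_mixed (h : Hyp d Φ S P) {i j k : Θ} {a b c e : ι → ℤ} (ha : U a) (hb : U b)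
    (hc : U c) (he : U e) (hab : a ⬝ᵥ b = 0) (hac : a ⬝ᵥ c = 0) (hae : a ⬝ᵥ e = 0)
    (hbc : b ⬝ᵥ c = 0) (hbe : b ⬝ᵥ e = 0) (hce : c ⬝ᵥ e = 0) (hi : Φ i = a + b + c)
    (hj : Φ j = a + b + e) (hk : Φ k = a + c + e) : False := by
  -- `P`
  have p1 : P ⬝ᵥ a + P ⬝ᵥ b + P ⬝ᵥ c = 1 := by
    rw [← dotProduct_add, ← dotProduct_add, ← hi, h.PΦ]
  have p2 : P ⬝ᵥ a + P ⬝ᵥ b + P ⬝ᵥ e = 1 := by
    rw [← dotProduct_add, ← dotProduct_add, ← hj, h.PΦ]
  have p3 : P ⬝ᵥ a + P ⬝ᵥ c + P ⬝ᵥ e = 1 := by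
    rw [← dotProduct_add, ← dotProduct_add, ← hk, h.PΦ]
  have pb := bessel_four (v := P) ha hb hc he hab hac hae hbc hbe hce
  rw [h.PP] at pb
  have pn := dot_self_nonneg (P - (P ⬝ᵥ a) • a - (P ⬝ᵥ b) • b - (P ⬝ᵥ c) • c - (P ⬝ᵥ e) • e)
  rw [pb] at pn
  have pv : P ⬝ᵥ a = 1 ∧ P ⬝ᵥ b = 0 ∧ P ⬝ᵥ c = 0 ∧ P ⬝ᵥ e = 0 := by
    generalize P ⬝ᵥ a = x at *
    generalize P ⬝ᵥ b = y at *
    generalize P ⬝ᵥ c = z at *
    generalize P ⬝ᵥ e = w at *
    have e1 : z = y := by omega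
    have e2 : w = y := by omega
    have e3 : x = 1 - 2 * y := by omega
    subst e1 e2 e3
    have h1 : -1 < w := by linarith only [pn, _root_.sq_nonneg (w : ℤ)]
    have h2 : w < 1 := by nlinarith only [pn]
    have : w = 0 := by omega
    subst this
    omega
  obtain ⟨pa, pb', pc, pe⟩ := pv
  -- `S`
  have s1 : S ⬝ᵥ a + S ⬝ᵥ b + S ⬝ᵥ c = 2 := by
    rw [← dotProduct_add, ← dotProduct_add, ← hi, dotProduct_comm, h.ΦS]
  have s2 : S ⬝ᵥ a + S ⬝ᵥ b + S ⬝ᵥ e = 2 := by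
    rw [← dotProduct_add, ← dotProduct_add, ← hj, dotProduct_comm, h.ΦS]
  have s3 : S ⬝ᵥ a + S ⬝ᵥ c + S ⬝ᵥ e = 2 := by
    rw [← dotProduct_add, ← dotProduct_add, ← hk, dotProduct_comm, h.ΦS]
  have sb := bessel_four (v := S) ha hb hc he hab hac hae hbc hbe hce
  rw [h.SS] at sb
  have sn := dot_self_nonneg (S - (S ⬝ᵥ a) • a - (S ⬝ᵥ b) • b - (S ⬝ᵥ c) • c - (S ⬝ᵥ e) • e)
  rw [sb] at sn
  have sv : (S ⬝ᵥ a = 2 ∧ S ⬝ᵥ b = 0 ∧ S ⬝ᵥ c = 0 ∧ S ⬝ᵥ e = 0) ∨
      (S ⬝ᵥ a = 0 ∧ S ⬝ᵥ b = 1 ∧ S ⬝ᵥ c = 1 ∧ S ⬝ᵥ e = 1) := by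
    generalize S ⬝ᵥ a = x at *
    generalize S ⬝ᵥ b = y at *
    generalize S ⬝ᵥ c = z at *
    generalize S ⬝ᵥ e = w at *
    have e1 : z = y := by omega
    have e2 : w = y := by omega
    have e3 : x = 2 - 2 * y := by omega
    subst e1 e2 e3
    have h1 : -1 < w := by linarith only [sn, _root_.sq_nonneg (w : ℤ)]
    have h2 : w < 3 := by linarith only [sn, _root_.sq_nonneg (2 - 2 * w : ℤ)]
    have h3 : w ≠ 2 := by rintro rfl; norm_num at sn
    have : w = 0 ∨ w = 1 := by omega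
    rcases this with rfl | rfl
    · left; omega
    · right; omega
  rcases sv with ⟨sa, sb', sc, se⟩ | ⟨sa, sb', sc, se⟩
  · rw [sa, sb', sc, se] at sb
    have h0 := eq_zero_of_dot (sb.trans (by norm_num))
    have h1 : S ⬝ᵥ d = 2 * (a ⬝ᵥ d) := by
      have : S = (2 : ℤ) • a := by
        have := sub_eq_zero.1 (show S - (2 : ℤ) • a = 0 by simpa only [_root_.zsmul_eq_mul, _root_.Int.cast_ofNat, _root_.zero_smul, _root_.sub_zero] using h0)
        exact this
      rw [this, smul_dotProduct, smul_eq_mul]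
    rw [h.oneS] at h1
    exact ha.dot_ne h.ne (by omega)
  · rw [sa, sb', sc, se] at sb
    set r := S - (0 : ℤ) • a - (1 : ℤ) • b - (1 : ℤ) • c - (1 : ℤ) • e with hr
    have hrr : r ⬝ᵥ r = 1 := by rw [sb]; norm_num
    have hPr : P ⬝ᵥ r = 2 := by
      rw [hr]
      simp only [dotProduct_sub, dotProduct_smul, h.PS, pa, pb', pc, pe, smul_eq_mul]
      norm_num
    have har : a ⬝ᵥ r = 0 := by
      rw [hr]
      simp only [dotProduct_sub, dotProduct_smul, dotProduct_comm a S, sa, ha.norm, hab, hac, hae,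
        smul_eq_mul]
      norm_num
    have := dot_self_nonneg (P - a - (2 : ℤ) • r)
    have h2 : (P - a - (2 : ℤ) • r) ⬝ᵥ (P - a - (2 : ℤ) • r) = -2 := by
      simp only [sub_dotProduct, dotProduct_sub, smul_dotProduct, dotProduct_smul, h.PP,
        dotProduct_comm a P, dotProduct_comm r P, dotProduct_comm r a, pa, hPr, har, hrr, ha.norm,
        smul_eq_mul]
      norm_num
    omega

/-- The decomposition. -/
structure Split (Φ : Θ → ι → ℤ) (S P X₁ X₂ X₃ X₄ X₅ : ι → ℤ) (L : Θ → ι → ℤ) : Prop where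
  s₁ : U X₁
  s₂ : U X₂
  s₃ : U X₃
  s₄ : U X₄
  s₅ : U X₅
  sL : ∀ i, U (L i)
  x₁₂ : X₁ ⬝ᵥ X₂ = 0
  x₁₃ : X₁ ⬝ᵥ X₃ = 0
  x₁₄ : X₁ ⬝ᵥ X₄ = 0
  x₁₅ : X₁ ⬝ᵥ X₅ = 0
  x₂₃ : X₂ ⬝ᵥ X₃ = 0
  x₂₄ : X₂ ⬝ᵥ X₄ = 0
  x₂₅ : X₂ ⬝ᵥ X₅ = 0
  x₃₄ : X₃ ⬝ᵥ X₄ = 0
  x₃₅ : X₃ ⬝ᵥ X₅ = 0
  x₄₅ : X₄ ⬝ᵥ X₅ = 0
  L₁ : ∀ i, L i ⬝ᵥ X₁ = 0
  L₂ : ∀ i, L i ⬝ᵥ X₂ = 0
  L₃ : ∀ i, L i ⬝ᵥ X₃ = 0
  L₄ : ∀ i, L i ⬝ᵥ X₄ = 0
  L₅ : ∀ i, L i ⬝ᵥ X₅ = 0
  LL : ∀ i j, i ≠ j → L i ⬝ᵥ L j = 0
  eqΦ : ∀ i, Φ i = X₁ - X₂ + L i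
  eqS : S = X₁ - X₂ + X₄ - X₅
  eqP : P = X₁ + X₃ + X₄

/-- The last step, once the common part is known. -/
theorem Hyp.final (h : Hyp d Φ S P) {a b : ι → ℤ} (ha : U a) (hb : U b) (hab : a ⬝ᵥ b = 0)
    (hΦa : ∀ i, Φ i ⬝ᵥ a = 1) (hΦb : ∀ i, Φ i ⬝ᵥ b = 1) (hPa : P ⬝ᵥ a = 1) (hPb : P ⬝ᵥ b = 0)
    (hSa : S ⬝ᵥ a = 1) (hSb : S ⬝ᵥ b = 1) :
    ∃ (X₁ X₂ X₃ X₄ X₅ : ι → ℤ) (L : Θ → ι → ℤ), Split Φ S P X₁ X₂ X₃ X₄ X₅ L := by
  have hba : b ⬝ᵥ a = 0 := by rw [dotProduct_comm, hab]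
  -- `L`
  have hLu : ∀ i, U (Φ i - a - b) := by
    intro i
    apply U_of_norm
    simp only [sub_dotProduct, dotProduct_sub, h.ΦΦ_self, hΦa, hΦb, dotProduct_comm a (Φ i),
      dotProduct_comm b (Φ i), ha.norm, hb.norm, hab, hba]
    norm_num
  have hLa : ∀ i, (Φ i - a - b) ⬝ᵥ a = 0 := by
    intro i
    simp only [sub_dotProduct, hΦa, ha.norm, hba]
    norm_num
  have hLb : ∀ i, (Φ i - a - b) ⬝ᵥ b = 0 := by
    intro i
    simp only [sub_dotProduct, hΦb, hb.norm, hab]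
    norm_num
  have hLL : ∀ i j, i ≠ j → (Φ i - a - b) ⬝ᵥ (Φ j - a - b) = 0 := by
    intro i j hij
    simp only [sub_dotProduct, dotProduct_sub, h.ΦΦ_ne hij, hΦa, hΦb, dotProduct_comm a (Φ j),
      dotProduct_comm b (Φ j), ha.norm, hb.norm, hab, hba]
    norm_num
  have hSL : ∀ i, (S - a - b) ⬝ᵥ (Φ i - a - b) = 0 := by
    intro i
    simp only [sub_dotProduct, dotProduct_sub, dotProduct_comm S (Φ i), h.ΦS, hΦa, hΦb, hSa, hSb,
      dotProduct_comm a (Φ i), dotProduct_comm b (Φ i), ha.norm, hb.norm, hab, hba]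
    norm_num
  have hPL : ∀ i, (P - a) ⬝ᵥ (Φ i - a - b) = 0 := by
    intro i
    simp only [sub_dotProduct, dotProduct_sub, h.PΦ, hΦa, hPa, hPb,
      dotProduct_comm a (Φ i), ha.norm, hab]
    norm_num
  have hSS : (S - a - b) ⬝ᵥ (S - a - b) = 2 := by
    simp only [sub_dotProduct, dotProduct_sub, h.SS, hSa, hSb,
      dotProduct_comm a S, dotProduct_comm b S, ha.norm, hb.norm, hab, hba]
    norm_num
  have hPP : (P - a) ⬝ᵥ (P - a) = 2 := by
    simp only [sub_dotProduct, dotProduct_sub, h.PP, hPa, dotProduct_comm a P, ha.norm]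
    norm_num
  have hPS : (P - a) ⬝ᵥ (S - a - b) = 1 := by
    simp only [sub_dotProduct, dotProduct_sub, h.PS, hPa, hPb, dotProduct_comm a S, hSa, ha.norm,
      hab]
    norm_num
  have hRa : (S - a - b) ⬝ᵥ a = 0 := by
    simp only [sub_dotProduct, hSa, ha.norm, hba]; norm_num
  have hRb : (S - a - b) ⬝ᵥ b = 0 := by
    simp only [sub_dotProduct, hSb, hb.norm, hab]; norm_num
  have hQa : (P - a) ⬝ᵥ a = 0 := by
    simp only [sub_dotProduct, hPa, ha.norm]; norm_num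
  have hQb : (P - a) ⬝ᵥ b = 0 := by
    simp only [sub_dotProduct, hPb, hab]; norm_num
  set R := S - a - b with hR
  set Q := P - a with hQ
  obtain ⟨x, y, hx, hy, hxy, hxy0⟩ := split_two hPP
  -- the final step for `X₄ = x`, `X₃ = y`
  have fin : ∀ x y : ι → ℤ, U x → U y → x ⬝ᵥ y = 0 → Q = x + y → R ⬝ᵥ x = 1 → R ⬝ᵥ y = 0 →
      ∃ (X₁ X₂ X₃ X₄ X₅ : ι → ℤ) (L : Θ → ι → ℤ), Split Φ S P X₁ X₂ X₃ X₄ X₅ L := by
    intro x y hx hy hxy hQxy hRx hRy
    have hyx : y ⬝ᵥ x = 0 := by rw [dotProduct_comm, hxy]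
    have hQx : Q ⬝ᵥ x = 1 := by rw [hQxy, add_dotProduct, hx.norm, hyx]; rfl
    have hQy : Q ⬝ᵥ y = 1 := by rw [hQxy, add_dotProduct, hy.norm, hxy]; rfl
    have hw : U (R - x) := U_of_norm (by rw [sub_norm hx hRx, hSS]; rfl)
    have hRw : R ⬝ᵥ (R - x) = 1 := by rw [dotProduct_sub, hSS, hRx]; rfl
    refine ⟨a, -b, y, x, -(R - x), fun i => Φ i - a - b, ?_⟩
    exact
      { s₁ := ha
        s₂ := hb.neg
        s₃ := hy
        s₄ := hx
        s₅ := hw.neg
        sL := hLu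
        x₁₂ := by rw [dotProduct_neg, hab, neg_zero]
        x₁₃ := by rw [dotProduct_comm]; exact hy.ortho ha hQy hQa
        x₁₄ := by rw [dotProduct_comm]; exact hx.ortho ha hQx hQa
        x₁₅ := by rw [dotProduct_neg, dotProduct_comm, hw.ortho ha hRw hRa, neg_zero]
        x₂₃ := by rw [neg_dotProduct, dotProduct_comm, hy.ortho hb hQy hQb, neg_zero]
        x₂₄ := by rw [neg_dotProduct, dotProduct_comm, hx.ortho hb hQx hQb, neg_zero]
        x₂₅ := by rw [neg_dotProduct, dotProduct_neg, dotProduct_comm, hw.ortho hb hRw hRb, neg_zero,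
          neg_zero]
        x₃₄ := hyx
        x₃₅ := by rw [dotProduct_neg, dotProduct_sub, dotProduct_comm y R, hRy, hyx, sub_zero,
          neg_zero]
        x₄₅ := by rw [dotProduct_neg, dotProduct_sub, dotProduct_comm x R, hRx, hx.norm, sub_self,
          neg_zero]
        L₁ := hLa
        L₂ := fun i => by rw [dotProduct_neg, hLb, neg_zero]
        L₃ := fun i => by rw [dotProduct_comm]; exact hy.ortho (hLu i) hQy (hPL i)
        L₄ := fun i => by rw [dotProduct_comm]; exact hx.ortho (hLu i) hQx (hPL i)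
        L₅ := fun i => by
          rw [dotProduct_neg, dotProduct_comm, hw.ortho (hLu i) hRw (hSL i), neg_zero]
        LL := hLL
        eqΦ := fun i => by abel
        eqS := by rw [hR]; abel
        eqP := by
          have : P = Q + a := by rw [hQ]; abel
          rw [this, hQxy]; abel }
  have h1 : R ⬝ᵥ x + R ⬝ᵥ y = 1 := by rw [← dotProduct_add, ← hxy, dotProduct_comm, hPS]
  have h2 : (R - (R ⬝ᵥ x) • x - (R ⬝ᵥ y) • y) ⬝ᵥ (R - (R ⬝ᵥ x) • x - (R ⬝ᵥ y) • y) =
      2 - (R ⬝ᵥ x) ^ 2 - (R ⬝ᵥ y) ^ 2 := by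
    simp only [sub_dotProduct, dotProduct_sub, smul_dotProduct, dotProduct_smul, hSS, hx.norm,
      hy.norm, hxy0, dotProduct_comm y x, dotProduct_comm x R, dotProduct_comm y R, smul_eq_mul]
    ring
  have h3 := dot_self_nonneg (R - (R ⬝ᵥ x) • x - (R ⬝ᵥ y) • y)
  rw [h2] at h3
  have h4 : (R ⬝ᵥ x = 1 ∧ R ⬝ᵥ y = 0) ∨ (R ⬝ᵥ x = 0 ∧ R ⬝ᵥ y = 1) := by
    generalize R ⬝ᵥ x = m at *
    generalize R ⬝ᵥ y = k at *
    have h5 : k = 1 - m := by omega
    subst h5
    have h6 : -1 < m := by linarith only [h3, _root_.sq_nonneg (m : ℤ)]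
    have h7 : m < 2 := by linarith only [h3, _root_.sq_nonneg (1 - m : ℤ)]
    have : m = 0 ∨ m = 1 := by omega
    rcases this with rfl | rfl
    · right; omega
    · left; omega
  rcases h4 with ⟨h4, h5⟩ | ⟨h4, h5⟩
  · exact fin x y hx hy hxy0 hxy h4 h5
  · exact fin y x hy hx (by rw [dotProduct_comm, hxy0]) (by rw [hxy, add_comm]) h5 h4

set_option maxHeartbeats 2000000 in
/-- **The decomposition without the trivial character.** -/
theorem Hyp.exists_split [Fintype Θ] (hΘ : 3 ≤ Fintype.card Θ) (h : Hyp d Φ S P) :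
    ∃ (X₁ X₂ X₃ X₄ X₅ : ι → ℤ) (L : Θ → ι → ℤ), Split Φ S P X₁ X₂ X₃ X₄ X₅ L := by
  obtain ⟨t₀, t₁, t₂, h01, h02, h12⟩ := (Fintype.two_lt_card_iff (α := Θ)).1 (by omega)
  obtain ⟨a, b, c, e, ha, h88⟩ := h.exists_four h01
  revert h88; rintro ⟨hb, hc, he, hab, hac, h88⟩
  revert h88; rintro ⟨hae, hbc, hbe, hce, hi, hj⟩
  -- every member contains `a` and `b`
  have hba : b ⬝ᵥ a = 0 := by rw [dotProduct_comm, hab]
  have hmem : ∀ k, Φ k ⬝ᵥ a = 1 ∧ Φ k ⬝ᵥ b = 1 := by
    intro k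
    by_cases hk0 : k = t₀
    · subst hk0
      rw [hi]
      simp only [add_dotProduct, ha.norm, hb.norm, hab, hba, dotProduct_comm c a, hac,
        dotProduct_comm c b, hbc]
      norm_num
    by_cases hk1 : k = t₁
    · subst hk1
      rw [hj]
      simp only [add_dotProduct, ha.norm, hb.norm, hab, hba, dotProduct_comm e a, hae,
        dotProduct_comm e b, hbe]
      norm_num
    have k1 : Φ k ⬝ᵥ a + Φ k ⬝ᵥ b + Φ k ⬝ᵥ c = 2 := by
      rw [← dotProduct_add, ← dotProduct_add, ← hi, h.ΦΦ_ne hk0]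
    have k2 : Φ k ⬝ᵥ a + Φ k ⬝ᵥ b + Φ k ⬝ᵥ e = 2 := by
      rw [← dotProduct_add, ← dotProduct_add, ← hj, h.ΦΦ_ne hk1]
    have kb := bessel_four (v := Φ k) ha hb hc he hab hac hae hbc hbe hce
    rw [h.ΦΦ_self] at kb
    have kn := dot_self_nonneg
      (Φ k - (Φ k ⬝ᵥ a) • a - (Φ k ⬝ᵥ b) • b - (Φ k ⬝ᵥ c) • c - (Φ k ⬝ᵥ e) • e)
    rw [kb] at kn
    have kv : (Φ k ⬝ᵥ a = 1 ∧ Φ k ⬝ᵥ b = 1) ∨
        (Φ k ⬝ᵥ a = 1 ∧ Φ k ⬝ᵥ b = 0 ∧ Φ k ⬝ᵥ c = 1 ∧ Φ k ⬝ᵥ e = 1) ∨
        (Φ k ⬝ᵥ a = 0 ∧ Φ k ⬝ᵥ b = 1 ∧ Φ k ⬝ᵥ c = 1 ∧ Φ k ⬝ᵥ e = 1) := by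
      generalize Φ k ⬝ᵥ a = x at *
      generalize Φ k ⬝ᵥ b = y at *
      generalize Φ k ⬝ᵥ c = z at *
      generalize Φ k ⬝ᵥ e = w at *
      have e1 : w = z := by omega
      have e2 : y = 2 - x - z := by omega
      subst e1 e2
      have h1 : -2 < w := by nlinarith only [kn]
      have h2 : w < 2 := by nlinarith only [kn]
      have h3 : w = -1 ∨ w = 0 ∨ w = 1 := by omega
      rcases h3 with rfl | rfl | rfl
      · exfalso; linarith only [kn, sq_nonneg (2 * x - 3)]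
      · have h4 : 0 < x := by linarith only [kn, _root_.sq_nonneg (x : ℤ)]
        have h5 : x < 2 := by linarith only [kn, _root_.sq_nonneg (2 - x - 0 : ℤ)]
        left; omega
      · have h4 : -1 < x := by linarith only [kn, _root_.sq_nonneg (x : ℤ)]
        have h5 : x < 2 := by linarith only [kn, _root_.sq_nonneg (2 - x - 1 : ℤ)]
        right; omega
    rcases kv with kv | ⟨v1, v2, v3, v4⟩ | ⟨v1, v2, v3, v4⟩
    · exact kv
    · exfalso
      rw [v1, v2, v3, v4] at kb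
      have h0 := eq_zero_of_dot (kb.trans (by norm_num))
      refine h.not_mixed ha hb hc he hab hac hae hbc hbe hce hi hj (k := k) ?_
      have : Φ k - (a + c + e) = 0 := by
        rw [← h0]; simp only [one_smul, zero_smul]; abel
      exact sub_eq_zero.1 this
    · exfalso
      rw [v1, v2, v3, v4] at kb
      have h0 := eq_zero_of_dot (kb.trans (by norm_num))
      refine h.not_mixed hb ha hc he hba hbc hbe hac hae hce (by rw [hi]; abel) (by rw [hj]; abel)
        (k := k) ?_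
      have : Φ k - (b + c + e) = 0 := by
        rw [← h0]; simp only [one_smul, zero_smul]; abel
      exact sub_eq_zero.1 this
  -- the third members
  have hLu : ∀ i, U (Φ i - a - b) := by
    intro i
    apply U_of_norm
    simp only [sub_dotProduct, dotProduct_sub, h.ΦΦ_self, (hmem i).1, (hmem i).2,
      dotProduct_comm a (Φ i), dotProduct_comm b (Φ i), ha.norm, hb.norm, hab, hba]
    norm_num
  have hLa : ∀ i, (Φ i - a - b) ⬝ᵥ a = 0 := by
    intro i
    simp only [sub_dotProduct, (hmem i).1, ha.norm, hba]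
    norm_num
  have hLb : ∀ i, (Φ i - a - b) ⬝ᵥ b = 0 := by
    intro i
    simp only [sub_dotProduct, (hmem i).2, hb.norm, hab]
    norm_num
  have hLL : ∀ i j, i ≠ j → (Φ i - a - b) ⬝ᵥ (Φ j - a - b) = 0 := by
    intro i j hij
    simp only [sub_dotProduct, dotProduct_sub, h.ΦΦ_ne hij, (hmem i).1, (hmem i).2, (hmem j).1,
      (hmem j).2, dotProduct_comm a (Φ j), dotProduct_comm b (Φ j), ha.norm, hb.norm, hab, hba]
    norm_num
  have hLd : ∀ i, (Φ i - a - b) ⬝ᵥ d = - (a ⬝ᵥ d) - b ⬝ᵥ d := by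
    intro i
    simp only [sub_dotProduct, h.oneΦ]
    ring
  -- five orthogonal vectors
  have bes : ∀ v : ι → ℤ, (v - (v ⬝ᵥ a) • a - (v ⬝ᵥ b) • b - (v ⬝ᵥ (Φ t₀ - a - b)) • (Φ t₀ - a - b)
      - (v ⬝ᵥ (Φ t₁ - a - b)) • (Φ t₁ - a - b) - (v ⬝ᵥ (Φ t₂ - a - b)) • (Φ t₂ - a - b)) ⬝ᵥ
      (v - (v ⬝ᵥ a) • a - (v ⬝ᵥ b) • b - (v ⬝ᵥ (Φ t₀ - a - b)) • (Φ t₀ - a - b)
      - (v ⬝ᵥ (Φ t₁ - a - b)) • (Φ t₁ - a - b) - (v ⬝ᵥ (Φ t₂ - a - b)) • (Φ t₂ - a - b)) =
      v ⬝ᵥ v - (v ⬝ᵥ a) ^ 2 - (v ⬝ᵥ b) ^ 2 - (v ⬝ᵥ (Φ t₀ - a - b)) ^ 2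
        - (v ⬝ᵥ (Φ t₁ - a - b)) ^ 2 - (v ⬝ᵥ (Φ t₂ - a - b)) ^ 2 := by
    intro v
    have n0 := (hLu t₀).norm
    have n1 := (hLu t₁).norm
    have n2 := (hLu t₂).norm
    have a0 := hLa t₀
    have a1 := hLa t₁
    have a2 := hLa t₂
    have b0 := hLb t₀
    have b1 := hLb t₁
    have b2 := hLb t₂
    have l01 := hLL _ _ h01
    have l02 := hLL _ _ h02
    have l12 := hLL _ _ h12
    generalize Φ t₀ - a - b = x at *
    generalize Φ t₁ - a - b = y at *
    generalize Φ t₂ - a - b = w at *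
    simp only [sub_dotProduct, dotProduct_sub, smul_dotProduct, dotProduct_smul, ha.norm, hb.norm,
      n0, n1, n2, hab, hba, a0, a1, a2, b0, b1, b2, l01, l02, l12, dotProduct_comm a x,
      dotProduct_comm a y, dotProduct_comm a w, dotProduct_comm b x, dotProduct_comm b y,
      dotProduct_comm b w, dotProduct_comm y x, dotProduct_comm w x, dotProduct_comm w y,
      dotProduct_comm a v, dotProduct_comm b v, dotProduct_comm x v, dotProduct_comm y v,
      dotProduct_comm w v, smul_eq_mul]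
    ring
  -- coefficients of `P`
  have hP : ∀ i, P ⬝ᵥ (Φ i - a - b) = 1 - P ⬝ᵥ a - P ⬝ᵥ b := by
    intro i; rw [dotProduct_sub, dotProduct_sub, h.PΦ]
  have pb := bes P
  have pn := dot_self_nonneg (P - (P ⬝ᵥ a) • a - (P ⬝ᵥ b) • b -
    (P ⬝ᵥ (Φ t₀ - a - b)) • (Φ t₀ - a - b) - (P ⬝ᵥ (Φ t₁ - a - b)) • (Φ t₁ - a - b) -
    (P ⬝ᵥ (Φ t₂ - a - b)) • (Φ t₂ - a - b))
  rw [pb, h.PP, hP, hP, hP] at pn
  have pv : (P ⬝ᵥ a = 1 ∧ P ⬝ᵥ b = 0) ∨ (P ⬝ᵥ a = 0 ∧ P ⬝ᵥ b = 1) ∨
      (P ⬝ᵥ a = 0 ∧ P ⬝ᵥ b = 0) := by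
    generalize P ⬝ᵥ a = x at *
    generalize P ⬝ᵥ b = y at *
    obtain ⟨z, hz⟩ : ∃ z, z = 1 - x - y := ⟨_, rfl⟩
    rw [← hz] at pn
    have hy : y = 1 - x - z := by omega
    subst hy
    have h1 : -2 < z := by nlinarith only [pn, sq_nonneg x, sq_nonneg (1 - x - z)]
    have h2 : z < 2 := by nlinarith only [pn, sq_nonneg x, sq_nonneg (1 - x - z)]
    have h3 : z = -1 ∨ z = 0 ∨ z = 1 := by omega
    rcases h3 with rfl | rfl | rfl
    · exfalso; linarith only [pn, sq_nonneg (x - 1)]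
    · have h4 : -1 < x := by nlinarith only [pn]
      have h5 : x < 2 := by nlinarith only [pn]
      (clear * - h4 h5; omega)
    · have h4 : x = 0 := by nlinarith only [pn]
      omega
  have pv' : (P ⬝ᵥ a = 1 ∧ P ⬝ᵥ b = 0) ∨ (P ⬝ᵥ a = 0 ∧ P ⬝ᵥ b = 1) := by
    rcases pv with pv | pv | ⟨pa, pb'⟩
    · exact Or.inl pv
    · exact Or.inr pv
    · exfalso
      have hP1 : ∀ i, P ⬝ᵥ (Φ i - a - b) = 1 := by intro i; rw [hP, pa, pb']; norm_num
      rw [hP1, hP1, hP1, pa, pb', h.PP] at pb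
      have h0 := eq_zero_of_dot (pb.trans (by norm_num))
      have h1 : P = (Φ t₀ - a - b) + (Φ t₁ - a - b) + (Φ t₂ - a - b) := by
        rw [← sub_eq_zero, ← h0]; simp only [one_smul, zero_smul]; abel
      have h2 := h.oneP
      rw [h1, add_dotProduct, add_dotProduct, hLd, hLd, hLd] at h2
      have h3 := (hLu t₀).dot_ne h.ne
      rw [hLd] at h3
      omega
  -- coefficients of `S`
  have hS : ∀ i, S ⬝ᵥ (Φ i - a - b) = 2 - S ⬝ᵥ a - S ⬝ᵥ b := by
    intro i; rw [dotProduct_sub, dotProduct_sub, dotProduct_comm, h.ΦS]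
  have sb := bes S
  have sn := dot_self_nonneg (S - (S ⬝ᵥ a) • a - (S ⬝ᵥ b) • b -
    (S ⬝ᵥ (Φ t₀ - a - b)) • (Φ t₀ - a - b) - (S ⬝ᵥ (Φ t₁ - a - b)) • (Φ t₁ - a - b) -
    (S ⬝ᵥ (Φ t₂ - a - b)) • (Φ t₂ - a - b))
  rw [sb, h.SS, hS, hS, hS] at sn
  have sv : (S ⬝ᵥ a = 1 ∧ S ⬝ᵥ b = 1) ∨ (S ⬝ᵥ a = 2 ∧ S ⬝ᵥ b = 0) ∨ (S ⬝ᵥ a = 0 ∧ S ⬝ᵥ b = 2) ∨
      (S ⬝ᵥ a = 1 ∧ S ⬝ᵥ b = 0) ∨ (S ⬝ᵥ a = 0 ∧ S ⬝ᵥ b = 1) := by
    generalize S ⬝ᵥ a = x at *
    generalize S ⬝ᵥ b = y at *
    obtain ⟨z, hz⟩ : ∃ z, z = 2 - x - y := ⟨_, rfl⟩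
    rw [← hz] at sn
    have hy : y = 2 - x - z := by omega
    subst hy
    have h1 : -2 < z := by nlinarith only [sn, sq_nonneg x, sq_nonneg (2 - x - z)]
    have h2 : z < 2 := by nlinarith only [sn, sq_nonneg x, sq_nonneg (2 - x - z)]
    have h3 : z = -1 ∨ z = 0 ∨ z = 1 := by omega
    rcases h3 with rfl | rfl | rfl
    · exfalso; linarith only [sn, sq_nonneg (2 * x - 3)]
    · have h4 : -1 < x := by linarith only [sn, _root_.sq_nonneg (x : ℤ)]
      have h5 : x < 3 := by linarith only [sn, _root_.sq_nonneg (2 - x - 0 : ℤ)]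
      (clear * - h4 h5; omega)
    · have h4 : -1 < x := by linarith only [sn, _root_.sq_nonneg (x : ℤ)]
      have h5 : x < 2 := by linarith only [sn, _root_.sq_nonneg (2 - x - 1 : ℤ)]
      (clear * - h4 h5; omega)
  have hSa2 : ¬ (S ⬝ᵥ a = 2 ∧ S ⬝ᵥ b = 0) := by
    rintro ⟨sa, sb'⟩
    have hS0 : ∀ i, S ⬝ᵥ (Φ i - a - b) = 0 := by intro i; rw [hS, sa, sb']; norm_num
    rw [hS0, hS0, hS0, sa, sb', h.SS] at sb
    have h0 := eq_zero_of_dot (sb.trans (by norm_num))
    have h1 : S = (2 : ℤ) • a := by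
      rw [← sub_eq_zero, ← h0]; simp only [zero_smul]; abel
    have h2 := h.oneS
    rw [h1, smul_dotProduct, smul_eq_mul] at h2
    exact ha.dot_ne h.ne (by omega)
  have hSb2 : ¬ (S ⬝ᵥ a = 0 ∧ S ⬝ᵥ b = 2) := by
    rintro ⟨sa, sb'⟩
    have hS0 : ∀ i, S ⬝ᵥ (Φ i - a - b) = 0 := by intro i; rw [hS, sa, sb']; norm_num
    rw [hS0, hS0, hS0, sa, sb', h.SS] at sb
    have h0 := eq_zero_of_dot (sb.trans (by norm_num))
    have h1 : S = (2 : ℤ) • b := by
      rw [← sub_eq_zero, ← h0]; simp only [zero_smul]; abel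
    have h2 := h.oneS
    rw [h1, smul_dotProduct, smul_eq_mul] at h2
    exact hb.dot_ne h.ne (by omega)
  have hPL0 : ∀ i, P ⬝ᵥ (Φ i - a - b) = 0 := by
    intro i; rw [hP]; rcases pv' with ⟨pa, pb'⟩ | ⟨pa, pb'⟩ <;> rw [pa, pb'] <;> norm_num
  have h10 : ¬ (S ⬝ᵥ a = 1 ∧ S ⬝ᵥ b = 0) := by
    rintro ⟨sa, sb'⟩
    have hS0 : ∀ i, S ⬝ᵥ (Φ i - a - b) = 1 := by intro i; rw [hS, sa, sb']; norm_num
    rw [hS0, hS0, hS0, sa, sb', h.SS] at sb
    have h0 := eq_zero_of_dot (sb.trans (by norm_num))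
    have h1 : S = a + (Φ t₀ - a - b) + (Φ t₁ - a - b) + (Φ t₂ - a - b) := by
      rw [← sub_eq_zero, ← h0]; simp only [one_smul, zero_smul]; abel
    have h2 := h.PS
    rw [h1, dotProduct_add, dotProduct_add, dotProduct_add, hPL0, hPL0, hPL0] at h2
    rcases pv' with ⟨pa, _⟩ | ⟨pa, _⟩ <;> omega
  have h01' : ¬ (S ⬝ᵥ a = 0 ∧ S ⬝ᵥ b = 1) := by
    rintro ⟨sa, sb'⟩
    have hS0 : ∀ i, S ⬝ᵥ (Φ i - a - b) = 1 := by intro i; rw [hS, sa, sb']; norm_num
    rw [hS0, hS0, hS0, sa, sb', h.SS] at sb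
    have h0 := eq_zero_of_dot (sb.trans (by norm_num))
    have h1 : S = b + (Φ t₀ - a - b) + (Φ t₁ - a - b) + (Φ t₂ - a - b) := by
      rw [← sub_eq_zero, ← h0]; simp only [one_smul, zero_smul]; abel
    have h2 := h.PS
    rw [h1, dotProduct_add, dotProduct_add, dotProduct_add, hPL0, hPL0, hPL0] at h2
    rcases pv' with ⟨_, pa⟩ | ⟨_, pa⟩ <;> omega
  obtain ⟨sa, sb'⟩ : S ⬝ᵥ a = 1 ∧ S ⬝ᵥ b = 1 := by (clear * - sv hSa2 hSb2 h10 h01'; tauto)
  rcases pv' with ⟨pa, pb'⟩ | ⟨pa, pb'⟩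
  · exact h.final ha hb hab (fun i => (hmem i).1) (fun i => (hmem i).2) pa pb' sa sb'
  · exact h.final hb ha hba (fun i => (hmem i).2) (fun i => (hmem i).1) pb' pa sb' sa

end Cfsg.Agent.Classification.QDW.GramInt
end

-- part: Classification/QDW/WrFGram
section
prune_inst 0x434305d00772202000018201022000234300004020060800138e00706034fd362a94729014e200d121826ae182805000003100030422000000a00000000040120902e4606f3ed030cae0099003182400000000000000000000000000000041000000000000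
set_option linter.all false
open scoped Cfsg.Agent.FastGrp

/-!
# The Gram matrix argument for a nonprincipal linear character, wreathed case

`Φ j i` (`j < 4`, `i < 2`) generalized characters vanishing at `1` with
`(Φ j i, Φ j' i') = 2 [j = j'] + [i = i']`.

* `exists_split`: `Φ j i = L i + (Y j - V j)`, all signed irreducible characters orthogonal;
* `exists_pattern`: a generalized character of norm `3` with
  `(X, Φ j i) = [j = p] - [j = n]` is `P + W - R`, `P = Y p` or `-V p`, `R = Y n` or `-V n`;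
* `main`.
-/

set_option autoImplicit false
set_option linter.unusedSectionVars false
set_option linter.unusedVariables false

open Cfsg
open scoped ComplexConjugate

namespace Cfsg.Agent.Classification.QDW.WrFGram

open Cfsg.Agent.Classification.BGOrder Cfsg.Agent.Characters.Core
  Cfsg.Agent.Classification.BGSplit Cfsg.Agent.Classification.InvCent.WreathedGram
  Cfsg.Agent.Classification.InvCent.WreathedGramTwo

universe u

variable {G : Type u} [Group G] [Fintype G]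

/-- Bessel's inequality for two orthonormal functions and integer coefficients. -/
theorem bessel2 {f R₁ R₂ : G → ℂ} (h₁ : classInner R₁ R₁ = 1) (h₂ : classInner R₂ R₂ = 1)
    (h₁₂ : classInner R₁ R₂ = 0) {N a b : ℤ} (hN : classInner f f = N)
    (ha : classInner f R₁ = a) (hb : classInner f R₂ = b) : a ^ 2 + b ^ 2 ≤ N := by
  have ha' : classInner R₁ f = a := by rw [← classInner_conj_symm, ha]; simp
  have hb' : classInner R₂ f = b := by rw [← classInner_conj_symm, hb]; simp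
  have h₂₁ := inner_symm_zero h₁₂
  have h : classInner (f - (a : ℂ) • R₁ - (b : ℂ) • R₂) (f - (a : ℂ) • R₁ - (b : ℂ) • R₂) =
      ((N - a ^ 2 - b ^ 2 : ℤ) : ℂ) := by
    simp only [classInner_sub_left, classInner_sub_right, classInner_smul_left,
      classInner_smul_right, h₁, h₂, h₁₂, h₂₁, hN, ha, hb, ha', hb', map_intCast]
    push_cast
    ring
  have := norm_nonneg_int h
  linarith

theorem bessel3 {f R₁ R₂ R₃ : G → ℂ} (h₁ : classInner R₁ R₁ = 1) (h₂ : classInner R₂ R₂ = 1)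
    (h₃ : classInner R₃ R₃ = 1) (h₁₂ : classInner R₁ R₂ = 0) (h₁₃ : classInner R₁ R₃ = 0)
    (h₂₃ : classInner R₂ R₃ = 0) {N a b c : ℤ} (hN : classInner f f = N)
    (ha : classInner f R₁ = a) (hb : classInner f R₂ = b) (hc : classInner f R₃ = c) :
    a ^ 2 + b ^ 2 + c ^ 2 ≤ N := by
  have := norm_nonneg_int (bessel_three h₁ h₂ h₃ h₁₂ h₁₃ h₂₃ hN ha hb hc)
  linarith

theorem bessel4 {f R₁ R₂ R₃ R₄ : G → ℂ} (h₁ : classInner R₁ R₁ = 1) (h₂ : classInner R₂ R₂ = 1)
    (h₃ : classInner R₃ R₃ = 1) (h₄ : classInner R₄ R₄ = 1) (h₁₂ : classInner R₁ R₂ = 0)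
    (h₁₃ : classInner R₁ R₃ = 0) (h₁₄ : classInner R₁ R₄ = 0) (h₂₃ : classInner R₂ R₃ = 0)
    (h₂₄ : classInner R₂ R₄ = 0) (h₃₄ : classInner R₃ R₄ = 0) {N a b c d : ℤ}
    (hN : classInner f f = N) (ha : classInner f R₁ = a) (hb : classInner f R₂ = b)
    (hc : classInner f R₃ = c) (hd : classInner f R₄ = d) :
    a ^ 2 + b ^ 2 + c ^ 2 + d ^ 2 ≤ N := by
  have hd' : classInner R₄ f = d := by rw [← classInner_conj_symm, hd]; simp
  have h : classInner (f - (d : ℂ) • R₄) (f - (d : ℂ) • R₄) = ((N - d ^ 2 : ℤ) : ℂ) := by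
    simp only [classInner_sub_left, classInner_sub_right, classInner_smul_left,
      classInner_smul_right, h₄, hN, hd, hd', map_intCast]
    push_cast
    ring
  have := bessel3 (f := f - (d : ℂ) • R₄) h₁ h₂ h₃ h₁₂ h₁₃ h₂₃ h (a := a) (b := b) (c := c)
    (by rw [classInner_sub_left, classInner_smul_left, inner_symm_zero h₁₄, ha]; ring)
    (by rw [classInner_sub_left, classInner_smul_left, inner_symm_zero h₂₄, hb]; ring)
    (by rw [classInner_sub_left, classInner_smul_left, inner_symm_zero h₃₄, hc]; ring)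
  linarith

theorem sq_pos_int {n : ℤ} (h : n ≠ 0) : 1 ≤ n ^ 2 := by
  have := Int.one_le_abs h
  nlinarith only [this, sq_abs n]

/-- The family. -/
structure Fam (Φ : Fin 4 → Fin 2 → G → ℂ) : Prop where
  gen : ∀ j i, IsGeneralizedCharacter G (Φ j i)
  at_one : ∀ j i, Φ j i 1 = 0
  gram : ∀ j i j' i', classInner (Φ j i) (Φ j' i') =
    (if j = j' then 2 else 0) + (if i = i' then 1 else 0)

variable {Φ : Fin 4 → Fin 2 → G → ℂ}

theorem Fam.norm (h : Fam Φ) (j : Fin 4) (i : Fin 2) : classInner (Φ j i) (Φ j i) = 3 := by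
  rw [h.gram, if_pos rfl, if_pos rfl]; norm_num

theorem Fam.diff (h : Fam Φ) (j k : Fin 4) : Φ j 0 - Φ j 1 = Φ k 0 - Φ k 1 := by
  have h0 : classInner ((Φ j 0 - Φ j 1) - (Φ k 0 - Φ k 1))
      ((Φ j 0 - Φ j 1) - (Φ k 0 - Φ k 1)) = 0 := by
    simp only [classInner_sub_left, classInner_sub_right, h.gram]
    by_cases hjk : j = k
    · subst hjk; simp
    · simp [hjk, Ne.symm hjk]
  exact sub_eq_zero.1 (classInner_self_eq_zero h0)

/-- The data attached to an index `j`: `Φ j 0 = R + N`. -/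
structure Part (Φ : Fin 4 → Fin 2 → G → ℂ) (p p' : G → ℂ) (j : Fin 4) (R R' Y V : G → ℂ) :
    Prop where
  cases : (R = p ∧ R' = p') ∨ (R = -p' ∧ R' = -p)
  sY : SignedIrr Y
  sV : SignedIrr V
  YV : classInner Y V = 0
  pY : classInner p Y = 0
  pV : classInner p V = 0
  p'Y : classInner p' Y = 0
  p'V : classInner p' V = 0
  eq0 : Φ j 0 = R + (Y - V)
  eq1 : Φ j 1 = R' + (Y - V)

theorem Fam.exists_part (h : Fam Φ) {p p' : G → ℂ} (hp : SignedIrr p) (hp' : SignedIrr p')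
    (hpp : classInner p p' = 0) (hD : Φ 0 0 - Φ 0 1 = p - p') (j : Fin 4) :
    ∃ R R' Y V : G → ℂ, Part Φ p p' j R R' Y V := by
  have hDj : Φ j 0 - Φ j 1 = p - p' := (h.diff j 0).trans hD
  have hp'p := inner_symm_zero hpp
  have s1 := signed_self hp
  have s2 := signed_self hp'
  obtain ⟨c, hc⟩ := inner_int (h.gen j 0) hp
  obtain ⟨d, hd⟩ := inner_int (h.gen j 0) hp'
  have hcd : d = c - 1 := by
    have h1 : classInner (Φ j 0) (p - p') = 1 := by
      rw [← hDj, classInner_sub_right, h.norm, h.gram]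
      simp; norm_num
    rw [classInner_sub_right, hc, hd] at h1
    have h2 : c - d = 1 := by exact_mod_cast h1
    omega
  have hB := bessel2 s1 s2 hpp (N := 3) (by rw [h.norm]; norm_num) hc hd
  have hc01 : c = 0 ∨ c = 1 := by
    subst hcd
    have h1 : c < 2 := by nlinarith only [hB]
    have h2 : -1 < c := by nlinarith only [hB]
    omega
  have hc' := inner_conj_int hc
  have hd' := inner_conj_int hd
  rcases hc01 with rfl | rfl
  · have hd1 : d = -1 := by omega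
    subst hd1
    have hN : classInner (Φ j 0 + p') (Φ j 0 + p') = 2 := by
      simp only [classInner_add_left, classInner_add_right, h.norm, hd, hd', s2]
      norm_num
    obtain ⟨Y, V, hY, hV, hYV, hYV'⟩ := decomp_two
      (generalized_add (h.gen j 0) (generalized_signed hp')) hN
    have e1 : classInner (Y - V) p = 0 := by
      rw [← hYV', classInner_add_left, hc, hp'p]; norm_num
    have e2 : classInner (Y - V) p' = 0 := by
      rw [← hYV', classInner_add_left, hd, s2]; norm_num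
    obtain ⟨a1, a2⟩ := inner_eq_zero_of_sub hY hV hp hYV e1
    obtain ⟨a3, a4⟩ := inner_eq_zero_of_sub hY hV hp' hYV e2
    refine ⟨-p', -p, Y, V, ⟨Or.inr ⟨rfl, rfl⟩, hY, hV, hYV, inner_symm_zero a1,
      inner_symm_zero a2, inner_symm_zero a3, inner_symm_zero a4, ?_, ?_⟩⟩
    · rw [← hYV']; abel
    · rw [← hYV']
      have : Φ j 1 = Φ j 0 - (p - p') := by rw [← hDj]; abel
      rw [this]; abel
  · have hd1 : d = 0 := by omega
    subst hd1
    have hN : classInner (Φ j 0 - p) (Φ j 0 - p) = 2 := by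
      simp only [classInner_sub_left, classInner_sub_right, h.norm, hc, hc', s1]
      norm_num
    obtain ⟨Y, V, hY, hV, hYV, hYV'⟩ := decomp_two
      (generalized_sub (h.gen j 0) (generalized_signed hp)) hN
    have e1 : classInner (Y - V) p = 0 := by
      rw [← hYV', classInner_sub_left, hc, s1]; norm_num
    have e2 : classInner (Y - V) p' = 0 := by
      rw [← hYV', classInner_sub_left, hd, hpp]; norm_num
    obtain ⟨a1, a2⟩ := inner_eq_zero_of_sub hY hV hp hYV e1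
    obtain ⟨a3, a4⟩ := inner_eq_zero_of_sub hY hV hp' hYV e2
    refine ⟨p, p', Y, V, ⟨Or.inl ⟨rfl, rfl⟩, hY, hV, hYV, inner_symm_zero a1,
      inner_symm_zero a2, inner_symm_zero a3, inner_symm_zero a4, ?_, ?_⟩⟩
    · rw [← hYV']; abel
    · rw [← hYV']
      have : Φ j 1 = Φ j 0 - (p - p') := by rw [← hDj]; abel
      rw [this]; abel

/-- Same type: the differences are orthogonal and disjoint. -/
theorem Part.same (h : Fam Φ) {p p' : G → ℂ} (hp : SignedIrr p) (hp' : SignedIrr p')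
    {j k : Fin 4} (hjk : j ≠ k) {R R' Y V Y' V' : G → ℂ} (a : Part Φ p p' j R R' Y V)
    (b : Part Φ p p' k R R' Y' V') :
    classInner Y Y' = 0 ∧ classInner Y V' = 0 ∧ classInner V Y' = 0 ∧ classInner V V' = 0 := by
  have hRR : classInner R R = 1 := by
    rcases a.cases with ⟨rfl, -⟩ | ⟨rfl, -⟩
    · exact signed_self hp
    · exact signed_self (signed_neg hp')
  have hRY' : classInner R (Y' - V') = 0 := by
    rcases a.cases with ⟨rfl, -⟩ | ⟨rfl, -⟩
    · rw [classInner_sub_right, b.pY, b.pV, sub_zero]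
    · rw [classInner_sub_right, classInner_neg_left, classInner_neg_left, b.p'Y, b.p'V, neg_zero,
        sub_zero]
  have hYR : classInner (Y - V) R = 0 := by
    apply inner_symm_zero
    rcases a.cases with ⟨rfl, -⟩ | ⟨rfl, -⟩
    · rw [classInner_sub_right, a.pY, a.pV, sub_zero]
    · rw [classInner_sub_right, classInner_neg_left, classInner_neg_left, a.p'Y, a.p'V, neg_zero,
        sub_zero]
  have h0 : classInner (Y - V) (Y' - V') = 0 := by
    have h1 := h.gram j 0 k 0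
    rw [a.eq0, b.eq0, classInner_add_left, classInner_add_right, classInner_add_right, hRR, hRY',
      hYR, if_neg hjk, if_pos rfl] at h1
    linear_combination h1
  refine disjoint a.sY a.sV b.sY b.sV a.YV b.YV h0 ?_
  have h1 := congrFun a.eq0 1
  have h2 := congrFun b.eq0 1
  rw [h.at_one, Pi.add_apply, Pi.sub_apply] at h1 h2
  linear_combination h2 - h1

/-- Different type: the inner product of the differences is `1`. -/
theorem Part.mixed (h : Fam Φ) {p p' : G → ℂ} (hp : SignedIrr p) (hp' : SignedIrr p')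
    (hpp : classInner p p' = 0)
    {j k : Fin 4} (hjk : j ≠ k) {Y V Y' V' : G → ℂ} (a : Part Φ p p' j p p' Y V)
    (b : Part Φ p p' k (-p') (-p) Y' V') : classInner (Y - V) (Y' - V') = 1 := by
  have h1 := h.gram j 0 k 0
  have hYR : classInner (Y - V) p' = 0 := by
    apply inner_symm_zero
    rw [classInner_sub_right, a.p'Y, a.p'V, sub_zero]
  rw [a.eq0, b.eq0, classInner_add_left, classInner_add_right, classInner_add_right,
    classInner_neg_right, hpp, classInner_sub_right p, b.pY, b.pV, classInner_neg_right,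
    hYR, if_neg hjk, if_pos rfl] at h1
  linear_combination h1

/-- A nonzero inner product with one of the two constituents. -/
theorem exists_ne {f Y V : G → ℂ} (hf : IsGeneralizedCharacter G f) (hY : SignedIrr Y)
    (hV : SignedIrr V) {n : ℂ} (hn : n ≠ 0) (h : classInner f (Y - V) = n) :
    ∃ R : G → ℂ, (R = Y ∨ R = V) ∧ ∃ a : ℤ, a ≠ 0 ∧ classInner f R = a := by
  obtain ⟨a, ha⟩ := inner_int hf hY
  obtain ⟨b, hb⟩ := inner_int hf hV
  by_cases ha0 : a = 0
  · refine ⟨V, Or.inr rfl, b, ?_, hb⟩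
    rintro rfl
    apply hn
    rw [← h, classInner_sub_right, ha, hb, ha0]
    simp
  · exact ⟨Y, Or.inl rfl, a, ha0, ha⟩

theorem orth_of {Y V Y' V' R R' : G → ℂ} (hR : R = Y ∨ R = V) (hR' : R' = Y' ∨ R' = V')
    (h : classInner Y Y' = 0 ∧ classInner Y V' = 0 ∧ classInner V Y' = 0 ∧ classInner V V' = 0) :
    classInner R R' = 0 := by
  obtain ⟨h1, h2, h3, h4⟩ := h
  rcases hR with rfl | rfl <;> rcases hR' with rfl | rfl <;> assumption

theorem signed_of {Y V R : G → ℂ} (hY : SignedIrr Y) (hV : SignedIrr V) (hR : R = Y ∨ R = V) :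
    SignedIrr R := by
  rcases hR with rfl | rfl <;> assumption

/-- Three of one type, one of the other type: impossible. -/
theorem three_one {Y V Y₁ V₁ Y₂ V₂ Y₃ V₃ : G → ℂ} (hY : SignedIrr Y) (hV : SignedIrr V)
    (hYV : classInner Y V = 0)
    (hY₁ : SignedIrr Y₁) (hV₁ : SignedIrr V₁) (hY₂ : SignedIrr Y₂) (hV₂ : SignedIrr V₂)
    (hY₃ : SignedIrr Y₃) (hV₃ : SignedIrr V₃)
    (h₁₂ : classInner Y₁ Y₂ = 0 ∧ classInner Y₁ V₂ = 0 ∧ classInner V₁ Y₂ = 0 ∧
      classInner V₁ V₂ = 0)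
    (h₁₃ : classInner Y₁ Y₃ = 0 ∧ classInner Y₁ V₃ = 0 ∧ classInner V₁ Y₃ = 0 ∧
      classInner V₁ V₃ = 0)
    (h₂₃ : classInner Y₂ Y₃ = 0 ∧ classInner Y₂ V₃ = 0 ∧ classInner V₂ Y₃ = 0 ∧
      classInner V₂ V₃ = 0)
    (e₁ : classInner (Y - V) (Y₁ - V₁) = 1) (e₂ : classInner (Y - V) (Y₂ - V₂) = 1)
    (e₃ : classInner (Y - V) (Y₃ - V₃) = 1) : False := by
  have hg : IsGeneralizedCharacter G (Y - V) :=
    generalized_sub (generalized_signed hY) (generalized_signed hV)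
  have hN : classInner (Y - V) (Y - V) = ((2 : ℤ) : ℂ) := by
    simp only [classInner_sub_left, classInner_sub_right, signed_self hY, signed_self hV, hYV,
      inner_symm_zero hYV]
    norm_num
  obtain ⟨R₁, hR₁, a₁, ha₁, i₁⟩ := exists_ne hg hY₁ hV₁ one_ne_zero e₁
  obtain ⟨R₂, hR₂, a₂, ha₂, i₂⟩ := exists_ne hg hY₂ hV₂ one_ne_zero e₂
  obtain ⟨R₃, hR₃, a₃, ha₃, i₃⟩ := exists_ne hg hY₃ hV₃ one_ne_zero e₃
  have hB := bessel3 (signed_self (signed_of hY₁ hV₁ hR₁)) (signed_self (signed_of hY₂ hV₂ hR₂))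
    (signed_self (signed_of hY₃ hV₃ hR₃)) (orth_of hR₁ hR₂ h₁₂) (orth_of hR₁ hR₃ h₁₃)
    (orth_of hR₂ hR₃ h₂₃) hN i₁ i₂ i₃
  have := sq_pos_int ha₁
  have := sq_pos_int ha₂
  have := sq_pos_int ha₃
  linarith

/-- Two of each type: impossible. -/
theorem two_two {N₁ N₂ N₃ N₄ : G → ℂ} {d : ℂ} (hd : d ≠ 0) (n₁ : classInner N₁ N₁ = 2)
    (n₂ : classInner N₂ N₂ = 2) (n₃ : classInner N₃ N₃ = 2) (n₄ : classInner N₄ N₄ = 2)
    (h₁₂ : classInner N₁ N₂ = 0) (h₃₄ : classInner N₃ N₄ = 0) (h₁₃ : classInner N₁ N₃ = 1)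
    (h₁₄ : classInner N₁ N₄ = 1) (h₂₃ : classInner N₂ N₃ = 1) (h₂₄ : classInner N₂ N₄ = 1)
    (d₁ : N₁ 1 = -d) (d₂ : N₂ 1 = -d) (d₃ : N₃ 1 = d) (d₄ : N₄ 1 = d) : False := by
  have h0 : classInner (N₁ + N₂ - N₃ - N₄) (N₁ + N₂ - N₃ - N₄) = 0 := by
    simp only [classInner_add_left, classInner_add_right, classInner_sub_left,
      classInner_sub_right, n₁, n₂, n₃, n₄, h₁₂, h₃₄, h₁₃, h₁₄, h₂₃, h₂₄, inner_symm_zero h₁₂,
      inner_symm_zero h₃₄, inner_symm_one h₁₃, inner_symm_one h₁₄, inner_symm_one h₂₃,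
      inner_symm_one h₂₄]
    ring
  have h1 := congrFun (classInner_self_eq_zero h0) 1
  simp only [Pi.sub_apply, Pi.add_apply, Pi.zero_apply, d₁, d₂, d₃, d₄] at h1
  apply hd
  linear_combination (-1 / 4 : ℂ) * h1

theorem norm_YV {Y V : G → ℂ} (hY : SignedIrr Y) (hV : SignedIrr V) (hYV : classInner Y V = 0) :
    classInner (Y - V) (Y - V) = 2 := by
  simp only [classInner_sub_left, classInner_sub_right, signed_self hY, signed_self hV, hYV,
    inner_symm_zero hYV]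
  norm_num

section Excl

variable {p p' : G → ℂ} {R R' : G → ℂ}

theorem no_three_one (h : Fam Φ) (hp : SignedIrr p) (hp' : SignedIrr p')
    (hpp : classInner p p' = 0) {j₁ j₂ j₃ k : Fin 4} (h12 : j₁ ≠ j₂) (h13 : j₁ ≠ j₃)
    (h23 : j₂ ≠ j₃) (h1k : j₁ ≠ k) (h2k : j₂ ≠ k) (h3k : j₃ ≠ k)
    {Y₁ V₁ Y₂ V₂ Y₃ V₃ Y V : G → ℂ} (a₁ : Part Φ p p' j₁ p p' Y₁ V₁)
    (a₂ : Part Φ p p' j₂ p p' Y₂ V₂) (a₃ : Part Φ p p' j₃ p p' Y₃ V₃)
    (b : Part Φ p p' k (-p') (-p) Y V) : False :=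
  three_one b.sY b.sV b.YV a₁.sY a₁.sV a₂.sY a₂.sV a₃.sY a₃.sV
    (a₁.same h hp hp' h12 a₂) (a₁.same h hp hp' h13 a₃) (a₂.same h hp hp' h23 a₃)
    (inner_symm_one (a₁.mixed h hp hp' hpp h1k b)) (inner_symm_one (a₂.mixed h hp hp' hpp h2k b))
    (inner_symm_one (a₃.mixed h hp hp' hpp h3k b))

theorem no_one_three (h : Fam Φ) (hp : SignedIrr p) (hp' : SignedIrr p')
    (hpp : classInner p p' = 0) {j₁ j₂ j₃ k : Fin 4} (h12 : j₁ ≠ j₂) (h13 : j₁ ≠ j₃)
    (h23 : j₂ ≠ j₃) (h1k : k ≠ j₁) (h2k : k ≠ j₂) (h3k : k ≠ j₃)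
    {Y₁ V₁ Y₂ V₂ Y₃ V₃ Y V : G → ℂ} (a₁ : Part Φ p p' j₁ (-p') (-p) Y₁ V₁)
    (a₂ : Part Φ p p' j₂ (-p') (-p) Y₂ V₂) (a₃ : Part Φ p p' j₃ (-p') (-p) Y₃ V₃)
    (b : Part Φ p p' k p p' Y V) : False :=
  three_one b.sY b.sV b.YV a₁.sY a₁.sV a₂.sY a₂.sV a₃.sY a₃.sV
    (a₁.same h hp hp' h12 a₂) (a₁.same h hp hp' h13 a₃) (a₂.same h hp hp' h23 a₃)
    (b.mixed h hp hp' hpp h1k a₁) (b.mixed h hp hp' hpp h2k a₂)
    (b.mixed h hp hp' hpp h3k a₃)

theorem inner_of_disj {Y V Y' V' : G → ℂ}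
    (h : classInner Y Y' = 0 ∧ classInner Y V' = 0 ∧ classInner V Y' = 0 ∧ classInner V V' = 0) :
    classInner (Y - V) (Y' - V') = 0 := by
  obtain ⟨h1, h2, h3, h4⟩ := h
  simp only [classInner_sub_left, classInner_sub_right, h1, h2, h3, h4]
  norm_num

theorem no_two_two (h : Fam Φ) (hp : SignedIrr p) (hp' : SignedIrr p')
    (hpp : classInner p p' = 0) (hdeg : p 1 = p' 1) {j₁ j₂ k₁ k₂ : Fin 4} (hj : j₁ ≠ j₂)
    (hk : k₁ ≠ k₂) (h11 : j₁ ≠ k₁) (h12 : j₁ ≠ k₂) (h21 : j₂ ≠ k₁) (h22 : j₂ ≠ k₂)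
    {Y₁ V₁ Y₂ V₂ Y₃ V₃ Y₄ V₄ : G → ℂ} (a₁ : Part Φ p p' j₁ p p' Y₁ V₁)
    (a₂ : Part Φ p p' j₂ p p' Y₂ V₂) (b₁ : Part Φ p p' k₁ (-p') (-p) Y₃ V₃)
    (b₂ : Part Φ p p' k₂ (-p') (-p) Y₄ V₄) : False := by
  have ha : ∀ {j : Fin 4} {Y V : G → ℂ}, Part Φ p p' j p p' Y V → (Y - V) 1 = -p 1 := by
    intro j Y V a
    have h1 := congrFun a.eq0 1
    rw [h.at_one, Pi.add_apply] at h1
    linear_combination -h1
  have hb : ∀ {j : Fin 4} {Y V : G → ℂ}, Part Φ p p' j (-p') (-p) Y V → (Y - V) 1 = p 1 := by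
    intro j Y V a
    have h1 := congrFun a.eq0 1
    rw [h.at_one, Pi.add_apply, Pi.neg_apply, ← hdeg] at h1
    linear_combination -h1
  exact two_two (d := p 1) hp.apply_one_ne_zero (norm_YV a₁.sY a₁.sV a₁.YV)
    (norm_YV a₂.sY a₂.sV a₂.YV) (norm_YV b₁.sY b₁.sV b₁.YV) (norm_YV b₂.sY b₂.sV b₂.YV)
    (inner_of_disj (a₁.same h hp hp' hj a₂)) (inner_of_disj (b₁.same h hp hp' hk b₂))
    (a₁.mixed h hp hp' hpp h11 b₁) (a₁.mixed h hp hp' hpp h12 b₂)
    (a₂.mixed h hp hp' hpp h21 b₁) (a₂.mixed h hp hp' hpp h22 b₂) (ha a₁) (ha a₂) (hb b₁) (hb b₂)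

end Excl

/-- The decomposition of the family. -/
structure Split (Φ : Fin 4 → Fin 2 → G → ℂ) (L L' : G → ℂ) (Y V : Fin 4 → G → ℂ) : Prop where
  sL : SignedIrr L
  sL' : SignedIrr L'
  LL : classInner L L' = 0
  sY : ∀ j, SignedIrr (Y j)
  sV : ∀ j, SignedIrr (V j)
  YV : ∀ j, classInner (Y j) (V j) = 0
  LY : ∀ j, classInner L (Y j) = 0
  LV : ∀ j, classInner L (V j) = 0
  L'Y : ∀ j, classInner L' (Y j) = 0
  L'V : ∀ j, classInner L' (V j) = 0
  disj : ∀ j k, j ≠ k → classInner (Y j) (Y k) = 0 ∧ classInner (Y j) (V k) = 0 ∧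
    classInner (V j) (Y k) = 0 ∧ classInner (V j) (V k) = 0
  eq0 : ∀ j, Φ j 0 = L + (Y j - V j)
  eq1 : ∀ j, Φ j 1 = L' + (Y j - V j)

theorem Fam.exists_split (h : Fam Φ) :
    ∃ (L L' : G → ℂ) (Y V : Fin 4 → G → ℂ), Split Φ L L' Y V := by
  have hN : classInner (Φ 0 0 - Φ 0 1) (Φ 0 0 - Φ 0 1) = 2 := by
    simp only [classInner_sub_left, classInner_sub_right, h.gram]
    simp
    norm_num
  obtain ⟨p, p', hp, hp', hpp, hD⟩ := decomp_two (generalized_sub (h.gen 0 0) (h.gen 0 1)) hN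
  have hdeg : p 1 = p' 1 := by
    have h1 := congrFun hD 1
    rw [Pi.sub_apply, Pi.sub_apply, h.at_one, h.at_one] at h1
    linear_combination -h1
  choose R R' Y V hP using fun j => h.exists_part hp hp' hpp hD j
  have hcase : ∀ j, Part Φ p p' j p p' (Y j) (V j) ∨ Part Φ p p' j (-p') (-p) (Y j) (V j) := by
    intro j
    have a := hP j
    rcases a.cases with ⟨h1, h2⟩ | ⟨h1, h2⟩
    · left; rw [h1, h2] at a; exact a
    · right; rw [h1, h2] at a; exact a
  have hpos : (∀ j, Part Φ p p' j p p' (Y j) (V j)) →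
      ∃ (L L' : G → ℂ) (Y V : Fin 4 → G → ℂ), Split Φ L L' Y V := fun a =>
    ⟨p, p', Y, V, {
      sL := hp
      sL' := hp'
      LL := hpp
      sY := fun j => (a j).sY
      sV := fun j => (a j).sV
      YV := fun j => (a j).YV
      LY := fun j => (a j).pY
      LV := fun j => (a j).pV
      L'Y := fun j => (a j).p'Y
      L'V := fun j => (a j).p'V
      disj := fun j k hjk => (a j).same h hp hp' hjk (a k)
      eq0 := fun j => (a j).eq0
      eq1 := fun j => (a j).eq1 }⟩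
  have hneg : (∀ j, Part Φ p p' j (-p') (-p) (Y j) (V j)) →
      ∃ (L L' : G → ℂ) (Y V : Fin 4 → G → ℂ), Split Φ L L' Y V := fun a =>
    ⟨-p', -p, Y, V, {
      sL := signed_neg hp'
      sL' := signed_neg hp
      LL := by rw [classInner_neg_left, classInner_neg_right, inner_symm_zero hpp]; norm_num
      sY := fun j => (a j).sY
      sV := fun j => (a j).sV
      YV := fun j => (a j).YV
      LY := fun j => by rw [classInner_neg_left, (a j).p'Y, neg_zero]
      LV := fun j => by rw [classInner_neg_left, (a j).p'V, neg_zero]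
      L'Y := fun j => by rw [classInner_neg_left, (a j).pY, neg_zero]
      L'V := fun j => by rw [classInner_neg_left, (a j).pV, neg_zero]
      disj := fun j k hjk => (a j).same h hp hp' hjk (a k)
      eq0 := fun j => (a j).eq0
      eq1 := fun j => (a j).eq1 }⟩
  have t31 := @no_three_one G _ _ Φ p p' h hp hp' hpp
  have t13 := @no_one_three G _ _ Φ p p' h hp hp' hpp
  have t22 := @no_two_two G _ _ Φ p p' h hp hp' hpp hdeg
  rcases hcase 0 with a0 | a0 <;> rcases hcase 1 with a1 | a1 <;> rcases hcase 2 with a2 | a2 <;>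
    rcases hcase 3 with a3 | a3
  · exact hpos (fun j => by fin_cases j <;> assumption)
  · exact (t31 (by decide) (by decide) (by decide) (by decide) (by decide) (by decide) a0 a1 a2 a3).elim
  · exact (t31 (by decide) (by decide) (by decide) (by decide) (by decide) (by decide) a0 a1 a3 a2).elim
  · exact (t22 (by decide) (by decide) (by decide) (by decide) (by decide) (by decide) a0 a1 a2 a3).elim
  · exact (t31 (by decide) (by decide) (by decide) (by decide) (by decide) (by decide) a0 a2 a3 a1).elim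
  · exact (t22 (by decide) (by decide) (by decide) (by decide) (by decide) (by decide) a0 a2 a1 a3).elim
  · exact (t22 (by decide) (by decide) (by decide) (by decide) (by decide) (by decide) a0 a3 a1 a2).elim
  · exact (t13 (by decide) (by decide) (by decide) (by decide) (by decide) (by decide) a1 a2 a3 a0).elim
  · exact (t31 (by decide) (by decide) (by decide) (by decide) (by decide) (by decide) a1 a2 a3 a0).elim
  · exact (t22 (by decide) (by decide) (by decide) (by decide) (by decide) (by decide) a1 a2 a0 a3).elim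
  · exact (t22 (by decide) (by decide) (by decide) (by decide) (by decide) (by decide) a1 a3 a0 a2).elim
  · exact (t13 (by decide) (by decide) (by decide) (by decide) (by decide) (by decide) a0 a2 a3 a1).elim
  · exact (t22 (by decide) (by decide) (by decide) (by decide) (by decide) (by decide) a2 a3 a0 a1).elim
  · exact (t13 (by decide) (by decide) (by decide) (by decide) (by decide) (by decide) a0 a1 a3 a2).elim
  · exact (t13 (by decide) (by decide) (by decide) (by decide) (by decide) (by decide) a0 a1 a2 a3).elim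
  · exact hneg (fun j => by fin_cases j <;> assumption)

/-- The pattern of a vector of norm `3`. -/
structure Pat (Φ : Fin 4 → Fin 2 → G → ℂ) (p n : Fin 4) (X : G → ℂ) : Prop where
  gen : IsGeneralizedCharacter G X
  norm : classInner X X = 3
  inner : ∀ j i, classInner X (Φ j i) = (if j = p then 1 else 0) - (if j = n then 1 else 0)

theorem exists_two : ∀ p n : Fin 4, ∃ k₁ k₂ : Fin 4, k₁ ≠ p ∧ k₁ ≠ n ∧ k₂ ≠ p ∧ k₂ ≠ n ∧ k₁ ≠ k₂ := by
  decide +kernel

/-- `L` is not a constituent. -/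
theorem Pat.inner_L {L L' : G → ℂ} {Y V : Fin 4 → G → ℂ} (s : Split Φ L L' Y V) {p n : Fin 4}
    {X : G → ℂ} (hX : Pat Φ p n X) : classInner X L = 0 := by
  obtain ⟨l, hl⟩ := inner_int hX.gen s.sL
  obtain ⟨l', hl'⟩ := inner_int hX.gen s.sL'
  by_cases hl0 : l = 0
  · rw [hl, hl0]; simp
  exfalso
  have hN : ∀ j, classInner X (Y j - V j) =
      (if j = p then 1 else 0) - (if j = n then 1 else 0) - l := by
    intro j
    have h1 := hX.inner j 0
    rw [s.eq0, classInner_add_right, hl] at h1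
    linear_combination h1
  have hll : l' = l := by
    have h1 := hX.inner p 1
    rw [s.eq1, classInner_add_right, hN, hl'] at h1
    have h2 : (l' : ℂ) = l := by linear_combination h1
    exact_mod_cast h2
  subst hll
  -- two further indices
  obtain ⟨k₁, k₂, h1p, h1n, h2p, h2n, h12⟩ := exists_two p n
  have hlc : (-(l' : ℂ)) ≠ 0 := neg_ne_zero.2 (Int.cast_ne_zero.2 hl0)
  have e1 : classInner X (Y k₁ - V k₁) = -(l' : ℂ) := by
    rw [hN, if_neg h1p, if_neg h1n]; ring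
  have e2 : classInner X (Y k₂ - V k₂) = -(l' : ℂ) := by
    rw [hN, if_neg h2p, if_neg h2n]; ring
  obtain ⟨R₁, hR₁, a₁, ha₁, i₁⟩ := exists_ne hX.gen (s.sY k₁) (s.sV k₁) hlc e1
  obtain ⟨R₂, hR₂, a₂, ha₂, i₂⟩ := exists_ne hX.gen (s.sY k₂) (s.sV k₂) hlc e2
  have hLR : ∀ {k : Fin 4} {R : G → ℂ}, (R = Y k ∨ R = V k) →
      classInner L R = 0 ∧ classInner L' R = 0 := by
    intro k R hR
    rcases hR with rfl | rfl
    · exact ⟨s.LY k, s.L'Y k⟩
    · exact ⟨s.LV k, s.L'V k⟩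
  have hB := bessel4 (signed_self s.sL) (signed_self s.sL')
    (signed_self (signed_of (s.sY k₁) (s.sV k₁) hR₁))
    (signed_self (signed_of (s.sY k₂) (s.sV k₂) hR₂)) s.LL (hLR hR₁).1 (hLR hR₂).1
    (hLR hR₁).2 (hLR hR₂).2 (orth_of hR₁ hR₂ (s.disj k₁ k₂ h12)) (N := 3)
    (by rw [hX.norm]; norm_num) hl hl' i₁ i₂
  have := sq_pos_int hl0
  have := sq_pos_int ha₁
  have := sq_pos_int ha₂
  linarith

/-- The decomposition of a vector with a pattern. -/
structure Dec (L L' : G → ℂ) (Y V : Fin 4 → G → ℂ) (p n : Fin 4) (X P R W : G → ℂ) : Prop where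
  hP : P = Y p ∨ P = -V p
  hR : R = Y n ∨ R = -V n
  sW : SignedIrr W
  eq : X = P + W - R
  WY : ∀ j, classInner W (Y j) = 0
  WV : ∀ j, classInner W (V j) = 0
  WL : classInner W L = 0

theorem Pat.exists_dec {L L' : G → ℂ} {Y V : Fin 4 → G → ℂ} (s : Split Φ L L' Y V) {p n : Fin 4}
    (hpn : p ≠ n) {X : G → ℂ} (hX : Pat Φ p n X) : ∃ P R W, Dec L L' Y V p n X P R W := by
  have hXL := hX.inner_L s
  have hN : ∀ j, classInner X (Y j - V j) = (if j = p then 1 else 0) - (if j = n then 1 else 0) := by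
    intro j
    have h1 := hX.inner j 0
    rw [s.eq0, classInner_add_right, hXL] at h1
    linear_combination h1
  obtain ⟨x, hx⟩ := inner_int hX.gen (s.sY p)
  obtain ⟨y, hy⟩ := inner_int hX.gen (s.sV p)
  obtain ⟨c, hc⟩ := inner_int hX.gen (s.sY n)
  obtain ⟨d, hd⟩ := inner_int hX.gen (s.sV n)
  have hxy : y = x - 1 := by
    have h1 := hN p
    rw [if_pos rfl, if_neg hpn, classInner_sub_right, hx, hy] at h1
    have h2 : (y : ℂ) = x - 1 := by linear_combination -h1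
    exact_mod_cast h2
  have hcd : d = c + 1 := by
    have h1 := hN n
    rw [if_pos rfl, if_neg (Ne.symm hpn), classInner_sub_right, hc, hd] at h1
    have h2 : (d : ℂ) = c + 1 := by linear_combination -h1
    exact_mod_cast h2
  obtain ⟨d1, d2, d3, d4⟩ := s.disj p n hpn
  have hB := bessel4 (signed_self (s.sY p)) (signed_self (s.sV p)) (signed_self (s.sY n))
    (signed_self (s.sV n)) (s.YV p) d1 d2 d3 d4 (s.YV n) (N := 3) (by rw [hX.norm]; norm_num)
    hx hy hc hd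
  have hx01 : x = 0 ∨ x = 1 := by
    subst hxy hcd
    have h1 : x < 2 := by nlinarith only [hB]
    have h2 : -1 < x := by nlinarith only [hB]
    omega
  have hc01 : c = 0 ∨ c = -1 := by
    subst hxy hcd
    have h1 : c < 1 := by nlinarith only [hB]
    have h2 : -2 < c := by nlinarith only [hB]
    omega
  -- `P`
  obtain ⟨P, hP, hPY, hPV, hPP, hXP, hXP'⟩ : ∃ P : G → ℂ, (P = Y p ∨ P = -V p) ∧
      classInner X (Y p) = classInner P (Y p) ∧ classInner X (V p) = classInner P (V p) ∧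
        classInner P P = 1 ∧ classInner X P = 1 ∧ IsGeneralizedCharacter G P := by
    rcases hx01 with rfl | rfl
    · refine ⟨-V p, Or.inr rfl, ?_, ?_, signed_self (signed_neg (s.sV p)), ?_,
        generalized_signed (signed_neg (s.sV p))⟩
      · rw [hx, classInner_neg_left, inner_symm_zero (s.YV p)]; norm_num
      · rw [hy, hxy, classInner_neg_left, signed_self (s.sV p)]; norm_num
      · rw [classInner_neg_right, hy, hxy]; norm_num
    · refine ⟨Y p, Or.inl rfl, ?_, ?_, signed_self (s.sY p), ?_, generalized_signed (s.sY p)⟩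
      · rw [hx, signed_self (s.sY p)]; norm_num
      · rw [hy, hxy, s.YV p]; norm_num
      · rw [hx]; norm_num
  obtain ⟨R, hR, hRY, hRV, hRR, hXR, hXR'⟩ : ∃ R : G → ℂ, (R = Y n ∨ R = -V n) ∧
      classInner X (Y n) = -classInner R (Y n) ∧ classInner X (V n) = -classInner R (V n) ∧
        classInner R R = 1 ∧ classInner X R = -1 ∧ IsGeneralizedCharacter G R := by
    rcases hc01 with rfl | rfl
    · refine ⟨-V n, Or.inr rfl, ?_, ?_, signed_self (signed_neg (s.sV n)), ?_,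
        generalized_signed (signed_neg (s.sV n))⟩
      · rw [hc, classInner_neg_left, inner_symm_zero (s.YV n)]; norm_num
      · rw [hd, hcd, classInner_neg_left, signed_self (s.sV n)]; norm_num
      · rw [classInner_neg_right, hd, hcd]; norm_num
    · refine ⟨Y n, Or.inl rfl, ?_, ?_, signed_self (s.sY n), ?_, generalized_signed (s.sY n)⟩
      · rw [hc, signed_self (s.sY n)]; norm_num
      · rw [hd, hcd, s.YV n]; norm_num
      · rw [hc]; norm_num
  -- orthogonality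
  have hPk : ∀ k, k ≠ p → classInner P (Y k) = 0 ∧ classInner P (V k) = 0 := by
    intro k hk
    obtain ⟨a1, a2, a3, a4⟩ := s.disj p k (Ne.symm hk)
    rcases hP with rfl | rfl
    · exact ⟨a1, a2⟩
    · rw [classInner_neg_left, classInner_neg_left, a3, a4]; simp
  have hRk : ∀ k, k ≠ n → classInner R (Y k) = 0 ∧ classInner R (V k) = 0 := by
    intro k hk
    obtain ⟨a1, a2, a3, a4⟩ := s.disj n k (Ne.symm hk)
    rcases hR with rfl | rfl
    · exact ⟨a1, a2⟩
    · rw [classInner_neg_left, classInner_neg_left, a3, a4]; simp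
  have hPR : classInner P R = 0 := by
    obtain ⟨a1, a2⟩ := hPk n (Ne.symm hpn)
    rcases hR with rfl | rfl
    · exact a1
    · rw [classInner_neg_right, a2, neg_zero]
  have hRP := inner_symm_zero hPR
  have hPX := inner_symm_one hXP
  have hRX : classInner R X = -1 := by
    have := inner_conj_int (n := -1) (f := X) (g := R) (by rw [hXR]; norm_num)
    rw [this]; norm_num
  have sW : SignedIrr (X - P + R) := by
    refine signed_of_norm_one (generalized_add (generalized_sub hX.gen hXP') hXR') ?_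
    simp only [classInner_add_left, classInner_add_right, classInner_sub_left,
      classInner_sub_right, hX.norm, hXP, hPX, hXR, hRX, hPP, hRR, hPR, hRP]
    norm_num
  have hPL : classInner P L = 0 := by
    rcases hP with rfl | rfl
    · exact inner_symm_zero (s.LY p)
    · rw [classInner_neg_left, inner_symm_zero (s.LV p), neg_zero]
  have hRL : classInner R L = 0 := by
    rcases hR with rfl | rfl
    · exact inner_symm_zero (s.LY n)
    · rw [classInner_neg_left, inner_symm_zero (s.LV n), neg_zero]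
  have hW : ∀ k, classInner (X - P + R) (Y k) = 0 ∧ classInner (X - P + R) (V k) = 0 := by
    intro k
    by_cases hkp : k = p
    · subst hkp
      obtain ⟨a1, a2⟩ := hRk k hpn
      constructor
      · rw [classInner_add_left, classInner_sub_left, hPY, a1]; ring
      · rw [classInner_add_left, classInner_sub_left, hPV, a2]; ring
    by_cases hkn : k = n
    · subst hkn
      obtain ⟨a1, a2⟩ := hPk k (Ne.symm hpn)
      constructor
      · rw [classInner_add_left, classInner_sub_left, hRY, a1]; ring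
      · rw [classInner_add_left, classInner_sub_left, hRV, a2]; ring
    · obtain ⟨a1, a2⟩ := hPk k hkp
      obtain ⟨a3, a4⟩ := hRk k hkn
      have h1 : classInner (Y k - V k) (X - P + R) = 0 := by
        apply inner_symm_zero
        rw [classInner_add_left, classInner_sub_left, hN, if_neg hkp, if_neg hkn,
          classInner_sub_right, classInner_sub_right, a1, a2, a3, a4]
        norm_num
      obtain ⟨b1, b2⟩ := inner_eq_zero_of_sub (s.sY k) (s.sV k) sW (s.YV k) h1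
      exact ⟨inner_symm_zero b1, inner_symm_zero b2⟩
  refine ⟨P, R, X - P + R, ⟨hP, hR, sW, by abel, fun j => (hW j).1, fun j => (hW j).2, ?_⟩⟩
  rw [classInner_add_left, classInner_sub_left, hXL, hPL, hRL]; norm_num

section Side

variable {L L' : G → ℂ} {Y V : Fin 4 → G → ℂ}

theorem side_ne (s : Split Φ L L' Y V) {p q : Fin 4} (hpq : p ≠ q) {P Q : G → ℂ}
    (hP : P = Y p ∨ P = -V p) (hQ : Q = Y q ∨ Q = -V q) : classInner P Q = 0 := by
  obtain ⟨h1, h2, h3, h4⟩ := s.disj p q hpq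
  rcases hP with rfl | rfl <;> rcases hQ with rfl | rfl
  · exact h1
  · rw [classInner_neg_right, h2, neg_zero]
  · rw [classInner_neg_left, h3, neg_zero]
  · rw [classInner_neg_left, classInner_neg_right, h4, neg_zero, neg_zero]

theorem side_W {p : Fin 4} {P W : G → ℂ} (hP : P = Y p ∨ P = -V p)
    (h1 : ∀ j, classInner W (Y j) = 0) (h2 : ∀ j, classInner W (V j) = 0) :
    classInner W P = 0 := by
  rcases hP with rfl | rfl
  · exact h1 p
  · rw [classInner_neg_right, h2, neg_zero]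

theorem side_signed (s : Split Φ L L' Y V) {p : Fin 4} {P : G → ℂ} (hP : P = Y p ∨ P = -V p) :
    SignedIrr P := by
  rcases hP with rfl | rfl
  · exact s.sY p
  · exact signed_neg (s.sV p)

theorem side_L (s : Split Φ L L' Y V) {p : Fin 4} {P : G → ℂ} (hP : P = Y p ∨ P = -V p) :
    classInner L P = 0 := by
  rcases hP with rfl | rfl
  · exact s.LY p
  · rw [classInner_neg_right, s.LV, neg_zero]

/-- The other constituent. -/
theorem side_other (s : Split Φ L L' Y V) {p : Fin 4} {P : G → ℂ} (hP : P = Y p ∨ P = -V p) :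
    ∃ x : G → ℂ, SignedIrr x ∧ Φ p 0 = P - x + L ∧ classInner x P = 0 ∧
      ∀ Q : G → ℂ, (Q = Y p ∨ Q = -V p) → (Q = P ∨ (Q = -x ∧ classInner P Q = 0)) := by
  rcases hP with rfl | rfl
  · refine ⟨V p, s.sV p, by rw [s.eq0]; abel, inner_symm_zero (s.YV p), ?_⟩
    rintro Q (rfl | rfl)
    · exact Or.inl rfl
    · exact Or.inr ⟨rfl, by rw [classInner_neg_right, s.YV, neg_zero]⟩
  · refine ⟨-Y p, signed_neg (s.sY p), by rw [s.eq0]; abel, ?_, ?_⟩
    · rw [classInner_neg_left, classInner_neg_right, s.YV, neg_zero, neg_zero]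
    rintro Q (rfl | rfl)
    · exact Or.inr ⟨by rw [neg_neg], by rw [classInner_neg_left, inner_symm_zero (s.YV p),
        neg_zero]⟩
    · exact Or.inl rfl

/-- Two vectors of norm `3` with inner product `2` and the same `p` have the same `P`, `W`. -/
theorem dec_eq (s : Split Φ L L' Y V) {p n n' : Fin 4} (hn : p ≠ n) (hn' : p ≠ n')
    (hnn : n ≠ n') {X P R W X' P' R' W' : G → ℂ} (d : Dec L L' Y V p n X P R W)
    (d' : Dec L L' Y V p n' X' P' R' W') (h : classInner X X' = 2) : P' = P ∧ W' = W := by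
  obtain ⟨x, hx, -, -, hQ⟩ := side_other s d.hP
  have e : classInner P P' + classInner W W' = 2 := by
    rw [d.eq, d'.eq] at h
    simp only [classInner_add_left, classInner_add_right, classInner_sub_left,
      classInner_sub_right, side_ne s hn' d.hP d'.hR, side_ne s (Ne.symm hn) d.hR d'.hP,
      side_ne s hnn d.hR d'.hR, side_W d'.hP d.WY d.WV, side_W d'.hR d.WY d.WV,
      inner_symm_zero (side_W d.hP d'.WY d'.WV), inner_symm_zero (side_W d.hR d'.WY d'.WV)] at h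
    linear_combination h
  rcases hQ P' d'.hP with h1 | ⟨-, h1⟩
  · refine ⟨h1, ?_⟩
    rw [h1, signed_self (side_signed s d.hP)] at e
    exact (signed_eq_of_inner_one d.sW d'.sW (by linear_combination e)).symm
  · exfalso
    rw [h1, zero_add] at e
    rcases signed_inner d.sW d'.sW with h2 | h2 | h2
    · rw [h2] at e; norm_num at e
    · rw [h2, signed_self d'.sW] at e; norm_num at e
    · rw [h2, classInner_neg_left, signed_self d'.sW] at e; norm_num at e

end Side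

/-- The conclusion of the Gram matrix argument. -/
structure Out (Φ : Fin 4 → Fin 2 → G → ℂ) (Ψ₀ Ψ₁ A₁ A₂ a x x₃ y₁ v₁ y₂ v₂ y₃ v₃ L w : G → ℂ) :
    Prop where
  sa : SignedIrr a
  sx : SignedIrr x
  sx₃ : SignedIrr x₃
  sy₁ : SignedIrr y₁
  sv₁ : SignedIrr v₁
  sy₂ : SignedIrr y₂
  sv₂ : SignedIrr v₂
  sy₃ : SignedIrr y₃
  sv₃ : SignedIrr v₃
  sL : SignedIrr L
  sw : SignedIrr w
  Φ0 : Φ 0 0 = a - x + L
  Φ1 : Φ 1 0 = y₁ - v₁ + L
  Φ2 : Φ 2 0 = y₂ - v₂ + L
  Φ3 : Φ 3 0 = y₃ - v₃ + L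
  eqΨ₀ : Ψ₀ = a + x₃ - y₁
  eqA₁ : A₁ = a + x₃ - y₂
  eqA₂ : A₂ = a + x₃ - y₃
  eqΨ₁ : Ψ₁ = y₂ + v₃ - w
  inner_a : classInner (Φ 0 0) a = 1

/-- **The Gram matrix argument.** -/
theorem main (h : Fam Φ) {Ψ₀ Ψ₁ A₁ A₂ : G → ℂ} (hΨ₀ : Pat Φ 0 1 Ψ₀) (hΨ₁ : Pat Φ 2 3 Ψ₁)
    (hA₁ : Pat Φ 0 2 A₁) (hA₂ : Pat Φ 0 3 A₂) (h1 : classInner Ψ₀ A₁ = 2)
    (h2 : classInner Ψ₀ A₂ = 2) (h3 : classInner Ψ₀ Ψ₁ = 0) (h4 : classInner A₁ Ψ₁ = -1)
    (h5 : classInner A₂ Ψ₁ = 0) :
    ∃ a x x₃ y₁ v₁ y₂ v₂ y₃ v₃ L w : G → ℂ,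
      Out Φ Ψ₀ Ψ₁ A₁ A₂ a x x₃ y₁ v₁ y₂ v₂ y₃ v₃ L w := by
  obtain ⟨L, L', Y, V, s⟩ := h.exists_split
  obtain ⟨a, y₁, x₃, d₀⟩ := hΨ₀.exists_dec s (by decide)
  obtain ⟨a', y₂, x₃', d₁⟩ := hA₁.exists_dec s (by decide)
  obtain ⟨a'', y₃, x₃'', d₂⟩ := hA₂.exists_dec s (by decide)
  obtain ⟨P, R, W, d₃⟩ := hΨ₁.exists_dec s (by decide)
  obtain ⟨e1, e2⟩ := dec_eq s (by decide) (by decide) (by decide) d₀ d₁ h1
  rw [e1, e2] at d₁
  obtain ⟨e3, e4⟩ := dec_eq s (by decide) (by decide) (by decide) d₀ d₂ h2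
  rw [e3, e4] at d₂
  obtain ⟨x, sx, ex, hxa, -⟩ := side_other s d₀.hP
  obtain ⟨v₁, sv₁, ev₁, -, -⟩ := side_other s d₀.hR
  obtain ⟨v₂, sv₂, ev₂, -, hQ₂⟩ := side_other s d₁.hR
  obtain ⟨v₃, sv₃, ev₃, -, hQ₃⟩ := side_other s d₂.hR
  -- `(x₃, W) = 0`
  have hxW : classInner x₃ W = 0 := by
    rw [d₀.eq, d₃.eq] at h3
    simp only [classInner_add_left, classInner_add_right, classInner_sub_left,
      classInner_sub_right, side_ne s (show (0 : Fin 4) ≠ 2 by decide) d₀.hP d₃.hP,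
      side_ne s (show (0 : Fin 4) ≠ 3 by decide) d₀.hP d₃.hR,
      side_ne s (show (1 : Fin 4) ≠ 2 by decide) d₀.hR d₃.hP,
      side_ne s (show (1 : Fin 4) ≠ 3 by decide) d₀.hR d₃.hR, side_W d₃.hP d₀.WY d₀.WV,
      side_W d₃.hR d₀.WY d₀.WV, inner_symm_zero (side_W d₀.hP d₃.WY d₃.WV),
      inner_symm_zero (side_W d₀.hR d₃.WY d₃.WV)] at h3
    linear_combination h3
  have hP : P = y₂ := by
    rcases hQ₂ P d₃.hP with h6 | ⟨-, h6⟩
    · exact h6
    · exfalso
      rw [d₁.eq, d₃.eq] at h4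
      simp only [classInner_add_left, classInner_add_right, classInner_sub_left,
        classInner_sub_right, side_ne s (show (0 : Fin 4) ≠ 2 by decide) d₀.hP d₃.hP,
        side_ne s (show (0 : Fin 4) ≠ 3 by decide) d₀.hP d₃.hR,
        side_ne s (show (2 : Fin 4) ≠ 3 by decide) d₁.hR d₃.hR, side_W d₃.hP d₀.WY d₀.WV,
        side_W d₃.hR d₀.WY d₀.WV, inner_symm_zero (side_W d₀.hP d₃.WY d₃.WV),
        inner_symm_zero (side_W d₁.hR d₃.WY d₃.WV), hxW, h6] at h4
      norm_num at h4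
  have hR : R = -v₃ := by
    rcases hQ₃ R d₃.hR with h6 | ⟨h6, -⟩
    · exfalso
      have h7 : classInner y₃ R = 1 := by rw [h6]; exact signed_self (side_signed s d₂.hR)
      rw [d₂.eq, d₃.eq] at h5
      simp only [classInner_add_left, classInner_add_right, classInner_sub_left,
        classInner_sub_right, side_ne s (show (0 : Fin 4) ≠ 2 by decide) d₀.hP d₃.hP,
        side_ne s (show (0 : Fin 4) ≠ 3 by decide) d₀.hP d₃.hR,
        side_ne s (show (3 : Fin 4) ≠ 2 by decide) d₂.hR d₃.hP, side_W d₃.hP d₀.WY d₀.WV,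
        side_W d₃.hR d₀.WY d₀.WV, inner_symm_zero (side_W d₀.hP d₃.WY d₃.WV),
        inner_symm_zero (side_W d₂.hR d₃.WY d₃.WV), hxW, h7] at h5
      norm_num at h5
    · exact h6
  refine ⟨a, x, x₃, y₁, v₁, y₂, v₂, y₃, v₃, L, -W, ?_⟩
  exact
    { sa := side_signed s d₀.hP
      sx := sx
      sx₃ := d₀.sW
      sy₁ := side_signed s d₀.hR
      sv₁ := sv₁
      sy₂ := side_signed s d₁.hR
      sv₂ := sv₂
      sy₃ := side_signed s d₂.hR
      sv₃ := sv₃
      sL := s.sL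
      sw := signed_neg d₃.sW
      Φ0 := ex
      Φ1 := ev₁
      Φ2 := ev₂
      Φ3 := ev₃
      eqΨ₀ := d₀.eq
      eqA₁ := d₁.eq
      eqA₂ := d₂.eq
      eqΨ₁ := by rw [d₃.eq, hP, hR]; abel
      inner_a := by
        rw [ex, classInner_add_left, classInner_sub_left, signed_self (side_signed s d₀.hP), hxa,
          side_L s d₀.hP]
        norm_num }

end Cfsg.Agent.Classification.QDW.WrFGram
end

-- part: Classification/QDW/SUTwoTrace
section
set_option linter.all false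
open scoped Cfsg.Agent.FastGrp

/-!
# The isomorphism `SL(2,q) ≃ SU(2,q)` preserves traces

The proof is that of `S0281`.
-/

set_option autoImplicit false

namespace Cfsg.Agent.Classification.QDW.SUTwoTrace

open Cfsg Matrix Cfsg.Agent.LieClassical.HermBasic

theorem exists_hom {F K : Type*} [Field F] [Fintype F] [Field K] [Fintype K] {q : ℕ}
    (hF : Fintype.card F = q ^ 2) (hK : Fintype.card K = q) :
    ∃ (f : K →+* F) (g : SpecialLinearGroup (Fin 2) K →* SpecialLinearGroup (Fin 2) F),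
      Function.Injective g ∧ g.range = SU 2 F q ∧ ∀ M, (g M).1.trace = f M.1.trace := by
  classical
  -- the fixed field
  let K₀ : Subfield F :=
    { carrier := {x | x ^ q = x}
      mul_mem' := fun {a b} ha hb => by
        simp only [Set.mem_setOf_eq] at *; rw [mul_pow, ha, hb]
      one_mem' := one_pow q
      add_mem' := fun {a b} ha hb => by
        simp only [Set.mem_setOf_eq] at *; rw [add_pow_q hF, ha, hb]
      zero_mem' := zero_pow_q hF
      neg_mem' := fun {a} ha => by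
        simp only [Set.mem_setOf_eq] at *; rw [neg_pow_q hF, ha]
      inv_mem' := fun a ha => by
        simp only [Set.mem_setOf_eq] at *; rw [inv_pow, ha] }
  have hmem : ∀ x : F, x ∈ K₀ ↔ x ^ q = x := fun x => Iff.rfl
  have hcard : Fintype.card K = Fintype.card K₀ := by
    rw [hK, ← Nat.card_eq_fintype_card]
    exact (card_fixed hF).symm
  let e : K ≃+* K₀ := FiniteField.ringEquivOfCardEq hcard
  let f : K →+* F := K₀.subtype.comp e.toRingHom
  have hf : ∀ x : F, x ^ q = x → ∃ y : K, f y = x := by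
    intro x hx
    refine ⟨e.symm ⟨x, hx⟩, ?_⟩
    simp [f]
  have hf' : ∀ y : K, f y ^ q = f y := fun y => (e y).2
  have hfinj : Function.Injective f := f.injective
  -- the conjugating matrix
  obtain ⟨s, hs⟩ := exists_not_fixed hF
  obtain ⟨t, ht0, ht⟩ := exists_norm_eq_ne hF (c := -1) (by rw [neg_pow_q hF, one_pow])
    (neg_ne_zero.2 one_ne_zero)
  have hD : s - s ^ q ≠ 0 := sub_ne_zero.2 (Ne.symm hs)
  let P : Matrix (Fin 2) (Fin 2) F := !![s, t * s ^ q; 1, t]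
  let J : Matrix (Fin 2) (Fin 2) F := !![0, -1; 1, 0]
  have hPdet : P.det = t * (s - s ^ q) := by
    simp only [P, Matrix.det_fin_two_of]; ring
  have hPunit : IsUnit P.det := by
    rw [hPdet]; exact (mul_ne_zero ht0 hD).isUnit
  have hJdet : J.det = 1 := by simp [J, Matrix.det_fin_two_of]
  have hJunit : IsUnit J.det := by rw [hJdet]; exact isUnit_one
  set Q := P⁻¹ with hQ
  have hPQ : P * Q = 1 := Matrix.mul_nonsing_inv P hPunit
  have hQP : Q * P = 1 := Matrix.nonsing_inv_mul P hPunit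
  set c : F →+* F := (conj hF).toRingHom with hc
  have hcapp : ∀ x, c x = x ^ q := fun x => rfl
  have htq : t ^ q = -t⁻¹ := by
    field_simp
    linear_combination ht
  have hPc : P.map c = t⁻¹ • (P * J) := by
    ext i j
    fin_cases i <;> fin_cases j
    · simp [P, J, hcapp]
      field_simp
    · simp [P, J, hcapp, mul_pow, pow_q_pow_q hF, htq]
    · simp [P, J, hcapp, ht0]
    · simp [P, J, hcapp, htq]
  -- the homomorphism
  let g : SpecialLinearGroup (Fin 2) K →* SpecialLinearGroup (Fin 2) F :=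
    (Cfsg.Agent.S0281.conjSL P Q hPQ hQP).comp (SpecialLinearGroup.map f)
  have hg : ∀ M, (g M).1 = Q * M.1.map f * P := fun M => rfl
  have hginj : Function.Injective g := by
    intro M N h
    have h1 : Q * M.1.map f * P = Q * N.1.map f * P := by rw [← hg, ← hg, h]
    have h2 : P * (Q * M.1.map f * P) * Q = P * (Q * N.1.map f * P) * Q := by rw [h1]
    have h3 : ∀ X : Matrix (Fin 2) (Fin 2) F, P * (Q * X * P) * Q = X := by
      intro X
      calc P * (Q * X * P) * Q = (P * Q) * X * (P * Q) := by simp only [Matrix.mul_assoc]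
        _ = X := by rw [hPQ, Matrix.one_mul, Matrix.mul_one]
    rw [h3, h3] at h2
    apply Subtype.ext
    ext i j
    exact hfinj (by simpa using congrFun (congrFun h2 i) j)
  -- membership in SU, by matrices
  have hSU : ∀ A : SpecialLinearGroup (Fin 2) F, A ∈ SU 2 F q ↔ J * A.1.map c = A.1 * J := by
    intro A
    rw [Cfsg.Agent.S0281.mem_SU_two_iff hF]
    constructor
    · rintro ⟨h1, h2⟩
      have h3 : (A.1 1 1) ^ q = A.1 0 0 := by rw [← h1, pow_q_pow_q hF]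
      have h4 : (A.1 1 0) ^ q = -A.1 0 1 := by
        have : A.1 1 0 = -(A.1 0 1) ^ q := by rw [h2, neg_neg]
        rw [this, neg_pow_q hF, pow_q_pow_q hF]
      ext i j
      fin_cases i <;> fin_cases j <;>
        simp [J, hcapp, Matrix.mul_apply, Fin.sum_univ_two, h1, h2, h3, h4]
    · intro h
      have h1 := congrFun (congrFun h 1) 0
      have h2 := congrFun (congrFun h 1) 1
      simp [J, hcapp, Matrix.mul_apply, Fin.sum_univ_two] at h1 h2
      exact ⟨h1, h2⟩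
  have hPJ : IsUnit (P * J).det := by rw [Matrix.det_mul]; exact hPunit.mul hJunit
  -- key equivalence
  have hkey : ∀ A B : Matrix (Fin 2) (Fin 2) F, B * P = P * A →
      (B.map c = B ↔ J * A.map c = A * J) := by
    intro A B hBA
    have h1 : B.map c * P.map c = P.map c * A.map c := by
      rw [← Matrix.map_mul, ← Matrix.map_mul, hBA]
    rw [hPc, Matrix.mul_smul, Matrix.smul_mul] at h1
    have h2 : B.map c * (P * J) = P * J * A.map c := by
      have := congrArg (fun X => t • X) h1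
      simpa [smul_smul, mul_inv_cancel₀ ht0] using this
    constructor
    · intro hB
      rw [hB] at h2
      have h3 : P * (J * A.map c) = P * (A * J) := by
        rw [← Matrix.mul_assoc, ← h2, ← Matrix.mul_assoc, hBA, Matrix.mul_assoc]
      have h4 := congrArg (fun X => Q * X) h3
      simpa only [← Matrix.mul_assoc, hQP, Matrix.one_mul] using h4
    · intro hA
      rw [Matrix.mul_assoc P, hA, ← Matrix.mul_assoc P, ← hBA, Matrix.mul_assoc B] at h2
      have h4 := congrArg (fun X => X * (P * J)⁻¹) h2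
      simpa only [Matrix.mul_assoc, Matrix.mul_nonsing_inv _ hPJ, Matrix.mul_one] using h4
  have hrange : g.range = SU 2 F q := by
    ext A
    constructor
    · rintro ⟨M, rfl⟩
      rw [hSU]
      refine (hkey _ (M.1.map f) ?_).1 ?_
      · rw [hg]
        calc M.1.map f * P = (P * Q) * (M.1.map f * P) := by rw [hPQ, Matrix.one_mul]
          _ = _ := by simp only [Matrix.mul_assoc]
      · ext i j
        simp [hcapp, hf']
    · intro hA
      rw [hSU] at hA
      set B := P * A.1 * Q with hB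
      have hBP : B * P = P * A.1 := by
        rw [hB, Matrix.mul_assoc, hQP, Matrix.mul_one]
      have hBc := (hkey A.1 B hBP).2 hA
      have hBe : ∀ i j, ∃ y : K, f y = B i j := by
        intro i j
        refine hf _ ?_
        have := congrFun (congrFun hBc i) j
        simpa [hcapp] using this
      choose N hN using hBe
      have hNB : (Matrix.of N).map f = B := by
        ext i j; exact hN i j
      have hdetN : (Matrix.of N).det = 1 := by
        apply hfinj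
        rw [RingHom.map_det, map_one]
        change ((Matrix.of N).map f).det = 1
        rw [hNB, hB, Matrix.det_mul, Matrix.det_mul, A.2, mul_one, ← Matrix.det_mul, hPQ,
          Matrix.det_one]
      refine ⟨⟨Matrix.of N, hdetN⟩, ?_⟩
      apply Subtype.ext
      refine (hg ⟨Matrix.of N, hdetN⟩).trans ?_
      change Q * (Matrix.of N).map f * P = A.1
      rw [hNB, Matrix.mul_assoc, hBP, ← Matrix.mul_assoc, hQP, Matrix.one_mul]
  refine ⟨f, g, hginj, hrange, fun M => ?_⟩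
  rw [hg, Matrix.mul_assoc, Matrix.trace_mul_comm, Matrix.mul_assoc, hPQ, Matrix.mul_one]
  rw [Matrix.trace_fin_two, Matrix.trace_fin_two, map_add]
  rfl


/-- The embedding of `SL(2,K)` in `GU(2,q)`. -/
theorem exists_hom_GU {F K : Type*} [Field F] [Fintype F] [Field K] [Fintype K] {q : ℕ}
    (hF : Fintype.card F = q ^ 2) (hK : Fintype.card K = q) :
    ∃ (f : K →+* F) (j : SpecialLinearGroup (Fin 2) K →* Cfsg.GU 2 F q),
      Function.Injective j ∧ (∀ s, GeneralLinearGroup.det (j s : GL (Fin 2) F) = 1) ∧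
      (∀ g : Cfsg.GU 2 F q, GeneralLinearGroup.det (g : GL (Fin 2) F) = 1 → ∃ s, j s = g) ∧
      ∀ s, (j s).1.1.trace = f (TypeHom.tr s) := by
  obtain ⟨f, g, hginj, hrange, htr⟩ := exists_hom hF hK
  have hmem : ∀ s, SpecialLinearGroup.toGL (g s) ∈ Cfsg.GU 2 F q := by
    intro s
    have : g s ∈ SU 2 F q := by rw [← hrange]; exact ⟨s, rfl⟩
    exact this
  refine ⟨f, (SpecialLinearGroup.toGL.comp g).codRestrict (Cfsg.GU 2 F q) hmem, ?_, ?_, ?_, ?_⟩
  · intro a b hab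
    apply hginj
    have h1 : SpecialLinearGroup.toGL (g a) = SpecialLinearGroup.toGL (g b) := congrArg Subtype.val hab
    apply Subtype.ext
    exact congrArg (fun x : GL (Fin 2) F => x.1) h1
  · intro s
    ext
    rw [GeneralLinearGroup.val_det_apply]
    exact (g s).2
  · intro x hx
    have hd : x.1.1.det = 1 := by
      have := congrArg (fun u : Fˣ => (u : F)) hx
      rwa [GeneralLinearGroup.val_det_apply] at this
    have h1 : (⟨x.1.1, hd⟩ : SpecialLinearGroup (Fin 2) F) ∈ SU 2 F q := x.2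
    rw [← hrange] at h1
    obtain ⟨s, hs⟩ := h1
    refine ⟨s, Subtype.ext (Units.ext ?_)⟩
    exact congrArg Subtype.val hs
  · intro s
    rw [TypeHom.tr_eq]
    exact htr s

end Cfsg.Agent.Classification.QDW.SUTwoTrace
end

-- part: Classification/QDW/StructMain
section
prune_inst 0x414105d01062200000004200240001e96d30004000008880048000a040680ae2009002820b4b000021822200c60390048130000604000000000000000011c00801000040041810008800010000180400000000000000000000000000000000000000000000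
set_option linter.all false
open scoped Cfsg.Agent.FastGrp

-- part: Classification/QDW/StructQ
section
/-!
# The structure of `H = C(t)/O(C(t))`: the general case

`H` finite, `O(H) = 1`, `S` a quasi-dihedral or wreathed Sylow 2-subgroup with `QHyp S` (see S1216),
`L` a normal subgroup, `e : L ≃* SL(2,F)`, `F` finite of odd order.

* `Base S L e`: `C_H(L) = Z(H) = Z(S)`;
* `tau L e : H →* (F ≃+* F)`, the field type of the action of `H` on `L`, `H1 L e` its kernel.
-/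

set_option autoImplicit false
set_option linter.unusedSectionVars false

namespace Cfsg.Agent.Classification.QDW.StructQ

open Subgroup Matrix Cfsg.Agent.Lib.SL2Mat Cfsg.Agent.Lib.AutSL2 Cfsg.Agent.TwoFusion
  Cfsg.Agent.TwoFusion.NormalSL2 Cfsg.Agent.Classification.QDW.TypeHom
  Cfsg.Agent.Classification.RTwo

/-- `C_H(L) = Z(H) = Z(S)`. -/
structure Base {H : Type*} [Group H] (S : Sylow 2 H) (L : Subgroup H) {F : Type*} [Field F]
    (e : L ≃* _root_.Matrix.SpecialLinearGroup (Fin 2) F) : Prop where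
  two_ne : (2 : F) ≠ 0
  normal : L.Normal
  cent : ∀ c : H, (∀ l ∈ L, c * l = l * c) → ∀ h, c * h = h * c
  center_iff : ∀ c : H, (∀ h, c * h = h * c) ↔ (c ∈ S ∧ ∀ s ∈ S, c * s = s * c)

variable {H : Type*} [Group H]

theorem exists_base [Finite H] (S : Sylow 2 H)
    (hS : Cfsg.IsQuasiDihedral (S : Subgroup H) ∨ Cfsg.IsWreathed (S : Subgroup H))
    (hO : Cfsg.oddCore H = ⊥) (hQ : Structure.QHyp S) (L : Subgroup H) [hLn : L.Normal]
    {F : Type*} [Field F] [Finite F] (h2 : (2 : F) ≠ 0) (e : L ≃* _root_.Matrix.SpecialLinearGroup (Fin 2) F) :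
    Base S L e := by
  have : Fact (Nat.Prime 2) := ⟨Nat.prime_two⟩
  -- the centre of `S` is central
  have hZ : ∀ z ∈ S, (∀ s ∈ S, z * s = s * z) → ∀ h : H, z * h = h * z :=
    Structure.central_of_center S hS hO hQ
  obtain ⟨U, hU, hUi, hns⟩ : ∃ U : Subgroup H, (∀ a ∈ U, ∀ b ∈ U, a * b = b * a) ∧
      (∀ s ∈ S, ∀ t ∈ S, s ∉ U → t ∉ U → s * t ∈ U) ∧ ∃ s ∈ S, ∃ t ∈ S, (s * t * s⁻¹ * t⁻¹) ^ 2 ≠ 1 := by
    obtain ⟨U, hU1, hU2, s, t', hst⟩ := StructBasic.qdw_data hS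
    refine ⟨U.map (S : Subgroup _).subtype, ?_, ?_, s, s.2, t', t'.2, fun h => hst (Subtype.ext h)⟩
    · rintro _ ⟨a, ha, rfl⟩ _ ⟨b, hb, rfl⟩
      exact congrArg Subtype.val (hU1 a ha b hb)
    · intro a ha b hb haU hbU
      have h1 : (⟨a, ha⟩ : (S : Subgroup H)) ∉ U := fun h => haU ⟨_, h, rfl⟩
      have h3 : (⟨b, hb⟩ : (S : Subgroup H)) ∉ U := fun h => hbU ⟨_, h, rfl⟩
      exact ⟨_, hU2 _ _ h1 h3, rfl⟩
  obtain ⟨x, y, hxS, hyS, hxL, hyL, hxy⟩ := exists_noncomm_in_sylow S L h2 e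
  have hCn : (Subgroup.centralizer (L : Set H)).Normal := Subgroup.normal_centralizer
  have hcS : ∀ c ∈ Subgroup.centralizer (L : Set H), c ∈ S → ∀ h, c * h = h * c := by
    intro c hc hcS
    apply hZ c hcS
    rw [Subgroup.mem_centralizer_iff] at hc
    exact comm_of_comm (S := (S : Subgroup H)) hU hUi hxS hyS hxy hcS (hc x hxL).symm (hc y hyL).symm
  have hCS : Subgroup.centralizer (L : Set H) ≤ S := _root_.Cfsg.Agent.TwoFusion.NormalSL2.centralizer_le S hO _ hcS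
  have hmemC : ∀ c : H, (∀ l ∈ L, c * l = l * c) → c ∈ Subgroup.centralizer (L : Set H) := by
    intro c hc
    rw [Subgroup.mem_centralizer_iff]
    exact fun l hl => (hc l hl).symm
  refine ⟨h2, hLn, fun c hc => hcS c (hmemC c hc) (hCS (hmemC c hc)), fun c => ⟨fun hc => ?_, ?_⟩⟩
  · exact ⟨hCS (hmemC c fun l _ => hc l), fun s _ => hc s⟩
  · rintro ⟨hcS, hc⟩
    exact hZ c hcS hc

/-- The field type. -/
noncomputable def tau (L : Subgroup H) [L.Normal] {F : Type*} [Field F] [Finite F]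
    (e : L ≃* _root_.Matrix.SpecialLinearGroup (Fin 2) F) : H →* (F ≃+* F) := typ.comp (act L e)

/-- The elements of `H` acting on `L` as elements of `GL(2,F)`. -/
noncomputable def H1 (L : Subgroup H) [L.Normal] {F : Type*} [Field F] [Finite F]
    (e : L ≃* _root_.Matrix.SpecialLinearGroup (Fin 2) F) : Subgroup H := (tau L e).ker

section basic

variable {L : Subgroup H} [hLn : L.Normal] {F : Type*} [Field F] [Finite F]
  {e : L ≃* _root_.Matrix.SpecialLinearGroup (Fin 2) F}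

theorem act_mk (h : H) (x : L) : act L e h (e x) = e ⟨h * x * h⁻¹, hLn.conj_mem _ x.2 h⟩ := by
  apply e.symm.injective
  apply Subtype.ext
  rw [act_apply, e.symm_apply_apply]

theorem act_of_mem (l : L) (x : _root_.Matrix.SpecialLinearGroup (Fin 2) F) :
    act L e (l : H) x = e l * x * (e l)⁻¹ := by
  obtain ⟨y, rfl⟩ := e.surjective x
  rw [act_mk, ← map_inv, ← map_mul, ← map_mul]
  rfl

theorem tr_act (h : H) (x : _root_.Matrix.SpecialLinearGroup (Fin 2) F) :
    tr (act L e h x) = tau L e h (tr x) := tr_apply _ _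

theorem mem_H1 (h : H) : h ∈ H1 L e ↔ ∃ g : GL (Fin 2) F, act L e h = conjGL g := by
  rw [H1, MonoidHom.mem_ker]
  exact typ_eq_one_iff _

theorem tau_eq_one (h : H) (hh : h ∈ H1 L e) : tau L e h = 1 := hh

theorem L_le_H1 : L ≤ H1 L e := by
  intro l hl
  rw [mem_H1]
  refine ⟨SpecialLinearGroup.toGL (e ⟨l, hl⟩), MulEquiv.ext fun x => ?_⟩
  rw [conjGL_toGL]
  exact act_of_mem (e := e) ⟨l, hl⟩ x

/-- an element acting as an element of `GL(2,F)` with square determinant is in `L Z(H)` -/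
theorem mem_of_isSquare {S : Sylow 2 H} (B : Base S L e) (h : H) (g : GL (Fin 2) F)
    (hg : act L e h = conjGL g) (hd : IsSquare g.1.det) :
    ∃ l ∈ L, ∃ c, (∀ k, c * k = k * c) ∧ h = l * c := by
  obtain ⟨d, hd⟩ := hd
  have hd0 : d ≠ 0 := by
    rintro rfl
    rw [mul_zero] at hd
    exact (Matrix.GeneralLinearGroup.det g).ne_zero hd
  obtain ⟨s, hs⟩ := Cfsg.Agent.Lib.AutSL2Out.conjGL_of_det_sq g d hd0 (by rw [hd, sq])
  have h1 := inv_mul_mem_centralizer L e h s (fun x => by rw [hg, hs])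
  refine ⟨_, (e.symm s).2, _, ?_, (mul_inv_cancel_left _ _).symm⟩
  apply B.cent
  rw [Subgroup.mem_centralizer_iff] at h1
  exact fun l hl => (h1 l hl).symm

/-- elements of `L` whose square is `1` -/
theorem sl_sq (h2 : (2 : F) ≠ 0) (x : _root_.Matrix.SpecialLinearGroup (Fin 2) F) (h : x * x = 1) :
    x = 1 ∨ x = neg1 F := by
  have h1 := cayley x
  rw [← val_mul, h, val_one] at h1
  have h3 : tr x • x.1 = (2 : F) • (1 : Matrix (Fin 2) (Fin 2) F) := by
    rw [eq_sub_iff_add_eq] at h1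
    rw [← h1, two_smul]
  have e00 := congrFun (congrFun h3 0) 0
  have e01 := congrFun (congrFun h3 0) 1
  have e10 := congrFun (congrFun h3 1) 0
  have e11 := congrFun (congrFun h3 1) 1
  simp only [_root_.Fin.isValue, _root_.Matrix.smul_apply, _root_.smul_eq_mul, _root_.Matrix.one_apply_eq, _root_.mul_one, _root_.ne_eq, _root_.zero_ne_one, _root_.not_false_eq_true, _root_.Matrix.one_apply_ne, _root_.MulZeroClass.mul_zero, _root_.mul_eq_zero, _root_.one_ne_zero] at e00 e01 e10 e11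
  have ht : tr x ≠ 0 := by
    intro h0
    rw [h0, zero_mul] at e00
    exact h2 e00.symm
  have h01 : x.1 0 1 = 0 := e01.resolve_left ht
  have h10 : x.1 1 0 = 0 := e10.resolve_left ht
  have h4 : x.1 0 0 = x.1 1 1 := mul_left_cancel₀ ht (e00.trans e11.symm)
  have h5 : x.1 0 0 * x.1 1 1 - x.1 0 1 * x.1 1 0 = 1 := by
    have := x.2
    rwa [Matrix.det_fin_two] at this
  rw [h01, zero_mul, sub_zero, ← h4] at h5
  rcases mul_self_eq_one_iff.1 h5 with h6 | h6
  · left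
    refine ext_ent ?_ ?_ ?_ ?_
    · exact h6
    · exact h01
    · exact h10
    · exact h4.symm.trans h6
  · right
    refine ext_ent ?_ ?_ ?_ ?_
    · exact h6
    · exact h01
    · exact h10
    · exact h4.symm.trans h6

/-- the involution of `L` -/
def z0 (e : L ≃* _root_.Matrix.SpecialLinearGroup (Fin 2) F) : H := (e.symm (neg1 F) : L)

omit hLn [Finite F] in
theorem z0_mem : z0 e ∈ L := (e.symm (neg1 F)).2

omit hLn [Finite F] in
theorem z0_mul : z0 e * z0 e = 1 := by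
  have h1 : (e.symm (neg1 F)) * (e.symm (neg1 F)) = 1 := by rw [← map_mul, neg1_mul_neg1, map_one]
  exact congrArg Subtype.val h1

omit hLn [Finite F] in
theorem z0_ne (h2 : (2 : F) ≠ 0) : z0 e ≠ 1 := by
  intro h
  have h1 : e.symm (neg1 F) = 1 := Subtype.ext h
  rw [map_eq_one_iff e.symm e.symm.injective] at h1
  exact neg1_ne_one h2 h1

omit hLn [Finite F] in
theorem orderOf_z0 (h2 : (2 : F) ≠ 0) : orderOf (z0 e) = 2 :=
  orderOf_eq_prime (by rw [sq, z0_mul]) (z0_ne h2)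

theorem eq_of_sq (h2 : (2 : F) ≠ 0) {l : H} (hl : l ∈ L) (h : l * l = 1) : l = 1 ∨ l = z0 e := by
  have h1 : e ⟨l, hl⟩ * e ⟨l, hl⟩ = 1 := by
    rw [← map_mul]
    have : (⟨l, hl⟩ : L) * ⟨l, hl⟩ = 1 := Subtype.ext h
    rw [this, map_one]
  rcases sl_sq h2 _ h1 with h3 | h3
  · left
    have h4 : (⟨l, hl⟩ : L) = 1 := (map_eq_one_iff e e.injective).1 h3
    exact congrArg Subtype.val h4
  · right
    have h4 : (⟨l, hl⟩ : L) = e.symm (neg1 F) := by rw [← h3, e.symm_apply_apply]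
    exact congrArg Subtype.val h4

theorem z0_central {S : Sylow 2 H} (B : Base S L e) (h : H) : z0 e * h = h * z0 e := by
  apply B.cent
  intro l hl
  have h1 : e.symm (neg1 F) * ⟨l, hl⟩ = ⟨l, hl⟩ * e.symm (neg1 F) := by
    apply e.injective
    rw [map_mul, map_mul, e.apply_symm_apply, neg1_comm]
  exact congrArg Subtype.val h1

end basic

section count

variable [Finite H] {S : Sylow 2 H} {L : Subgroup H} {F : Type*} [Field F] [Finite F]
  {e : L ≃* _root_.Matrix.SpecialLinearGroup (Fin 2) F}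

/-- The `2`-part of `|F|² - 1`. -/
theorem not_dvd_of_card (B : Base S L e) {m : ℕ} (hm : Nat.card ((S : Subgroup H) ⊓ L : Subgroup H) = 2 ^ m) :
    ¬ 2 ^ (m + 1) ∣ Nat.card F ^ 2 - 1 := by
  have hLn := B.normal
  let _ := Fintype.ofFinite F
  have h1 : Nat.card L = Nat.card F * (Nat.card F ^ 2 - 1) := by
    rw [Nat.card_congr e.toEquiv, Cfsg.Agent.LieClassical.SmallIso.card_sl_two, Nat.card_eq_fintype_card]
  intro h
  have h3 : 2 ^ (m + 1) ∣ Nat.card L := by rw [h1]; exact Dvd.dvd.mul_left h _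
  have h4 : Nat.card ((S : Subgroup H) ⊓ L : Subgroup H) * (S : Subgroup H).relIndex L = Nat.card L := by
    exact Cfsg.Agent.Lib.SylowNormalInf.card_inf_mul_relIndex _ _
  rw [hm] at h4
  rw [← h4, pow_succ] at h3
  have h5 := Nat.dvd_of_mul_dvd_mul_left (by positivity) h3
  exact Cfsg.Agent.Lib.SylowNormalInf.not_dvd_relIndex S L h5

end count

section qd

variable [Finite H] {S : Sylow 2 H} {L : Subgroup H} [hLn : L.Normal] {F : Type*} [Field F] [Finite F]
  {e : L ≃* _root_.Matrix.SpecialLinearGroup (Fin 2) F}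

/-- The Sylow subgroup in the quasi-dihedral case. -/
theorem exists_qd_sylow (B : Base S L e) (hS : Cfsg.IsQuasiDihedral (S : Subgroup H)) :
    ∃ (m : ℕ) (x y : H), 2 ≤ m ∧ Nat.card S = 2 ^ (m + 2) ∧ x ∈ S ∧ x ∈ L ∧ y ∈ S ∧ y ∉ L ∧
      y * y = 1 ∧ orderOf x = 2 ^ m ∧ y * x * y⁻¹ = x⁻¹ ∧ (∀ s ∈ S, s ∈ L ∨ s * y⁻¹ ∈ L) ∧
      (∀ c : H, (∀ k, c * k = k * c) → c = 1 ∨ c = z0 e) := by
  obtain ⟨n, u, y, h⟩ := QDBasic.exists_qdcoord hS
  have hn := h.three_le
  have hinv : ∀ a, (u a)⁻¹ = u (-a) := by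
    intro a
    apply inv_eq_of_mul_eq_one_right
    rw [h.u_mul, add_neg_cancel, h.u_zero]
  have h20 : (2 : ZMod (2 ^ n)) * 2 ^ (n - 1) = 0 := QDBasic.two_mul_half n (by omega)
  have hhalf : (2 : ZMod (2 ^ n)) ^ (n - 1) ≠ 0 := QDBasic.half_ne_zero n (by omega)
  have hyinv : y⁻¹ = y := inv_eq_of_mul_eq_one_right h.y_y
  -- the involution of `L`
  obtain ⟨hzS, hzc⟩ := (B.center_iff (z0 e)).1 (z0_central B)
  -- an element of `S ∩ L` outside the cyclic subgroup
  obtain ⟨a, b, haS, hbS, haL, hbL, hab⟩ := exists_noncomm_in_sylow S L B.two_ne e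
  have hw : ∃ b : ZMod (2 ^ n), ((u b * y : (S : Subgroup H)) : H) ∈ L := by
    rcases h.cases ⟨a, haS⟩ with ⟨i, hi⟩ | ⟨i, hi⟩
    · rcases h.cases ⟨b, hbS⟩ with ⟨j, hj⟩ | ⟨j, hj⟩
      · exfalso
        apply hab
        have h1 : (⟨a, haS⟩ : (S : Subgroup H)) * ⟨b, hbS⟩ = ⟨b, hbS⟩ * ⟨a, haS⟩ := by
          rw [hi, hj, h.u_mul, h.u_mul, add_comm]
        exact congrArg Subtype.val h1
      · exact ⟨j, by rw [← hj]; exact hbL⟩
    · exact ⟨i, by rw [← hi]; exact haL⟩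
  obtain ⟨b, hb⟩ := hw
  -- non-central involutions are not in `L`
  have hncen : ∀ c : ZMod (2 ^ n), u c * y ≠ u (2 ^ (n - 1)) := fun c hc => h.u_ne _ _ hc.symm
  have hz : ∀ s : (S : Subgroup H), (s : H) ∈ L → s * s = 1 → s = 1 ∨ (s : H) = z0 e := by
    intro s hs h1
    rcases eq_of_sq B.two_ne hs (congrArg Subtype.val h1) with h3 | h3
    · exact Or.inl (Subtype.ext h3)
    · exact Or.inr h3
  have hu2 : u (2 ^ (n - 1)) * u (2 ^ (n - 1)) = 1 := by
    rw [h.u_mul, ← two_mul, h20, h.u_zero]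
  have hyu2 : ∀ c : ZMod (2 ^ n), y * u c * y⁻¹ = u ((2 ^ (n - 1) - 1) * c) := by
    intro c
    rw [h.y_u, mul_inv_cancel_right]
  have hzu : z0 e = (u (2 ^ (n - 1)) : H) := by
    -- `z0` is central in `S`
    rcases h.cases ⟨z0 e, hzS⟩ with ⟨i, hi⟩ | ⟨i, hi⟩
    · have h1 : (⟨z0 e, hzS⟩ : (S : Subgroup H)) * ⟨z0 e, hzS⟩ = 1 := Subtype.ext z0_mul
      rw [hi, h.u_mul, ← h.u_zero] at h1
      have h3 : 2 * i = 0 := by rw [two_mul]; exact h.u_inj _ _ h1
      rw [QDBasic.two_mul_eq_zero_iff n (by omega)] at h3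
      rcases h3 with h3 | h3
      · exfalso
        rw [h3, h.u_zero] at hi
        exact z0_ne B.two_ne (congrArg Subtype.val hi)
      · rw [h3] at hi
        exact congrArg Subtype.val hi
    · exfalso
      have h1 : (⟨z0 e, hzS⟩ : (S : Subgroup H)) * u 1 = u 1 * ⟨z0 e, hzS⟩ :=
        Subtype.ext (hzc _ (u 1).2)
      rw [hi, mul_assoc, h.y_u, ← mul_assoc, ← mul_assoc, h.u_mul, h.u_mul] at h1
      have h3 := h.u_inj _ _ (mul_right_cancel h1)
      have h4 : (2 : ZMod (2 ^ n)) ^ (n - 1) = 2 := by linear_combination h3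
      have h5 : (4 : ZMod (2 ^ n)) = 0 := by linear_combination h20 - 2 * h4
      have h6 : ((4 : ℕ) : ZMod (2 ^ n)) = 0 := by exact_mod_cast h5
      rw [QDBasic.natCast_eq_zero_iff] at h6
      have h7 : 2 ^ 3 ∣ 2 ^ n := pow_dvd_pow 2 h.three_le
      have h8 := Nat.le_of_dvd (by norm_num) (h7.trans h6)
      norm_num at h8
  -- `y` is not in `L`
  have hinvol : ∀ c : ZMod (2 ^ n), (u (2 * c) * y) * (u (2 * c) * y) = 1 := by
    intro c
    rw [mul_assoc, ← mul_assoc y, h.y_u, mul_assoc (u _) y, h.y_y, mul_one, h.u_mul]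
    have : 2 * c + (2 ^ (n - 1) - 1) * (2 * c) = 0 := by linear_combination c * h20
    rw [this, h.u_zero]
  have hnotL : ∀ c : ZMod (2 ^ n), ((u (2 * c) * y : (S : Subgroup H)) : H) ∉ L := by
    intro c hc
    rcases hz _ hc (hinvol c) with h1 | h1
    · exact h.u_ne 0 _ (by rw [h1, h.u_zero])
    · rw [hzu] at h1
      exact hncen _ (Subtype.ext h1)
  -- parity
  have hpar : ∀ c : ZMod (2 ^ n), (∃ d, c = 2 * d) ∨ (∃ d, c = 2 * d + 1) := by
    intro c
    have hc : c = ((c.val : ℕ) : ZMod (2 ^ n)) := (ZMod.natCast_zmod_val c).symm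
    rcases Nat.even_or_odd' c.val with ⟨k, hk | hk⟩
    · exact Or.inl ⟨(k : ZMod (2 ^ n)), by rw [hc, hk]; push_cast; ring⟩
    · exact Or.inr ⟨(k : ZMod (2 ^ n)), by rw [hc, hk]; push_cast; ring⟩
  obtain ⟨d, rfl⟩ : ∃ d, b = 2 * d + 1 := by
    rcases hpar b with ⟨d, rfl⟩ | h1
    · exact absurd hb (hnotL d)
    · exact h1
  -- `u (2 c) ∈ L`
  have hzL : ((u (2 ^ (n - 1)) : (S : Subgroup H)) : H) ∈ L := by rw [← hzu]; exact z0_mem
  have hconj : ∀ c : ZMod (2 ^ n), ((u (2 * c - 2 ^ (n - 1) * c) : (S : Subgroup H)) : H) ∈ L := by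
    intro c
    have h1 : ((u c * (u (2 * d + 1) * y) * (u c)⁻¹ * (u (2 * d + 1) * y)⁻¹ : (S : Subgroup H)) : H) ∈ L := by
      refine mul_mem (hLn.conj_mem _ hb _) (inv_mem hb)
    have h3 : u c * (u (2 * d + 1) * y) * (u c)⁻¹ * (u (2 * d + 1) * y)⁻¹ =
        u (2 * c - 2 ^ (n - 1) * c) := by
      rw [hinv, _root_.mul_inv_rev, hinv, hyinv]
      have h4 : u c * (u (2 * d + 1) * y) * u (-c) * (y * u (-(2 * d + 1))) =
          u c * u (2 * d + 1) * (y * u (-c) * y) * u (-(2 * d + 1)) := by group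
      have h5 : y * u (-c) * y = u ((2 ^ (n - 1) - 1) * -c) := by
        have := hyu2 (-c)
        rwa [hyinv] at this
      rw [h4, h5, h.u_mul, h.u_mul, h.u_mul]
      congr 1
      ring
    rw [← h3]
    exact h1
  have heven : ∀ c : ZMod (2 ^ n), ((u (2 * c) : (S : Subgroup H)) : H) ∈ L := by
    intro c
    rcases hpar c with ⟨k, rfl⟩ | ⟨k, rfl⟩
    · have := hconj (2 * k)
      have h1 : 2 * (2 * k) - 2 ^ (n - 1) * (2 * k) = 2 * (2 * k) := by linear_combination (-k) * h20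
      rwa [h1] at this
    · have := mul_mem (hconj (2 * k + 1)) hzL
      rw [← Subgroup.coe_mul, h.u_mul] at this
      have h1 : 2 * (2 * k + 1) - 2 ^ (n - 1) * (2 * k + 1) + 2 ^ (n - 1) = 2 * (2 * k + 1) := by
        linear_combination (-k) * h20
      rwa [h1] at this
  have hodd : ∀ c : ZMod (2 ^ n), ((u (2 * c + 1) * y : (S : Subgroup H)) : H) ∈ L := by
    intro c
    have h1 := mul_mem (heven (c - d)) hb
    rw [← Subgroup.coe_mul, ← mul_assoc, h.u_mul] at h1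
    have h3 : 2 * (c - d) + (2 * d + 1) = 2 * c + 1 := by ring
    rwa [h3] at h1
  have hyL : (y : H) ∉ L := by
    have := hnotL 0
    rwa [mul_zero, h.u_zero, one_mul] at this
  refine ⟨n - 1, u 2, y, by omega, ?_, (u 2).2, ?_, y.2, hyL, ?_, ?_, ?_, ?_, ?_⟩
  · have h1 : n - 1 + 2 = n + 1 := by omega
    rw [h1]; exact h.card
  · have := heven 1
    rwa [mul_one] at this
  · exact congrArg Subtype.val h.y_y
  · rw [Subgroup.orderOf_coe]
    -- the order of `u 2`
    have hpw : ∀ k : ℕ, u 2 ^ k = u (2 * k) := by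
      intro k
      induction k with
      | zero => simp [h.u_zero]
      | succ k ih => rw [pow_succ, ih, h.u_mul]; congr 1; push_cast; ring
    obtain ⟨j, rfl⟩ : ∃ j, n = j + 2 := ⟨n - 2, by omega⟩
    have e1 : j + 2 - 1 = j + 1 := rfl
    rw [e1]
    apply orderOf_eq_prime_pow
    · rw [hpw, ← h.u_zero]
      intro h1
      have h3 := h.u_inj _ _ h1
      apply hhalf
      push_cast at h3
      exact (pow_succ' (2 : ZMod (2 ^ (j + 2))) j).trans h3
    · rw [hpw, ← h.u_zero]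
      congr 1
      have := h20
      rw [e1] at this
      push_cast
      exact this
  · have h1 := hyu2 2
    have h3 : (2 ^ (n - 1) - 1) * 2 = (-2 : ZMod (2 ^ n)) := by linear_combination h20
    rw [h3, ← hinv] at h1
    exact congrArg Subtype.val h1
  · intro s hs
    rcases h.cases ⟨s, hs⟩ with ⟨i, hi⟩ | ⟨i, hi⟩
    · rcases hpar i with ⟨k, rfl⟩ | ⟨k, rfl⟩
      · left
        have h1 := congrArg Subtype.val hi
        change s = _ at h1
        rw [h1]; exact heven k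
      · right
        have h1 : (⟨s, hs⟩ : (S : Subgroup H)) * y⁻¹ = u (2 * k + 1) * y := by rw [hi, hyinv]
        have h3 := congrArg Subtype.val h1
        change s * (y : H)⁻¹ = _ at h3
        rw [h3]; exact hodd k
    · rcases hpar i with ⟨k, rfl⟩ | ⟨k, rfl⟩
      · right
        have h1 : (⟨s, hs⟩ : (S : Subgroup H)) * y⁻¹ = u (2 * k) := by rw [hi, mul_inv_cancel_right]
        have h3 := congrArg Subtype.val h1
        change s * (y : H)⁻¹ = _ at h3
        rw [h3]; exact heven k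
      · left
        have h1 := congrArg Subtype.val hi
        change s = _ at h1
        rw [h1]; exact hodd k
  · intro c hc
    obtain ⟨hcS, hcc⟩ := (B.center_iff c).1 hc
    rcases h.cases ⟨c, hcS⟩ with ⟨i, hi⟩ | ⟨i, hi⟩
    · have h1 : y * (⟨c, hcS⟩ : (S : Subgroup H)) * y⁻¹ = ⟨c, hcS⟩ := by
        rw [show y * (⟨c, hcS⟩ : (S : Subgroup H)) = ⟨c, hcS⟩ * y from
          Subtype.ext (hcc y y.2).symm, mul_inv_cancel_right]
      rw [hi, hyu2] at h1
      have h3 := h.u_inj _ _ h1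
      -- `(2^(n-1) - 2) i = 0`, so `2 i = 0`
      have h4 : 2 * ((1 - 2 ^ (n - 2)) * i) = 0 := by
        have h5 : (2 : ZMod (2 ^ n)) ^ (n - 1) = 2 * 2 ^ (n - 2) := by
          rw [← pow_succ']; congr 1; omega
        rw [h5] at h3
        linear_combination -h3
      rw [QDBasic.two_mul_eq_zero_iff n (by omega)] at h4
      have h6 : (2 : ZMod (2 ^ n)) ^ (n - 2) * 2 ^ (n - 2) * 2 ^ 1 = 2 ^ (n - 1) * 2 ^ (n - 2) := by
        rw [← pow_add, ← pow_add, ← pow_add]; congr 1; omega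
      have h7 : (2 : ZMod (2 ^ n)) ^ (n - 1) * 2 ^ (n - 2) = 0 := by
        have : (2 : ZMod (2 ^ n)) ^ (n - 1) * 2 ^ (n - 2) = 2 * 2 ^ (n - 1) * 2 ^ (n - 3) := by
          rw [← pow_add, ← pow_succ', ← pow_add]; congr 1; omega
        rw [this, h20, zero_mul]
      have h8 : 2 * i = 0 := by
        rcases h4 with h9 | h9
        · linear_combination (2 + 2 * 2 ^ (n - 2)) * h9 + i * (h6.trans h7)
        · linear_combination (2 + 2 * 2 ^ (n - 2)) * h9 + i * (h6.trans h7) + h20 + 2 ^ (n - 2) * h20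
      rw [QDBasic.two_mul_eq_zero_iff n (by omega)] at h8
      rcases h8 with h9 | h9
      · left
        rw [h9, h.u_zero] at hi
        exact congrArg Subtype.val hi
      · right
        rw [h9] at hi
        rw [hzu]
        exact congrArg Subtype.val hi
    · exfalso
      have h1 : (⟨c, hcS⟩ : (S : Subgroup H)) * u 1 = u 1 * ⟨c, hcS⟩ := Subtype.ext (hcc _ (u 1).2)
      rw [hi, mul_assoc, h.y_u, ← mul_assoc, ← mul_assoc, h.u_mul, h.u_mul] at h1
      have h3 := h.u_inj _ _ (mul_right_cancel h1)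
      have h4 : (2 : ZMod (2 ^ n)) ^ (n - 1) = 2 := by linear_combination h3
      have h5 : (4 : ZMod (2 ^ n)) = 0 := by linear_combination h20 - 2 * h4
      have h6 : ((4 : ℕ) : ZMod (2 ^ n)) = 0 := by exact_mod_cast h5
      rw [QDBasic.natCast_eq_zero_iff] at h6
      have h7 : 2 ^ 3 ∣ 2 ^ n := pow_dvd_pow 2 h.three_le
      have h8 := Nat.le_of_dvd (by norm_num) (h7.trans h6)
      norm_num at h8

/-- All the data in the quasi-dihedral case. -/
structure QD (S : Sylow 2 H) (L : Subgroup H) [L.Normal] (e : L ≃* _root_.Matrix.SpecialLinearGroup (Fin 2) F) (y : H) : Prop where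
  base : Base S L e
  y_mem : y ∈ S
  y_not_mem : y ∉ L
  y_mul_y : y * y = 1
  center : ∀ c : H, (∀ k, c * k = k * c) ↔ (c = 1 ∨ c = z0 e)
  act_y : ∃ g : GL (Fin 2) F, act L e y = conjGL g ∧ ¬ IsSquare g.1.det
  sylow_le : (S : Subgroup H) ≤ H1 L e
  cover : ∀ h, h ∈ H1 L e ↔ (h ∈ L ∨ h * y ∈ L)
  card_S : Nat.card S = 2 * Nat.card ((S : Subgroup H) ⊓ L : Subgroup H)

theorem exists_qd (B : Base S L e) (hS : Cfsg.IsQuasiDihedral (S : Subgroup H)) :
    ∃ y : H, QD S L e y := by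
  obtain ⟨m, x, y, hm, hcS, hxS, hxL, hyS, hyL, hyy, hx, hyx, hcov, hcen⟩ := exists_qd_sylow B hS
  have hyinv : y⁻¹ = y := inv_eq_of_mul_eq_one_right hyy
  -- the order of `S ∩ L`
  have hidx : (L.subgroupOf (S : Subgroup H)).index = 2 := by
    rw [Subgroup.index_eq_two_iff]
    refine ⟨⟨y, hyS⟩, fun s => ?_⟩
    rw [Subgroup.mem_subgroupOf, Subgroup.mem_subgroupOf]
    change Xor ((s : H) * y ∈ L) ((s : H) ∈ L)
    rcases hcov s s.2 with h | h
    · right
      refine ⟨h, fun h1 => hyL ?_⟩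
      have := mul_mem (inv_mem h) h1
      rwa [inv_mul_cancel_left] at this
    · left
      rw [hyinv] at h
      refine ⟨h, fun h1 => hyL ?_⟩
      have := mul_mem (inv_mem h1) h
      rwa [inv_mul_cancel_left] at this
  have hcard : Nat.card S = 2 * Nat.card ((S : Subgroup H) ⊓ L : Subgroup H) := by
    have h1 := Cfsg.Agent.Lib.SylowNormalInf.card_inf_mul_relIndex L (S : Subgroup H)
    rw [inf_comm, Subgroup.relIndex, hidx, mul_comm] at h1
    exact h1.symm
  have hcard2 : Nat.card ((S : Subgroup H) ⊓ L : Subgroup H) = 2 ^ (m + 1) := by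
    have h1 : Nat.card S = 2 ^ (m + 1) * 2 := by rw [hcS, pow_succ]
    omega
  -- the type of `y`
  have hτy : tau L e y = 1 := by
    have h1 : orderOf (e ⟨x, hxL⟩) = 2 ^ m := by
      rw [e.orderOf_eq, ← Subgroup.orderOf_coe]
      exact hx
    refine ringEquiv_eq_one B.two_ne h1 (not_dvd_of_card B hcard2) ?_ ?_
    · rw [← map_mul, hyy, map_one]
    · rw [← tr_act, act_mk]
      have h3 : (⟨y * x * y⁻¹, hLn.conj_mem _ hxL y⟩ : L) = (⟨x, hxL⟩ : L)⁻¹ := Subtype.ext hyx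
      rw [h3, map_inv, tr_inv]
  have hyH : y ∈ H1 L e := hτy
  obtain ⟨g, hg⟩ := (mem_H1 y).1 hyH
  have hcen' : ∀ c : H, (∀ k, c * k = k * c) ↔ (c = 1 ∨ c = z0 e) := by
    refine fun c => ⟨hcen c, ?_⟩
    rintro (rfl | rfl)
    · intro k; rw [one_mul, mul_one]
    · exact z0_central B
  have hsq : ∀ h : H, ∀ k : GL (Fin 2) F, act L e h = conjGL k → IsSquare k.1.det → h ∈ L := by
    intro h k hk hd
    obtain ⟨l, hl, c, hc, rfl⟩ := mem_of_isSquare B h k hk hd
    rcases hcen c hc with rfl | rfl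
    · exact mul_mem hl (one_mem _)
    · exact mul_mem hl z0_mem
  have hgd : ¬ IsSquare g.1.det := fun h => hyL (hsq y g hg h)
  have hLH : L ≤ H1 L e := L_le_H1
  refine ⟨y, B, hyS, hyL, hyy, hcen', ⟨g, hg, hgd⟩, ?_, ?_, hcard⟩
  · intro s hs
    rcases hcov s hs with h | h
    · exact hLH h
    · have := mul_mem (hLH h) hyH
      rwa [inv_mul_cancel_right] at this
  · intro h
    constructor
    · intro hh
      obtain ⟨k, hk⟩ := (mem_H1 h).1 hh
      by_cases hd : IsSquare k.1.det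
      · exact Or.inl (hsq h k hk hd)
      · right
        refine hsq _ (k * g) (by rw [map_mul, map_mul, hk, hg]) ?_
        rw [Units.val_mul, Matrix.det_mul]
        have hk0 : k.1.det ≠ 0 := (Matrix.GeneralLinearGroup.det k).ne_zero
        have hg0 : g.1.det ≠ 0 := (Matrix.GeneralLinearGroup.det g).ne_zero
        let _ := Fintype.ofFinite F
        have h2' : ringChar F ≠ 2 := by
          intro h2
          apply B.two_ne
          have := ringChar.Nat.cast_ringChar (R := F)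
          rw [h2] at this
          exact_mod_cast this
        rw [FiniteField.isSquare_iff h2' (mul_ne_zero hk0 hg0), mul_pow]
        have e1 : k.1.det ^ (Fintype.card F / 2) = -1 := by
          rcases FiniteField.pow_dichotomy h2' hk0 with h5 | h5
          · exact absurd ((FiniteField.isSquare_iff h2' hk0).2 h5) hd
          · exact h5
        have e2 : g.1.det ^ (Fintype.card F / 2) = -1 := by
          rcases FiniteField.pow_dichotomy h2' hg0 with h5 | h5
          · exact absurd ((FiniteField.isSquare_iff h2' hg0).2 h5) hgd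
          · exact h5
        rw [e1, e2, neg_mul_neg, one_mul]
    · rintro (h1 | h1)
      · exact hLH h1
      · have := mul_mem (hLH h1) hyH
        rwa [mul_assoc, hyy, mul_one] at this

end qd

end Cfsg.Agent.Classification.QDW.StructQ
end

-- part: Classification/QDW/StructUniq
section
/-!
# Uniqueness of the extension `SL(2,F).2` with an involution outside

* `Ext M L e y`: `M = L ∪ L y`, `e : L ≃* SL(2,F)`, `y² = 1`, `y ∉ L`, `C_M(L) ≤ L`, `y` acts as an
  element of `GL(2,F)`;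
* `Ext.nonempty_mulEquiv`: any two such groups are isomorphic;
* `Model j Z₀ y₀`, `Model.exists_ext`: quotients of central products.
-/

set_option autoImplicit false
set_option linter.unusedSectionVars false

namespace Cfsg.Agent.Classification.QDW.StructUniq

open Subgroup Matrix Cfsg.Agent.Lib.SL2Mat Cfsg.Agent.Lib.AutSL2 Cfsg.Agent.Classification.QDW.TypeHom
  Cfsg.Agent.Classification.RTwo

section matrix

variable {F : Type*} [Field F]

theorem det_eq' (g : GL (Fin 2) F) : g.1.det = g.1 0 0 * g.1 1 1 - g.1 0 1 * g.1 1 0 :=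
  Matrix.det_fin_two _

theorem det_ne (g : GL (Fin 2) F) : g.1.det ≠ 0 := (Matrix.GeneralLinearGroup.det g).ne_zero

/-- the kernel of `conjGL` -/
theorem scalar_of_conjGL {g : GL (Fin 2) F} (h : conjGL g = 1) :
    g.1 0 1 = 0 ∧ g.1 1 0 = 0 ∧ g.1 0 0 = g.1 1 1 := by
  have key : ∀ x : _root_.Matrix.SpecialLinearGroup (Fin 2) F, g.1 * x.1 = x.1 * g.1 := by
    intro x
    have h1 : (conjGL g x).1 = x.1 := by rw [h]; rfl
    rw [conjGL_val] at h1
    calc g.1 * x.1 = g.1 * x.1 * (g⁻¹.1 * g.1) := by rw [inv_val_mul_val, Matrix.mul_one]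
      _ = (g.1 * x.1 * g⁻¹.1) * g.1 := by simp only [Matrix.mul_assoc]
      _ = x.1 * g.1 := by rw [h1]
  have h1 := key (up 1)
  have h2 := key (lo 1)
  have u00 : (up (1 : F)).1 0 0 = 1 := rfl
  have u01 : (up (1 : F)).1 0 1 = 1 := rfl
  have u10 : (up (1 : F)).1 1 0 = 0 := rfl
  have u11 : (up (1 : F)).1 1 1 = 1 := rfl
  have l00 : (lo (1 : F)).1 0 0 = 1 := rfl
  have l01 : (lo (1 : F)).1 0 1 = 0 := rfl
  have l10 : (lo (1 : F)).1 1 0 = 1 := rfl
  have l11 : (lo (1 : F)).1 1 1 = 1 := rfl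
  have e1 := congrFun (congrFun h1 0) 0
  have e2 := congrFun (congrFun h1 0) 1
  have e3 := congrFun (congrFun h2 0) 0
  rw [Matrix.mul_apply, Matrix.mul_apply, Fin.sum_univ_two, Fin.sum_univ_two] at e1 e2 e3
  rw [u00, u01, u10] at e1
  rw [u00, u01, u11] at e2
  rw [l00, l01, l10] at e3
  refine ⟨?_, ?_, ?_⟩
  · linear_combination e3
  · linear_combination -e1
  · linear_combination e2

theorem conjGL_of_scalar {g : GL (Fin 2) F} (h01 : g.1 0 1 = 0) (h10 : g.1 1 0 = 0)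
    (h : g.1 0 0 = g.1 1 1) : conjGL g = 1 := by
  apply MulEquiv.ext
  intro x
  apply Subtype.ext
  have h1 : g.1 * x.1 = x.1 * g.1 := by
    ext i j
    rw [Matrix.mul_apply, Matrix.mul_apply, Fin.sum_univ_two, Fin.sum_univ_two]
    fin_cases i <;> fin_cases j <;> simp [h01, h10, h, mul_comm]
  rw [conjGL_val, h1, Matrix.mul_assoc]
  have h2 : g.1 * g⁻¹.1 = 1 := by rw [← Units.val_mul, mul_inv_cancel, Units.val_one]
  rw [h2, Matrix.mul_one]
  rfl

/-- A matrix inducing an involution has trace zero. -/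
theorem tr_eq_zero {g : GL (Fin 2) F} (h : conjGL (g * g) = 1) (h1 : conjGL g ≠ 1) :
    g.1 0 0 + g.1 1 1 = 0 := by
  obtain ⟨h01, h10, h00⟩ := scalar_of_conjGL h
  rw [Units.val_mul, Matrix.mul_apply, Fin.sum_univ_two] at h01 h10 h00
  rw [Matrix.mul_apply, Fin.sum_univ_two] at h00
  by_contra ht
  apply h1
  have e1 : g.1 0 1 * (g.1 0 0 + g.1 1 1) = 0 := by linear_combination h01
  have e2 : g.1 1 0 * (g.1 0 0 + g.1 1 1) = 0 := by linear_combination h10
  have e3 : (g.1 0 0 - g.1 1 1) * (g.1 0 0 + g.1 1 1) = 0 := by linear_combination h00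
  exact conjGL_of_scalar ((mul_eq_zero.1 e1).resolve_right ht) ((mul_eq_zero.1 e2).resolve_right ht)
    (sub_eq_zero.1 ((mul_eq_zero.1 e3).resolve_right ht))

/-- a matrix with given rows -/
noncomputable def gmk (a b c d : F) (h : a * d - b * c ≠ 0) : GL (Fin 2) F :=
  GeneralLinearGroup.mkOfDetNeZero !![a, b; c, d] (by rw [det_fin_two_of]; exact h)

theorem gmk_val (a b c d : F) (h : a * d - b * c ≠ 0) : (gmk a b c d h).1 = !![a, b; c, d] := rfl

/-- A trace zero matrix is conjugate to `(0, 1; -δ, 0)`. -/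
theorem exists_conj_comp (h2 : (2 : F) ≠ 0) (g : GL (Fin 2) F) (ht : g.1 0 0 + g.1 1 1 = 0)
    {δ : F} (hδ : g.1.det = δ) :
    ∃ x : GL (Fin 2) F, x.1 * g.1 = !![0, 1; -δ, 0] * x.1 := by
  have hd := det_eq' g
  rw [hδ] at hd
  have hδ0 : δ ≠ 0 := by rw [← hδ]; exact det_ne g
  have key : ∀ r s : F, ∀ h : r * (r * g.1 0 1 + s * g.1 1 1) - s * (r * g.1 0 0 + s * g.1 1 0) ≠ 0,
      ∃ x : GL (Fin 2) F, x.1 * g.1 = !![0, 1; -δ, 0] * x.1 := by
    intro r s h
    refine ⟨gmk r s (r * g.1 0 0 + s * g.1 1 0) (r * g.1 0 1 + s * g.1 1 1) h, ?_⟩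
    rw [gmk_val]
    ext i j
    rw [Matrix.mul_apply, Matrix.mul_apply, Fin.sum_univ_two, Fin.sum_univ_two]
    (revert i j; simp only [_root_.Fin.forall_fin_succ, Fin.isValue, _root_.Matrix.of_apply, _root_.Matrix.cons_val', _root_.Matrix.cons_val_zero, _root_.Matrix.cons_val_fin_one, _root_.Matrix.cons_val_one, _root_.Matrix.cons_val_succ, _root_.Fin.succ_zero_eq_one, _root_.IsEmpty.forall_iff, _root_.MulZeroClass.zero_mul, _root_.one_mul, _root_.zero_add, _root_.neg_mul, _root_.add_zero, _root_.forall_const, _root_.and_true, _root_.true_and]) <;> (repeat' with_reducible apply And.intro)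
    · linear_combination (r * g.1 0 0 + s * g.1 1 0) * ht + r * hd
    · linear_combination (r * g.1 0 1 + s * g.1 1 1) * ht + s * hd
  by_cases hb : g.1 0 1 = 0
  · by_cases hc : g.1 1 0 = 0
    · apply key 1 1
      intro h
      have h3 : g.1 0 0 = 0 := by
        have : 2 * g.1 0 0 = 0 := by linear_combination (-1 : F) * h + ht + hb - hc
        exact (mul_eq_zero.1 this).resolve_left h2
      apply hδ0
      rw [hd, h3, hb]; ring
    · apply key 0 1
      intro h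
      apply hc
      linear_combination -h
  · apply key 1 0
    intro h
    apply hb
    linear_combination h

/-- the scalar matrix -/
noncomputable def sc (c : F) (hc : c ≠ 0) : GL (Fin 2) F := gmk c 0 0 c (by simpa using hc)

theorem conjGL_sc (c : F) (hc : c ≠ 0) : conjGL (sc c hc) = 1 := by
  apply conjGL_of_scalar <;> simp [sc, gmk_val]

theorem exists_conj (h2 : (2 : F) ≠ 0) {g g' : GL (Fin 2) F} (ht : g.1 0 0 + g.1 1 1 = 0)
    (ht' : g'.1 0 0 + g'.1 1 1 = 0) (hd : IsSquare (g.1.det * g'.1.det)) :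
    ∃ x : GL (Fin 2) F, conjGL x * conjGL g = conjGL g' * conjGL x := by
  obtain ⟨d, hd⟩ := hd
  -- `c² det g = det g'`
  have hg0 := det_ne g
  have hg'0 := det_ne g'
  set c : F := d / g.1.det with hc
  have hd0 : d ≠ 0 := by
    rintro rfl
    rw [mul_zero] at hd
    exact mul_ne_zero hg0 hg'0 hd
  have hc0 : c ≠ 0 := div_ne_zero hd0 hg0
  have hcd : c * c * g.1.det = g'.1.det := by
    rw [hc]
    field_simp
    linear_combination -hd
  set k := sc c hc0 * g with hk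
  have hkval : k.1 = c • g.1 := by
    rw [hk, Units.val_mul, sc, gmk_val]
    ext i j
    rw [Matrix.mul_apply, Fin.sum_univ_two]
    fin_cases i <;> simp
  have hkt : k.1 0 0 + k.1 1 1 = 0 := by
    rw [hkval, Matrix.smul_apply, Matrix.smul_apply, smul_eq_mul, smul_eq_mul]
    linear_combination c * ht
  have hkd : k.1.det = g'.1.det := by
    rw [hkval, Matrix.det_smul, Fintype.card_fin, sq, hcd]
  obtain ⟨x, hx⟩ := exists_conj_comp h2 k hkt hkd
  obtain ⟨x', hx'⟩ := exists_conj_comp h2 g' ht' rfl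
  refine ⟨x'⁻¹ * x, ?_⟩
  have h3 : x'⁻¹ * x * k = g' * (x'⁻¹ * x) := by
    have e1 : x * k = x' * g' * x'⁻¹ * x := by
      apply Units.ext
      rw [Units.val_mul, hx, Units.val_mul, Units.val_mul, Units.val_mul, hx']
      have : !![0, 1; -g'.1.det, 0] * x'.1 * x'⁻¹.1 = (!![0, 1; -g'.1.det, 0] : Matrix (Fin 2) (Fin 2) F) := by
        rw [Matrix.mul_assoc, ← Units.val_mul, mul_inv_cancel, Units.val_one, Matrix.mul_one]
      rw [this]
    rw [mul_assoc, e1]
    group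
  have h4 : conjGL g = conjGL k := by rw [hk, map_mul, conjGL_sc, one_mul]
  rw [h4, ← map_mul, h3, map_mul]

end matrix

section ext

variable {F : Type*} [Field F]

/-- `M = L ∪ L y`, `y² = 1`, `y ∉ L`. -/
structure Ext {M : Type*} [Group M] (L : Subgroup M) (e : L ≃* _root_.Matrix.SpecialLinearGroup (Fin 2) F)
    (y : M) : Prop where
  normal : L.Normal
  y_mul_y : y * y = 1
  y_not_mem : y ∉ L
  cover : ∀ m, m ∈ L ∨ m * y ∈ L
  cent : ∀ c : M, (∀ l ∈ L, c * l = l * c) → c ∈ L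
  act : ∃ g : GL (Fin 2) F, ∀ l : L, y * l * y⁻¹ = e.symm (conjGL g (e l))

variable {M : Type*} [Group M] {L : Subgroup M} {e : L ≃* _root_.Matrix.SpecialLinearGroup (Fin 2) F} {y : M}

/-- the matrix of `y` -/
theorem Ext.exists_matrix (h : Ext L e y) :
    ∃ g : GL (Fin 2) F, (∀ l : L, y * l * y⁻¹ = e.symm (conjGL g (e l))) ∧
      g.1 0 0 + g.1 1 1 = 0 ∧ ¬ IsSquare g.1.det := by
  obtain ⟨g, hg⟩ := h.act
  have hn := h.normal
  have hyinv : y⁻¹ = y := inv_eq_of_mul_eq_one_right h.y_mul_y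
  have hyy : ∀ m : M, y * (y * m * y⁻¹) * y⁻¹ = m := by
    intro m
    calc y * (y * m * y⁻¹) * y⁻¹ = (y * y) * m * (y * y)⁻¹ := by group
      _ = m := by rw [h.y_mul_y]; simp
  have h1 : conjGL g ≠ 1 := by
    intro h1
    apply h.y_not_mem
    apply h.cent
    intro l hl
    have h3 := hg ⟨l, hl⟩
    rw [h1, MulAut.one_apply, e.symm_apply_apply] at h3
    calc y * l = (y * l * y⁻¹) * y := by group
      _ = l * y := by rw [h3]
  refine ⟨g, hg, tr_eq_zero ?_ h1, ?_⟩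
  · apply MulEquiv.ext
    intro x
    rw [map_mul, MulAut.mul_apply, MulAut.one_apply]
    apply e.symm.injective
    apply Subtype.ext
    have h3 := hg (e.symm (conjGL g x))
    rw [e.apply_symm_apply] at h3
    have h4 := hg (e.symm x)
    rw [e.apply_symm_apply] at h4
    rw [← h3, ← h4]
    exact hyy _
  · rintro ⟨d, hd⟩
    have hd0 : d ≠ 0 := by
      rintro rfl
      rw [mul_zero] at hd
      exact det_ne g hd
    obtain ⟨s, hs⟩ := Cfsg.Agent.Lib.AutSL2Out.conjGL_of_det_sq g d hd0 (by rw [hd, sq])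
    apply h.y_not_mem
    have h3 : ((e.symm s : L) : M)⁻¹ * y ∈ L := by
      apply h.cent
      intro l hl
      have h4 := hg ⟨l, hl⟩
      rw [hs, map_mul, map_mul, map_inv, e.symm_apply_apply] at h4
      change y * l * y⁻¹ = (e.symm s : L) * l * ((e.symm s : L) : M)⁻¹ at h4
      calc ((e.symm s : L) : M)⁻¹ * y * l = ((e.symm s : L) : M)⁻¹ * (y * l * y⁻¹) * y := by group
        _ = l * (((e.symm s : L) : M)⁻¹ * y) := by rw [h4]; group
    have := mul_mem (e.symm s).2 h3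
    rwa [mul_inv_cancel_left] at this

/-- **Uniqueness.** -/
theorem Ext.exists_mulEquiv [Finite F] (h2 : (2 : F) ≠ 0) (h : Ext L e y) {M' : Type*} [Group M']
    {L' : Subgroup M'} {e' : L' ≃* _root_.Matrix.SpecialLinearGroup (Fin 2) F} {y' : M'} (h' : Ext L' e' y') :
    ∃ φ : M ≃* M', (∀ m, φ m ∈ L' ↔ m ∈ L) ∧ φ y = y' := by
  obtain ⟨g, hg, hgt, hgd⟩ := h.exists_matrix
  obtain ⟨g', hg', hgt', hgd'⟩ := h'.exists_matrix
  have hn := h.normal
  have hn' := h'.normal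
  have hsq : IsSquare (g.1.det * g'.1.det) := by
    let _ := Fintype.ofFinite F
    have h2' : ringChar F ≠ 2 := by
      intro h2'
      apply h2
      have := ringChar.Nat.cast_ringChar (R := F)
      rw [h2'] at this
      exact_mod_cast this
    rw [FiniteField.isSquare_iff h2' (mul_ne_zero (det_ne g) (det_ne g')), mul_pow]
    have e1 : ∀ k : GL (Fin 2) F, ¬ IsSquare k.1.det → k.1.det ^ (Fintype.card F / 2) = -1 := by
      intro k hk
      rcases FiniteField.pow_dichotomy h2' (det_ne k) with h5 | h5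
      · exact absurd ((FiniteField.isSquare_iff h2' (det_ne k)).2 h5) hk
      · exact h5
    rw [e1 g hgd, e1 g' hgd', neg_mul_neg, one_mul]
  obtain ⟨x, hx⟩ := exists_conj h2 hgt hgt' hsq
  let f : L →* M' := L'.subtype.comp ((e.trans ((conjGL x).trans e'.symm)).toMonoidHom)
  have hf : ∀ l, f l = (e'.symm (conjGL x (e l)) : L') := fun l => rfl
  have hfinj : Function.Injective f := by
    intro a b hab
    exact (e.trans ((conjGL x).trans e'.symm)).injective (Subtype.ext hab)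
  have hfmem : ∀ l, f l ∈ L' := fun l => (e'.symm (conjGL x (e l))).2
  have hfsurj : ∀ m ∈ L', ∃ l, f l = m := by
    intro m hm
    obtain ⟨l, hl⟩ := (e.trans ((conjGL x).trans e'.symm)).surjective ⟨m, hm⟩
    exact ⟨l, congrArg Subtype.val hl⟩
  have hyinv : y⁻¹ = y := inv_eq_of_mul_eq_one_right h.y_mul_y
  have hy'inv : y'⁻¹ = y' := inv_eq_of_mul_eq_one_right h'.y_mul_y
  have hyL : y ^ 2 ∈ L := by rw [sq, h.y_mul_y]; exact one_mem _
  obtain ⟨Φ, hΦ, hΦy⟩ := ExtHom.exists_ext_two L y f y' h.y_not_mem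
    (fun m => by rw [hyinv]; exact h.cover m) (by
      intro l
      rw [hf, hf]
      have h3 : e (MulAut.conjNormal y l) = conjGL g (e l) := by
        apply e.symm.injective
        apply Subtype.ext
        rw [e.symm_apply_apply, MulAut.conjNormal_apply]
        exact hg l
      rw [h3]
      have h4 := hg' (e'.symm (conjGL x (e l)))
      rw [e'.apply_symm_apply] at h4
      rw [h4]
      have h5 := DFunLike.congr_fun hx (e l)
      rw [MulAut.mul_apply, MulAut.mul_apply] at h5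
      rw [h5]) hyL (by
      have h3 : (⟨y ^ 2, hyL⟩ : L) = 1 := Subtype.ext (by change y ^ 2 = 1; rw [sq, h.y_mul_y])
      rw [h3, map_one, sq, h'.y_mul_y])
  have hΦL : ∀ m (hm : m ∈ L), Φ m = f ⟨m, hm⟩ := fun m hm => hΦ ⟨m, hm⟩
  have hmem : ∀ m, Φ m ∈ L' ↔ m ∈ L := by
    intro m
    constructor
    · intro hm
      rcases h.cover m with h3 | h3
      · exact h3
      · exfalso
        apply h'.y_not_mem
        have h4 := hΦL _ h3
        rw [map_mul, hΦy] at h4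
        have h5 : Φ m * y' ∈ L' := by rw [h4]; exact hfmem _
        have := mul_mem (inv_mem hm) h5
        rwa [inv_mul_cancel_left] at this
    · intro hm
      rw [hΦL m hm]
      exact hfmem _
  have hinj : Function.Injective Φ := by
    rw [injective_iff_map_eq_one]
    intro m hm
    have h3 : m ∈ L := (hmem m).1 (by rw [hm]; exact one_mem _)
    rw [hΦL m h3] at hm
    have h4 : (⟨m, h3⟩ : L) = 1 := (map_eq_one_iff f hfinj).1 hm
    exact congrArg Subtype.val h4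
  have hsurj : Function.Surjective Φ := by
    intro m
    rcases h'.cover m with h3 | h3
    · obtain ⟨l, hl⟩ := hfsurj m h3
      exact ⟨l, by rw [hΦ, hl]⟩
    · obtain ⟨l, hl⟩ := hfsurj _ h3
      refine ⟨l * y, ?_⟩
      rw [map_mul, hΦ, hl, hΦy, mul_assoc, h'.y_mul_y, mul_one]
  exact ⟨MulEquiv.ofBijective Φ ⟨hinj, hsurj⟩, hmem, hΦy⟩

/-- A model as a quotient of a group by a central subgroup. -/
structure Model {G₀ : Type*} [Group G₀] (j : _root_.Matrix.SpecialLinearGroup (Fin 2) F →* G₀) (Z₀ : Subgroup G₀)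
    (y₀ : G₀) : Prop where
  inj : ∀ s, j s ∈ Z₀ → s = 1
  central : ∀ z ∈ Z₀, ∀ g : G₀, z * g = g * z
  cover : ∀ g : G₀, ∃ s, ∃ z ∈ Z₀, g = j s * z ∨ g = j s * z * y₀
  y_mul_y : y₀ * y₀ = 1
  y_ne : ∀ s, ∀ z ∈ Z₀, y₀ ≠ j s * z
  cent : ∀ c : G₀, (∀ s, c * j s = j s * c) → ∃ s, ∃ z ∈ Z₀, c = j s * z
  act : ∃ g : GL (Fin 2) F, ∀ s, y₀ * j s * y₀⁻¹ = j (conjGL g s)

theorem Model.exists_ext {G₀ : Type*} [Group G₀] {j : _root_.Matrix.SpecialLinearGroup (Fin 2) F →* G₀}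
    {Z₀ : Subgroup G₀} [hZn : Z₀.Normal] {y₀ : G₀} (h : Model j Z₀ y₀) :
    ∃ e : ((QuotientGroup.mk' Z₀).comp j).range ≃* _root_.Matrix.SpecialLinearGroup (Fin 2) F,
      Ext ((QuotientGroup.mk' Z₀).comp j).range e (QuotientGroup.mk' Z₀ y₀) := by
  set π := QuotientGroup.mk' Z₀ with hπ
  have hker : ∀ g, π g = 1 ↔ g ∈ Z₀ := fun g => QuotientGroup.eq_one_iff g
  have hinj : Function.Injective (π.comp j) := by
    rw [injective_iff_map_eq_one]
    intro s hs
    exact h.inj s ((hker _).1 hs)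
  let E : _root_.Matrix.SpecialLinearGroup (Fin 2) F ≃* (π.comp j).range := MonoidHom.ofInjective hinj
  have hE : ∀ s, ((E s : (π.comp j).range) : G₀ ⧸ Z₀) = π (j s) := fun s => rfl
  -- normality
  have hconjy : ∀ s, ∃ s', y₀ * j s * y₀⁻¹ = j s' := by
    obtain ⟨g, hg⟩ := h.act
    exact fun s => ⟨_, hg s⟩
  have hconj : ∀ g s, ∃ s', g * j s * g⁻¹ = j s' := by
    intro g s
    obtain ⟨r, z, hz, hg | hg⟩ := h.cover g
    · refine ⟨r * s * r⁻¹, ?_⟩
      rw [hg, map_mul, map_mul, map_inv]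
      calc j r * z * j s * (j r * z)⁻¹ = j r * (z * j s) * z⁻¹ * (j r)⁻¹ := by group
        _ = _ := by rw [h.central z hz]; group
    · obtain ⟨s', hs'⟩ := hconjy s
      refine ⟨r * s' * r⁻¹, ?_⟩
      rw [hg, map_mul, map_mul, map_inv]
      calc j r * z * y₀ * j s * (j r * z * y₀)⁻¹ = j r * (z * (y₀ * j s * y₀⁻¹)) * z⁻¹ * (j r)⁻¹ := by group
        _ = _ := by rw [hs', h.central z hz]; group
  refine ⟨E.symm, ?_, ?_, ?_, ?_, ?_, ?_⟩
  · refine ⟨fun m hm k => ?_⟩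
    obtain ⟨s, rfl⟩ := hm
    obtain ⟨g, rfl⟩ := QuotientGroup.mk'_surjective Z₀ k
    obtain ⟨s', hs'⟩ := hconj g s
    exact ⟨s', by rw [MonoidHom.comp_apply, ← hs', map_mul, map_mul, map_inv]; rfl⟩
  · rw [← map_mul, h.y_mul_y, map_one]
  · rintro ⟨s, hs⟩
    have h1 : π ((j s)⁻¹ * y₀) = 1 := by
      rw [map_mul, map_inv, ← hs, MonoidHom.comp_apply, inv_mul_cancel]
    exact h.y_ne s _ ((hker _).1 h1) (mul_inv_cancel_left _ _).symm
  · intro m
    obtain ⟨g, rfl⟩ := QuotientGroup.mk'_surjective Z₀ m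
    obtain ⟨s, z, hz, hg | hg⟩ := h.cover g
    · left
      refine ⟨s, ?_⟩
      rw [hg, map_mul, ← hπ, (hker z).2 hz, mul_one]
      rfl
    · right
      refine ⟨s, ?_⟩
      rw [hg, ← hπ, map_mul, map_mul, (hker z).2 hz, mul_one, mul_assoc, ← map_mul, h.y_mul_y,
        map_one, mul_one]
      rfl
  · intro m hm
    obtain ⟨c, rfl⟩ := QuotientGroup.mk'_surjective Z₀ m
    obtain ⟨s, z, hz, hc⟩ := h.cent c (by
      intro s
      obtain ⟨s', hs'⟩ := hconj c s
      have h1 := hm _ (E s).2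
      rw [hE, ← map_mul, ← map_mul] at h1
      have h3 : π (j (s⁻¹ * s')) = 1 := by
        have h4 : π (c * j s) * (π c)⁻¹ = π (j s) := by rw [h1, map_mul, mul_inv_cancel_right]
        rw [map_mul, map_mul, ← hs', map_mul, map_inv (f := π), h4, ← map_mul, map_inv, inv_mul_cancel, map_one]
      have h4 := h.inj _ ((hker _).1 h3)
      have h5 : s' = s := by rw [← mul_inv_cancel_left s s', h4, mul_one]
      rw [h5] at hs'
      calc c * j s = c * j s * c⁻¹ * c := by group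
        _ = j s * c := by rw [hs'])
    exact ⟨s, by rw [hc, map_mul, ← hπ, (hker z).2 hz, mul_one]; rfl⟩
  · obtain ⟨g, hg⟩ := h.act
    refine ⟨g, fun l => ?_⟩
    obtain ⟨s, rfl⟩ := E.surjective l
    rw [E.symm_apply_apply, hE]
    change _ = ((E (conjGL g s) : (π.comp j).range) : G₀ ⧸ Z₀)
    rw [hE, ← hg, map_mul, map_mul, map_inv]

end ext

end Cfsg.Agent.Classification.QDW.StructUniq
end

-- part: Classification/QDW/StructModel
section
/-!
# The models `GL(2,F)/Z₀` and `GU(2,q)/Z₀`, `Z₀` the odd part of the centre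

`q ≡ 3 mod 4` for `GL`, `q ≡ 1 mod 4` for `GU`.
-/

set_option autoImplicit false
set_option linter.unusedSectionVars false

namespace Cfsg.Agent.Classification.QDW.StructModel

open Subgroup Matrix Cfsg.Agent.Lib.AutSL2 Cfsg.Agent.Classification.QDW.TypeHom
  Cfsg.Agent.Classification.QDW.StructUniq Cfsg.Agent.Classification.InvCent.GLTwo
  Cfsg.Agent.Classification.InvCent.GUTwo

local notation "conjGL" => Cfsg.Agent.Lib.SL2Mat.conjGL

/-- The scalars `c` with `c ^ k = 1`. -/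
noncomputable def Zsub (F : Type*) [Field F] (k : ℕ) : Subgroup (GL (Fin 2) F) :=
  ((powMonoidHom k : Fˣ →* Fˣ).ker).map (GeneralLinearGroup.scalar (Fin 2))

variable {F : Type*} [Field F]

theorem mem_Zsub {k : ℕ} {g : GL (Fin 2) F} : g ∈ Zsub F k ↔ ∃ c : Fˣ, c ^ k = 1 ∧ g = dg c c := by
  constructor
  · rintro ⟨c, hc, rfl⟩
    exact ⟨c, hc, scalar_eq_dg c⟩
  · rintro ⟨c, hc, rfl⟩
    exact ⟨c, hc, scalar_eq_dg c⟩

theorem dg_comm (c : Fˣ) (g : GL (Fin 2) F) : dg c c * g = g * dg c c := by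
  apply ext2
  · rw [m00, m00, dg00, dg01, dg10]; ring
  · rw [m01, m01, dg00, dg01, dg11]; ring
  · rw [m10, m10, dg00, dg10, dg11]; ring
  · rw [m11, m11, dg01, dg10, dg11]; ring

theorem card_Zsub {k : ℕ} : Nat.card (Zsub F k) = Nat.card {c : Fˣ // c ^ k = 1} := by
  symm
  refine Nat.card_congr (Equiv.ofBijective (fun c => ⟨dg c.1 c.1, mem_Zsub.2 ⟨c.1, c.2, rfl⟩⟩) ⟨?_, ?_⟩)
  · rintro ⟨a, ha⟩ ⟨b, hb⟩ h
    exact Subtype.ext (dg_injective (congrArg Subtype.val h)).1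
  · rintro ⟨g, hg⟩
    obtain ⟨c, hc, rfl⟩ := mem_Zsub.1 hg
    exact ⟨⟨c, hc⟩, rfl⟩

theorem odd_card_Zsub [Finite F] {k : ℕ} (hk : Odd k) : Odd (Nat.card (Zsub F k)) := by
  rw [← Nat.not_even_iff_odd, even_iff_two_dvd]
  intro h
  have : Fact (Nat.Prime 2) := ⟨Nat.prime_two⟩
  obtain ⟨x, hx⟩ := exists_prime_orderOf_dvd_card' 2 h
  obtain ⟨c, hc, hxc⟩ := mem_Zsub.1 x.2
  have h1 : (x : GL (Fin 2) F) ^ k = 1 := by rw [hxc, dg_pow, hc, dg_one]
  have h3 : x ^ k = 1 := Subtype.ext h1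
  have h4 := orderOf_dvd_of_pow_eq_one h3
  rw [hx] at h4
  rw [← Nat.not_even_iff_odd, even_iff_two_dvd] at hk
  exact hk h4

theorem pow_even {A : Type*} [CommGroup A] {k : ℕ} (hk : Odd k) {d : A} (hd : d ^ k = 1) :
    ∃ c : A, c ^ k = 1 ∧ c * c = d := by
  obtain ⟨m, rfl⟩ := hk
  refine ⟨d ^ (m + 1), ?_, ?_⟩
  · rw [← pow_mul, mul_comm, pow_mul, hd, one_pow]
  · rw [← pow_add]
    have : m + 1 + (m + 1) = 2 * m + 1 + 1 := by ring
    rw [this, pow_succ, hd, one_mul]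

theorem pow_cases {k : ℕ} (hk : Odd k) {d : Fˣ} (hd : d ^ (2 * k) = 1) :
    ∃ c : Fˣ, c ^ k = 1 ∧ (c * c = d ∨ c * c = -d) := by
  have h1 : (d ^ k) * (d ^ k) = 1 := by rw [← pow_add, ← two_mul, hd]
  have h2 : d ^ k = 1 ∨ d ^ k = -1 := by
    have h3 : ((d ^ k : Fˣ) : F) * ((d ^ k : Fˣ) : F) = 1 := by rw [← Units.val_mul, h1, Units.val_one]
    rcases mul_self_eq_one_iff.1 h3 with h | h
    · left; exact Units.ext h
    · right; exact Units.ext (by rw [h]; simp)
  rcases h2 with h2 | h2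
  · obtain ⟨c, hc, hcd⟩ := pow_even hk h2
    exact ⟨c, hc, Or.inl hcd⟩
  · have h3 : (-d) ^ k = 1 := by rw [hk.neg_pow, h2, neg_neg]
    obtain ⟨c, hc, hcd⟩ := pow_even hk h3
    exact ⟨c, hc, Or.inr hcd⟩

theorem neg_aux (d : Fˣ) : d * (-1)⁻¹ * (-d)⁻¹ = 1 := by
  rw [inv_neg, inv_one, mul_neg, mul_one, inv_neg, neg_mul_neg, mul_inv_cancel]

/-- The common part of the two models. -/
theorem model_of {K : Type*} [Field K] {G₀ : Type*} [Group G₀] (h2 : (2 : F) ≠ 0)
    (ι : G₀ →* GL (Fin 2) F) (hι : Function.Injective ι) (j : _root_.Matrix.SpecialLinearGroup (Fin 2) K →* G₀)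
    (hjinj : Function.Injective j) {k : ℕ} (hk : Odd k)
    (hj : ∀ g : G₀, GeneralLinearGroup.det (ι g) = 1 → ∃ s, j s = g)
    (hj1 : ∀ s, GeneralLinearGroup.det (ι (j s)) = 1)
    (hsc : ∀ a : Fˣ, a ^ (2 * k) = 1 → ∃ g, ι g = dg a a)
    (hsc' : ∀ (a : Fˣ) g, ι g = dg a a → a ^ (2 * k) = 1)
    (hdet : ∀ g, GeneralLinearGroup.det (ι g) ^ (2 * k) = 1) (y₀ : G₀) (hy₀ : ι y₀ = sg)
    (hcent : ∀ c, (∀ s, c * j s = j s * c) → ∃ a, ι c = dg a a)
    (hact : ∃ g : GL (Fin 2) K, ∀ s, y₀ * j s * y₀⁻¹ = j (conjGL g s)) :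
    Model j ((Zsub F k).comap ι) y₀ := by
  have hyy : y₀ * y₀ = 1 := hι (by rw [map_mul, hy₀, sg_mul_sg, map_one])
  have hneg : (-1 : Fˣ) ≠ 1 := by
    intro h
    apply h2
    have := congrArg (fun u : Fˣ => (u : F)) h
    simp at this
    linear_combination -this
  have hZ : ∀ c : Fˣ, c ^ k = 1 → ∃ z ∈ (Zsub F k).comap ι, ι z = dg c c := by
    intro c hc
    obtain ⟨z, hz⟩ := hsc c (by rw [mul_comm, pow_mul, hc, one_pow])
    exact ⟨z, by rw [Subgroup.mem_comap, hz]; exact mem_Zsub.2 ⟨c, hc, rfl⟩, hz⟩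
  refine ⟨?_, ?_, ?_, hyy, ?_, ?_, hact⟩
  · intro s hs
    obtain ⟨c, hc, hsc⟩ := mem_Zsub.1 (Subgroup.mem_comap.1 hs)
    have h1 := hj1 s
    rw [hsc, det_dg] at h1
    have h3 : c = 1 := by
      obtain ⟨m, rfl⟩ := hk
      rw [pow_succ, pow_mul, sq, h1, one_pow, one_mul] at hc
      exact hc
    apply hjinj
    rw [map_one]
    apply hι
    rw [hsc, h3, dg_one, map_one]
  · intro z hz g
    obtain ⟨c, hc, hzc⟩ := mem_Zsub.1 (Subgroup.mem_comap.1 hz)
    apply hι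
    rw [map_mul, map_mul, hzc, dg_comm]
  · intro g
    obtain ⟨c, hc, hcd⟩ := pow_cases hk (hdet g)
    obtain ⟨z, hz, hzc⟩ := hZ c hc
    have hdz : GeneralLinearGroup.det (ι z) = c * c := by rw [hzc, det_dg]
    rcases hcd with hcd | hcd
    · obtain ⟨s, hs⟩ := hj (g * z⁻¹) (by rw [map_mul, map_mul, map_inv, map_inv, hdz, hcd, mul_inv_cancel])
      exact ⟨s, z, hz, Or.inl (by rw [hs, inv_mul_cancel_right])⟩
    · obtain ⟨s, hs⟩ := hj (g * y₀⁻¹ * z⁻¹) (by
        rw [map_mul, map_mul, map_mul, map_mul, map_inv, map_inv, map_inv, map_inv, hdz, hcd, hy₀, det_sg]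
        exact neg_aux _)
      refine ⟨s, z, hz, Or.inr ?_⟩
      rw [hs, inv_mul_cancel_right, inv_mul_cancel_right]
  · intro s z hz h
    obtain ⟨c, hc, hzc⟩ := mem_Zsub.1 (Subgroup.mem_comap.1 hz)
    have h1 : GeneralLinearGroup.det (ι y₀) = GeneralLinearGroup.det (ι (j s * z)) := by rw [← h]
    rw [hy₀, det_sg, map_mul, map_mul, hj1, hzc, det_dg, one_mul] at h1
    have h3 : (-1 : Fˣ) ^ k = 1 := by rw [h1, mul_pow, hc, one_mul]
    rw [hk.neg_one_pow] at h3
    exact hneg h3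
  · intro c hc
    obtain ⟨a, ha⟩ := hcent c hc
    have h1 := hsc' a c ha
    have h2' : a ^ k = 1 ∨ a ^ k = -1 := by
      have h3 : ((a ^ k : Fˣ) : F) * ((a ^ k : Fˣ) : F) = 1 := by
        rw [← Units.val_mul, ← pow_add, ← two_mul, h1, Units.val_one]
      rcases mul_self_eq_one_iff.1 h3 with h | h
      · left; exact Units.ext h
      · right; exact Units.ext (by rw [h]; simp)
    rcases h2' with h2' | h2'
    · refine ⟨1, c, ?_, by rw [map_one, one_mul]⟩
      rw [Subgroup.mem_comap, ha]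
      exact mem_Zsub.2 ⟨a, h2', rfl⟩
    · have h3 : (-a) ^ k = 1 := by rw [hk.neg_pow, h2', neg_neg]
      obtain ⟨z, hz, hzc⟩ := hZ (-a) h3
      obtain ⟨s, hs⟩ := hj (c * z⁻¹) (by
        rw [map_mul, map_mul, map_inv, map_inv, hzc, ha, det_dg, det_dg, neg_mul_neg, mul_inv_cancel])
      exact ⟨s, z, hz, by rw [hs, inv_mul_cancel_right]⟩

/-- `GL(2,F)/Z₀`, `q ≡ 3 mod 4`. -/
theorem model_gl [Fintype F] (h2 : (2 : F) ≠ 0) {k : ℕ} (hk : Odd k) (hq : Fintype.card F = 2 * k + 1) :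
    Model (SpecialLinearGroup.toGL : _root_.Matrix.SpecialLinearGroup (Fin 2) F →* GL (Fin 2) F)
      ((Zsub F k).comap (MonoidHom.id _)) sg := by
  have hpow : ∀ a : Fˣ, a ^ (2 * k) = 1 := by
    intro a
    have h1 : Nat.card Fˣ = 2 * k := by
      rw [card_units, Nat.card_eq_fintype_card, hq]; rfl
    rw [← h1]
    exact pow_card_eq_one'
  refine model_of h2 (MonoidHom.id _) Function.injective_id _ ?_ hk ?_ ?_ ?_ ?_ ?_ _ rfl ?_ ?_
  · intro a b hab
    apply Subtype.ext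
    exact congrArg (fun g : GL (Fin 2) F => g.1) hab
  · intro g hg
    have hd : g.1.det = 1 := by
      have := congrArg (fun u : Fˣ => (u : F)) hg
      rwa [GeneralLinearGroup.val_det_apply] at this
    exact ⟨⟨g.1, hd⟩, Units.ext rfl⟩
  · intro s
    ext
    rw [GeneralLinearGroup.val_det_apply]
    exact s.2
  · exact fun a _ => ⟨dg a a, rfl⟩
  · exact fun a _ _ => hpow a
  · exact fun g => hpow _
  · intro c hc
    have h1 : conjGL c = 1 := by
      apply MulEquiv.ext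
      intro x
      have h3 := hc x
      apply Subtype.ext
      rw [Cfsg.Agent.Lib.SL2Mat.conjGL_val]
      have h4 : c.1 * x.1 = x.1 * c.1 := congrArg (fun g : GL (Fin 2) F => g.1) h3
      rw [h4, Matrix.mul_assoc, ← Units.val_mul, mul_inv_cancel, Units.val_one, Matrix.mul_one]
      rfl
    obtain ⟨h01, h10, h00⟩ := scalar_of_conjGL h1
    have h3 : c ∈ Subgroup.center (GL (Fin 2) F) := mem_center.2 ⟨h01, h10, h00⟩
    obtain ⟨a, b, rfl⟩ := exists_dg h2 (center_le_Tor h3)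
    rw [dg_mem_center] at h3
    exact ⟨a, by rw [h3]; rfl⟩
  · refine ⟨sg, fun s => Units.ext ?_⟩
    rfl

/-- The elements of `GU(2,q)` act on `SL(2,q)` as elements of `GL(2,q)`. -/
theorem exists_act {K : Type*} [Field K] [Finite K] {q : ℕ} {f : K →+* F}
    {j : _root_.Matrix.SpecialLinearGroup (Fin 2) K →* Cfsg.GU 2 F q} (hjinj : Function.Injective j)
    (hj : ∀ g : Cfsg.GU 2 F q, GeneralLinearGroup.det (g : GL (Fin 2) F) = 1 → ∃ s, j s = g)
    (hj1 : ∀ s, GeneralLinearGroup.det (j s : GL (Fin 2) F) = 1)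
    (htr : ∀ s, (j s).1.1.trace = f (tr s)) (y : Cfsg.GU 2 F q) :
    ∃ g : GL (Fin 2) K, ∀ s, y * j s * y⁻¹ = j (conjGL g s) := by
  have hex : ∀ s, ∃ s', j s' = y * j s * y⁻¹ := by
    intro s
    apply hj
    rw [Subgroup.coe_mul, Subgroup.coe_mul, map_mul, map_mul, hj1, mul_one, Subgroup.coe_inv, map_inv,
      mul_inv_cancel]
  have hex' : ∀ s, ∃ s', j s' = y⁻¹ * j s * y := by
    intro s
    apply hj
    rw [Subgroup.coe_mul, Subgroup.coe_mul, map_mul, map_mul, hj1, mul_one, Subgroup.coe_inv, map_inv,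
      inv_mul_cancel]
  choose α hα using hex
  choose β hβ using hex'
  let A : MulAut (_root_.Matrix.SpecialLinearGroup (Fin 2) K) :=
    { toFun := α
      invFun := β
      left_inv := fun s => hjinj (by rw [hβ, hα]; group)
      right_inv := fun s => hjinj (by rw [hα, hβ]; group)
      map_mul' := fun s s' => hjinj (by rw [map_mul, hα, hα, hα, map_mul]; group) }
  have hA : ∀ s, j (A s) = y * j s * y⁻¹ := hα
  have h1 : typ A = 1 := by
    apply typ_eq
    intro s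
    change tr (A s) = tr s
    apply f.injective
    rw [← htr, ← htr, hA]
    rw [Subgroup.coe_mul, Subgroup.coe_mul, Subgroup.coe_inv, Units.val_mul, Units.val_mul,
      Matrix.mul_assoc, Matrix.trace_mul_comm, Matrix.mul_assoc, Cfsg.Agent.Lib.SL2Mat.inv_val_mul_val,
      Matrix.mul_one]
  obtain ⟨g, hg⟩ := (typ_eq_one_iff A).1 h1
  exact ⟨g, fun s => by rw [← hg, hA]⟩

section GU

variable [Fintype F] {q : ℕ} {σ : F →+* F} {κ : Fˣ}

/-- The centralizer of `SU(2,q)`. -/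
theorem cent_GU (P : Par F q σ κ) (c : Cfsg.GU 2 F q)
    (hc : ∀ g : Cfsg.GU 2 F q, GeneralLinearGroup.det (g : GL (Fin 2) F) = 1 → c * g = g * c) :
    ∃ a : Fˣ, (c : GL (Fin 2) F) = dg a a ∧ a ^ (q + 1) = 1 := by
  obtain ⟨μ, hμ⟩ := P.exists_skew
  have hμ0 : (μ : F) ≠ 0 := μ.ne_zero
  have hk : (κ : F) ≠ 0 := κ.ne_zero
  have h2 := P.two_ne_zero
  have hmem1 : uq κ (μ : F) ∈ Cfsg.GU 2 F q := P.uq_mem.2 hμ
  have h1 : c.1 * uq κ (μ : F) = uq κ (μ : F) * c.1 :=
    congrArg Subtype.val (hc ⟨_, hmem1⟩ (det_uq κ _))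
  have h3 : c.1 * (sg * uq κ (μ : F) * sg⁻¹) = (sg * uq κ (μ : F) * sg⁻¹) * c.1 := by
    have := hc (⟨sg, P.sg_mem⟩ * ⟨_, hmem1⟩ * ⟨sg, P.sg_mem⟩⁻¹) (by
      rw [Subgroup.coe_mul, Subgroup.coe_mul, Subgroup.coe_inv, map_mul, map_mul, map_inv]
      change GeneralLinearGroup.det sg * GeneralLinearGroup.det (uq κ (μ : F)) * _ = 1
      rw [det_uq, mul_one, mul_inv_cancel])
    exact congrArg Subtype.val this
  have hsi : (sg : GL (Fin 2) F)⁻¹ = sg := inv_eq_of_mul_eq_one_right sg_mul_sg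
  rw [hsi] at h3
  set g := c.1 with hg
  -- entries
  have a00 := congrArg (fun x : GL (Fin 2) F => x.1 0 0) h1
  have a01 := congrArg (fun x : GL (Fin 2) F => x.1 0 1) h1
  have a10 := congrArg (fun x : GL (Fin 2) F => x.1 1 0) h1
  have b00 := congrArg (fun x : GL (Fin 2) F => x.1 0 0) h3
  have b01 := congrArg (fun x : GL (Fin 2) F => x.1 0 1) h3
  simp only [m00, m01, m10, m11, uq00, uq01, uq10, uq11, sg00, sg01, sg10, sg11] at a00 a01 a10 b00 b01
  have h01 : g.1 0 1 = 0 := by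
    have e1 : 4 * (g.1 0 1 * μ) = 0 := by linear_combination (-1 : F) * a01 - b01
    have h4 : (4 : F) ≠ 0 := by
      have : (4 : F) = 2 * 2 := by norm_num
      rw [this]; exact mul_ne_zero h2 h2
    exact (mul_eq_zero.1 ((mul_eq_zero.1 e1).resolve_left h4)).resolve_right hμ0
  have h10 : g.1 1 0 = 0 := by
    rw [h01] at a00
    have e1 : g.1 1 0 * (μ * (κ : F)⁻¹) = 0 := by linear_combination a00
    exact (mul_eq_zero.1 e1).resolve_right (mul_ne_zero hμ0 (inv_ne_zero hk))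
  have h00 : g.1 0 0 = g.1 1 1 := by
    rw [h01] at a01
    have e1 : (g.1 0 0 - g.1 1 1) * (μ * (κ : F)⁻¹) = 0 := by linear_combination -a01
    exact sub_eq_zero.1 ((mul_eq_zero.1 e1).resolve_right (mul_ne_zero hμ0 (inv_ne_zero hk)))
  have h5 : g ∈ Subgroup.center (GL (Fin 2) F) := mem_center.2 ⟨h01, h10, h00⟩
  obtain ⟨a, b, hab⟩ := exists_dg h2 (center_le_Tor h5)
  rw [hab, dg_mem_center] at h5
  subst h5
  refine ⟨a, hab, ?_⟩
  have h6 := c.2
  rw [← hg, hab, P.dg_mem, ← P.pow_succ_eq] at h6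
  exact Units.ext (by rw [Units.val_pow_eq_pow_val, h6.1, Units.val_one])

theorem dg_mem_GU (P : Par F q σ κ) {a : Fˣ} : dg a a ∈ Cfsg.GU 2 F q ↔ a ^ (q + 1) = 1 := by
  rw [P.dg_mem, and_self, ← P.pow_succ_eq, ← Units.val_pow_eq_pow_val]
  exact ⟨fun h => Units.ext h, fun h => by rw [h]; rfl⟩

theorem det_pow (P : Par F q σ κ) (g : Cfsg.GU 2 F q) :
    GeneralLinearGroup.det (g : GL (Fin 2) F) ^ (q + 1) = 1 := by
  apply Units.ext
  rw [Units.val_pow_eq_pow_val, P.pow_succ_eq, Units.val_one, GeneralLinearGroup.val_det_apply,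
    Matrix.det_fin_two]
  exact P.det_norm g.2

/-- `GU(2,q)/Z₀`, `q ≡ 1 mod 4`. -/
theorem model_gu {K : Type*} [Field K] [Fintype K] (hF : Fintype.card F = q ^ 2) (hK : Fintype.card K = q)
    (hq : Odd q) {k : ℕ} (hk : Odd k) (hqk : q + 1 = 2 * k) :
    ∃ (j : _root_.Matrix.SpecialLinearGroup (Fin 2) K →* Cfsg.GU 2 F q) (y : Cfsg.GU 2 F q), (y : GL (Fin 2) F) = sg ∧
      Model j ((Zsub F k).comap (Cfsg.GU 2 F q).subtype) y := by
  obtain ⟨σ, κ, P⟩ := exists_par hF hq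
  obtain ⟨f, j, hjinj, hj1, hj, htr⟩ := SUTwoTrace.exists_hom_GU hF hK
  refine ⟨j, ⟨sg, P.sg_mem⟩, rfl, ?_⟩
  refine model_of P.two_ne_zero (Cfsg.GU 2 F q).subtype (Subgroup.subtype_injective _) j hjinj hk hj hj1
    ?_ ?_ ?_ _ rfl ?_ (exists_act hjinj hj hj1 htr _)
  · intro a ha
    rw [← hqk] at ha
    exact ⟨⟨dg a a, (dg_mem_GU P).2 ha⟩, rfl⟩
  · intro a g hg
    rw [← hqk]
    have h1 := g.2
    change (g : GL (Fin 2) F) = _ at hg
    rw [hg] at h1
    exact (dg_mem_GU P).1 h1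
  · intro g
    rw [← hqk]
    exact det_pow P g
  · intro c hc
    obtain ⟨a, ha, -⟩ := cent_GU P c (by
      intro g hg
      obtain ⟨s, rfl⟩ := hj g hg
      exact hc s)
    exact ⟨a, ha⟩

end GU

end Cfsg.Agent.Classification.QDW.StructModel
end

-- part: Classification/QDW/StructMain
section
/-!
# `C(t)/O(C(t))`, quasi-dihedral case: `H₁ ≅ GL(2,F)/Z₀` or `GU(2,q)/Z₀`

`H` finite, `O(H) = 1`, `QD S L e y`, `H₁ = H1 L e` the kernel of the field type.

* `QD.exists_gl`: `q ≡ 3 mod 4`, `H₁ ≅ GL(2,F)/Z₀`, `Z₀` the scalars with `c^((q-1)/2) = 1`;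
* `QD.exists_gu`: `q ≡ 1 mod 4`, `H₁ ≅ GU(2,q)/Z₀`, `Z₀` the scalars with `c^((q+1)/2) = 1`;
* `QD.H1_normal`, `QD.odd_index`, `QD.card_H1`, `QD.index_dvd`.
-/

set_option autoImplicit false
set_option linter.unusedSectionVars false

namespace Cfsg.Agent.Classification.QDW.StructMain

open Subgroup Matrix Cfsg.Agent.Lib.SL2Mat Cfsg.Agent.Lib.AutSL2 Cfsg.Agent.TwoFusion
  Cfsg.Agent.TwoFusion.NormalSL2 Cfsg.Agent.Classification.QDW.TypeHom
  Cfsg.Agent.Classification.QDW.StructQ Cfsg.Agent.Classification.QDW.StructUniq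
  Cfsg.Agent.Classification.QDW.StructModel

variable {H : Type*} [Group H] [Finite H] {S : Sylow 2 H} {L : Subgroup H} [hLn : L.Normal]
  {F : Type*} [Field F] [Finite F] {e : L ≃* _root_.Matrix.SpecialLinearGroup (Fin 2) F} {y : H}

instance H1_normal : (H1 L e).Normal := MonoidHom.normal_ker _

theorem y_mem_H1 (h : QD S L e y) : y ∈ H1 L e := h.sylow_le h.y_mem

/-- `L` as a subgroup of `H₁`. -/
noncomputable abbrev L1 (L : Subgroup H) [L.Normal] (e : L ≃* _root_.Matrix.SpecialLinearGroup (Fin 2) F) : Subgroup (H1 L e) :=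
  L.subgroupOf (H1 L e)

/-- `L` as a subgroup of `H₁`. -/
noncomputable def e1 (L : Subgroup H) [L.Normal] (e : L ≃* _root_.Matrix.SpecialLinearGroup (Fin 2) F) :
    L1 L e ≃* _root_.Matrix.SpecialLinearGroup (Fin 2) F :=
  (Subgroup.subgroupOfEquivOfLe L_le_H1).trans e

theorem e1_apply (l : L1 L e) : e1 L e l = e ⟨(l : H1 L e), l.2⟩ := rfl

theorem e1_symm (x : _root_.Matrix.SpecialLinearGroup (Fin 2) F) :
    ((((e1 L e).symm x : L1 L e) : H1 L e) : H) = (e.symm x : L) := rfl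

theorem exists_ext (h : QD S L e y) : _root_.Cfsg.Agent.Classification.QDW.StructUniq.Ext (L1 L e) (e1 L e) ⟨y, y_mem_H1 h⟩ := by
  have hyinv : y⁻¹ = y := inv_eq_of_mul_eq_one_right h.y_mul_y
  refine ⟨inferInstance, Subtype.ext h.y_mul_y, ?_, ?_, ?_, ?_⟩
  · intro h1
    exact h.y_not_mem (Subgroup.mem_subgroupOf.1 h1)
  · rintro ⟨m, hm⟩
    rw [Subgroup.mem_subgroupOf, Subgroup.mem_subgroupOf]
    exact (h.cover m).1 hm
  · rintro ⟨c, hc⟩ hcl
    rw [Subgroup.mem_subgroupOf]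
    have h1 : ∀ k, c * k = k * c := by
      apply h.base.cent
      intro l hl
      exact congrArg Subtype.val (hcl ⟨l, L_le_H1 hl⟩ (Subgroup.mem_subgroupOf.2 hl))
    rcases (h.center c).1 h1 with h3 | h3
    · change c ∈ L
      rw [h3]; exact one_mem _
    · change c ∈ L
      rw [h3]; exact z0_mem
  · obtain ⟨g, hg, -⟩ := h.act_y
    refine ⟨g, fun l => ?_⟩
    apply Subtype.ext
    rw [e1_symm, ← hg, e1_apply, act_mk, e.symm_apply_apply]
    rfl

theorem odd_card (h : QD S L e y) : Odd (Nat.card F) := by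
  rw [← Nat.not_even_iff_odd, even_iff_two_dvd]
  intro h1
  apply h.base.two_ne
  let _ := Fintype.ofFinite F
  rw [Nat.card_eq_fintype_card] at h1
  have h2 := FiniteField.even_card_iff_char_two.2 (Nat.dvd_iff_mod_eq_zero.1 h1)
  have := ringChar.Nat.cast_ringChar (R := F)
  rw [h2] at this
  exact_mod_cast this

/-- `|H : H₁|` is odd. -/
theorem odd_index (h : QD S L e y) : Odd (H1 L e).index := by
  rw [← Nat.not_even_iff_odd, even_iff_two_dvd]
  intro h1
  have : Fact (Nat.Prime 2) := ⟨Nat.prime_two⟩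
  exact S.not_dvd_index (h1.trans (Subgroup.index_dvd_of_le h.sylow_le))

/-- `|H₁| = 2 q (q² - 1)`. -/
theorem card_H1 (h : QD S L e y) : Nat.card (H1 L e) = 2 * (Nat.card F * (Nat.card F ^ 2 - 1)) := by
  let _ := Fintype.ofFinite F
  have hidx : (L1 L e).index = 2 := by
    rw [Subgroup.index_eq_two_iff]
    refine ⟨⟨y, y_mem_H1 h⟩, ?_⟩
    rintro ⟨m, hm⟩
    rw [Subgroup.mem_subgroupOf, Subgroup.mem_subgroupOf]
    change Xor (m * y ∈ L) (m ∈ L)
    rcases (h.cover m).1 hm with h3 | h3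
    · right
      refine ⟨h3, fun h1 => h.y_not_mem ?_⟩
      have := mul_mem (inv_mem h3) h1
      rwa [inv_mul_cancel_left] at this
    · left
      refine ⟨h3, fun h1 => h.y_not_mem ?_⟩
      have := mul_mem (inv_mem h1) h3
      rwa [inv_mul_cancel_left] at this
  have h1 := (L1 L e).card_mul_index
  rw [hidx, Nat.card_congr (e1 L e).toEquiv, Cfsg.Agent.LieClassical.SmallIso.card_sl_two,
    ← Nat.card_eq_fintype_card (α := F)] at h1
  rw [← h1, mul_comm]

/-- `q ≡ 3 mod 4`. -/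
theorem exists_gl {F : Type*} [Field F] [Fintype F] {e : L ≃* _root_.Matrix.SpecialLinearGroup (Fin 2) F}
    (h : QD S L e y) (hq : Fintype.card F % 4 = 3) :
    ∃ φ : GL (Fin 2) F →* H1 L e, Function.Surjective φ ∧ φ.ker = Zsub F ((Fintype.card F - 1) / 2) ∧
      φ Cfsg.Agent.Classification.InvCent.GLTwo.sg = ⟨y, y_mem_H1 h⟩ ∧
      ∀ m, (φ m : H) ∈ L ↔ ∃ s : _root_.Matrix.SpecialLinearGroup (Fin 2) F, ∃ z ∈ φ.ker, m = SpecialLinearGroup.toGL s * z := by
  have hk : Odd ((Fintype.card F - 1) / 2) := by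
    rw [Nat.odd_iff]; omega
  have hqk : Fintype.card F = 2 * ((Fintype.card F - 1) / 2) + 1 := by omega
  have hM := model_gl h.base.two_ne hk hqk
  have hZn : ((Zsub F ((Fintype.card F - 1) / 2)).comap (MonoidHom.id _)).Normal := by
    refine ⟨fun z hz g => ?_⟩
    rw [← hM.central z hz g, mul_inv_cancel_right]
    exact hz
  obtain ⟨e', hE⟩ := hM.exists_ext
  obtain ⟨φ, hφL, hφy⟩ := hE.exists_mulEquiv h.base.two_ne (exists_ext h)
  have hker : (φ.toMonoidHom.comp (QuotientGroup.mk' ((Zsub F ((Fintype.card F - 1) / 2)).comap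
      (MonoidHom.id _)))).ker = Zsub F ((Fintype.card F - 1) / 2) := by
    ext g
    rw [MonoidHom.mem_ker, MonoidHom.comp_apply]
    change φ _ = 1 ↔ _
    rw [map_eq_one_iff _ φ.injective]
    exact QuotientGroup.eq_one_iff g
  refine ⟨φ.toMonoidHom.comp (QuotientGroup.mk' _),
    φ.surjective.comp (QuotientGroup.mk'_surjective _), hker, hφy, fun m => ?_⟩
  rw [hker]
  have h1 := hφL (QuotientGroup.mk' _ m)
  rw [Subgroup.mem_subgroupOf] at h1
  rw [MonoidHom.comp_apply]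
  change (φ _ : H) ∈ L ↔ _
  rw [h1]
  constructor
  · rintro ⟨s, hs⟩
    have h3 : (QuotientGroup.mk' ((Zsub F ((Fintype.card F - 1) / 2)).comap (MonoidHom.id _)))
        ((SpecialLinearGroup.toGL s)⁻¹ * m) = 1 := by
      rw [map_mul, map_inv, ← hs, MonoidHom.comp_apply, inv_mul_cancel]
    have h4 : (SpecialLinearGroup.toGL s)⁻¹ * m ∈
        (Zsub F ((Fintype.card F - 1) / 2)).comap (MonoidHom.id _) := (QuotientGroup.eq_one_iff _).1 h3
    exact ⟨s, _, h4, (mul_inv_cancel_left _ _).symm⟩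
  · rintro ⟨s, z, hz, rfl⟩
    refine ⟨s, ?_⟩
    rw [map_mul, MonoidHom.comp_apply]
    have hz' : z ∈ (Zsub F ((Fintype.card F - 1) / 2)).comap (MonoidHom.id _) := hz
    have h3 : QuotientGroup.mk' ((Zsub F ((Fintype.card F - 1) / 2)).comap (MonoidHom.id _)) z = 1 :=
      (QuotientGroup.eq_one_iff _).2 hz'
    rw [h3, mul_one]

/-- a field of order `q²` -/
theorem exists_field_sq (F : Type*) [Field F] [Fintype F] :
    ∃ (F' : Type) (_ : Field F') (_ : Fintype F'), Fintype.card F' = Fintype.card F ^ 2 := by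
  obtain ⟨p, hpc⟩ := CharP.exists F
  obtain ⟨n, hp, hn⟩ := FiniteField.card F p
  have : Fact p.Prime := ⟨hp⟩
  have hn0 : (n : ℕ) * 2 ≠ 0 := by have := n.pos; omega
  let _ : Fintype (GaloisField p (n * 2)) := Fintype.ofFinite _
  refine ⟨GaloisField p (n * 2), inferInstance, inferInstance, ?_⟩
  rw [← Nat.card_eq_fintype_card, GaloisField.card p _ hn0, hn, pow_mul]

/-- `q ≡ 1 mod 4`. -/
theorem exists_gu {F : Type*} [Field F] [Fintype F] {e : L ≃* _root_.Matrix.SpecialLinearGroup (Fin 2) F}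
    (h : QD S L e y) (hq : Fintype.card F % 4 = 1) {F' : Type*} [Field F'] [Fintype F']
    (hF' : Fintype.card F' = Fintype.card F ^ 2) :
    ∃ φ : Cfsg.GU 2 F' (Fintype.card F) →* H1 L e, Function.Surjective φ ∧
      φ.ker = (Zsub F' ((Fintype.card F + 1) / 2)).subgroupOf (Cfsg.GU 2 F' (Fintype.card F)) ∧
      (∀ hsg, φ ⟨Cfsg.Agent.Classification.InvCent.GLTwo.sg, hsg⟩ = ⟨y, y_mem_H1 h⟩) := by
  have hk : Odd ((Fintype.card F + 1) / 2) := by
    rw [Nat.odd_iff]; omega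
  have hqo : Odd (Fintype.card F) := by rw [Nat.odd_iff]; omega
  obtain ⟨j, y₀, hy₀, hM⟩ := model_gu (K := F) hF' rfl hqo hk (by omega)
  have hZn : ((Zsub F' ((Fintype.card F + 1) / 2)).comap (Cfsg.GU 2 F' (Fintype.card F)).subtype).Normal := by
    refine ⟨fun z hz g => ?_⟩
    rw [← hM.central z hz g, mul_inv_cancel_right]
    exact hz
  obtain ⟨e', hE⟩ := hM.exists_ext
  obtain ⟨φ, hφL, hφy⟩ := hE.exists_mulEquiv h.base.two_ne (exists_ext h)
  have hker : (φ.toMonoidHom.comp (QuotientGroup.mk' ((Zsub F' ((Fintype.card F + 1) / 2)).comap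
      (Cfsg.GU 2 F' (Fintype.card F)).subtype))).ker =
        (Zsub F' ((Fintype.card F + 1) / 2)).subgroupOf (Cfsg.GU 2 F' (Fintype.card F)) := by
    ext g
    rw [MonoidHom.mem_ker, MonoidHom.comp_apply]
    change φ _ = 1 ↔ _
    rw [map_eq_one_iff _ φ.injective]
    exact QuotientGroup.eq_one_iff g
  refine ⟨φ.toMonoidHom.comp (QuotientGroup.mk' _),
    φ.surjective.comp (QuotientGroup.mk'_surjective _), hker, fun hsg => ?_⟩
  have h3 : (⟨Cfsg.Agent.Classification.InvCent.GLTwo.sg, hsg⟩ : Cfsg.GU 2 F' (Fintype.card F)) = y₀ :=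
    Subtype.ext hy₀.symm
  rw [h3]
  exact hφy

/-- The quasi-dihedral case, as an isomorphism. -/
theorem exists_iso {F : Type*} [Field F] [Fintype F] {e : L ≃* _root_.Matrix.SpecialLinearGroup (Fin 2) F}
    (h : QD S L e y) :
    (Fintype.card F % 4 = 3 ∧ ∃ (Z₀ : Subgroup (GL (Fin 2) F)) (_ : Z₀.Normal),
      Z₀ ≤ Subgroup.center (GL (Fin 2) F) ∧ Odd (Nat.card Z₀) ∧ Nonempty (H1 L e ≃* GL (Fin 2) F ⧸ Z₀)) ∨
    (Fintype.card F % 4 = 1 ∧ ∀ (F' : Type) (_ : Field F') (_ : Fintype F'),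
      Fintype.card F' = Fintype.card F ^ 2 →
      ∃ (Z₀ : Subgroup (Cfsg.GU 2 F' (Fintype.card F))) (_ : Z₀.Normal),
      Z₀ ≤ Subgroup.center (Cfsg.GU 2 F' (Fintype.card F)) ∧ Odd (Nat.card Z₀) ∧
      Nonempty (H1 L e ≃* Cfsg.GU 2 F' (Fintype.card F) ⧸ Z₀)) := by
  have hodd : Fintype.card F % 2 = 1 := by
    rw [← Nat.card_eq_fintype_card, ← Nat.odd_iff]; exact odd_card h
  rcases (by omega : Fintype.card F % 4 = 3 ∨ Fintype.card F % 4 = 1) with hq | hq
  · left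
    obtain ⟨φ, hφ, hker, -⟩ := exists_gl h hq
    refine ⟨hq, φ.ker, inferInstance, ?_, ?_, ⟨(QuotientGroup.quotientKerEquivOfSurjective φ hφ).symm⟩⟩
    · rw [hker]
      intro g hg
      obtain ⟨c, -, rfl⟩ := mem_Zsub.1 hg
      rw [Subgroup.mem_center_iff]
      exact fun g => (dg_comm c g).symm
    · rw [hker]
      exact odd_card_Zsub (by rw [Nat.odd_iff]; omega)
  · right
    refine ⟨hq, fun F' _ _ hF' => ?_⟩
    obtain ⟨φ, hφ, hker, -⟩ := exists_gu h hq hF'
    refine ⟨φ.ker, inferInstance, ?_, ?_, ⟨(QuotientGroup.quotientKerEquivOfSurjective φ hφ).symm⟩⟩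
    · rw [hker]
      intro g hg
      rw [Subgroup.mem_subgroupOf] at hg
      obtain ⟨c, -, hc⟩ := mem_Zsub.1 hg
      rw [Subgroup.mem_center_iff]
      intro k
      apply Subtype.ext
      rw [Subgroup.coe_mul, Subgroup.coe_mul, hc, dg_comm]
    · rw [hker]
      have h1 : Odd (Nat.card (Zsub F' ((Fintype.card F + 1) / 2))) :=
        odd_card_Zsub (by rw [Nat.odd_iff]; (clear * - hq; omega))
      refine Odd.of_dvd_nat h1 ?_
      exact Subgroup.card_comap_dvd_of_injective _ _ (Subgroup.subtype_injective _)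

end Cfsg.Agent.Classification.QDW.StructMain
end

private theorem dce_c5bbcb157ae8 : _root_.True := by
  try have : _root_.True := by simp only [_root_.Cfsg.Agent.Classification.QDW.StructUniq.sc.eq_1]
  try have : _root_.True := by simp only [_root_.Cfsg.Agent.Classification.QDW.StructUniq.gmk.congr_simp]
  try have : _root_.True := by simp only [_root_.Cfsg.Agent.Classification.QDW.StructQ.H1.eq_1]
  exact _root_.True.intro
end

-- part: Classification/QDW/StructMainW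
section
prune_inst 0x434105d01062200000004200040001e96d10000000028880088000a040600ad0200000920048000021822220800010040020000604000000000000400000500001088040060810008800010000180400000000000000000000000000000000000000000000
set_option linter.all false
open scoped Cfsg.Agent.FastGrp

-- part: Classification/QDW/StructW
section
/-!
# The structure of `C(t)/O(C(t))`: wreathed Sylow 2-subgroup

`WR S L e n u s`: `S` has wreathed coordinates `u a b`, `s`; `S ∩ L` consists of the `u a (-a)` and the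
`u a b * s` with `a + b = 2^(n-1)`; `Z(H) = {u a a}`; `y = u 1 0` acts on `L` as an element of `GL(2,F)` with
nonsquare determinant; `H₁ = L Z(H) ∪ L Z(H) y`.
-/

set_option autoImplicit false
set_option linter.unusedSectionVars false

namespace Cfsg.Agent.Classification.QDW.StructW

open Subgroup Matrix Cfsg.Agent.Lib.SL2Mat Cfsg.Agent.Lib.AutSL2 Cfsg.Agent.TwoFusion
  Cfsg.Agent.TwoFusion.NormalSL2 Cfsg.Agent.Classification.QDW.TypeHom
  Cfsg.Agent.Classification.QDW.StructQ Cfsg.Agent.Classification.RTwo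

variable {H : Type*} [Group H] [Finite H]

/-- The wreathed case. -/
structure WR (S : Sylow 2 H) (L : Subgroup H) [L.Normal] {F : Type*} [Field F] [Finite F]
    (e : L ≃* _root_.Matrix.SpecialLinearGroup (Fin 2) F) (n : ℕ)
    (u : ZMod (2 ^ n) → ZMod (2 ^ n) → (S : Subgroup H)) (s : (S : Subgroup H)) : Prop where
  base : Base S L e
  coord : WreathedBasic.IsWCoord n u s
  u_mem : ∀ a b, (u a b : H) ∈ L ↔ a + b = 0
  us_mem : ∀ a b, ((u a b * s : (S : Subgroup H)) : H) ∈ L ↔ a + b = 2 ^ (n - 1)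
  center : ∀ c : H, (∀ k, c * k = k * c) ↔ ∃ a, c = u a a
  act_y : ∃ g : GL (Fin 2) F, act L e (u 1 0 : H) = conjGL g ∧ ¬ IsSquare g.1.det
  sylow_le : (S : Subgroup H) ≤ H1 L e
  cover : ∀ h, h ∈ H1 L e ↔ ∃ l ∈ L, ∃ a, h = l * u a a ∨ h = l * u a a * u 1 0
  card_inf : Nat.card ((S : Subgroup H) ⊓ L : Subgroup H) = 2 ^ (n + 1)

variable {S : Sylow 2 H} {L : Subgroup H} [hLn : L.Normal] {F : Type*} [Field F] [Finite F]
  {e : L ≃* _root_.Matrix.SpecialLinearGroup (Fin 2) F}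

theorem central_mem (B : Base S L e) {c : H} (hcL : c ∈ L) (hc : ∀ g, c * g = g * c) :
    c = 1 ∨ c = z0 e := by
  have h1 : ∀ x, e ⟨c, hcL⟩ * x = x * e ⟨c, hcL⟩ := by
    intro x
    obtain ⟨l, rfl⟩ := e.surjective x
    rw [← map_mul, ← map_mul]
    congr 1
    exact Subtype.ext (hc l)
  -- a central element of `SL(2,F)` is a scalar
  have h3 : conjGL (SpecialLinearGroup.toGL (e ⟨c, hcL⟩)) = 1 := by
    apply MulEquiv.ext
    intro x
    rw [conjGL_toGL, h1, mul_inv_cancel_right]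
    rfl
  have h4 : e ⟨c, hcL⟩ * e ⟨c, hcL⟩ = 1 := by
    have key := h1 (up 1)
    have key2 := h1 (lo 1)
    set X := e ⟨c, hcL⟩ with hX
    have hdet := det_eq X
    have e1 := congrArg (fun y => ent y 0 0) key
    have e2 := congrArg (fun y => ent y 0 1) key
    have e3 := congrArg (fun y => ent y 0 0) key2
    simp only [ent_mul, up_00, up_01, up_10, up_11, lo_00, lo_01, lo_10] at e1 e2 e3
    have h10 : ent X 1 0 = 0 := by linear_combination -e1
    have h01 : ent X 0 1 = 0 := by linear_combination e3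
    have h00 : ent X 0 0 = ent X 1 1 := by linear_combination e2
    rw [h01, h10, ← h00] at hdet
    refine ext_ent ?_ ?_ ?_ ?_ <;> rw [ent_mul]
    · rw [h01, h10, ent_one_00]; linear_combination hdet
    · rw [h01, ent_one_01]; ring
    · rw [h10, ent_one_10]; ring
    · rw [h01, h10, ent_one_11, ← h00]; linear_combination hdet
  have h5 : c * c = 1 := by
    rw [← map_mul] at h4
    have h6 := (map_eq_one_iff e e.injective).1 h4
    exact congrArg Subtype.val h6
  exact eq_of_sq B.two_ne hcL h5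

theorem exists_wr (B : Base S L e) (hS : Cfsg.IsWreathed (S : Subgroup H)) :
    ∃ (n : ℕ) (u : ZMod (2 ^ n) → ZMod (2 ^ n) → (S : Subgroup H)) (s : (S : Subgroup H)),
      WR S L e n u s := by
  obtain ⟨n, u, s, h⟩ := WreathedBasic.exists_wcoord hS
  have hn := h.two_le
  have h20 : (2 : ZMod (2 ^ n)) * 2 ^ (n - 1) = 0 := QDBasic.two_mul_half n (by omega)
  have hhalf : (2 : ZMod (2 ^ n)) ^ (n - 1) ≠ 0 := QDBasic.half_ne_zero n (by omega)
  have hscen : ∀ a, ∀ t ∈ S, (u a a : H) * t = t * u a a := by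
    intro a t ht
    have h1 := (h.mem_center_iff (u a a)).2 ⟨a, rfl⟩
    have h2 := (Subgroup.mem_center_iff.1 h1 ⟨t, ht⟩).symm
    exact congrArg Subtype.val h2
  have hcen : ∀ c : H, (∀ k, c * k = k * c) ↔ ∃ a, c = u a a := by
    intro c
    constructor
    · intro hc
      obtain ⟨hcS, hcc⟩ := (B.center_iff c).1 hc
      have h1 : (⟨c, hcS⟩ : (S : Subgroup H)) ∈ Subgroup.center (S : Subgroup H) := by
        rw [Subgroup.mem_center_iff]
        exact fun t => Subtype.ext (hcc t t.2).symm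
      obtain ⟨a, ha⟩ := (h.mem_center_iff _).1 h1
      exact ⟨a, congrArg Subtype.val ha⟩
    · rintro ⟨a, rfl⟩
      exact (B.center_iff _).2 ⟨(u a a).2, hscen a⟩
  -- the involution of `L`
  have hzu : z0 e = (u (2 ^ (n - 1)) (2 ^ (n - 1)) : H) := by
    obtain ⟨c, hc⟩ := (hcen (z0 e)).1 (z0_central B)
    have h1 : u c c * u c c = 1 := by
      apply Subtype.ext
      change (u c c : H) * u c c = 1
      rw [← hc, z0_mul]
    rw [h.u_mul, ← h.u_zero] at h1
    have h3 : 2 * c = 0 := by rw [two_mul]; exact (h.u_inj _ _ _ _ h1).1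
    rw [QDBasic.two_mul_eq_zero_iff n (by omega)] at h3
    rcases h3 with h3 | h3
    · exfalso
      rw [h3, h.u_zero] at hc
      exact z0_ne B.two_ne hc
    · rw [h3] at hc
      exact hc
  -- involutions and central elements of `L`
  have hcenL : ∀ a, (u a a : H) ∈ L → 2 * a = 0 := by
    intro a ha
    have h1 : (u a a : H) * u a a = 1 := by
      rcases central_mem B ha ((hcen _).2 ⟨a, rfl⟩) with h3 | h3
      · rw [h3, one_mul]
      · rw [h3, z0_mul]
    have h3 : u a a * u a a = 1 := Subtype.ext h1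
    rw [h.u_mul, ← h.u_zero] at h3
    rw [two_mul]
    exact (h.u_inj _ _ _ _ h3).1
  -- an element of `S ∩ L` outside the base
  obtain ⟨x, y, hxS, hyS, hxL, hyL, hxy⟩ := exists_noncomm_in_sylow S L B.two_ne e
  have hw : ∃ a b : ZMod (2 ^ n), ((u a b * s : (S : Subgroup H)) : H) ∈ L := by
    rcases h.cases ⟨x, hxS⟩ with ⟨i, i', hi⟩ | ⟨i, i', hi⟩
    · rcases h.cases ⟨y, hyS⟩ with ⟨j, j', hj⟩ | ⟨j, j', hj⟩
      · exfalso
        apply hxy
        have h1 : (⟨x, hxS⟩ : (S : Subgroup H)) * ⟨y, hyS⟩ = ⟨y, hyS⟩ * ⟨x, hxS⟩ := by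
          rw [hi, hj, h.u_mul, h.u_mul, add_comm i, add_comm i']
        exact congrArg Subtype.val h1
      · exact ⟨j, j', by rw [← hj]; exact hyL⟩
    · exact ⟨i, i', by rw [← hi]; exact hxL⟩
  -- its square
  have hsum : ∀ a b : ZMod (2 ^ n), ((u a b * s : (S : Subgroup H)) : H) ∈ L → a + b = 2 ^ (n - 1) := by
    intro a b hab
    have h1 : ((u a b * s : (S : Subgroup H)) : H) * ((u a b * s : (S : Subgroup H)) : H) =
        (u (a + b) (a + b) : H) := by
      rw [← Subgroup.coe_mul, ← sq, h.uz_sq]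
    have h3 : (u (a + b) (a + b) : H) ∈ L := by rw [← h1]; exact mul_mem hab hab
    have h4 := hcenL _ h3
    rw [QDBasic.two_mul_eq_zero_iff n (by omega)] at h4
    rcases h4 with h4 | h4
    · exfalso
      rw [h4, h.u_zero] at h1
      rcases eq_of_sq B.two_ne hab h1 with h5 | h5
      · exact h.uz_ne_one _ _ (Subtype.ext h5)
      · rw [hzu] at h5
        exact h.u_ne _ _ _ _ (Subtype.ext h5).symm
    · exact h4
  obtain ⟨a₀, b₀, hab⟩ := hw
  have hab0 := hsum _ _ hab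
  have hanti : ∀ c : ZMod (2 ^ n), (u c (-c) : H) ∈ L := by
    intro c
    have h1 : ((u c 0 * (u a₀ b₀ * s) * (u c 0)⁻¹ * (u a₀ b₀ * s)⁻¹ : (S : Subgroup H)) : H) ∈ L :=
      mul_mem (hLn.conj_mem _ hab _) (inv_mem hab)
    have h3 : u c 0 * (u a₀ b₀ * s) * (u c 0)⁻¹ * (u a₀ b₀ * s)⁻¹ = u c (-c) := by
      rw [h.u_inv, _root_.mul_inv_rev, h.u_inv, h.z_inv]
      have h4 : u c 0 * (u a₀ b₀ * s) * u (-c) (-0) * (s * u (-a₀) (-b₀)) =
          u c 0 * u a₀ b₀ * (s * u (-c) (-0) * s) * u (-a₀) (-b₀) := by group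
      have h5 : s * u (-c) (-0) * s = u (-0) (-c) := by rw [h.z_u, mul_assoc, h.z_z, mul_one]
      rw [h4, h5, h.u_mul, h.u_mul, h.u_mul]
      congr 1 <;> ring
    rw [← h3]
    exact h1
  have hu_mem : ∀ a b, (u a b : H) ∈ L ↔ a + b = 0 := by
    intro a b
    constructor
    · intro h1
      -- `v (w v w⁻¹) = u (a+b) (a+b)`
      have h3 : (u (a + b) (a + b) : H) ∈ L := by
        have h4 : (u a b : H) * ((u a₀ b₀ * s : (S : Subgroup H)) * (u a b : H) *
            ((u a₀ b₀ * s : (S : Subgroup H)) : H)⁻¹) ∈ L := mul_mem h1 (hLn.conj_mem _ h1 _)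
        have h5 : u a b * ((u a₀ b₀ * s) * u a b * (u a₀ b₀ * s)⁻¹) = u (a + b) (a + b) := by
          rw [_root_.mul_inv_rev, h.u_inv, h.z_inv]
          have h6 : u a b * (u a₀ b₀ * s * u a b * (s * u (-a₀) (-b₀))) =
              u a b * u a₀ b₀ * (s * u a b * s) * u (-a₀) (-b₀) := by group
          have h7 : s * u a b * s = u b a := by rw [h.z_u, mul_assoc, h.z_z, mul_one]
          rw [h6, h7, h.u_mul, h.u_mul, h.u_mul]
          congr 1 <;> ring
        rw [← h5]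
        exact h4
      have h4 := hcenL _ h3
      rw [QDBasic.two_mul_eq_zero_iff n (by omega)] at h4
      rcases h4 with h4 | h4
      · exact h4
      · exfalso
        -- `u 0 2^(n-1)` would be in `L`
        have h5 : (u 0 (2 ^ (n - 1)) : H) ∈ L := by
          have h6 := mul_mem h1 (hanti (-a))
          rw [← Subgroup.coe_mul, h.u_mul] at h6
          have h7 : a + -a = 0 := by ring
          have h8 : b + - -a = 2 ^ (n - 1) := by rw [← h4]; ring
          rwa [h7, h8] at h6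
        have h6 : (u 0 (2 ^ (n - 1)) : H) * u 0 (2 ^ (n - 1)) = 1 := by
          rw [← Subgroup.coe_mul, h.u_mul, ← two_mul, ← two_mul, h20, mul_zero, h.u_zero]; rfl
        rcases eq_of_sq B.two_ne h5 h6 with h7 | h7
        · have h8 : u 0 (2 ^ (n - 1)) = u 0 0 := by rw [h.u_zero]; exact Subtype.ext h7
          exact hhalf (h.u_inj _ _ _ _ h8).2
        · rw [hzu] at h7
          exact hhalf (h.u_inj _ _ _ _ (Subtype.ext h7)).1.symm
    · intro h1
      have h3 : b = -a := by linear_combination h1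
      rw [h3]
      exact hanti a
  have hus_mem : ∀ a b, ((u a b * s : (S : Subgroup H)) : H) ∈ L ↔ a + b = 2 ^ (n - 1) := by
    intro a b
    refine ⟨hsum a b, fun h1 => ?_⟩
    have h3 := mul_mem (hanti (a - a₀)) hab
    rw [← Subgroup.coe_mul, ← mul_assoc, h.u_mul] at h3
    have h4 : a - a₀ + a₀ = a := by ring
    have h5 : -(a - a₀) + b₀ = b := by linear_combination hab0 - h1
    rwa [h4, h5] at h3
  -- the order of `S ∩ L`
  have hcard : Nat.card ((S : Subgroup H) ⊓ L : Subgroup H) = 2 ^ (n + 1) := by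
    let f : ZMod (2 ^ n) ⊕ ZMod (2 ^ n) → ((S : Subgroup H) ⊓ L : Subgroup H) := fun x =>
      match x with
      | Sum.inl a => ⟨u a (-a), (u a (-a)).2, hanti a⟩
      | Sum.inr a => ⟨((u a (2 ^ (n - 1) - a) * s : (S : Subgroup H)) : H),
          (u a (2 ^ (n - 1) - a) * s).2, (hus_mem _ _).2 (by ring)⟩
    have hf : Function.Bijective f := by
      constructor
      · rintro (a | a) (b | b) hab
        · have h1 : u a (-a) = u b (-b) := Subtype.ext (congrArg (fun x : ((S : Subgroup H) ⊓ L : Subgroup H) => (x : H)) hab)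
          rw [(h.u_inj _ _ _ _ h1).1]
        · exfalso
          have h1 : u a (-a) = u b (2 ^ (n - 1) - b) * s := Subtype.ext (congrArg (fun x : ((S : Subgroup H) ⊓ L : Subgroup H) => (x : H)) hab)
          exact h.u_ne _ _ _ _ h1
        · exfalso
          have h1 : u a (2 ^ (n - 1) - a) * s = u b (-b) := Subtype.ext (congrArg (fun x : ((S : Subgroup H) ⊓ L : Subgroup H) => (x : H)) hab)
          exact h.u_ne _ _ _ _ h1.symm
        · have h1 : u a (2 ^ (n - 1) - a) * s = u b (2 ^ (n - 1) - b) * s := Subtype.ext (congrArg (fun x : ((S : Subgroup H) ⊓ L : Subgroup H) => (x : H)) hab)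
          rw [(h.u_inj _ _ _ _ (mul_right_cancel h1)).1]
      · rintro ⟨x, hxS, hxL⟩
        rcases h.cases ⟨x, hxS⟩ with ⟨a, b, hx⟩ | ⟨a, b, hx⟩
        · have hx' : x = u a b := congrArg Subtype.val hx
          have h1 : a + b = 0 := (hu_mem a b).1 (by rw [← hx']; exact hxL)
          refine ⟨Sum.inl a, Subtype.ext ?_⟩
          change (u a (-a) : H) = x
          rw [hx', show -a = b by linear_combination -h1]
        · have hx' : x = ((u a b * s : (S : Subgroup H)) : H) := congrArg Subtype.val hx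
          have h1 : a + b = 2 ^ (n - 1) := (hus_mem a b).1 (by rw [← hx']; exact hxL)
          refine ⟨Sum.inr a, Subtype.ext ?_⟩
          change ((u a (2 ^ (n - 1) - a) * s : (S : Subgroup H)) : H) = x
          rw [hx', show 2 ^ (n - 1) - a = b by linear_combination -h1]
    rw [← Nat.card_congr (Equiv.ofBijective f hf), Nat.card_sum, Nat.card_zmod, pow_succ]
    ring
  -- the type of `y = u 1 0`
  have hpw : ∀ (a b : ZMod (2 ^ n)) (k : ℕ), u a b ^ k = u (k * a) (k * b) := fun a b k => h.u_pow a b k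
  have hord : orderOf (u 1 (-1) : H) = 2 ^ n := by
    rw [Subgroup.orderOf_coe]
    obtain ⟨j, rfl⟩ : ∃ j, n = j + 1 := ⟨n - 1, by omega⟩
    apply orderOf_eq_prime_pow
    · rw [hpw, ← h.u_zero]
      intro h1
      have h3 := (h.u_inj _ _ _ _ h1).1
      apply hhalf
      rw [mul_one] at h3
      push_cast at h3
      exact h3
    · rw [hpw, ← h.u_zero]
      congr 1
      · rw [mul_one]; exact ZMod.natCast_self _
      · rw [ZMod.natCast_self, zero_mul]
  have hxL' : (u 1 (-1) : H) ∈ L := hanti 1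
  have hyx : (u 1 0 : H) * u 1 (-1) * (u 1 0 : H)⁻¹ = u 1 (-1) := by
    have : u 1 0 * u 1 (-1) = u 1 (-1) * u 1 0 := by rw [h.u_mul, h.u_mul, add_comm, add_comm 0]
    have h3 := congrArg Subtype.val this
    change (u 1 0 : H) * u 1 (-1) = u 1 (-1) * u 1 0 at h3
    rw [h3, mul_inv_cancel_right]
  have hLH : L ≤ H1 L e := L_le_H1
  have hcenH : ∀ a, (u a a : H) ∈ H1 L e := by
    intro a
    rw [mem_H1]
    refine ⟨1, MulEquiv.ext fun x => ?_⟩
    obtain ⟨l, rfl⟩ := e.surjective x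
    rw [act_mk, map_one, MulAut.one_apply]
    congr 1
    apply Subtype.ext
    change (u a a : H) * l * (u a a : H)⁻¹ = l
    rw [(hcen _).2 ⟨a, rfl⟩, mul_inv_cancel_right]
  have hτy : tau L e (u 1 0 : H) = 1 := by
    have h1 : orderOf (e ⟨(u 1 (-1) : H), hxL'⟩) = 2 ^ n := by
      rw [e.orderOf_eq, ← Subgroup.orderOf_coe]
      exact hord
    refine ringEquiv_eq_one B.two_ne h1 (not_dvd_of_card B hcard) ?_ ?_
    · rw [← map_mul]
      have h3 : (u 1 0 : H) * u 1 0 = u 1 1 * u 1 (-1) := by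
        rw [← Subgroup.coe_mul, ← Subgroup.coe_mul, h.u_mul, h.u_mul]
        congr 2
        ring
      rw [h3]
      exact mul_mem (hcenH 1) (hLH hxL')
    · rw [← tr_act, act_mk]
      have h3 : (⟨(u 1 0 : H) * u 1 (-1) * (u 1 0 : H)⁻¹, hLn.conj_mem _ hxL' _⟩ : L) =
          ⟨(u 1 (-1) : H), hxL'⟩ := Subtype.ext hyx
      rw [h3]
  have hyH : (u 1 0 : H) ∈ H1 L e := hτy
  obtain ⟨g, hg⟩ := (mem_H1 _).1 hyH
  have hgd : ¬ IsSquare g.1.det := by
    intro hd
    obtain ⟨l, hl, c, hc, hlc⟩ := mem_of_isSquare B _ g hg hd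
    obtain ⟨a, rfl⟩ := (hcen c).1 hc
    have h1 : (u (1 - a) (-a) : H) ∈ L := by
      have h3 : (u (1 - a) (-a) : H) = l := by
        have h4 : u (1 - a) (-a) * u a a = u 1 0 := by
          rw [h.u_mul]; congr 1 <;> ring
        have h5 := congrArg Subtype.val h4
        change (u (1 - a) (-a) : H) * u a a = u 1 0 at h5
        rw [hlc] at h5
        exact mul_right_cancel h5
      rw [h3]; exact hl
    rw [hu_mem] at h1
    -- `1 = 2 a`
    have h3 : (2 : ZMod (2 ^ n)) ^ (n - 1) = 0 := by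
      have h4 : (2 : ZMod (2 ^ n)) ^ (n - 1) = 2 ^ (n - 1) * (1 - a + -a) + a * (2 * 2 ^ (n - 1)) := by ring
      rw [h4, h1, h20]; ring
    exact hhalf h3
  have hupow : ∀ a : ZMod (2 ^ n), (u a 0 : H) ∈ H1 L e := by
    intro a
    have h1 : u a 0 = u 1 0 ^ a.val := by rw [hpw, mul_one, mul_zero, ZMod.natCast_zmod_val]
    rw [h1, Subgroup.coe_pow]
    exact pow_mem hyH _
  refine ⟨n, u, s, B, h, hu_mem, hus_mem, hcen, ⟨g, hg, hgd⟩, ?_, ?_, hcard⟩
  · have hub : ∀ a b, (u a b : H) ∈ H1 L e := by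
      intro a b
      have h1 : u a b = u (a + b) 0 * u (-b) b := by
        rw [h.u_mul]; congr 1 <;> ring
      rw [h1, Subgroup.coe_mul]
      refine mul_mem (hupow _) (hLH ((hu_mem _ _).2 (by ring)))
    intro x hx
    rcases h.cases ⟨x, hx⟩ with ⟨a, b, hab'⟩ | ⟨a, b, hab'⟩
    · have h1 : x = u a b := congrArg Subtype.val hab'
      rw [h1]; exact hub a b
    · have h1 : x = ((u a b * s : (S : Subgroup H)) : H) := congrArg Subtype.val hab'
      have h3 : u a b * s = u (a - a₀) (b - b₀) * (u a₀ b₀ * s) := by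
        rw [← mul_assoc, h.u_mul]; congr 2 <;> ring
      rw [h1, h3, Subgroup.coe_mul]
      exact mul_mem (hub _ _) (hLH hab)
  · intro k
    constructor
    · intro hk
      obtain ⟨m, hm⟩ := (mem_H1 k).1 hk
      by_cases hd : IsSquare m.1.det
      · obtain ⟨l, hl, c, hc, hlc⟩ := mem_of_isSquare B _ m hm hd
        obtain ⟨a, rfl⟩ := (hcen c).1 hc
        exact ⟨l, hl, a, Or.inl hlc⟩
      · have hm0 : m.1.det ≠ 0 := (Matrix.GeneralLinearGroup.det m).ne_zero
        have hg0 : g.1.det ≠ 0 := (Matrix.GeneralLinearGroup.det g).ne_zero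
        have hsq : IsSquare (m * g⁻¹).1.det := by
          let _ := Fintype.ofFinite F
          have h2' : ringChar F ≠ 2 := by
            intro h2
            apply B.two_ne
            have := ringChar.Nat.cast_ringChar (R := F)
            rw [h2] at this
            exact_mod_cast this
          have h5 : (m * g⁻¹).1.det = m.1.det * g.1.det * ((g.1.det)⁻¹ * (g.1.det)⁻¹) := by
            rw [Units.val_mul, Matrix.det_mul]
            have h6 : g⁻¹.1.det = (g.1.det)⁻¹ := by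
              apply eq_inv_of_mul_eq_one_left
              rw [← Matrix.det_mul, inv_val_mul_val, Matrix.det_one]
            rw [h6]; field_simp
          rw [h5]
          refine IsSquare.mul ?_ ⟨_, rfl⟩
          rw [FiniteField.isSquare_iff h2' (mul_ne_zero hm0 hg0), mul_pow]
          have e1 : m.1.det ^ (Fintype.card F / 2) = -1 := by
            rcases FiniteField.pow_dichotomy h2' hm0 with h5 | h5
            · exact absurd ((FiniteField.isSquare_iff h2' hm0).2 h5) hd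
            · exact h5
          have e2 : g.1.det ^ (Fintype.card F / 2) = -1 := by
            rcases FiniteField.pow_dichotomy h2' hg0 with h5 | h5
            · exact absurd ((FiniteField.isSquare_iff h2' hg0).2 h5) hgd
            · exact h5
          rw [e1, e2, neg_mul_neg, one_mul]
        obtain ⟨l, hl, c, hc, hlc⟩ := mem_of_isSquare B (k * (u 1 0 : H)⁻¹) (m * g⁻¹)
          (by rw [map_mul, map_mul, map_inv, map_inv, hm, hg]) hsq
        obtain ⟨a, rfl⟩ := (hcen c).1 hc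
        exact ⟨l, hl, a, Or.inr (by rw [← hlc, inv_mul_cancel_right])⟩
    · rintro ⟨l, hl, a, rfl | rfl⟩
      · exact mul_mem (hLH hl) (hcenH a)
      · exact mul_mem (mul_mem (hLH hl) (hcenH a)) hyH

end Cfsg.Agent.Classification.QDW.StructW
end

-- part: Classification/QDW/StructUniqW
section
/-!
# Uniqueness of `SL(2,F) : 2^n`, the wreathed case

* `exists_odd_conj`: two elements of order `2^n`, `n ≥ 2`, of `PGL(2,F)`: the second is conjugate to an
  odd power of the first;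
* `ExtW L e n y`: `M = L ⟨y⟩`, `L ∩ ⟨y⟩ = 1`, `e : L ≃* SL(2,F)`, `y` of order `2^n` acts faithfully on `L`
  as an element of `GL(2,F)`;
* `ExtW.exists_mulEquiv`: any two such groups are isomorphic.
-/

set_option autoImplicit false
set_option linter.unusedSectionVars false

namespace Cfsg.Agent.Classification.QDW.StructUniqW

open Subgroup Matrix Cfsg.Agent.Lib.SL2Mat Cfsg.Agent.Lib.AutSL2 Cfsg.Agent.Classification.QDW.TypeHom
  Cfsg.Agent.Classification.QDW.StructUniq Cfsg.Agent.Classification.RTwo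

section matrix

variable {F : Type*} [Field F]

/-- the trace of a matrix -/
def gtr (g : GL (Fin 2) F) : F := g.1 0 0 + g.1 1 1

theorem gtr_pow_add_two (g : GL (Fin 2) F) (i : ℕ) :
    gtr (g ^ (i + 2)) = gtr g * gtr (g ^ (i + 1)) - g.1.det * gtr (g ^ i) := by
  have h1 : g ^ (i + 1) = g ^ i * g := pow_succ _ _
  have h2 : g ^ (i + 2) = g ^ i * g * g := by rw [pow_succ, pow_succ]
  rw [h1, h2, gtr, gtr, gtr, gtr, Matrix.det_fin_two]
  simp only [Units.val_mul, Matrix.mul_apply, Fin.sum_univ_two]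
  ring

theorem exists_eig {Ω : Type*} [Field Ω] [Algebra F Ω] [IsAlgClosed Ω] (g : GL (Fin 2) F) :
    ∃ a b : Ω, a + b = algebraMap F Ω (gtr g) ∧ a * b = algebraMap F Ω g.1.det ∧ a ≠ 0 ∧ b ≠ 0 := by
  set t : Ω := algebraMap F Ω (gtr g) with ht
  set d : Ω := algebraMap F Ω g.1.det with hd
  have hd0 : d ≠ 0 := by
    rw [hd, ne_eq, map_eq_zero]
    exact det_ne g
  let P : Polynomial Ω := Polynomial.X ^ 2 - Polynomial.C t * Polynomial.X + Polynomial.C d
  have hP : P.degree ≠ 0 := by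
    have h1 : P = Polynomial.C 1 * Polynomial.X ^ 2 + Polynomial.C (-t) * Polynomial.X + Polynomial.C d := by
      simp only [P, map_neg, map_one, one_mul, neg_mul, sub_eq_add_neg]
    rw [h1, Polynomial.degree_quadratic one_ne_zero]
    decide
  obtain ⟨a, ha⟩ := IsAlgClosed.exists_root P hP
  have h2 : a ^ 2 - t * a + d = 0 := by
    have := ha
    simpa only [P, Polynomial.IsRoot, _root_.Polynomial.eval_add, _root_.Polynomial.eval_sub, _root_.Polynomial.eval_pow, _root_.Polynomial.eval_X, _root_.Polynomial.eval_mul, _root_.Polynomial.eval_C] using this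
  have hab : a * (t - a) = d := by linear_combination -h2
  refine ⟨a, t - a, by ring, hab, ?_, ?_⟩
  · rintro rfl
    rw [zero_mul] at hab
    exact hd0 hab.symm
  · intro h
    rw [h, mul_zero] at hab
    exact hd0 hab.symm

theorem gtr_pow {Ω : Type*} [Field Ω] [Algebra F Ω] {g : GL (Fin 2) F} {a b : Ω}
    (h1 : a + b = algebraMap F Ω (gtr g)) (h2 : a * b = algebraMap F Ω g.1.det) (i : ℕ) :
    algebraMap F Ω (gtr (g ^ i)) = a ^ i + b ^ i := by
  induction i using Nat.strong_induction_on with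
  | _ i ih =>
    match i with
    | 0 =>
      rw [pow_zero, pow_zero, pow_zero, gtr, Units.val_one, Matrix.one_apply_eq, Matrix.one_apply_eq,
        map_add, map_one]
    | 1 => rw [pow_one, pow_one, pow_one, h1]
    | i + 2 =>
      rw [gtr_pow_add_two, map_sub, map_mul, map_mul, ih (i + 1) (by omega), ih i (by omega), ← h1, ← h2]
      ring

/-- the ratio of the eigenvalues of an element of order `2^n` of `PGL(2,F)` -/
theorem isPrimitiveRoot_ratio {Ω : Type*} [Field Ω] [Algebra F Ω] (h2 : (2 : F) ≠ 0)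
    {g : GL (Fin 2) F} {a b : Ω} (_ha : a ≠ 0) (hb : b ≠ 0)
    (h1 : a + b = algebraMap F Ω (gtr g)) (hab : a * b = algebraMap F Ω g.1.det) {n : ℕ}
    (hn : 1 ≤ n) (hg : conjGL g ^ 2 ^ n = 1) (hg' : conjGL g ^ 2 ^ (n - 1) ≠ 1) :
    IsPrimitiveRoot (a / b) (2 ^ n) := by
  have h3 : gtr (g ^ 2 ^ (n - 1)) = 0 := by
    apply tr_eq_zero
    · rw [← pow_add, ← two_mul, ← pow_succ', Nat.sub_add_cancel hn, map_pow, hg]
    · rwa [map_pow]
  have h4 := gtr_pow h1 hab (2 ^ (n - 1))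
  rw [h3, map_zero] at h4
  have h5 : (a / b) ^ 2 ^ (n - 1) = -1 := by
    rw [div_pow, div_eq_iff (pow_ne_zero _ hb)]
    linear_combination -h4
  have h2' : (2 : Ω) ≠ 0 := by
    have := (map_ne_zero (algebraMap F Ω)).2 h2
    rwa [map_ofNat] at this
  obtain ⟨m, rfl⟩ : ∃ m, n = m + 1 := ⟨n - 1, by omega⟩
  have e1 : m + 1 - 1 = m := rfl
  rw [e1] at h5
  rw [IsPrimitiveRoot.iff_orderOf]
  apply orderOf_eq_prime_pow
  · rw [h5]
    intro h6
    apply h2'
    linear_combination -h6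
  · rw [pow_succ, pow_mul, h5]
    norm_num

/-- A nonscalar matrix is conjugate to a companion matrix. -/
theorem exists_conj_comp' (g : GL (Fin 2) F) (hg : conjGL g ≠ 1) {t δ : F} (ht : gtr g = t)
    (hδ : g.1.det = δ) : ∃ x : GL (Fin 2) F, x.1 * g.1 = !![0, 1; -δ, t] * x.1 := by
  have hd := det_eq' g
  rw [hδ] at hd
  rw [gtr] at ht
  have key : ∀ r s : F, ∀ h : r * (r * g.1 0 1 + s * g.1 1 1) - s * (r * g.1 0 0 + s * g.1 1 0) ≠ 0,
      ∃ x : GL (Fin 2) F, x.1 * g.1 = !![0, 1; -δ, t] * x.1 := by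
    intro r s h
    refine ⟨gmk r s (r * g.1 0 0 + s * g.1 1 0) (r * g.1 0 1 + s * g.1 1 1) h, ?_⟩
    rw [gmk_val]
    ext i j
    rw [Matrix.mul_apply, Matrix.mul_apply, Fin.sum_univ_two, Fin.sum_univ_two]
    (revert i j; simp only [_root_.Fin.forall_fin_succ, Fin.isValue, _root_.Matrix.of_apply, _root_.Matrix.cons_val', _root_.Matrix.cons_val_zero, _root_.Matrix.cons_val_fin_one, _root_.Matrix.cons_val_one, _root_.Matrix.cons_val_succ, _root_.Fin.succ_zero_eq_one, _root_.IsEmpty.forall_iff, _root_.MulZeroClass.zero_mul, _root_.one_mul, _root_.zero_add, _root_.neg_mul, _root_.forall_const, _root_.and_true, _root_.true_and]) <;> (repeat' with_reducible apply And.intro)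
    · linear_combination (r * g.1 0 0 + s * g.1 1 0) * ht + r * hd
    · linear_combination (r * g.1 0 1 + s * g.1 1 1) * ht + s * hd
  by_cases hb : g.1 0 1 = 0
  · by_cases hc : g.1 1 0 = 0
    · apply key 1 1
      intro h
      apply hg
      apply conjGL_of_scalar hb hc
      linear_combination (-1 : F) * h + hb - hc
    · apply key 0 1
      intro h
      apply hc
      linear_combination -h
  · apply key 1 0
    intro h
    apply hb
    linear_combination h

theorem exists_conj' {g g' : GL (Fin 2) F} (hg : conjGL g ≠ 1) (hg' : conjGL g' ≠ 1)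
    (ht : gtr g = gtr g') (hd : g.1.det = g'.1.det) : ∃ x : GL (Fin 2) F, x * g = g' * x := by
  obtain ⟨x, hx⟩ := exists_conj_comp' g hg ht hd
  obtain ⟨x', hx'⟩ := exists_conj_comp' g' hg' rfl rfl
  refine ⟨x'⁻¹ * x, ?_⟩
  have e1 : x * g = x' * g' * x'⁻¹ * x := by
    apply Units.ext
    rw [Units.val_mul, hx, Units.val_mul, Units.val_mul, Units.val_mul, hx']
    have : !![0, 1; -g'.1.det, gtr g'] * x'.1 * x'⁻¹.1 =
        (!![0, 1; -g'.1.det, gtr g'] : Matrix (Fin 2) (Fin 2) F) := by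
      rw [Matrix.mul_assoc, ← Units.val_mul, mul_inv_cancel, Units.val_one, Matrix.mul_one]
    rw [this]
  rw [mul_assoc, e1]
  group

theorem exists_odd_conj (h2 : (2 : F) ≠ 0) {g g' : GL (Fin 2) F} {n : ℕ} (hn : 2 ≤ n)
    (hg : conjGL g ^ 2 ^ n = 1) (hg1 : conjGL g ^ 2 ^ (n - 1) ≠ 1)
    (hg' : conjGL g' ^ 2 ^ n = 1) (hg1' : conjGL g' ^ 2 ^ (n - 1) ≠ 1) :
    ∃ j : ℕ, Odd j ∧ ∃ x : GL (Fin 2) F, conjGL x * conjGL g ^ j = conjGL g' * conjGL x := by
  let Ω := AlgebraicClosure F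
  obtain ⟨a, b, h1, hab, ha, hb⟩ := exists_eig (Ω := Ω) g
  obtain ⟨a', b', h1', hab', ha', hb'⟩ := exists_eig (Ω := Ω) g'
  have hr := isPrimitiveRoot_ratio h2 ha hb h1 hab (by omega) hg hg1
  have hr' := isPrimitiveRoot_ratio h2 ha' hb' h1' hab' (by omega) hg' hg1'
  have : NeZero (2 ^ n) := ⟨by positivity⟩
  obtain ⟨j, -, hjc, hj⟩ := (hr.isPrimitiveRoot_iff).1 hr'
  have hjodd : Odd j := by
    rw [← Nat.coprime_two_right]
    exact Nat.Coprime.coprime_dvd_right (dvd_pow_self 2 (by omega)) hjc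
  -- relation between the eigenvalues
  have hrel : a' * b ^ j = a ^ j * b' := by
    rw [div_pow, div_eq_div_iff (pow_ne_zero _ hb) hb'] at hj
    rw [hj]
  have hinj := (algebraMap F Ω).injective
  have htj := gtr_pow h1 hab j
  have hdj : algebraMap F Ω (g ^ j).1.det = a ^ j * b ^ j := by
    rw [Units.val_pow_eq_pow_val, Matrix.det_pow, map_pow, ← hab, mul_pow]
  have hkey : gtr g' ^ 2 * (g ^ j).1.det = gtr (g ^ j) ^ 2 * g'.1.det := by
    apply hinj
    rw [map_mul, map_mul, map_pow, map_pow, htj, hdj, ← h1', ← hab']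
    linear_combination (a' * a ^ j - b' * b ^ j) * hrel
  -- the traces are not zero
  have hne : a' + b' ≠ 0 := by
    intro h
    have h3 : a' / b' = -1 := by
      rw [div_eq_iff hb']
      linear_combination h
    have h4 : (a' / b') ^ 2 = 1 := by rw [h3]; norm_num
    have h5 := hr'.dvd_of_pow_eq_one 2 h4
    have h6 : 2 ^ 2 ∣ 2 ^ n := pow_dvd_pow 2 hn
    have := Nat.le_of_dvd (by norm_num) (h6.trans h5)
    norm_num at this
  have ht' : gtr g' ≠ 0 := by
    intro h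
    rw [h, map_zero] at h1'
    exact hne h1'
  have htj0 : gtr (g ^ j) ≠ 0 := by
    intro h
    rw [h] at hkey
    have h3 : gtr g' ^ 2 * (g ^ j).1.det = 0 := by rw [hkey]; ring
    exact mul_ne_zero (pow_ne_zero _ ht') (det_ne _) h3
  set s := gtr (g ^ j) / gtr g' with hs
  have hs0 : s ≠ 0 := div_ne_zero htj0 ht'
  set k := sc s hs0 * g' with hk
  have hkval : k.1 = s • g'.1 := by
    rw [hk, Units.val_mul, sc, gmk_val]
    ext i l
    rw [Matrix.mul_apply, Fin.sum_univ_two]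
    (revert i; simp only [_root_.Fin.forall_fin_succ, Fin.isValue, _root_.Matrix.of_apply, _root_.Matrix.cons_val', _root_.Matrix.cons_val_zero, _root_.Matrix.cons_val_fin_one, _root_.Matrix.cons_val_one, _root_.Matrix.smul_apply, _root_.smul_eq_mul, _root_.MulZeroClass.zero_mul, _root_.add_zero, _root_.Matrix.cons_val_succ, _root_.zero_add, _root_.mul_eq_mul_left_iff, _root_.Fin.succ_zero_eq_one, _root_.true_or, _root_.IsEmpty.forall_iff, _root_.and_self])
  have hkg : conjGL k = conjGL g' := by rw [hk, map_mul, conjGL_sc, one_mul]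
  have hg'1 : conjGL g' ≠ 1 := by
    intro h
    rw [h, one_pow] at hg1'
    exact hg1' rfl
  have hgj1 : conjGL (g ^ j) ≠ 1 := by
    intro h
    rw [map_pow] at h
    have h3 := orderOf_dvd_of_pow_eq_one h
    have h4 : orderOf (conjGL g) = 2 ^ n := by
      obtain ⟨m, rfl⟩ : ∃ m, n = m + 1 := ⟨n - 1, by omega⟩
      exact orderOf_eq_prime_pow hg1 hg
    rw [h4] at h3
    have h5 : Nat.Coprime (2 ^ n) j := hjc.symm
    have h6 := Nat.Coprime.eq_one_of_dvd h5 h3
    have h7 : 1 < 2 ^ n := Nat.one_lt_two_pow (by omega)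
    omega
  obtain ⟨x, hx⟩ := exists_conj' (g := g ^ j) (g' := k) hgj1 (by rw [hkg]; exact hg'1) (by
    rw [gtr, gtr, hkval, Matrix.smul_apply, Matrix.smul_apply, smul_eq_mul, smul_eq_mul, ← mul_add]
    change gtr (g ^ j) = s * gtr g'
    rw [hs, div_mul_cancel₀ _ ht']) (by
    rw [hkval, Matrix.det_smul, Fintype.card_fin, hs, div_pow, div_mul_eq_mul_div,
      eq_div_iff (pow_ne_zero 2 ht')]
    linear_combination hkey)
  refine ⟨j, hjodd, x, ?_⟩
  rw [← hkg, ← map_pow, ← map_mul, hx, map_mul]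

end matrix

section ext

variable {F : Type*} [Field F]

/-- `M = L ⟨y⟩`, `L ∩ ⟨y⟩ = 1`. -/
structure ExtW {M : Type*} [Group M] (L : Subgroup M) (e : L ≃* _root_.Matrix.SpecialLinearGroup (Fin 2) F) (n : ℕ)
    (y : M) : Prop where
  normal : L.Normal
  two_le : 2 ≤ n
  orderOf_y : orderOf y = 2 ^ n
  gen : ∀ m, ∃ l ∈ L, ∃ i : ℤ, m = l * y ^ i
  disj : ∀ i : ℤ, y ^ i ∈ L → y ^ i = 1
  faithful : ∀ i : ℤ, (∀ l ∈ L, y ^ i * l = l * y ^ i) → y ^ i = 1
  act : ∃ g : GL (Fin 2) F, ∀ l : L, y * l * y⁻¹ = e.symm (conjGL g (e l))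

variable {M : Type*} [Group M] {L : Subgroup M} {e : L ≃* _root_.Matrix.SpecialLinearGroup (Fin 2) F} {n : ℕ} {y : M}

theorem pow_act {g : GL (Fin 2) F} (h : ∀ l : L, y * l * y⁻¹ = e.symm (conjGL g (e l))) (i : ℕ) (l : L) :
    y ^ i * l * (y ^ i)⁻¹ = e.symm ((conjGL g ^ i) (e l)) := by
  induction i generalizing l with
  | zero => simp
  | succ i ih =>
    have h1 : y ^ (i + 1) * l * (y ^ (i + 1))⁻¹ = y * (y ^ i * l * (y ^ i)⁻¹) * y⁻¹ := by
      rw [pow_succ']; group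
    rw [h1, ih, h, e.apply_symm_apply, pow_succ', MulAut.mul_apply]

/-- Odd powers of `y` give the same structure. -/
theorem ExtW.pow (h : ExtW L e n y) {j : ℕ} (hj : Odd j) : ExtW L e n (y ^ j) := by
  have hcop : Nat.Coprime (2 ^ n) j := Nat.Coprime.pow_left _ (Nat.coprime_two_left.2 hj)
  -- `y` is a power of `y ^ j`
  obtain ⟨i, hi⟩ : ∃ i : ℤ, (y ^ j) ^ i = y := by
    have h1 : y ∈ zpowers (y ^ j) := by
      have h2 : zpowers (y ^ j) = zpowers y := by
        have : Finite (zpowers y) :=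
          Nat.finite_of_card_ne_zero (by rw [Nat.card_zpowers, h.orderOf_y]; positivity)
        apply Subgroup.eq_of_le_of_card_ge
        · rw [zpowers_le]
          exact npow_mem_zpowers _ _
        · rw [Nat.card_zpowers, Nat.card_zpowers, Nat.Coprime.orderOf_pow (by rw [h.orderOf_y]; exact hcop)]
      rw [h2]
      exact mem_zpowers y
    exact Subgroup.mem_zpowers_iff.1 h1
  have hz : ∀ m : ℤ, (y ^ j) ^ m = y ^ ((j : ℤ) * m) := by
    intro m
    rw [_root_.zpow_mul, zpow_natCast]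
  refine ⟨h.normal, h.two_le, ?_, ?_, ?_, ?_, ?_⟩
  · rw [Nat.Coprime.orderOf_pow (by rw [h.orderOf_y]; exact hcop), h.orderOf_y]
  · intro m
    obtain ⟨l, hl, k, hk⟩ := h.gen m
    refine ⟨l, hl, i * k, ?_⟩
    rw [_root_.zpow_mul, hi, hk]
  · intro m hm
    rw [hz] at hm ⊢
    exact h.disj _ hm
  · intro m hm
    rw [hz] at hm ⊢
    exact h.faithful _ hm
  · obtain ⟨g, hg⟩ := h.act
    refine ⟨g ^ j, fun l => ?_⟩
    rw [pow_act hg, map_pow]

/-- The homomorphism. -/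
theorem ExtW.exists_hom (h : ExtW L e n y) {g : GL (Fin 2) F}
    (hg : ∀ l : L, y * l * y⁻¹ = e.symm (conjGL g (e l))) {M' : Type*} [Group M']
    {L' : Subgroup M'} {e' : L' ≃* _root_.Matrix.SpecialLinearGroup (Fin 2) F} {y' : M'} {g' : GL (Fin 2) F}
    (hy' : y' ^ 2 ^ n = 1) (hg' : ∀ l : L', y' * l * y'⁻¹ = e'.symm (conjGL g' (e' l))) {x : GL (Fin 2) F}
    (hx : conjGL x * conjGL g = conjGL g' * conjGL x) :
    ∃ Φ : M →* M', (∀ l : L, Φ l = (e'.symm (conjGL x (e l)) : L')) ∧ Φ y = y' := by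
  have hn := h.normal
  let f : L →* M' := L'.subtype.comp ((e.trans ((conjGL x).trans e'.symm)).toMonoidHom)
  have hf : ∀ l, f l = (e'.symm (conjGL x (e l)) : L') := fun l => rfl
  obtain ⟨Φ, hΦ, hΦy⟩ := ExtHom.exists_ext L y f y' (fun m => by
      obtain ⟨l, hl, i, hi⟩ := h.gen m
      exact ⟨⟨l, hl⟩, i, hi⟩) (by
      intro l
      rw [hf, hf]
      have h3 : e (MulAut.conjNormal y l) = conjGL g (e l) := by
        apply e.symm.injective
        apply Subtype.ext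
        rw [e.symm_apply_apply, MulAut.conjNormal_apply]
        exact hg l
      rw [h3]
      have h4 := hg' (e'.symm (conjGL x (e l)))
      rw [e'.apply_symm_apply] at h4
      rw [h4]
      have h5 := DFunLike.congr_fun hx (e l)
      rw [MulAut.mul_apply, MulAut.mul_apply] at h5
      rw [h5]) (by
      intro m hm
      have h3 := h.disj m hm
      have h4 : (⟨y ^ m, hm⟩ : L) = 1 := Subtype.ext h3
      rw [h4, map_one]
      have h5 : (2 ^ n : ℤ) ∣ m := by
        have h6 := orderOf_dvd_iff_zpow_eq_one.2 h3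
        rw [h.orderOf_y] at h6
        exact_mod_cast h6
      obtain ⟨k, rfl⟩ := h5
      rw [_root_.zpow_mul]
      have h6 : y' ^ (2 ^ n : ℤ) = 1 := by
        have : y' ^ ((2 ^ n : ℕ) : ℤ) = 1 := by rw [zpow_natCast, hy']
        exact_mod_cast this
      rw [h6, _root_.one_zpow])
  exact ⟨Φ, fun l => by rw [hΦ, hf], hΦy⟩

/-- The order of the matrix of `y`. -/
theorem ExtW.conj_order (h : ExtW L e n y) (g : GL (Fin 2) F)
    (hg : ∀ l : L, y * l * y⁻¹ = e.symm (conjGL g (e l))) :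
    conjGL g ^ 2 ^ n = 1 ∧ conjGL g ^ 2 ^ (n - 1) ≠ 1 := by
  have hn := h.two_le
  constructor
  · apply MulEquiv.ext
    intro a
    apply e.symm.injective
    apply Subtype.ext
    have h3 := pow_act hg (2 ^ n) (e.symm a)
    rw [e.apply_symm_apply] at h3
    rw [← h3, ← h.orderOf_y, pow_orderOf_eq_one]
    simp
  · intro h3
    have h4 : y ^ ((2 ^ (n - 1) : ℕ) : ℤ) = 1 := by
      apply h.faithful
      intro l hl
      rw [zpow_natCast]
      have h5 := pow_act hg (2 ^ (n - 1)) ⟨l, hl⟩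
      rw [h3, MulAut.one_apply, e.symm_apply_apply] at h5
      change y ^ 2 ^ (n - 1) * l * (y ^ 2 ^ (n - 1))⁻¹ = l at h5
      exact mul_inv_eq_iff_eq_mul.1 h5
    rw [zpow_natCast] at h4
    have h5 := orderOf_dvd_of_pow_eq_one h4
    rw [h.orderOf_y] at h5
    have h6 := (Nat.pow_dvd_pow_iff_le_right (by norm_num : 1 < 2)).1 h5
    omega

/-- **Uniqueness.** -/
theorem ExtW.exists_mulEquiv (h2 : (2 : F) ≠ 0) (h : ExtW L e n y) {M' : Type*} [Group M']
    {L' : Subgroup M'} {e' : L' ≃* _root_.Matrix.SpecialLinearGroup (Fin 2) F} {y' : M'} (h' : ExtW L' e' n y') :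
    ∃ φ : M ≃* M', (∀ m, φ m ∈ L' ↔ m ∈ L) ∧ ∃ j, Odd j ∧ φ (y ^ j) = y' := by
  obtain ⟨g, hg⟩ := h.act
  obtain ⟨g', hg'⟩ := h'.act
  obtain ⟨k1, k2⟩ := h.conj_order g hg
  obtain ⟨k1', k2'⟩ := h'.conj_order g' hg'
  obtain ⟨j, hj, x, hx⟩ := exists_odd_conj h2 h.two_le k1 k2 k1' k2'
  have hp := h.pow hj
  have hgj : ∀ l : L, y ^ j * l * (y ^ j)⁻¹ = e.symm (conjGL (g ^ j) (e l)) := by
    intro l
    rw [pow_act hg, map_pow]
  rw [← map_pow] at hx
  have hx' : conjGL x⁻¹ * conjGL g' = conjGL (g ^ j) * conjGL x⁻¹ := by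
    rw [map_inv]
    calc (conjGL x)⁻¹ * conjGL g' = (conjGL x)⁻¹ * (conjGL g' * conjGL x) * (conjGL x)⁻¹ := by group
      _ = _ := by rw [← hx]; group
  obtain ⟨Φ, hΦ, hΦy⟩ := hp.exists_hom hgj (by rw [← h'.orderOf_y, pow_orderOf_eq_one]) hg' hx
  obtain ⟨Ψ, hΨ, hΨy⟩ := h'.exists_hom hg' (by rw [← hp.orderOf_y, pow_orderOf_eq_one]) hgj hx'
  have hΨΦ : ∀ m, Ψ (Φ m) = m := by
    intro m
    obtain ⟨l, hl, i, hi⟩ := hp.gen m
    rw [hi, map_mul, map_mul, map_zpow, map_zpow, hΦy, hΨy]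
    congr 1
    have h3 := hΦ ⟨l, hl⟩
    change Φ l = _ at h3
    rw [h3, hΨ, e'.apply_symm_apply, ← MulAut.mul_apply, ← map_mul, inv_mul_cancel, map_one,
      MulAut.one_apply, e.symm_apply_apply]
  have hΦΨ : ∀ m, Φ (Ψ m) = m := by
    intro m
    obtain ⟨l, hl, i, hi⟩ := h'.gen m
    rw [hi, map_mul, map_mul, map_zpow, map_zpow, hΨy, hΦy]
    congr 1
    have h3 := hΨ ⟨l, hl⟩
    change Ψ l = _ at h3
    rw [h3, hΦ, e.apply_symm_apply, ← MulAut.mul_apply, ← map_mul, mul_inv_cancel, map_one,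
      MulAut.one_apply, e'.symm_apply_apply]
  refine ⟨{ toFun := Φ, invFun := Ψ, left_inv := hΨΦ, right_inv := hΦΨ, map_mul' := map_mul Φ }, ?_,
    j, hj, hΦy⟩
  intro m
  constructor
  · intro hm
    change Φ m ∈ L' at hm
    rw [← hΨΦ m]
    have h3 := hΨ ⟨_, hm⟩
    change Ψ (Φ m) = _ at h3
    rw [h3]
    exact (e.symm _).2
  · intro hm
    change Φ m ∈ L'
    have h3 := hΦ ⟨_, hm⟩
    change Φ m = _ at h3
    rw [h3]
    exact (e'.symm _).2

end ext

end Cfsg.Agent.Classification.QDW.StructUniqW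
end

-- part: Classification/QDW/StructModelW
section
/-!
# The models `GL(2,F)/Z₀` and `GU(2,q)/Z₀`, `Z₀` the odd part of the centre: wreathed case

`q ≡ 1 mod 4` for `GL`, `q ≡ 3 mod 4` for `GU`; `y₀ = diag(ζ, 1)` with `ζ` of order `2^n`.
-/

set_option autoImplicit false
set_option linter.unusedSectionVars false

namespace Cfsg.Agent.Classification.QDW.StructModelW

open Subgroup Matrix Cfsg.Agent.Lib.AutSL2 Cfsg.Agent.Classification.QDW.TypeHom
  Cfsg.Agent.Classification.QDW.StructUniq Cfsg.Agent.Classification.QDW.StructUniqW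
  Cfsg.Agent.Classification.InvCent.GLTwo
  Cfsg.Agent.Classification.InvCent.GUTwo Cfsg.Agent.Classification.QDW.StructModel

local notation "conjGL" => Cfsg.Agent.Lib.SL2Mat.conjGL

variable {F : Type*} [Field F]

theorem exists_zeta_pow {n k : ℕ} (hk : Odd k) {ζ : Fˣ} (hζ : orderOf ζ = 2 ^ n) {d : Fˣ}
    (hd : d ^ (2 ^ n * k) = 1) : ∃ i : ℕ, (d * (ζ ^ i)⁻¹) ^ k = 1 := by
  have h1 : IsPrimitiveRoot (ζ : F) (2 ^ n) := by
    rw [IsPrimitiveRoot.coe_units_iff, IsPrimitiveRoot.iff_orderOf]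
    exact hζ
  have hne : NeZero (2 ^ n) := ⟨by positivity⟩
  have h2 : ((d ^ k : Fˣ) : F) ^ 2 ^ n = 1 := by
    rw [← Units.val_pow_eq_pow_val, ← pow_mul, mul_comm k, hd, Units.val_one]
  obtain ⟨i₀, -, hi₀⟩ := h1.eq_pow_of_pow_eq_one h2
  have hi : ζ ^ i₀ = d ^ k := Units.ext (by rw [Units.val_pow_eq_pow_val, hi₀])
  obtain ⟨m, hm⟩ := exists_pow_eq_self_of_coprime (x := ζ) (n := k) (by
    rw [hζ]
    exact Nat.Coprime.pow_right _ (Nat.coprime_two_right.2 hk))
  refine ⟨i₀ * m, ?_⟩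
  have h3 : (ζ ^ (i₀ * m)) ^ k = d ^ k := by
    rw [← pow_mul, ← hi]
    have : i₀ * m * k = (k * m) * i₀ := by ring
    rw [this, pow_mul, pow_mul, hm]
  rw [mul_pow, inv_pow, h3, mul_inv_cancel]

theorem eq_one_of_coprime {A : Type*} [Group A] {x : A} {n k : ℕ} (hk : Odd k) (h1 : x ^ 2 ^ n = 1)
    (h2 : x ^ k = 1) : x = 1 := by
  have h3 := orderOf_dvd_of_pow_eq_one h1
  have h4 := orderOf_dvd_of_pow_eq_one h2
  have h5 : Nat.Coprime (2 ^ n) k := Nat.Coprime.pow_left _ (Nat.coprime_two_left.2 hk)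
  have h6 := Nat.dvd_gcd h3 h4
  rw [h5] at h6
  exact orderOf_eq_one_iff.1 (Nat.dvd_one.1 h6)

theorem dg_zpow (a b : Fˣ) (i : ℤ) : dg a b ^ i = dg (a ^ i) (b ^ i) := by
  have hinv : ∀ a b : Fˣ, (dg a b)⁻¹ = dg a⁻¹ b⁻¹ := by
    intro a b
    apply inv_eq_of_mul_eq_one_right
    rw [dg_mul, mul_inv_cancel, mul_inv_cancel, dg_one]
  rcases Int.eq_nat_or_neg i with ⟨m, rfl | rfl⟩
  · rw [zpow_natCast, zpow_natCast, zpow_natCast, dg_pow]
  · rw [_root_.zpow_neg, _root_.zpow_neg, _root_.zpow_neg, zpow_natCast, zpow_natCast, zpow_natCast,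
      dg_pow, hinv]

/-- The common part of the two models. -/
theorem ext_of {K : Type*} [Field K] {G₀ : Type*} [Group G₀] (ι : G₀ →* GL (Fin 2) F)
    (hι : Function.Injective ι) (j : _root_.Matrix.SpecialLinearGroup (Fin 2) K →* G₀)
    (hjinj : Function.Injective j) {n k : ℕ} (hn : 2 ≤ n) (hk : Odd k)
    (hj : ∀ g : G₀, GeneralLinearGroup.det (ι g) = 1 → ∃ s, j s = g)
    (hj1 : ∀ s, GeneralLinearGroup.det (ι (j s)) = 1)
    (hsc : ∀ a : Fˣ, a ^ k = 1 → ∃ g, ι g = dg a a)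
    (hdet : ∀ g, GeneralLinearGroup.det (ι g) ^ (2 ^ n * k) = 1) {ζ : Fˣ} (hζ : orderOf ζ = 2 ^ n)
    (y₀ : G₀) (hy₀ : ι y₀ = dg ζ 1) (hcent : ∀ c, (∀ s, c * j s = j s * c) → ∃ a, ι c = dg a a)
    (hact : ∃ g : GL (Fin 2) K, ∀ s, y₀ * j s * y₀⁻¹ = j (conjGL g s))
    [hZn : ((Zsub F k).comap ι).Normal] :
    ∃ e : ((QuotientGroup.mk' ((Zsub F k).comap ι)).comp j).range ≃* _root_.Matrix.SpecialLinearGroup (Fin 2) K,
      ExtW ((QuotientGroup.mk' ((Zsub F k).comap ι)).comp j).range e n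
        (QuotientGroup.mk' ((Zsub F k).comap ι) y₀) := by
  set Z₀ := (Zsub F k).comap ι with hZ₀
  set π := QuotientGroup.mk' Z₀ with hπ
  have hker : ∀ g, π g = 1 ↔ g ∈ Z₀ := fun g => QuotientGroup.eq_one_iff g
  have hmemZ : ∀ g, g ∈ Z₀ → ∃ c : Fˣ, c ^ k = 1 ∧ ι g = dg c c := fun g hg =>
    mem_Zsub.1 (Subgroup.mem_comap.1 hg)
  have hjZ : ∀ s, j s ∈ Z₀ → s = 1 := by
    intro s hs
    obtain ⟨c, hc, hsc⟩ := hmemZ _ hs
    have h1 := hj1 s
    rw [hsc, det_dg] at h1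
    have h3 : c = 1 := by
      obtain ⟨m, rfl⟩ := hk
      rw [pow_succ, pow_mul, sq, h1, one_pow, one_mul] at hc
      exact hc
    apply hjinj
    rw [map_one]
    apply hι
    rw [hsc, h3, dg_one, map_one]
  have hinj : Function.Injective (π.comp j) := by
    rw [injective_iff_map_eq_one]
    intro s hs
    exact hjZ s ((hker _).1 hs)
  let E : _root_.Matrix.SpecialLinearGroup (Fin 2) K ≃* (π.comp j).range := MonoidHom.ofInjective hinj
  have hE : ∀ s, ((E s : (π.comp j).range) : G₀ ⧸ Z₀) = π (j s) := fun s => rfl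
  have hconj : ∀ g s, ∃ s', j s' = g * j s * g⁻¹ := by
    intro g s
    apply hj
    rw [map_mul, map_mul, map_mul, map_mul, hj1, mul_one, map_inv, map_inv, mul_inv_cancel]
  have hyi : ∀ i : ℤ, ι (y₀ ^ i) = dg (ζ ^ i) 1 := by
    intro i
    rw [map_zpow, hy₀, dg_zpow, _root_.one_zpow]
  have hζi : ∀ i : ℤ, ζ ^ i = 1 → y₀ ^ i = 1 := by
    intro i hi
    apply hι
    rw [hyi, hi, dg_one, map_one]
  have hζk : ∀ i : ℤ, (ζ ^ i) ^ k = 1 → ζ ^ i = 1 := by
    intro i hi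
    refine eq_one_of_coprime hk (n := n) ?_ hi
    rw [← zpow_natCast, ← _root_.zpow_mul, mul_comm, _root_.zpow_mul, zpow_natCast, ← hζ,
      pow_orderOf_eq_one, _root_.one_zpow]
  have hπy : ∀ i : ℤ, π y₀ ^ i = 1 → y₀ ^ i = 1 := by
    intro i hi
    rw [← map_zpow] at hi
    obtain ⟨c, hc, hcc⟩ := hmemZ _ ((hker _).1 hi)
    rw [hyi] at hcc
    obtain ⟨h1, h2⟩ := dg_injective hcc
    exact hζi i (h1.trans h2.symm)
  refine ⟨E.symm, ?_, hn, ?_, ?_, ?_, ?_, ?_⟩
  · refine ⟨fun m hm g => ?_⟩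
    obtain ⟨s, rfl⟩ := hm
    obtain ⟨g, rfl⟩ := QuotientGroup.mk'_surjective Z₀ g
    obtain ⟨s', hs'⟩ := hconj g s
    exact ⟨s', by rw [MonoidHom.comp_apply, hs', map_mul, map_mul, map_inv]; rfl⟩
  · obtain ⟨m, rfl⟩ : ∃ m, n = m + 1 := ⟨n - 1, by omega⟩
    apply orderOf_eq_prime_pow
    · intro h1
      have h2 := hπy ((2 ^ m : ℕ) : ℤ) (by rw [zpow_natCast]; exact h1)
      have h3 := congrArg ι h2
      rw [hyi, map_one, ← dg_one] at h3
      have h4 := (dg_injective h3).1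
      rw [zpow_natCast] at h4
      have h5 := orderOf_dvd_of_pow_eq_one h4
      rw [hζ] at h5
      have h6 := (Nat.pow_dvd_pow_iff_le_right (by norm_num : 1 < 2)).1 h5
      omega
    · have h1 : y₀ ^ ((2 ^ (m + 1) : ℕ) : ℤ) = 1 := by
        apply hζi
        rw [zpow_natCast, ← hζ, pow_orderOf_eq_one]
      rw [zpow_natCast] at h1
      rw [← map_pow, h1, map_one]
  · intro m
    obtain ⟨g, rfl⟩ := QuotientGroup.mk'_surjective Z₀ m
    obtain ⟨i, hi⟩ := exists_zeta_pow hk hζ (hdet g)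
    obtain ⟨c, hc, hcd⟩ := pow_even hk hi
    obtain ⟨z, hz⟩ := hsc c hc
    have hzZ : z ∈ Z₀ := by
      rw [hZ₀, Subgroup.mem_comap, hz]
      exact mem_Zsub.2 ⟨c, hc, rfl⟩
    obtain ⟨s, hs⟩ := hj (g * (y₀ ^ i)⁻¹ * z⁻¹) (by
      rw [map_mul, map_mul, map_mul, map_mul, map_inv, map_inv, map_inv, map_inv, map_pow, hy₀, dg_pow,
        one_pow, det_dg, mul_one, hz, det_dg, hcd, mul_inv_cancel])
    refine ⟨π (j s), (E s).2, i, ?_⟩
    rw [hs, zpow_natCast, map_mul, map_mul, map_inv, map_inv, map_pow, (hker z).2 hzZ, inv_one, mul_one,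
      inv_mul_cancel_right]
  · rintro i ⟨s, hs⟩
    rw [MonoidHom.comp_apply, ← map_zpow] at hs
    have h1 : π ((j s)⁻¹ * y₀ ^ i) = 1 := by rw [map_mul, map_inv, hs, inv_mul_cancel]
    obtain ⟨c, hc, hcc⟩ := hmemZ _ ((hker _).1 h1)
    have h2 : y₀ ^ i = j s * ((j s)⁻¹ * y₀ ^ i) := (mul_inv_cancel_left _ _).symm
    have h3 : GeneralLinearGroup.det (ι (y₀ ^ i)) = c * c := by
      rw [h2, map_mul, map_mul, hj1, hcc, det_dg, one_mul]
    rw [hyi, det_dg, mul_one] at h3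
    rw [← map_zpow, hζi i (hζk i (by rw [h3, mul_pow, hc, one_mul])), map_one]
  · intro i hi
    rw [← map_zpow]
    obtain ⟨a, ha⟩ := hcent (y₀ ^ i) (by
      intro s
      obtain ⟨s', hs'⟩ := hconj (y₀ ^ i) s
      have h1 := hi _ (E s).2
      rw [hE, ← map_zpow, ← map_mul, ← map_mul] at h1
      have h3 : π (j (s⁻¹ * s')) = 1 := by
        have h4 : π (y₀ ^ i * j s) * (π (y₀ ^ i))⁻¹ = π (j s) := by
          rw [h1, map_mul, mul_inv_cancel_right]
        rw [map_mul, map_mul, hs', map_mul, map_inv (f := π), h4, ← map_mul, map_inv, inv_mul_cancel,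
          map_one]
      have h4 := hjZ _ ((hker _).1 h3)
      have h5 : s' = s := by rw [← mul_inv_cancel_left s s', h4, mul_one]
      rw [h5] at hs'
      calc y₀ ^ i * j s = y₀ ^ i * j s * (y₀ ^ i)⁻¹ * y₀ ^ i := by group
        _ = j s * y₀ ^ i := by rw [← hs'])
    rw [hyi] at ha
    obtain ⟨h1, h2⟩ := dg_injective ha
    rw [hζi i (h1.trans h2.symm), map_one]
  · obtain ⟨g, hg⟩ := hact
    refine ⟨g, fun l => ?_⟩
    obtain ⟨s, rfl⟩ := E.surjective l
    rw [E.symm_apply_apply, hE]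
    change _ = ((E (conjGL g s) : (π.comp j).range) : G₀ ⧸ Z₀)
    rw [hE, ← hg, map_mul, map_mul, map_inv]

theorem exists_zeta [Finite F] {m : ℕ} (_hm : m ≠ 0) (h : m ∣ Nat.card F - 1) : ∃ ζ : Fˣ, orderOf ζ = m := by
  obtain ⟨g, hg⟩ := IsCyclic.exists_ofOrder_eq_natCard (α := Fˣ)
  have : Fintype F := Fintype.ofFinite F
  rw [card_units] at hg
  obtain ⟨c, hc⟩ := h
  have hF : 1 < Nat.card F := Finite.one_lt_card
  have hc0 : c ≠ 0 := by
    rintro rfl
    rw [mul_zero] at hc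
    omega
  refine ⟨g ^ c, ?_⟩
  rw [orderOf_pow' _ hc0, hg, hc, Nat.gcd_mul_left_left, Nat.mul_div_cancel _ (Nat.pos_of_ne_zero hc0)]

theorem normal_comap {G₀ : Type*} [Group G₀] (ι : G₀ →* GL (Fin 2) F) (k : ℕ) :
    ((Zsub F k).comap ι).Normal := by
  have : (Zsub F k).Normal := by
    refine ⟨fun z hz g => ?_⟩
    obtain ⟨c, -, rfl⟩ := mem_Zsub.1 hz
    rw [← dg_comm, mul_inv_cancel_right]
    exact hz
  exact Subgroup.Normal.comap this ι

/-- `GL(2,F)/Z₀`, `q - 1 = 2^n k`, `n ≥ 2`. -/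
theorem ext_gl [Fintype F] (h2 : (2 : F) ≠ 0) {n k : ℕ} (hn : 2 ≤ n) (hk : Odd k)
    (hq : Fintype.card F - 1 = 2 ^ n * k) [hZn : ((Zsub F k).comap (MonoidHom.id (GL (Fin 2) F))).Normal] :
    ∃ (ζ : Fˣ) (e : ((QuotientGroup.mk' ((Zsub F k).comap (MonoidHom.id (GL (Fin 2) F)))).comp
        SpecialLinearGroup.toGL).range ≃* _root_.Matrix.SpecialLinearGroup (Fin 2) F), orderOf ζ = 2 ^ n ∧
      ExtW _ e n (QuotientGroup.mk' ((Zsub F k).comap (MonoidHom.id (GL (Fin 2) F))) (dg ζ 1)) := by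
  have hcU : Nat.card Fˣ = 2 ^ n * k := by
    rw [card_units, Nat.card_eq_fintype_card, hq]
  have hpow : ∀ a : Fˣ, a ^ (2 ^ n * k) = 1 := by
    intro a
    rw [← hcU]
    exact pow_card_eq_one'
  obtain ⟨ζ, hζ⟩ := exists_zeta (F := F) (m := 2 ^ n) (by positivity) (by
    rw [Nat.card_eq_fintype_card, hq]; exact Dvd.intro _ rfl)
  obtain ⟨e, he⟩ := ext_of (K := F) (MonoidHom.id (GL (Fin 2) F)) Function.injective_id
    (SpecialLinearGroup.toGL) (by
      intro a b hab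
      apply Subtype.ext
      exact congrArg (fun g : GL (Fin 2) F => g.1) hab) hn hk (by
      intro g hg
      have hd : g.1.det = 1 := by
        have := congrArg (fun u : Fˣ => (u : F)) hg
        rwa [GeneralLinearGroup.val_det_apply] at this
      exact ⟨⟨g.1, hd⟩, Units.ext rfl⟩) (by
      intro s
      ext
      rw [GeneralLinearGroup.val_det_apply]
      exact s.2) (fun a _ => ⟨dg a a, rfl⟩) (fun g => hpow _) hζ (dg ζ 1) rfl (by
      intro c hc
      have h1 : conjGL c = 1 := by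
        apply MulEquiv.ext
        intro x
        have h3 := hc x
        apply Subtype.ext
        rw [Cfsg.Agent.Lib.SL2Mat.conjGL_val]
        have h4 : c.1 * x.1 = x.1 * c.1 := congrArg (fun g : GL (Fin 2) F => g.1) h3
        rw [h4, Matrix.mul_assoc, ← Units.val_mul, mul_inv_cancel, Units.val_one, Matrix.mul_one]
        rfl
      obtain ⟨h01, h10, h00⟩ := scalar_of_conjGL h1
      have h3 : c ∈ Subgroup.center (GL (Fin 2) F) := mem_center.2 ⟨h01, h10, h00⟩
      obtain ⟨a, b, rfl⟩ := exists_dg h2 (center_le_Tor h3)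
      rw [dg_mem_center] at h3
      exact ⟨a, by rw [h3]; rfl⟩) ⟨dg ζ 1, fun s => Units.ext rfl⟩
  exact ⟨ζ, e, hζ, he⟩

/-- `GU(2,q)/Z₀`, `q + 1 = 2^n k`, `n ≥ 2`. -/
theorem ext_gu [Fintype F] {q : ℕ} {K : Type*} [Field K] [Fintype K] (hF : Fintype.card F = q ^ 2)
    (hK : Fintype.card K = q) (hqo : Odd q) {n k : ℕ} (hn : 2 ≤ n) (hk : Odd k) (hq : q + 1 = 2 ^ n * k)
    [hZn : ((Zsub F k).comap (Cfsg.GU 2 F q).subtype).Normal] :
    ∃ (j : _root_.Matrix.SpecialLinearGroup (Fin 2) K →* Cfsg.GU 2 F q) (ζ : Fˣ) (y₀ : Cfsg.GU 2 F q)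
      (e : ((QuotientGroup.mk' ((Zsub F k).comap (Cfsg.GU 2 F q).subtype)).comp j).range ≃*
        _root_.Matrix.SpecialLinearGroup (Fin 2) K), orderOf ζ = 2 ^ n ∧ (y₀ : GL (Fin 2) F) = dg ζ 1 ∧
      (∀ s, GeneralLinearGroup.det (j s : GL (Fin 2) F) = 1) ∧
      (∀ g : Cfsg.GU 2 F q, GeneralLinearGroup.det (g : GL (Fin 2) F) = 1 → ∃ s, j s = g) ∧
      ExtW _ e n (QuotientGroup.mk' ((Zsub F k).comap (Cfsg.GU 2 F q).subtype) y₀) := by
  obtain ⟨σ, κ, P⟩ := exists_par hF hqo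
  obtain ⟨f, j, hjinj, hj1, hj, htr⟩ := SUTwoTrace.exists_hom_GU hF hK
  obtain ⟨ζ, hζ⟩ := exists_zeta (F := F) (m := 2 ^ n) (by positivity) (by
    rw [Nat.card_eq_fintype_card, hF]
    have h1 : q ^ 2 - 1 = (q + 1) * (q - 1) := by
      have := Nat.sq_sub_sq q 1
      rwa [one_pow] at this
    rw [h1, hq]
    exact Dvd.dvd.mul_right (Dvd.intro _ rfl) _)
  have hζq : ζ ^ (q + 1) = 1 := by rw [hq, pow_mul, ← hζ, pow_orderOf_eq_one, one_pow]
  have hζm : dg ζ 1 ∈ Cfsg.GU 2 F q := by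
    rw [P.dg_mem, ← P.pow_succ_eq, ← Units.val_pow_eq_pow_val, hζq]
    simp
  obtain ⟨e, he⟩ := ext_of (K := K) (Cfsg.GU 2 F q).subtype (Subgroup.subtype_injective _) j hjinj hn hk
    hj hj1 (by
      intro a ha
      exact ⟨⟨dg a a, (dg_mem_GU P).2 (by rw [hq, mul_comm, pow_mul, ha, one_pow])⟩, rfl⟩) (by
      intro g
      rw [← hq]
      exact _root_.Cfsg.Agent.Classification.QDW.StructModel.det_pow P g) hζ ⟨dg ζ 1, hζm⟩ rfl (by
      intro c hc
      obtain ⟨a, ha, -⟩ := cent_GU P c (by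
        intro g hg
        obtain ⟨s, rfl⟩ := hj g hg
        exact hc s)
      exact ⟨a, ha⟩) (exists_act hjinj hj hj1 htr _)
  exact ⟨j, ζ, ⟨dg ζ 1, hζm⟩, e, hζ, rfl, hj1, hj, he⟩

end Cfsg.Agent.Classification.QDW.StructModelW
end

-- part: Classification/QDW/StructMainW
section
/-!
# `C(t)/O(C(t))`, wreathed case: `H₁ ≅ GL(2,F)/Z₀` or `GU(2,q)/Z₀`

`H` finite, `O(H) = 1`, `WR S L e n u s`, `H₁ = H1 L e` the kernel of the field type.

* `exists_gl`: `q ≡ 1 mod 4`, `q - 1 = 2^n k`, `H₁ ≅ GL(2,F)/Z₀`, `Z₀` the scalars with `c^k = 1`;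
* `exists_gu`: `q ≡ 3 mod 4`, `q + 1 = 2^n k`, `H₁ ≅ GU(2,q)/Z₀`, `Z₀` the scalars with `c^k = 1`;
* `odd_index`, `two_part`.
-/

set_option autoImplicit false
set_option linter.unusedSectionVars false

namespace Cfsg.Agent.Classification.QDW.StructMainW

open Subgroup Matrix Cfsg.Agent.Lib.SL2Mat Cfsg.Agent.Lib.AutSL2 Cfsg.Agent.TwoFusion
  Cfsg.Agent.TwoFusion.NormalSL2 Cfsg.Agent.Classification.QDW.TypeHom
  Cfsg.Agent.Classification.QDW.StructQ Cfsg.Agent.Classification.QDW.StructUniqW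
  Cfsg.Agent.Classification.QDW.StructW Cfsg.Agent.Classification.QDW.StructModelW

local notation "Zsub" => Cfsg.Agent.Classification.QDW.StructModel.Zsub

variable {H : Type*} [Group H] [Finite H] {S : Sylow 2 H} {L : Subgroup H} [hLn : L.Normal]
  {F : Type*} [Field F] [Finite F] {e : L ≃* _root_.Matrix.SpecialLinearGroup (Fin 2) F} {n : ℕ}
  {u : ZMod (2 ^ n) → ZMod (2 ^ n) → (S : Subgroup H)} {s : (S : Subgroup H)}

theorem y_mem_H1 (h : WR S L e n u s) : (u 1 0 : H) ∈ H1 L e := h.sylow_le (u 1 0).2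

theorem zpow_u (h : WR S L e n u s) (i : ℤ) : (u 1 0 : H) ^ i = u i 0 := by
  have h1 : ∀ m : ℕ, (u 1 0 : H) ^ m = u m 0 := by
    intro m
    rw [← Subgroup.coe_pow, h.coord.u_pow, mul_one, mul_zero]
  rcases Int.eq_nat_or_neg i with ⟨m, rfl | rfl⟩
  · rw [zpow_natCast, h1, Int.cast_natCast]
  · rw [_root_.zpow_neg, zpow_natCast, h1, ← Subgroup.coe_inv, h.coord.u_inv, neg_zero, Int.cast_neg,
      Int.cast_natCast]

theorem orderOf_y (h : WR S L e n u s) : orderOf (u 1 0 : H) = 2 ^ n := by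
  have hn := h.coord.two_le
  obtain ⟨m, rfl⟩ : ∃ m, n = m + 1 := ⟨n - 1, by omega⟩
  apply orderOf_eq_prime_pow
  · intro h1
    have h2 : (u 1 0 : H) ^ ((2 ^ m : ℕ) : ℤ) = 1 := by rw [zpow_natCast]; exact h1
    rw [zpow_u h] at h2
    have h3 : u ((2 ^ m : ℕ) : ℤ) 0 = u 0 0 := by
      rw [h.coord.u_zero]; exact Subtype.ext h2
    have h4 := (h.coord.u_inj _ _ _ _ h3).1
    have h5 := QDBasic.half_ne_zero (m + 1) (by omega)
    apply h5
    have e1 : m + 1 - 1 = m := rfl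
    rw [e1]
    push_cast at h4
    exact h4
  · have h2 : (u 1 0 : H) ^ ((2 ^ (m + 1) : ℕ) : ℤ) = 1 := by
      rw [zpow_u h]
      have h3 : (((2 ^ (m + 1) : ℕ) : ℤ) : ZMod (2 ^ (m + 1))) = 0 := by
        rw [Int.cast_natCast]
        exact ZMod.natCast_self _
      rw [h3, h.coord.u_zero]
      rfl
    rw [zpow_natCast] at h2
    exact h2

theorem exists_ext (h : WR S L e n u s) :
    ExtW (StructMain.L1 L e) (StructMain.e1 L e) n ⟨(u 1 0 : H), y_mem_H1 h⟩ := by
  have hz : ∀ i : ℤ, (((⟨(u 1 0 : H), y_mem_H1 h⟩ : H1 L e) ^ i : H1 L e) : H) = u i 0 := by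
    intro i
    rw [Subgroup.coe_zpow, zpow_u h]
  refine ⟨inferInstance, h.coord.two_le, ?_, ?_, ?_, ?_, ?_⟩
  · rw [← Subgroup.orderOf_coe]
    exact orderOf_y h
  · rintro ⟨m, hm⟩
    obtain ⟨l, hl, a, hla | hla⟩ := (h.cover m).1 hm
    · -- `u a a = u (-a) a * u (2 a) 0`
      have h1 : (u (-a) a : H) ∈ L := (h.u_mem _ _).2 (by ring)
      have h2 : l * u (-a) a ∈ L := mul_mem hl h1
      refine ⟨⟨l * u (-a) a, L_le_H1 h2⟩, Subgroup.mem_subgroupOf.2 h2, (2 * a).val, ?_⟩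
      apply Subtype.ext
      rw [Subgroup.coe_mul, hz, Int.cast_natCast, ZMod.natCast_zmod_val]
      change m = l * (u (-a) a : H) * u (2 * a) 0
      rw [hla, mul_assoc, ← Subgroup.coe_mul, h.coord.u_mul]
      congr 3
      · ring
      · ring
    · have h1 : (u (-a) a : H) ∈ L := (h.u_mem _ _).2 (by ring)
      have h2 : l * u (-a) a ∈ L := mul_mem hl h1
      refine ⟨⟨l * u (-a) a, L_le_H1 h2⟩, Subgroup.mem_subgroupOf.2 h2, (2 * a + 1).val, ?_⟩
      apply Subtype.ext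
      rw [Subgroup.coe_mul, hz, Int.cast_natCast, ZMod.natCast_zmod_val]
      change m = l * (u (-a) a : H) * u (2 * a + 1) 0
      rw [hla, mul_assoc, mul_assoc, ← Subgroup.coe_mul, ← Subgroup.coe_mul, h.coord.u_mul, h.coord.u_mul]
      congr 3
      ring
  · intro i hi
    rw [Subgroup.mem_subgroupOf, hz, h.u_mem, add_zero] at hi
    apply Subtype.ext
    rw [hz, hi, h.coord.u_zero]
    rfl
  · intro i hi
    have h1 : ∀ k, (u i 0 : H) * k = k * u i 0 := by
      apply h.base.cent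
      intro l hl
      have h2 := congrArg Subtype.val (hi ⟨l, L_le_H1 hl⟩ (Subgroup.mem_subgroupOf.2 hl))
      rw [Subgroup.coe_mul, Subgroup.coe_mul, hz] at h2
      exact h2
    obtain ⟨a, ha⟩ := (h.center _).1 h1
    obtain ⟨h2, h3⟩ := h.coord.u_inj _ _ _ _ (Subtype.ext ha)
    apply Subtype.ext
    rw [hz, h2, ← h3, h.coord.u_zero]
    rfl
  · obtain ⟨g, hg, -⟩ := h.act_y
    refine ⟨g, fun l => ?_⟩
    apply Subtype.ext
    rw [StructMain.e1_symm, ← hg, StructMain.e1_apply, act_mk, e.symm_apply_apply]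
    rfl

theorem odd_card (h : WR S L e n u s) : Odd (Nat.card F) := by
  rw [← Nat.not_even_iff_odd, even_iff_two_dvd]
  intro h1
  apply h.base.two_ne
  let _ := Fintype.ofFinite F
  rw [Nat.card_eq_fintype_card] at h1
  have h2 := FiniteField.even_card_iff_char_two.2 (Nat.dvd_iff_mod_eq_zero.1 h1)
  have := ringChar.Nat.cast_ringChar (R := F)
  rw [h2] at this
  exact_mod_cast this

/-- `|H : H₁|` is odd. -/
theorem odd_index (h : WR S L e n u s) : Odd (H1 L e).index := by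
  rw [← Nat.not_even_iff_odd, even_iff_two_dvd]
  intro h1
  have : Fact (Nat.Prime 2) := ⟨Nat.prime_two⟩
  exact S.not_dvd_index (h1.trans (Subgroup.index_dvd_of_le h.sylow_le))

/-- The `2`-part of `q² - 1` is `2^(n+1)`. -/
theorem two_part (h : WR S L e n u s) : ∃ k, Odd k ∧ Nat.card F ^ 2 - 1 = 2 ^ (n + 1) * k := by
  let _ := Fintype.ofFinite F
  have h1 := not_dvd_of_card h.base h.card_inf
  have h2 : 2 ^ (n + 1) ∣ Nat.card L := by
    rw [← h.card_inf]
    exact Subgroup.card_dvd_of_le inf_le_right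
  rw [Nat.card_congr e.toEquiv, Cfsg.Agent.LieClassical.SmallIso.card_sl_two,
    ← Nat.card_eq_fintype_card] at h2
  have h3 : Nat.Coprime (2 ^ (n + 1)) (Nat.card F) :=
    Nat.Coprime.pow_left _ (Nat.coprime_two_left.2 (odd_card h))
  obtain ⟨k, hk⟩ := h3.dvd_of_dvd_mul_left h2
  refine ⟨k, ?_, hk⟩
  rw [← Nat.not_even_iff_odd, even_iff_two_dvd]
  rintro ⟨m, rfl⟩
  apply h1
  rw [hk]
  exact ⟨m, by rw [pow_succ 2 (n + 1)]; ring⟩

theorem two_part_sub (h : WR S L e n u s) (hq : Nat.card F % 4 = 1) :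
    ∃ k, Odd k ∧ Nat.card F - 1 = 2 ^ n * k := by
  obtain ⟨k, hk, hk2⟩ := two_part h
  obtain ⟨m, hm⟩ : ∃ m, Nat.card F = 4 * m + 1 := ⟨Nat.card F / 4, by omega⟩
  have hn := h.coord.two_le
  have h1 : Nat.card F ^ 2 - 1 = (Nat.card F - 1) * (2 * (2 * m + 1)) := by
    rw [hm]
    have e1 : (4 * m + 1) ^ 2 = 4 * m * (2 * (2 * m + 1)) + 1 := by ring
    rw [e1, Nat.add_sub_cancel, Nat.add_sub_cancel]
  rw [h1, pow_succ] at hk2
  have h3 : (Nat.card F - 1) * (2 * m + 1) = 2 ^ n * k := by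
    have : 2 * ((Nat.card F - 1) * (2 * m + 1)) = 2 * (2 ^ n * k) := by linarith only [hk2]
    exact Nat.eq_of_mul_eq_mul_left (by norm_num) this
  have h4 : Nat.Coprime (2 ^ n) (2 * m + 1) :=
    Nat.Coprime.pow_left _ (Nat.coprime_two_left.2 ⟨m, rfl⟩)
  obtain ⟨k', hk'⟩ := h4.dvd_of_dvd_mul_right (Dvd.intro _ h3.symm)
  refine ⟨k', ?_, hk'⟩
  rw [hk', mul_assoc] at h3
  have h5 := Nat.eq_of_mul_eq_mul_left (by positivity) h3
  rw [← h5, Nat.odd_mul] at hk
  exact hk.1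

theorem two_part_add (h : WR S L e n u s) (hq : Nat.card F % 4 = 3) :
    ∃ k, Odd k ∧ Nat.card F + 1 = 2 ^ n * k := by
  obtain ⟨k, hk, hk2⟩ := two_part h
  obtain ⟨m, hm⟩ : ∃ m, Nat.card F = 4 * m + 3 := ⟨Nat.card F / 4, by omega⟩
  have hn := h.coord.two_le
  have h1 : Nat.card F ^ 2 - 1 = (Nat.card F + 1) * (2 * (2 * m + 1)) := by
    rw [hm]
    have e1 : (4 * m + 3) ^ 2 = (4 * m + 3 + 1) * (2 * (2 * m + 1)) + 1 := by ring
    rw [e1, Nat.add_sub_cancel]
  rw [h1, pow_succ] at hk2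
  have h3 : (Nat.card F + 1) * (2 * m + 1) = 2 ^ n * k := by
    have : 2 * ((Nat.card F + 1) * (2 * m + 1)) = 2 * (2 ^ n * k) := by linarith only [hk2]
    exact Nat.eq_of_mul_eq_mul_left (by norm_num) this
  have h4 : Nat.Coprime (2 ^ n) (2 * m + 1) :=
    Nat.Coprime.pow_left _ (Nat.coprime_two_left.2 ⟨m, rfl⟩)
  obtain ⟨k', hk'⟩ := h4.dvd_of_dvd_mul_right (Dvd.intro _ h3.symm)
  refine ⟨k', ?_, hk'⟩
  rw [hk', mul_assoc] at h3
  have h5 := Nat.eq_of_mul_eq_mul_left (by positivity) h3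
  rw [← h5, Nat.odd_mul] at hk
  exact hk.1

/-- `q ≡ 1 mod 4`. -/
theorem exists_gl {F : Type*} [Field F] [Fintype F] {e : L ≃* _root_.Matrix.SpecialLinearGroup (Fin 2) F}
    (h : WR S L e n u s) (hq : Fintype.card F % 4 = 1) :
    ∃ (k : ℕ) (φ : GL (Fin 2) F →* H1 L e), Odd k ∧ Fintype.card F - 1 = 2 ^ n * k ∧
      Function.Surjective φ ∧ φ.ker = Zsub F k := by
  rw [← Nat.card_eq_fintype_card] at hq ⊢
  obtain ⟨k, hk, hqk⟩ := two_part_sub h hq
  have hZn := normal_comap (MonoidHom.id (GL (Fin 2) F)) k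
  obtain ⟨ζ, e', -, hE⟩ := ext_gl h.base.two_ne h.coord.two_le hk (by
    rw [← Nat.card_eq_fintype_card, hqk])
  obtain ⟨φ, -, -⟩ := hE.exists_mulEquiv h.base.two_ne (exists_ext h)
  have hker : (φ.toMonoidHom.comp (QuotientGroup.mk' ((Zsub F k).comap
      (MonoidHom.id (GL (Fin 2) F))))).ker = Zsub F k := by
    ext g
    rw [MonoidHom.mem_ker, MonoidHom.comp_apply]
    change φ _ = 1 ↔ _
    rw [map_eq_one_iff _ φ.injective]
    exact QuotientGroup.eq_one_iff g
  exact ⟨k, φ.toMonoidHom.comp (QuotientGroup.mk' _), hk, hqk,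
    φ.surjective.comp (QuotientGroup.mk'_surjective _), hker⟩

/-- `q ≡ 3 mod 4`. -/
theorem exists_gu {F : Type*} [Field F] [Fintype F] {e : L ≃* _root_.Matrix.SpecialLinearGroup (Fin 2) F}
    (h : WR S L e n u s) (hq : Fintype.card F % 4 = 3) {F' : Type*} [Field F'] [Fintype F']
    (hF' : Fintype.card F' = Fintype.card F ^ 2) :
    ∃ (k : ℕ) (φ : Cfsg.GU 2 F' (Fintype.card F) →* H1 L e), Odd k ∧ Fintype.card F + 1 = 2 ^ n * k ∧
      Function.Surjective φ ∧ φ.ker = (Zsub F' k).subgroupOf (Cfsg.GU 2 F' (Fintype.card F)) := by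
  have hq' : Nat.card F % 4 = 3 := by rw [Nat.card_eq_fintype_card]; exact hq
  obtain ⟨k, hk, hqk⟩ := two_part_add h hq'
  rw [Nat.card_eq_fintype_card] at hqk
  have hqo : Odd (Fintype.card F) := by rw [Nat.odd_iff]; omega
  have hZn := normal_comap (Cfsg.GU 2 F' (Fintype.card F)).subtype k
  obtain ⟨j, ζ, y₀, e', -, -, -, -, hE⟩ := ext_gu (K := F) hF' rfl hqo h.coord.two_le hk hqk
  obtain ⟨φ, -, -⟩ := hE.exists_mulEquiv h.base.two_ne (exists_ext h)
  have hker : (φ.toMonoidHom.comp (QuotientGroup.mk' ((Zsub F' k).comap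
      (Cfsg.GU 2 F' (Fintype.card F)).subtype))).ker =
        (Zsub F' k).subgroupOf (Cfsg.GU 2 F' (Fintype.card F)) := by
    ext g
    rw [MonoidHom.mem_ker, MonoidHom.comp_apply]
    change φ _ = 1 ↔ _
    rw [map_eq_one_iff _ φ.injective]
    exact QuotientGroup.eq_one_iff g
  exact ⟨k, φ.toMonoidHom.comp (QuotientGroup.mk' _), hk, hqk,
    φ.surjective.comp (QuotientGroup.mk'_surjective _), hker⟩

/-- The wreathed case, as an isomorphism. -/
theorem exists_iso {F : Type*} [Field F] [Fintype F] {e : L ≃* _root_.Matrix.SpecialLinearGroup (Fin 2) F}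
    (h : WR S L e n u s) :
    (Fintype.card F % 4 = 1 ∧ ∃ (Z₀ : Subgroup (GL (Fin 2) F)) (_ : Z₀.Normal),
      Z₀ ≤ Subgroup.center (GL (Fin 2) F) ∧ Odd (Nat.card Z₀) ∧ Nonempty (H1 L e ≃* GL (Fin 2) F ⧸ Z₀)) ∨
    (Fintype.card F % 4 = 3 ∧ ∀ (F' : Type) (_ : Field F') (_ : Fintype F'),
      Fintype.card F' = Fintype.card F ^ 2 →
      ∃ (Z₀ : Subgroup (Cfsg.GU 2 F' (Fintype.card F))) (_ : Z₀.Normal),
      Z₀ ≤ Subgroup.center (Cfsg.GU 2 F' (Fintype.card F)) ∧ Odd (Nat.card Z₀) ∧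
      Nonempty (H1 L e ≃* Cfsg.GU 2 F' (Fintype.card F) ⧸ Z₀)) := by
  have hodd : Fintype.card F % 2 = 1 := by
    rw [← Nat.card_eq_fintype_card, ← Nat.odd_iff]; exact odd_card h
  rcases (by omega : Fintype.card F % 4 = 1 ∨ Fintype.card F % 4 = 3) with hq | hq
  · left
    obtain ⟨k, φ, hk, -, hφ, hker⟩ := exists_gl h hq
    refine ⟨hq, φ.ker, inferInstance, ?_, ?_, ⟨(QuotientGroup.quotientKerEquivOfSurjective φ hφ).symm⟩⟩
    · rw [hker]
      intro g hg
      obtain ⟨c, -, rfl⟩ := StructModel.mem_Zsub.1 hg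
      rw [Subgroup.mem_center_iff]
      exact fun g => (StructModel.dg_comm c g).symm
    · rw [hker]
      exact StructModel.odd_card_Zsub hk
  · right
    refine ⟨hq, fun F' _ _ hF' => ?_⟩
    obtain ⟨k, φ, hk, -, hφ, hker⟩ := exists_gu h hq hF'
    refine ⟨φ.ker, inferInstance, ?_, ?_, ⟨(QuotientGroup.quotientKerEquivOfSurjective φ hφ).symm⟩⟩
    · rw [hker]
      intro g hg
      rw [Subgroup.mem_subgroupOf] at hg
      obtain ⟨c, -, hc⟩ := StructModel.mem_Zsub.1 hg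
      rw [Subgroup.mem_center_iff]
      intro k
      apply Subtype.ext
      rw [Subgroup.coe_mul, Subgroup.coe_mul, hc, StructModel.dg_comm]
    · rw [hker]
      refine Odd.of_dvd_nat (StructModel.odd_card_Zsub (F := F') hk) ?_
      exact Subgroup.card_comap_dvd_of_injective _ _ (Subgroup.subtype_injective _)

end Cfsg.Agent.Classification.QDW.StructMainW
end

private theorem dce_33736656ac72 : _root_.True := by
  try have : _root_.True := by simp only [_root_.Cfsg.Agent.Classification.QDW.StructUniqW.gtr.eq_1]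
  exact _root_.True.intro
end

-- part: Classification/QDW/FieldRes_mg
section
prune_inst 0x10000000000040000000000804100040000000800808008000000200000000000008000000000000800000008100000000000000000000400000000000080000020000000000010000080400000000000000000000000000000000000000000000
set_option linter.all false
open scoped Cfsg.Agent.FastGrp

-- part: Classification/QDW/FieldRes
section
/-!
# Restriction of the structure of `H = C(t)/O(C(t))` to `H₁`

`H₁ = H1 L e`, `L₀ = L1 L e`, `e₀ = e1 L e`, `S₀` the Sylow subgroup `S` inside `H₁`.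

* `act_res`, `mem_H1_res`, `H1_res`: `H1 L₀ e₀ = ⊤`;
* `base_res`, `qd_res`, `wr_res`: `Base`, `QD`, `WR` for `H₁`.
-/

set_option autoImplicit false
set_option linter.unusedSectionVars false

namespace Cfsg.Agent.Classification.QDW.FieldRes

open Subgroup Matrix Cfsg.Agent.Lib.SL2Mat Cfsg.Agent.Lib.AutSL2 Cfsg.Agent.TwoFusion
  Cfsg.Agent.TwoFusion.NormalSL2 Cfsg.Agent.Classification.QDW.TypeHom
  Cfsg.Agent.Classification.QDW.StructQ Cfsg.Agent.Classification.QDW.StructMain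
  Cfsg.Agent.Classification.QDW.StructW

variable {H : Type*} [Group H] [Finite H] {S : Sylow 2 H} {L : Subgroup H} [hLn : L.Normal]
  {F : Type*} [Field F] [Finite F] {e : L ≃* _root_.Matrix.SpecialLinearGroup (Fin 2) F}

theorem act_res (c : H1 L e) : act (L1 L e) (e1 L e) c = act L e (c : H) := by
  apply MulEquiv.ext
  intro x
  obtain ⟨l, rfl⟩ := (e1 L e).surjective x
  rw [act_mk, e1_apply, e1_apply, act_mk]
  rfl

theorem mem_H1_res (c : H1 L e) : c ∈ H1 (L1 L e) (e1 L e) := by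
  rw [mem_H1, act_res]
  exact (mem_H1 _).1 c.2

theorem H1_res : H1 (L1 L e) (e1 L e) = ⊤ := eq_top_iff.2 fun c _ => mem_H1_res c

theorem z0_res : ((z0 (e1 L e) : H1 L e) : H) = z0 e := rfl

/-- The Sylow subgroup in `H₁`. -/
noncomputable def S1 (hS : (S : Subgroup H) ≤ H1 L e) : Sylow 2 (H1 L e) := S.subtype hS

theorem mem_S1 (hS : (S : Subgroup H) ≤ H1 L e) (x : H1 L e) : x ∈ S1 hS ↔ (x : H) ∈ S := Iff.rfl

theorem cent_iff (B : Base S L e) (c : H1 L e) :
    (∀ k : H1 L e, c * k = k * c) ↔ ∀ h : H, (c : H) * h = h * c := by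
  constructor
  · intro h
    apply B.cent
    intro l hl
    exact congrArg Subtype.val (h ⟨l, L_le_H1 hl⟩)
  · intro h k
    exact Subtype.ext (h k)

theorem base_res (B : Base S L e) (hS : (S : Subgroup H) ≤ H1 L e) :
    Base (S1 hS) (L1 L e) (e1 L e) where
  two_ne := B.two_ne
  normal := inferInstance
  cent := by
    intro c hc
    rw [cent_iff B]
    apply B.cent
    intro l hl
    exact congrArg Subtype.val (hc ⟨l, L_le_H1 hl⟩ (Subgroup.mem_subgroupOf.2 hl))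
  center_iff := by
    intro c
    rw [cent_iff B, B.center_iff, mem_S1]
    constructor
    · rintro ⟨h1, h2⟩
      exact ⟨h1, fun s hs => Subtype.ext (h2 s ((mem_S1 hS s).1 hs))⟩
    · rintro ⟨h1, h2⟩
      exact ⟨h1, fun s hs => congrArg Subtype.val (h2 ⟨s, hS hs⟩ ((mem_S1 hS _).2 hs))⟩

theorem card_S1 (hS : (S : Subgroup H) ≤ H1 L e) : Nat.card (S1 hS) = Nat.card S :=
  Nat.card_congr (Subgroup.subgroupOfEquivOfLe hS).toEquiv

theorem card_inf_res (hS : (S : Subgroup H) ≤ H1 L e) :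
    Nat.card ((S1 hS : Subgroup (H1 L e)) ⊓ L1 L e : Subgroup (H1 L e)) =
      Nat.card ((S : Subgroup H) ⊓ L : Subgroup H) := by
  have h1 : ((S1 hS : Subgroup (H1 L e)) ⊓ L1 L e : Subgroup (H1 L e)) =
      ((S : Subgroup H) ⊓ L : Subgroup H).subgroupOf (H1 L e) := rfl
  rw [h1]
  exact Nat.card_congr (Subgroup.subgroupOfEquivOfLe (inf_le_left.trans hS)).toEquiv

/-- The quasi-dihedral case. -/
theorem qd_res {y : H} (h : QD S L e y) :
    QD (S1 h.sylow_le) (L1 L e) (e1 L e) ⟨y, y_mem_H1 h⟩ where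
  base := base_res h.base h.sylow_le
  y_mem := h.y_mem
  y_not_mem := fun h1 => h.y_not_mem (Subgroup.mem_subgroupOf.1 h1)
  y_mul_y := Subtype.ext h.y_mul_y
  center := by
    intro c
    rw [cent_iff h.base, h.center]
    constructor
    · rintro (h1 | h1)
      · exact Or.inl (Subtype.ext h1)
      · exact Or.inr (Subtype.ext h1)
    · rintro (h1 | h1)
      · exact Or.inl (congrArg Subtype.val h1)
      · exact Or.inr (congrArg Subtype.val h1)
  act_y := by
    obtain ⟨g, hg, hs⟩ := h.act_y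
    exact ⟨g, by rw [act_res]; exact hg, hs⟩
  sylow_le := by rw [H1_res]; exact le_top
  cover := by
    intro c
    refine ⟨fun _ => ?_, fun _ => mem_H1_res c⟩
    exact (h.cover c).1 c.2
  card_S := by
    rw [card_S1, card_inf_res]
    exact h.card_S

/-- The wreathed case. -/
theorem wr_res {n : ℕ} {u : ZMod (2 ^ n) → ZMod (2 ^ n) → (S : Subgroup H)}
    {s : (S : Subgroup H)} (h : WR S L e n u s) :
    ∃ (u₁ : ZMod (2 ^ n) → ZMod (2 ^ n) → (S1 h.sylow_le : Subgroup (H1 L e)))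
      (s₁ : (S1 h.sylow_le : Subgroup (H1 L e))), WR (S1 h.sylow_le) (L1 L e) (e1 L e) n u₁ s₁ ∧
      (∀ a b, ((u₁ a b : H1 L e) : H) = u a b) ∧ ((s₁ : H1 L e) : H) = s := by
  let j : (S : Subgroup H) ≃* (S1 h.sylow_le : Subgroup (H1 L e)) :=
    (Subgroup.subgroupOfEquivOfLe h.sylow_le).symm
  have hj : ∀ x, ((j x : H1 L e) : H) = x := fun x => rfl
  refine ⟨fun a b => j (u a b), j s, ?_, fun a b => rfl, rfl⟩
  exact
    { base := base_res h.base h.sylow_le
      coord :=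
        { two_le := h.coord.two_le
          card := by rw [← h.coord.card]; exact Nat.card_congr j.symm.toEquiv
          u_zero := by rw [h.coord.u_zero, map_one]
          u_mul := fun a b c d => by rw [← map_mul, h.coord.u_mul]
          u_inj := fun a b c d h1 => h.coord.u_inj a b c d (j.injective h1)
          z_u := fun a b => by rw [← map_mul, h.coord.z_u, map_mul]
          z_z := by rw [← map_mul, h.coord.z_z, map_one]
          u_ne := fun a b c d h1 => by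
            rw [← map_mul] at h1
            exact h.coord.u_ne a b c d (j.injective h1)
          cases := fun x => by
            rcases h.coord.cases (j.symm x) with ⟨a, b, h1⟩ | ⟨a, b, h1⟩
            · exact Or.inl ⟨a, b, by rw [← h1, j.apply_symm_apply]⟩
            · exact Or.inr ⟨a, b, by rw [← map_mul, ← h1, j.apply_symm_apply]⟩ }
      u_mem := h.u_mem
      us_mem := h.us_mem
      center := by
        intro c
        rw [cent_iff h.base, h.center]
        constructor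
        · rintro ⟨a, h1⟩
          exact ⟨a, Subtype.ext h1⟩
        · rintro ⟨a, h1⟩
          exact ⟨a, congrArg Subtype.val h1⟩
      act_y := by
        obtain ⟨g, hg, hs⟩ := h.act_y
        exact ⟨g, by rw [act_res]; exact hg, hs⟩
      sylow_le := by rw [H1_res]; exact le_top
      cover := by
        intro c
        refine ⟨fun _ => ?_, fun _ => mem_H1_res c⟩
        obtain ⟨l, hl, a, h1⟩ := (h.cover c).1 c.2
        refine ⟨⟨l, L_le_H1 hl⟩, Subgroup.mem_subgroupOf.2 hl, a, ?_⟩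
        rcases h1 with h1 | h1
        · exact Or.inl (Subtype.ext h1)
        · exact Or.inr (Subtype.ext h1)
      card_inf := by rw [card_inf_res]; exact h.card_inf }

end Cfsg.Agent.Classification.QDW.FieldRes
end

-- part: Classification/QDW/FuDich
section
/-!
# The dichotomy (0) of the field case

`W` acts on three cyclic groups `T_0, T_1, T_2` (permuted by `S₃`) through `ρ i : W →* (ZMod m)ˣ`.
Either `ρ 0 = ρ 1 = ρ 2` (case `S`), or the Sylow `r`-subgroup `P` of `W` maps onto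
`T_{0,r} × T_{1,r} × T_{2,r}` (case `U`).
-/

set_option autoImplicit false

namespace Cfsg.Agent.Classification.QDW.FuDich

/-- Three characters permuted by `S₃`: all equal, or a `w` with values `(1, d, d⁻¹)`, `d ≠ 1`. -/
theorem exists_split {W E : Type*} [Group W] [CommGroup E] (ρ : Fin 3 → W →* E) (s h : W → W)
    (h1 : ∀ i w, ρ (i + 1) (h w) = ρ i w) (hinv : ∀ w, ∃ w', h w' = w)
    (s0 : ∀ w, ρ 0 (s w) = ρ 0 w) (s1 : ∀ w, ρ 1 (s w) = ρ 2 w) (s2 : ∀ w, ρ 2 (s w) = ρ 1 w) :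
    (∀ i j, ρ i = ρ j) ∨ ∃ w, ρ 0 w = 1 ∧ ρ 1 w * ρ 2 w = 1 ∧ ρ 1 w ≠ 1 := by
  by_cases h12 : ρ 1 = ρ 2
  · left
    -- all equal
    have h20 : ρ 2 = ρ 0 := by
      ext w
      obtain ⟨w', rfl⟩ := hinv w
      have e1 : ρ 2 (h w') = ρ 1 w' := h1 1 w'
      have e2 : ρ 0 (h w') = ρ 2 w' := h1 2 w'
      rw [e1, e2, h12]
    intro i j
    have key : ∀ k, ρ k = ρ 0 := by
      intro k
      fin_cases k
      · rfl
      · exact h12.trans h20
      · exact h20
    rw [key i, key j]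
  · right
    obtain ⟨w0, hw0⟩ : ∃ w0, ρ 1 w0 ≠ ρ 2 w0 := by
      by_contra hcon
      push Not at hcon
      exact h12 (MonoidHom.ext hcon)
    refine ⟨w0⁻¹ * s w0, ?_, ?_, ?_⟩
    · rw [map_mul, map_inv, s0, inv_mul_cancel]
    · rw [map_mul, map_mul, map_inv, map_inv, s1, s2]
      calc (ρ 1 w0)⁻¹ * ρ 2 w0 * ((ρ 2 w0)⁻¹ * ρ 1 w0) = (ρ 1 w0)⁻¹ * ρ 1 w0 := by group
        _ = 1 := inv_mul_cancel _
    · rw [map_mul, map_inv, s1]
      intro hcon
      exact hw0 (inv_mul_eq_one.1 hcon)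

/-- An element acting with three different powers splits off the middle factor. -/
theorem exists_middle {P T : Type*} [Group P] [Group T] (φ : Fin 3 → P →* T)
    (Tr : Subgroup T) (hTr : ∀ y ∈ Tr, ∃ x, φ 1 x = y) (α : P → P) (k : Fin 3 → ℤ)
    (hα : ∀ i x, φ i (α x) = φ i x ^ k i) (h0 : ∀ x, φ 0 x ^ k 0 = φ 0 x)
    (hpow : ∀ y ∈ Tr, ∃ z ∈ Tr, z ^ ((k 1 - 1) * (k 1 - k 2)) = y) (y : T) (hy : y ∈ Tr) :
    ∃ x, φ 0 x = 1 ∧ φ 1 x = y ∧ φ 2 x = 1 := by
  obtain ⟨z, hz, rfl⟩ := hpow y hy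
  obtain ⟨x, rfl⟩ := hTr z hz
  -- first commutator
  obtain ⟨δ, hδ⟩ : ∃ δ : P, δ = α x * x⁻¹ := ⟨_, rfl⟩
  have d0 : φ 0 δ = 1 := by
    rw [hδ, map_mul, map_inv, hα, h0, mul_inv_cancel]
  have d1 : φ 1 δ = φ 1 x ^ (k 1 - 1) := by
    rw [hδ, map_mul, map_inv, hα, zpow_sub, zpow_one]
  refine ⟨α δ * (δ ^ k 2)⁻¹, ?_, ?_, ?_⟩
  · rw [map_mul, map_inv, map_zpow, hα, h0, d0, one_zpow, inv_one, one_mul]
  · rw [map_mul, map_inv, map_zpow, hα, d1, ← zpow_sub, ← zpow_mul]
  · rw [map_mul, map_inv, map_zpow, hα, mul_inv_cancel]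

/-- `z ↦ z ^ e` is onto on a finite group of order prime to `e`. -/
theorem exists_zpow_eq {T : Type*} [Group T] (Tr : Subgroup T) [Finite Tr] {e : ℤ}
    (he : IsCoprime e (Nat.card Tr)) (y : T) (hy : y ∈ Tr) : ∃ z ∈ Tr, z ^ e = y := by
  obtain ⟨a, b, hab⟩ := he
  refine ⟨y ^ a, Tr.zpow_mem hy a, ?_⟩
  have hcard : y ^ ((Nat.card Tr : ℕ) : ℤ) = 1 := by
    rw [zpow_natCast]
    have := pow_card_eq_one' (x := (⟨y, hy⟩ : Tr))
    exact congrArg Subtype.val this
  calc (y ^ a) ^ e = y ^ (a * e) := (zpow_mul y a e).symm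
    _ = y ^ (a * e + b * (Nat.card Tr : ℕ)) := by
        rw [zpow_add, mul_comm b, zpow_mul y _ b, hcard, one_zpow, mul_one]
    _ = y := by rw [hab, zpow_one]

end Cfsg.Agent.Classification.QDW.FuDich
end

-- part: Classification/QDW/TorusG
section
/-!
# Tori of `SL(2,F)`

`g : GL(2,F)` of trace zero, `TG g` the subgroup of `SL(2,F)` commuting with `g`.

* `exists_eig`: an injective homomorphism `χ : TG g →* Ωˣ` with `tr x = χ x + (χ x)⁻¹`;
* `isCyclic_TG`; `eq_or_eq_inv`: two elements of `TG g` with the same trace are equal or inverse;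
* `tr_pow`: `tr (x ^ p ^ i) = tr x ^ p ^ i`;
* `card_TG`: `|TG g| = q - 1` if `-det g` is a square, `q + 1` otherwise.
-/

set_option autoImplicit false
set_option linter.unusedSectionVars false

namespace Cfsg.Agent.Classification.QDW.TorusG

open Subgroup Matrix Cfsg.Agent.Lib.SL2Mat Cfsg.Agent.Classification.QDW.TypeHom

variable {F : Type*} [Field F]

/-- The elements of `SL(2,F)` commuting with `g`. -/
def TG (g : GL (Fin 2) F) : Subgroup (_root_.Matrix.SpecialLinearGroup (Fin 2) F) where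
  carrier := {x | conjGL g x = x}
  one_mem' := map_one _
  mul_mem' := by
    intro a b ha hb
    change conjGL g (a * b) = a * b
    rw [map_mul, show conjGL g a = a from ha, show conjGL g b = b from hb]
  inv_mem' := by
    intro a ha
    change conjGL g a⁻¹ = a⁻¹
    rw [map_inv, show conjGL g a = a from ha]

theorem mem_TG (g : GL (Fin 2) F) (x : _root_.Matrix.SpecialLinearGroup (Fin 2) F) : x ∈ TG g ↔ conjGL g x = x :=
  Iff.rfl

theorem mem_TG_iff (g : GL (Fin 2) F) (x : _root_.Matrix.SpecialLinearGroup (Fin 2) F) :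
    x ∈ TG g ↔ g.1 * x.1 = x.1 * g.1 := by
  constructor
  · intro h
    have h : (conjGL g x).1 = x.1 := congrArg Subtype.val ((mem_TG g x).1 h)
    rw [conjGL_val] at h
    calc g.1 * x.1 = g.1 * x.1 * (g⁻¹.1 * g.1) := by
          rw [← Units.val_mul, inv_mul_cancel, Units.val_one, mul_one]
      _ = (g.1 * x.1 * g⁻¹.1) * g.1 := by rw [mul_assoc, mul_assoc, mul_assoc]
      _ = x.1 * g.1 := by rw [h]
  · intro h
    refine (mem_TG g x).2 (Subtype.ext ?_)
    rw [conjGL_val, h, mul_assoc, ← Units.val_mul, mul_inv_cancel, Units.val_one, mul_one]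

/-- The coefficients: `x = A x + B x * g`. -/
noncomputable def A (x : _root_.Matrix.SpecialLinearGroup (Fin 2) F) : F := tr x / 2

/-- The coefficients: `x = A x + B x * g`. -/
noncomputable def B (g : GL (Fin 2) F) (x : _root_.Matrix.SpecialLinearGroup (Fin 2) F) : F :=
  (x.1 * g.1).trace / (-2 * g.1.det)

theorem det_ne (g : GL (Fin 2) F) : g.1.det ≠ 0 := by
  have h := g.2
  intro h0
  have h1 : g.1.det * (g⁻¹).1.det = 1 := by
    rw [← det_mul, ← Units.val_mul, mul_inv_cancel, Units.val_one, det_one]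
  rw [h0, zero_mul] at h1
  exact zero_ne_one h1

theorem entries {g : GL (Fin 2) F} {x : _root_.Matrix.SpecialLinearGroup (Fin 2) F} (h : x ∈ TG g)
    (ht : g.1 0 0 + g.1 1 1 = 0) :
    x.1 0 1 * g.1 1 0 = g.1 0 1 * x.1 1 0 ∧ g.1 0 1 * (x.1 0 0 - x.1 1 1) = 2 * g.1 0 0 * x.1 0 1 ∧
      g.1 1 0 * (x.1 0 0 - x.1 1 1) = 2 * g.1 0 0 * x.1 1 0 := by
  rw [mem_TG_iff] at h
  have h00 := congrFun (congrFun h 0) 0
  have h01 := congrFun (congrFun h 0) 1
  have h10 := congrFun (congrFun h 1) 0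
  simp only [Matrix.mul_apply, Fin.sum_univ_two] at h00 h01 h10
  refine ⟨?_, ?_, ?_⟩
  · linear_combination -h00
  · linear_combination -h01 - x.1 0 1 * ht
  · linear_combination h10 - x.1 1 0 * ht

theorem decomp (h2 : (2 : F) ≠ 0) {g : GL (Fin 2) F} {x : _root_.Matrix.SpecialLinearGroup (Fin 2) F}
    (h : x ∈ TG g) (ht : g.1 0 0 + g.1 1 1 = 0) : x.1 = A x • (1 : Matrix (Fin 2) (Fin 2) F) + B g x • g.1 := by
  obtain ⟨h1, h3, h4⟩ := entries h ht
  have hd := det_ne g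
  have hD : g.1.det = g.1 0 0 * g.1 1 1 - g.1 0 1 * g.1 1 0 := det_fin_two _
  have htr : (x.1 * g.1).trace = x.1 0 0 * g.1 0 0 + x.1 0 1 * g.1 1 0 + (x.1 1 0 * g.1 0 1 + x.1 1 1 * g.1 1 1) := by
    rw [Matrix.trace_fin_two, Matrix.mul_apply, Matrix.mul_apply, Fin.sum_univ_two, Fin.sum_univ_two]
  have hB : B g x * (2 * g.1.det) = - (x.1 * g.1).trace := by
    unfold B
    field_simp
  have hA : 2 * A x = x.1 0 0 + x.1 1 1 := by
    unfold A tr
    field_simp
  have hg : g.1 1 1 = - g.1 0 0 := by linear_combination ht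
  rw [htr] at hB
  rw [hD, hg] at hB hd
  set D : F := g.1 0 0 * -g.1 0 0 - g.1 0 1 * g.1 1 0 with hDdef
  have h2D : 2 * D ≠ 0 := mul_ne_zero h2 hd
  ext i j
  fin_cases i <;> fin_cases j
  all_goals
    simp only [Matrix.add_apply, Matrix.smul_apply, smul_eq_mul, Fin.zero_eta, Fin.mk_one,
      Matrix.one_apply_eq, mul_one]
    apply mul_left_cancel₀ h2D
  · rw [hDdef] at hB ⊢
    linear_combination -(g.1 0 0 * -g.1 0 0 - g.1 0 1 * g.1 1 0) * hA - g.1 0 0 * hB - g.1 1 0 * h3 -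
      g.1 0 0 * h1
  · rw [hDdef] at hB ⊢
    simp only [ne_eq, Fin.reduceEq, not_false_eq_true, Matrix.one_apply_ne, mul_zero, zero_add]
    linear_combination -g.1 0 1 * hB + g.1 0 0 * h3 - g.1 0 1 * h1
  · rw [hDdef] at hB ⊢
    simp only [ne_eq, Fin.reduceEq, not_false_eq_true, Matrix.one_apply_ne, mul_zero, zero_add]
    linear_combination -g.1 1 0 * hB + g.1 0 0 * h4 + g.1 1 0 * h1
  · rw [hDdef] at hB ⊢
    rw [hg]
    linear_combination -(g.1 0 0 * -g.1 0 0 - g.1 0 1 * g.1 1 0) * hA + g.1 0 0 * hB + g.1 1 0 * h3 +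
      g.1 0 0 * h1

theorem g_sq {g : GL (Fin 2) F} (ht : g.1 0 0 + g.1 1 1 = 0) :
    g.1 * g.1 = (-g.1.det) • (1 : Matrix (Fin 2) (Fin 2) F) := by
  have hD : g.1.det = g.1 0 0 * g.1 1 1 - g.1 0 1 * g.1 1 0 := det_fin_two _
  rw [hD]
  ext i j
  fin_cases i <;> fin_cases j
  all_goals
    simp only [Matrix.mul_apply, Fin.sum_univ_two, Matrix.smul_apply, smul_eq_mul, Fin.zero_eta, Fin.mk_one,
      Matrix.one_apply_eq, mul_one, ne_eq, Fin.reduceEq, not_false_eq_true, Matrix.one_apply_ne, mul_zero]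
  · linear_combination g.1 0 0 * ht
  · linear_combination g.1 0 1 * ht
  · linear_combination g.1 1 0 * ht
  · linear_combination g.1 1 1 * ht

theorem A_mul (h2 : (2 : F) ≠ 0) {g : GL (Fin 2) F} {x y : _root_.Matrix.SpecialLinearGroup (Fin 2) F}
    (hx : x ∈ TG g) (hy : y ∈ TG g) (ht : g.1 0 0 + g.1 1 1 = 0) :
    A (x * y) = A x * A y - g.1.det * (B g x * B g y) := by
  have h := congrArg Matrix.trace (congrArg₂ (· * ·) (decomp h2 hx ht) (decomp h2 hy ht))
  have htr : g.1.trace = 0 := by rw [Matrix.trace_fin_two]; exact ht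
  simp only [Matrix.add_mul, Matrix.mul_add, Matrix.smul_mul, Matrix.mul_smul, one_mul, mul_one, g_sq ht,
    Matrix.trace_add, Matrix.trace_smul, htr, Matrix.trace_one, Fintype.card_fin, smul_eq_mul] at h
  rw [← val_mul, ← tr_eq] at h
  unfold A at h ⊢
  apply mul_left_cancel₀ h2
  rw [mul_div_cancel₀ _ h2, h]
  push_cast
  ring

theorem B_mul (h2 : (2 : F) ≠ 0) {g : GL (Fin 2) F} {x y : _root_.Matrix.SpecialLinearGroup (Fin 2) F}
    (hx : x ∈ TG g) (hy : y ∈ TG g) (ht : g.1 0 0 + g.1 1 1 = 0) :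
    B g (x * y) = A x * B g y + B g x * A y := by
  have hd := det_ne g
  have h := congrArg (fun M => (M * g.1).trace)
    (congrArg₂ (· * ·) (decomp h2 hx ht) (decomp h2 hy ht))
  have htr : g.1.trace = 0 := by rw [Matrix.trace_fin_two]; exact ht
  simp only [Matrix.add_mul, Matrix.mul_add, Matrix.smul_mul, Matrix.mul_smul, one_mul, mul_one, g_sq ht,
    Matrix.trace_add, Matrix.trace_smul, htr, Matrix.trace_one, Fintype.card_fin, smul_eq_mul] at h
  rw [← val_mul] at h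
  have h3 : (-2 * g.1.det) ≠ 0 := mul_ne_zero (neg_ne_zero.2 h2) hd
  have h4 : B g (x * y) * (-2 * g.1.det) = ((x * y).1 * g.1).trace := by
    unfold B
    rw [div_mul_cancel₀ _ h3]
  apply mul_right_cancel₀ h3
  rw [h4, h]
  push_cast
  ring

theorem A_one (h2 : (2 : F) ≠ 0) : A (1 : _root_.Matrix.SpecialLinearGroup (Fin 2) F) = 1 := by
  unfold A
  rw [tr_eq, val_one, Matrix.trace_one, Fintype.card_fin]
  push_cast
  exact div_self h2

theorem B_one {g : GL (Fin 2) F} (ht : g.1 0 0 + g.1 1 1 = 0) :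
    B g (1 : _root_.Matrix.SpecialLinearGroup (Fin 2) F) = 0 := by
  unfold B
  rw [val_one, one_mul, Matrix.trace_fin_two, ht, zero_div]

theorem norm_eq (h2 : (2 : F) ≠ 0) {g : GL (Fin 2) F} {x : _root_.Matrix.SpecialLinearGroup (Fin 2) F}
    (hx : x ∈ TG g) (ht : g.1 0 0 + g.1 1 1 = 0) : A x * A x + g.1.det * (B g x * B g x) = 1 := by
  have hD : g.1.det = g.1 0 0 * g.1 1 1 - g.1 0 1 * g.1 1 0 := det_fin_two _
  have h1 := x.2
  rw [decomp h2 hx ht, det_fin_two] at h1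
  simp only [Matrix.add_apply, Matrix.smul_apply, smul_eq_mul, Matrix.one_apply_eq, mul_one, ne_eq,
    not_false_eq_true, Matrix.one_apply_ne, mul_zero, zero_add, one_ne_zero, zero_ne_one] at h1
  rw [← h1, hD]
  linear_combination -(A x * B g x) * ht

/-- The eigenvalue homomorphism. -/
theorem exists_eig (h2 : (2 : F) ≠ 0) {g : GL (Fin 2) F} (ht : g.1 0 0 + g.1 1 1 = 0) :
    ∃ χ : TG g →* (AlgebraicClosure F)ˣ, Function.Injective χ ∧ ∀ x : TG g,
      algebraMap F (AlgebraicClosure F) (tr x.1) = (χ x : AlgebraicClosure F) + ((χ x)⁻¹ : (AlgebraicClosure F)ˣ) := by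
  set ι := algebraMap F (AlgebraicClosure F) with hι
  have hd := det_ne g
  obtain ⟨θ, hθ⟩ := IsAlgClosed.exists_pow_nat_eq (ι (-g.1.det)) (n := 2) (by norm_num)
  have hθ0 : θ ≠ 0 := by
    rintro rfl
    rw [zero_pow (by norm_num)] at hθ
    exact neg_ne_zero.2 hd ((map_eq_zero ι).1 hθ.symm)
  have h2' : (2 : AlgebraicClosure F) ≠ 0 := by
    intro h
    apply h2
    apply (map_eq_zero ι).1
    rw [map_ofNat]
    exact h
  have hn : ∀ x ∈ TG g, (ι (A x) + ι (B g x) * θ) * (ι (A x) - ι (B g x) * θ) = 1 := by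
    intro x hx
    have h1 := congrArg ι (norm_eq h2 hx ht)
    rw [map_add, map_mul, map_mul, map_mul, map_one] at h1
    rw [map_neg] at hθ
    rw [← h1]
    linear_combination -(ι (B g x)) * (ι (B g x)) * hθ
  have hn' : ∀ x ∈ TG g, (ι (A x) - ι (B g x) * θ) * (ι (A x) + ι (B g x) * θ) = 1 := by
    intro x hx
    rw [mul_comm, hn x hx]
  let χ : TG g →* (AlgebraicClosure F)ˣ :=
    { toFun := fun x => ⟨ι (A x.1) + ι (B g x.1) * θ, ι (A x.1) - ι (B g x.1) * θ, hn x.1 x.2, hn' x.1 x.2⟩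
      map_one' := by
        apply Units.ext
        change ι (A 1) + ι (B g 1) * θ = 1
        rw [A_one h2, B_one ht, map_one, map_zero, zero_mul, add_zero]
      map_mul' := by
        intro x y
        apply Units.ext
        change ι (A (x.1 * y.1)) + ι (B g (x.1 * y.1)) * θ =
          (ι (A x.1) + ι (B g x.1) * θ) * (ι (A y.1) + ι (B g y.1) * θ)
        rw [A_mul h2 x.2 y.2 ht, B_mul h2 x.2 y.2 ht, map_add, map_sub, map_mul, map_mul, map_mul, map_mul,
          map_mul]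
        rw [map_neg] at hθ
        linear_combination -(ι (B g x.1)) * (ι (B g y.1)) * hθ }
  have hχ : ∀ x, (χ x : AlgebraicClosure F) = ι (A x.1) + ι (B g x.1) * θ := fun _ => rfl
  have hχi : ∀ x, (((χ x)⁻¹ : (AlgebraicClosure F)ˣ) : AlgebraicClosure F) =
      ι (A x.1) - ι (B g x.1) * θ := fun _ => rfl
  refine ⟨χ, ?_, ?_⟩
  · intro x y hxy
    have h1 := congrArg (fun u : (AlgebraicClosure F)ˣ => (u : AlgebraicClosure F)) hxy
    have h3 := congrArg (fun u : (AlgebraicClosure F)ˣ => ((u⁻¹ : (AlgebraicClosure F)ˣ) : AlgebraicClosure F)) hxy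
    simp only [hχ, hχi] at h1 h3
    have hA : A x.1 = A y.1 := by
      apply (algebraMap F (AlgebraicClosure F)).injective
      apply mul_left_cancel₀ h2'
      linear_combination h1 + h3
    have hB : B g x.1 = B g y.1 := by
      apply (algebraMap F (AlgebraicClosure F)).injective
      apply mul_left_cancel₀ (mul_ne_zero h2' hθ0)
      linear_combination h1 - h3
    apply Subtype.ext
    apply Subtype.ext
    rw [decomp h2 x.2 ht, decomp h2 y.2 ht, hA, hB]
  · intro x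
    rw [hχ, hχi]
    have h1 : tr x.1 = A x.1 + A x.1 := by
      unfold A
      field_simp
      ring
    rw [h1, map_add]
    ring

theorem isCyclic_TG [Finite F] (h2 : (2 : F) ≠ 0) {g : GL (Fin 2) F} (ht : g.1 0 0 + g.1 1 1 = 0) :
    IsCyclic (TG g) := by
  obtain ⟨χ, hχ, -⟩ := exists_eig h2 ht
  exact isCyclic_of_injective_ringHom ((Units.coeHom _).comp χ) (Units.val_injective.comp hχ)

theorem eq_or_eq_inv (h2 : (2 : F) ≠ 0) {g : GL (Fin 2) F} (ht : g.1 0 0 + g.1 1 1 = 0)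
    {x y : _root_.Matrix.SpecialLinearGroup (Fin 2) F} (hx : x ∈ TG g) (hy : y ∈ TG g) (h : tr x = tr y) :
    x = y ∨ x = y⁻¹ := by
  obtain ⟨χ, hχ, hχ2⟩ := exists_eig h2 ht
  have h1 := hχ2 ⟨x, hx⟩
  have h3 := hχ2 ⟨y, hy⟩
  rw [show tr (⟨x, hx⟩ : TG g).1 = tr (⟨y, hy⟩ : TG g).1 from h, h3] at h1
  set a := χ ⟨x, hx⟩
  set b := χ ⟨y, hy⟩
  have h4 : ((b : AlgebraicClosure F) - a) * (1 - (a⁻¹ : (AlgebraicClosure F)ˣ) * (b⁻¹ : (AlgebraicClosure F)ˣ)) = 0 := by
    have ha : (a : AlgebraicClosure F) * (a⁻¹ : (AlgebraicClosure F)ˣ) = 1 := by rw [← Units.val_mul, mul_inv_cancel, Units.val_one]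
    have hb : (b : AlgebraicClosure F) * (b⁻¹ : (AlgebraicClosure F)ˣ) = 1 := by rw [← Units.val_mul, mul_inv_cancel, Units.val_one]
    linear_combination h1 + ((b⁻¹ : (AlgebraicClosure F)ˣ) : AlgebraicClosure F) * ha -
      ((a⁻¹ : (AlgebraicClosure F)ˣ) : AlgebraicClosure F) * hb
  rcases mul_eq_zero.1 h4 with h5 | h5
  · left
    have h6 : a = b := Units.ext (sub_eq_zero.1 h5).symm
    exact congrArg Subtype.val (hχ h6)
  · right
    have h6 : a = b⁻¹ := by
      apply inv_injective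
      rw [inv_inv]
      apply eq_of_mul_inv_eq_one
      apply Units.ext
      rw [Units.val_mul, Units.val_one]
      exact (sub_eq_zero.1 h5).symm
    rw [← map_inv] at h6
    exact congrArg Subtype.val (hχ h6)

theorem tr_pow (h2 : (2 : F) ≠ 0) {g : GL (Fin 2) F} (ht : g.1 0 0 + g.1 1 1 = 0) {p : ℕ} [Fact p.Prime]
    [CharP F p] {x : _root_.Matrix.SpecialLinearGroup (Fin 2) F} (hx : x ∈ TG g) (i : ℕ) :
    tr (x ^ p ^ i) = tr x ^ p ^ i := by
  have : CharP (AlgebraicClosure F) p := charP_of_injective_algebraMap (algebraMap F _).injective p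
  obtain ⟨χ, hχ, hχ2⟩ := exists_eig h2 ht
  apply (algebraMap F (AlgebraicClosure F)).injective
  rw [map_pow]
  have h1 := hχ2 ⟨x, hx⟩
  have h3 := hχ2 (⟨x, hx⟩ ^ p ^ i)
  rw [map_pow, ← inv_pow, Units.val_pow_eq_pow_val, Units.val_pow_eq_pow_val, ← add_pow_char_pow] at h3
  rw [show tr (⟨x, hx⟩ : TG g).1 = tr x from rfl] at h1
  rw [← h1] at h3
  exact h3

/-- The torus as a conic. -/
noncomputable def conicEquiv (h2 : (2 : F) ≠ 0) {g : GL (Fin 2) F} (ht : g.1 0 0 + g.1 1 1 = 0) :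
    TG g ≃ {z : F × F // z.1 * z.1 + g.1.det * (z.2 * z.2) = 1} where
  toFun x := ⟨(A x.1, B g x.1), norm_eq h2 x.2 ht⟩
  invFun z := ⟨⟨z.1.1 • (1 : Matrix (Fin 2) (Fin 2) F) + z.1.2 • g.1, by
    have hD : g.1.det = g.1 0 0 * g.1 1 1 - g.1 0 1 * g.1 1 0 := det_fin_two _
    have h := z.2
    rw [det_fin_two]
    simp only [Matrix.add_apply, Matrix.smul_apply, smul_eq_mul, Matrix.one_apply_eq, mul_one, ne_eq,
      not_false_eq_true, Matrix.one_apply_ne, mul_zero, zero_add, one_ne_zero, zero_ne_one]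
    linear_combination h + z.1.1 * z.1.2 * ht - z.1.2 * z.1.2 * hD⟩, by
    refine (mem_TG_iff _ _).2 ?_
    change g.1 * (z.1.1 • (1 : Matrix (Fin 2) (Fin 2) F) + z.1.2 • g.1) =
      (z.1.1 • (1 : Matrix (Fin 2) (Fin 2) F) + z.1.2 • g.1) * g.1
    rw [mul_add, add_mul, Matrix.mul_smul, Matrix.mul_smul, Matrix.smul_mul, Matrix.smul_mul, mul_one,
      one_mul]⟩
  left_inv x := by
    apply Subtype.ext
    apply Subtype.ext
    exact (decomp h2 x.2 ht).symm
  right_inv z := by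
    apply Subtype.ext
    have hd := det_ne g
    have htr : g.1.trace = 0 := by rw [Matrix.trace_fin_two]; exact ht
    refine Prod.ext ?_ ?_
    · change A _ = z.1.1
      unfold A
      rw [tr_eq]
      change (z.1.1 • (1 : Matrix (Fin 2) (Fin 2) F) + z.1.2 • g.1).trace / 2 = z.1.1
      rw [Matrix.trace_add, Matrix.trace_smul, Matrix.trace_smul, htr, Matrix.trace_one, Fintype.card_fin,
        smul_zero, add_zero, smul_eq_mul]
      push_cast
      exact mul_div_cancel_right₀ _ h2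
    · change B g _ = z.1.2
      unfold B
      change ((z.1.1 • (1 : Matrix (Fin 2) (Fin 2) F) + z.1.2 • g.1) * g.1).trace / (-2 * g.1.det) = z.1.2
      rw [add_mul, Matrix.smul_mul, Matrix.smul_mul, one_mul, g_sq ht, Matrix.trace_add, Matrix.trace_smul,
        Matrix.trace_smul, Matrix.trace_smul, htr, Matrix.trace_one, Fintype.card_fin, smul_zero, zero_add,
        smul_eq_mul, smul_eq_mul]
      push_cast
      rw [div_eq_iff (mul_ne_zero (neg_ne_zero.2 h2) hd)]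
      ring

theorem card_TG_of_square [Finite F] (h2 : (2 : F) ≠ 0) {g : GL (Fin 2) F}
    (ht : g.1 0 0 + g.1 1 1 = 0) (hs : IsSquare (-g.1.det)) : Nat.card (TG g) = Nat.card F - 1 := by
  have hd := det_ne g
  obtain ⟨s, hs⟩ := hs
  have hs0 : s ≠ 0 := by
    rintro rfl
    rw [mul_zero] at hs
    exact neg_ne_zero.2 hd hs
  rw [Nat.card_congr (conicEquiv h2 ht), ← Nat.card_units]
  have h2s : 2 * s ≠ 0 := mul_ne_zero h2 hs0
  have hdet : g.1.det = - (s * s) := by rw [← hs, neg_neg]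
  have hu : ∀ u : Fˣ, (u : F) * (u⁻¹ : Fˣ) = 1 := by
    intro u; rw [← Units.val_mul, mul_inv_cancel, Units.val_one]
  have h1 : ∀ u : Fˣ, ((u : F) + (u⁻¹ : Fˣ)) / 2 * (((u : F) + (u⁻¹ : Fˣ)) / 2) + g.1.det *
      (((u : F) - (u⁻¹ : Fˣ)) / (2 * s) * (((u : F) - (u⁻¹ : Fˣ)) / (2 * s))) = 1 := by
    intro u
    have h3 : ((u : F) + (u⁻¹ : Fˣ)) / 2 * (((u : F) + (u⁻¹ : Fˣ)) / 2) + -(s * s) *
      (((u : F) - (u⁻¹ : Fˣ)) / (2 * s) * (((u : F) - (u⁻¹ : Fˣ)) / (2 * s))) = (u : F) * (u⁻¹ : Fˣ) := by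
      field_simp
      ring
    rw [hdet, h3, hu]
  have h3 : ∀ z : {z : F × F // z.1 * z.1 + g.1.det * (z.2 * z.2) = 1},
      (z.1.1 + s * z.1.2) * (z.1.1 - s * z.1.2) = 1 := by
    intro z
    have h := z.2
    linear_combination h - z.1.2 * z.1.2 * hdet
  have h4 : ∀ z : {z : F × F // z.1 * z.1 + g.1.det * (z.2 * z.2) = 1},
      (z.1.1 - s * z.1.2) * (z.1.1 + s * z.1.2) = 1 := by
    intro z
    rw [mul_comm, h3]
  refine (Nat.card_congr (
    { toFun := fun u : Fˣ => ⟨(((u : F) + (u⁻¹ : Fˣ)) / 2, ((u : F) - (u⁻¹ : Fˣ)) / (2 * s)), h1 u⟩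
      invFun := fun z => ⟨z.1.1 + s * z.1.2, z.1.1 - s * z.1.2, h3 z, h4 z⟩
      left_inv := ?_
      right_inv := ?_ } : Fˣ ≃ {z : F × F // z.1 * z.1 + g.1.det * (z.2 * z.2) = 1})).symm
  · intro u
    apply Units.ext
    change ((u : F) + (u⁻¹ : Fˣ)) / 2 + s * (((u : F) - (u⁻¹ : Fˣ)) / (2 * s)) = u
    field_simp
    ring
  · intro z
    apply Subtype.ext
    refine Prod.ext ?_ ?_
    · change ((z.1.1 + s * z.1.2) + (z.1.1 - s * z.1.2)) / 2 = z.1.1
      field_simp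
      ring
    · change ((z.1.1 + s * z.1.2) - (z.1.1 - s * z.1.2)) / (2 * s) = z.1.2
      field_simp
      ring

theorem card_TG_of_not_square [Finite F] (h2 : (2 : F) ≠ 0) {g : GL (Fin 2) F}
    (ht : g.1 0 0 + g.1 1 1 = 0) (hs : ¬ IsSquare (-g.1.det)) : Nat.card (TG g) = Nat.card F + 1 := by
  classical
  let _ := Fintype.ofFinite F
  rw [Nat.card_congr (conicEquiv h2 ht), Nat.card_eq_fintype_card (α := F),
    ← Cfsg.Agent.ClassicalGeometry.NegOneOmega.card_binary h2 0 g.1.det, ← Nat.card_eq_fintype_card]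
  · have h1 : ∀ z : {z : F × F // z.1 * z.1 + g.1.det * (z.2 * z.2) = 1},
        (![z.1.1, z.1.2] : Fin 2 → F) 0 ^ 2 + 0 * (![z.1.1, z.1.2] : Fin 2 → F) 0 *
          (![z.1.1, z.1.2] : Fin 2 → F) 1 + g.1.det * (![z.1.1, z.1.2] : Fin 2 → F) 1 ^ 2 = 1 := by
      intro z
      have h := z.2
      change z.1.1 ^ 2 + 0 * z.1.1 * z.1.2 + g.1.det * z.1.2 ^ 2 = 1
      linear_combination h
    have h3 : ∀ z : {z : Fin 2 → F // z 0 ^ 2 + 0 * z 0 * z 1 + g.1.det * z 1 ^ 2 = 1},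
        z.1 0 * z.1 0 + g.1.det * (z.1 1 * z.1 1) = 1 := by
      intro z
      have h := z.2
      linear_combination h
    refine Nat.card_congr (
      { toFun := fun z => ⟨![z.1.1, z.1.2], h1 z⟩
        invFun := fun z => ⟨(z.1 0, z.1 1), h3 z⟩
        left_inv := ?_
        right_inv := ?_ } : {z : F × F // z.1 * z.1 + g.1.det * (z.2 * z.2) = 1} ≃
          {z : Fin 2 → F // z 0 ^ 2 + 0 * z 0 * z 1 + g.1.det * z 1 ^ 2 = 1})
    · intro z; rfl
    · intro z
      apply Subtype.ext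
      funext i
      fin_cases i <;> rfl
  · intro a b hab
    by_cases hb : b = 0
    · refine ⟨?_, hb⟩
      rw [hb] at hab
      have : a ^ 2 = 0 := by linear_combination hab
      exact pow_eq_zero_iff (two_ne_zero) |>.1 this
    · exfalso
      apply hs
      refine ⟨a / b, ?_⟩
      have : a * a = -g.1.det * (b * b) := by linear_combination hab
      rw [div_mul_div_comm, this, mul_div_assoc, div_self (mul_ne_zero hb hb), mul_one]

end Cfsg.Agent.Classification.QDW.TorusG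
end

-- part: Classification/QDW/StructF
section
/-!
# The field part

`π : M →* H` onto, `N = N π L e` the preimage of `H1 L e`.

* `isCyclic_ringEquiv`: `F ≃+* F` is cyclic;
* `N_normal`, `isCyclic_quotient : IsCyclic (M ⧸ N)`, `odd_index_N`, `sylow_le_N`, `exists_mul`: `M = N C_M(R)`;
* `piN : N →* H1 L e`, `piN_surjective`, `ker_piN`.
-/

set_option autoImplicit false
set_option linter.unusedSectionVars false

namespace Cfsg.Agent.Classification.QDW.StructF

open Subgroup Matrix Cfsg.Agent.Lib.SL2Mat Cfsg.Agent.Lib.AutSL2 Cfsg.Agent.TwoFusion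
  Cfsg.Agent.TwoFusion.NormalSL2 Cfsg.Agent.Classification.QDW.TypeHom
  Cfsg.Agent.Classification.QDW.StructQ

/-- The automorphism group of a finite field is cyclic. -/
theorem isCyclic_ringEquiv (F : Type*) [Field F] [Finite F] : IsCyclic (F ≃+* F) := by
  obtain ⟨p, hpc⟩ := CharP.exists F
  have : CharP F p := hpc
  have hp : Fact p.Prime := ⟨CharP.char_is_prime F p⟩
  let _ : Algebra (ZMod p) F := ZMod.algebra F p
  have hcomm : ∀ (ρ : F ≃+* F) (r : ZMod p), ρ (algebraMap (ZMod p) F r) = algebraMap (ZMod p) F r := by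
    intro ρ r
    obtain ⟨n, rfl⟩ := ZMod.natCast_zmod_surjective r
    rw [map_natCast, map_natCast]
  let f : (F ≃+* F) →* (F ≃ₐ[ZMod p] F) :=
    { toFun := fun ρ => AlgEquiv.ofRingEquiv (f := ρ) (hcomm ρ)
      map_one' := rfl
      map_mul' := fun _ _ => rfl }
  have hf : Function.Injective f := by
    intro a b hab
    ext x
    exact DFunLike.congr_fun hab x
  exact isCyclic_of_injective f hf

variable {M H : Type*} [Group M] [Finite M] [Group H] [Finite H] {F : Type*} [Field F] [Finite F]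

/-- The preimage of `H₁`. -/
noncomputable def N (π : M →* H) (L : Subgroup H) [L.Normal] (e : L ≃* _root_.Matrix.SpecialLinearGroup (Fin 2) F) :
    Subgroup M := (H1 L e).comap π

variable {π : M →* H} {L : Subgroup H} [hLn : L.Normal] {e : L ≃* _root_.Matrix.SpecialLinearGroup (Fin 2) F}

instance N_normal : (N π L e).Normal := Subgroup.Normal.comap (StructMain.H1_normal (L := L) (e := e)) π

theorem mem_N (m : M) : m ∈ N π L e ↔ π m ∈ H1 L e := Iff.rfl

theorem isCyclic_quotient : IsCyclic (M ⧸ N π L e) := by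
  have := isCyclic_ringEquiv F
  exact isCyclic_of_injective (QuotientGroup.kerLift ((tau L e).comp π))
    (QuotientGroup.kerLift_injective _)

theorem index_N (hπ : Function.Surjective π) : (N π L e).index = (H1 L e).index :=
  Subgroup.index_comap_of_surjective _ hπ

theorem odd_index_N (hπ : Function.Surjective π) (h : Odd (H1 L e).index) : Odd (N π L e).index := by
  rw [index_N hπ]; exact h

theorem sylow_le_N (hπ : Function.Surjective π) (h : Odd (H1 L e).index) (R : Sylow 2 M) :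
    (R : Subgroup M) ≤ N π L e := by
  have : Fact (Nat.Prime 2) := ⟨Nat.prime_two⟩
  have h1 := odd_index_N (π := π) hπ h
  intro x hx
  obtain ⟨k, hk⟩ := R.2 ⟨x, hx⟩
  have hk' : x ^ 2 ^ k = 1 := congrArg Subtype.val hk
  have h2 : (QuotientGroup.mk' (N π L e) x) ^ 2 ^ k = 1 := by rw [← map_pow, hk', map_one]
  have h3 : (QuotientGroup.mk' (N π L e) x) ^ (N π L e).index = 1 := by
    rw [Subgroup.index]; exact pow_card_eq_one'
  have h4 := Nat.dvd_gcd (orderOf_dvd_of_pow_eq_one h2) (orderOf_dvd_of_pow_eq_one h3)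
  have h5 : Nat.Coprime (2 ^ k) (N π L e).index := Nat.Coprime.pow_left _ (Nat.coprime_two_left.2 h1)
  rw [h5] at h4
  have h6 : QuotientGroup.mk' (N π L e) x = 1 := orderOf_eq_one_iff.1 (Nat.dvd_one.1 h4)
  exact (QuotientGroup.eq_one_iff x).1 h6

/-- `M = N C_M(R)`. -/
theorem exists_mul (hπ : Function.Surjective π) (h : Odd (H1 L e).index) (R : Sylow 2 M)
    (hR : Cfsg.IsQuasiDihedral (R : Subgroup M) ∨ Cfsg.IsWreathed (R : Subgroup M)) (m : M) :
    ∃ n ∈ N π L e, ∃ c, (∀ s ∈ R, c * s = s * c) ∧ m = n * c :=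
  AutSylow.exists_mul_centralizer R hR (N π L e) (sylow_le_N hπ h R) m

/-- The restriction of `π` to `N`. -/
noncomputable def piN (π : M →* H) (L : Subgroup H) [L.Normal] (e : L ≃* _root_.Matrix.SpecialLinearGroup (Fin 2) F) :
    N π L e →* H1 L e :=
  (π.comp (N π L e).subtype).codRestrict (H1 L e) fun x => x.2

theorem piN_apply (x : N π L e) : (piN π L e x : H) = π x := rfl

theorem piN_surjective (hπ : Function.Surjective π) : Function.Surjective (piN π L e) := by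
  rintro ⟨x, hx⟩
  obtain ⟨m, rfl⟩ := hπ x
  exact ⟨⟨m, hx⟩, rfl⟩

theorem mem_ker_piN (x : N π L e) : x ∈ (piN π L e).ker ↔ (x : M) ∈ π.ker := by
  rw [MonoidHom.mem_ker, MonoidHom.mem_ker, ← piN_apply]
  exact ⟨fun h => congrArg Subtype.val h, fun h => Subtype.ext h⟩

theorem card_ker_piN : Nat.card (piN π L e).ker = Nat.card π.ker := by
  refine Nat.card_congr ⟨fun x => ⟨(x.1 : M), (mem_ker_piN x.1).1 x.2⟩, fun x => ⟨⟨x.1, ?_⟩, ?_⟩, ?_, ?_⟩
  · rw [mem_N, MonoidHom.mem_ker.1 x.2]; exact one_mem _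
  · rw [mem_ker_piN]; exact x.2
  · intro x; rfl
  · intro x; rfl

end Cfsg.Agent.Classification.QDW.StructF
end

-- part: Classification/QDW/TorusF
section
/-!
# The torus `C_L(y)` and the action of `C_H(y)` on it

`H`, `L`, `e`, `tau`, `H1` as in `StructQ`; `y : H` acts on `L` as `conjGL g`, `g` of trace zero.
-/

set_option autoImplicit false
set_option linter.unusedSectionVars false

namespace Cfsg.Agent.Classification.QDW.TorusF

open Subgroup Matrix Cfsg.Agent.Lib.SL2Mat Cfsg.Agent.Lib.AutSL2 Cfsg.Agent.TwoFusion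
  Cfsg.Agent.TwoFusion.NormalSL2 Cfsg.Agent.Classification.QDW.TypeHom
  Cfsg.Agent.Classification.QDW.StructQ Cfsg.Agent.Classification.QDW.TorusG

/-- Every automorphism of a finite field of characteristic `p` is a power of the Frobenius. -/
theorem exists_frob {F : Type*} [Field F] [Finite F] {p : ℕ} [Fact p.Prime] [CharP F p]
    (σ : F ≃+* F) : ∃ i : ℕ, ∀ a, σ a = a ^ p ^ i := by
  let _ : Algebra (ZMod p) F := ZMod.algebra F p
  have hcomm : ∀ r : ZMod p, σ (algebraMap (ZMod p) F r) = algebraMap (ZMod p) F r := by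
    intro r
    obtain ⟨n, rfl⟩ := ZMod.natCast_zmod_surjective r
    rw [map_natCast, map_natCast]
  obtain ⟨i, hi⟩ := (FiniteField.bijective_frobeniusAlgEquivOfAlgebraic_pow (ZMod p) F).2
    (AlgEquiv.ofRingEquiv (f := σ) hcomm)
  refine ⟨i, fun a => ?_⟩
  have h1 := DFunLike.congr_fun hi a
  have h3 : (AlgEquiv.ofRingEquiv (f := σ) hcomm) a = σ a := rfl
  rw [← h3, ← h1]
  have h5 : ∀ j : ℕ, ((FiniteField.frobeniusAlgEquivOfAlgebraic (ZMod p) F) ^ j) a = a ^ p ^ j := by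
    intro j
    induction j with
    | zero => simp
    | succ j ih =>
      rw [pow_succ', AlgEquiv.mul_apply, ih, FiniteField.coe_frobeniusAlgEquivOfAlgebraic]
      simp only [ZMod.card]
      rw [← pow_mul, pow_succ]
  exact h5 i

/-- `a ^ p ^ m = a` for all `a` in the field of order `p ^ n` implies `n ∣ m`. -/
theorem dvd_of_pow_eq {F : Type*} [Field F] [Finite F] {p n m : ℕ} (hp : p.Prime)
    (hn : Nat.card F = p ^ n) (h : ∀ a : F, a ^ p ^ m = a) : n ∣ m := by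
  obtain ⟨u, hu⟩ := IsCyclic.exists_ofOrder_eq_natCard (α := Fˣ)
  have hm1 : 1 ≤ p ^ m := Nat.one_le_pow _ _ hp.pos
  have h1 : u ^ (p ^ m - 1) = 1 := by
    have h3 : u ^ p ^ m = u := by
      apply Units.ext
      rw [Units.val_pow_eq_pow_val]
      exact h u
    have h5 : u * u ^ (p ^ m - 1) = u * 1 := by
      rw [← pow_succ', Nat.sub_add_cancel hm1, h3, mul_one]
    exact mul_left_cancel h5
  have h3 := orderOf_dvd_of_pow_eq_one h1
  rw [hu, Nat.card_units, hn] at h3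
  have h5 := Nat.pow_sub_one_gcd_pow_sub_one p n m
  rw [Nat.gcd_eq_left h3] at h5
  have h6 : p ^ n = p ^ n.gcd m := by
    have := Nat.one_le_pow n p hp.pos
    have := Nat.one_le_pow (n.gcd m) p hp.pos
    omega
  have h7 := Nat.pow_right_injective hp.two_le h6
  rw [h7]
  exact Nat.gcd_dvd_right n m

/-- The fixed field of an automorphism of odd order. -/
theorem exists_q0 {F : Type*} [Field F] [Finite F] {p : ℕ} [Fact p.Prime] [CharP F p] {n : ℕ}
    (hn : Nat.card F = p ^ n) (σ : F ≃+* F) (hσ : Odd (orderOf σ)) :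
    ∃ d b c : ℕ, n = d * b ∧ Odd b ∧ Nat.Coprime c b ∧ (∀ a, σ a = a ^ (p ^ d) ^ c) ∧
      (b = 1 → σ = 1) := by
  have hp := Fact.out (p := p.Prime)
  have hn0 : 0 < n := by
    rcases Nat.eq_zero_or_pos n with h | h
    · rw [h, pow_zero] at hn
      have := Finite.one_lt_card (α := F)
      omega
    · exact h
  obtain ⟨i, hi⟩ := exists_frob (p := p) σ
  have hd0 : 0 < Nat.gcd i n := Nat.gcd_pos_of_pos_right i hn0
  obtain ⟨b, hb⟩ := Nat.gcd_dvd_right i n
  obtain ⟨c, hc⟩ := Nat.gcd_dvd_left i n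
  have hcop : Nat.Coprime c b := by
    have h1 : Nat.gcd (Nat.gcd i n * c) (Nat.gcd i n * b) = Nat.gcd i n := by
      rw [← hc, ← hb]
    rw [Nat.gcd_mul_left] at h1
    exact Nat.eq_of_mul_eq_mul_left hd0 (h1.trans (mul_one _).symm)
  have hfr : ∀ a : F, a ^ Nat.card F = a := fun a => by
    let _ := Fintype.ofFinite F
    rw [Nat.card_eq_fintype_card]; exact FiniteField.pow_card a
  refine ⟨Nat.gcd i n, b, c, hb, ?_, hcop, ?_, ?_⟩
  · -- `b` divides the order of `σ`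
    have h1 : ∀ j : ℕ, ∀ a, (σ ^ j) a = a ^ p ^ (i * j) := by
      intro j
      induction j with
      | zero => intro a; simp
      | succ j ih =>
        intro a
        rw [pow_succ', RingAut.mul_apply, ih, hi, ← pow_mul, ← pow_add]
        congr 2
    have h3 : n ∣ i * orderOf σ := by
      apply dvd_of_pow_eq hp hn
      intro a
      rw [← h1, pow_orderOf_eq_one]
      rfl
    have h5 : b ∣ orderOf σ := by
      have h6 : Nat.gcd i n * b ∣ Nat.gcd i n * (c * orderOf σ) := by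
        rw [← mul_assoc, ← hc, ← hb]; exact h3
      exact hcop.symm.dvd_of_dvd_mul_left (Nat.dvd_of_mul_dvd_mul_left hd0 h6)
    exact Odd.of_dvd_nat hσ h5
  · intro a
    rw [hi, ← pow_mul, ← hc]
  · intro hb1
    rw [hb1, mul_one] at hb
    apply RingEquiv.ext
    intro a
    rw [hi, hc, ← hb, pow_mul, ← hn]
    have h1 : ∀ k : ℕ, a ^ Nat.card F ^ k = a := by
      intro k
      induction k with
      | zero => simp
      | succ k ih => rw [pow_succ, pow_mul, ih, hfr]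
    rw [h1]
    rfl

variable {H : Type*} [Group H] [Finite H] {L : Subgroup H} [hLn : L.Normal] {F : Type*} [Field F]
  [Finite F] {e : L ≃* _root_.Matrix.SpecialLinearGroup (Fin 2) F}

theorem mem_TG_of (y : H) (g : GL (Fin 2) F) (hg : act L e y = conjGL g) (l : L) :
    e l ∈ TG g ↔ (l : H) * y = y * l := by
  rw [mem_TG, ← hg, act_mk, e.apply_eq_iff_eq, Subtype.ext_iff]
  change y * (l : H) * y⁻¹ = l ↔ _
  rw [mul_inv_eq_iff_eq_mul]
  exact ⟨fun h => h.symm, fun h => h.symm⟩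

/-- The torus. -/
def CL (L : Subgroup H) (y : H) : Subgroup H := L ⊓ centralizer {y}

omit [Finite H] hLn in
theorem mem_CL (y x : H) : x ∈ CL L y ↔ x ∈ L ∧ x * y = y * x := by
  rw [CL, mem_inf, mem_centralizer_singleton_iff]

/-- The torus is `TG g`. -/
noncomputable def equivCL (y : H) (g : GL (Fin 2) F) (hg : act L e y = conjGL g) :
    CL L y ≃* TG g where
  toFun x := ⟨e ⟨x, ((mem_CL y x.1).1 x.2).1⟩, (mem_TG_of y g hg _).2 ((mem_CL y x.1).1 x.2).2⟩
  invFun x := ⟨e.symm x.1, (mem_CL y _).2 ⟨(e.symm x.1).2, by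
    rw [← mem_TG_of y g hg, e.apply_symm_apply]; exact x.2⟩⟩
  left_inv x := by
    apply Subtype.ext
    change ((e.symm (e ⟨x, _⟩) : L) : H) = x
    rw [e.symm_apply_apply]
  right_inv x := by
    apply Subtype.ext
    change e ⟨(e.symm x.1 : L), _⟩ = x.1
    exact e.apply_symm_apply x.1
  map_mul' a b := by
    apply Subtype.ext
    change e ⟨(a : H) * b, _⟩ = e ⟨a, _⟩ * e ⟨b, _⟩
    rw [← map_mul]
    rfl

/-- The hypotheses. -/
structure TH (L : Subgroup H) [L.Normal] (e : L ≃* _root_.Matrix.SpecialLinearGroup (Fin 2) F) (y : H)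
    (g : GL (Fin 2) F) (ε : ℤ) : Prop where
  two_ne : (2 : F) ≠ 0
  act_y : act L e y = conjGL g
  tr0 : g.1 0 0 + g.1 1 1 = 0
  eps : (ε = 1 ∧ IsSquare (-g.1.det)) ∨ (ε = -1 ∧ ¬ IsSquare (-g.1.det))

/-- The hypotheses hold for an involution in `H₁` not centralising `L`. -/
theorem exists_TH (h2 : (2 : F) ≠ 0) {y : H} (hy : y ∈ H1 L e) (hyy : y * y = 1)
    (hL : ∃ l ∈ L, l * y ≠ y * l) : ∃ g ε, TH L e y g ε := by
  obtain ⟨g, hg⟩ := (mem_H1 y).1 hy
  have h1 : conjGL (g * g) = 1 := by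
    rw [map_mul, ← hg, ← map_mul, hyy, map_one]
  have h3 : conjGL g ≠ 1 := by
    intro h
    obtain ⟨l, hl, hly⟩ := hL
    apply hly
    rw [← mem_TG_of y g hg ⟨l, hl⟩, mem_TG, h]
    rfl
  have ht := StructUniq.tr_eq_zero h1 h3
  by_cases hs : IsSquare (-g.1.det)
  · exact ⟨g, 1, h2, hg, ht, Or.inl ⟨rfl, hs⟩⟩
  · exact ⟨g, -1, h2, hg, ht, Or.inr ⟨rfl, hs⟩⟩

namespace TH

variable {y : H} {g : GL (Fin 2) F} {ε : ℤ}

theorem eps_or (h : TH L e y g ε) : ε = 1 ∨ ε = -1 := by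
  rcases h.eps with ⟨h1, -⟩ | ⟨h1, -⟩
  · exact Or.inl h1
  · exact Or.inr h1

theorem eps_sq (h : TH L e y g ε) : ε * ε = 1 := by
  rcases h.eps_or with h1 | h1 <;> rw [h1] <;> norm_num

theorem card_CL (h : TH L e y g ε) : (Nat.card (CL L y) : ℤ) = Nat.card F - ε := by
  rw [Nat.card_congr (equivCL y g h.act_y).toEquiv]
  have h1 : 1 < Nat.card F := Finite.one_lt_card
  rcases h.eps with ⟨h3, h5⟩ | ⟨h3, h5⟩
  · rw [card_TG_of_square h.two_ne h.tr0 h5, h3]
    omega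
  · rw [card_TG_of_not_square h.two_ne h.tr0 h5, h3]
    omega

theorem isCyclic_CL (h : TH L e y g ε) : IsCyclic (CL L y) := by
  have := isCyclic_TG h.two_ne h.tr0
  exact isCyclic_of_injective (equivCL y g h.act_y).toMonoidHom (equivCL y g h.act_y).injective

theorem conj_mem {w : H} (hw : w * y = y * w) {x : H} (hx : x ∈ CL L y) :
    w * x * w⁻¹ ∈ CL L y := by
  obtain ⟨h1, h3⟩ := (mem_CL y x).1 hx
  refine (mem_CL y _).2 ⟨hLn.conj_mem _ h1 w, ?_⟩
  have hw' : w⁻¹ * y = y * w⁻¹ := (Commute.inv_left (show Commute w y from hw)).eq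
  rw [mul_assoc, hw', ← mul_assoc, mul_assoc w x y, h3, ← mul_assoc, hw]
  simp only [mul_assoc]

/-- The action on the torus, element by element. -/
theorem conj_eq (h : TH L e y g ε) {p : ℕ} [Fact p.Prime] [CharP F p] {w : H} (hw : w * y = y * w)
    {i : ℕ} (hi : ∀ a, tau L e w a = a ^ p ^ i) {x : H} (hx : x ∈ CL L y) :
    w * x * w⁻¹ = x ^ p ^ i ∨ w * x * w⁻¹ = (x ^ p ^ i)⁻¹ := by
  obtain ⟨hxL, hxy⟩ := (mem_CL y x).1 hx
  have hx' := conj_mem hw hx
  obtain ⟨hxL', hxy'⟩ := (mem_CL y _).1 hx'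
  have h1 : e ⟨x, hxL⟩ ∈ TG g := (mem_TG_of y g h.act_y _).2 hxy
  have h3 : e ⟨w * x * w⁻¹, hxL'⟩ ∈ TG g := (mem_TG_of y g h.act_y _).2 hxy'
  have h5 : act L e w (e ⟨x, hxL⟩) = e ⟨w * x * w⁻¹, hxL'⟩ := act_mk (e := e) w ⟨x, hxL⟩
  have h6 : tr (e ⟨w * x * w⁻¹, hxL'⟩) = tr (e ⟨x, hxL⟩ ^ p ^ i) := by
    rw [← h5, tr_act, hi, tr_pow h.two_ne h.tr0 h1]
  rcases eq_or_eq_inv h.two_ne h.tr0 h3 ((TG g).pow_mem h1 (p ^ i)) h6 with h7 | h7
  · left
    rw [← map_pow] at h7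
    exact congrArg Subtype.val (e.injective h7)
  · right
    rw [← map_pow, ← map_inv] at h7
    exact congrArg Subtype.val (e.injective h7)

/-- The action on the torus with a uniform sign. -/
theorem exists_sign (h : TH L e y g ε) {p : ℕ} [Fact p.Prime] [CharP F p] {w : H} (hw : w * y = y * w)
    {i : ℕ} (hi : ∀ a, tau L e w a = a ^ p ^ i) :
    ∃ s : ℤ, (s = 1 ∨ s = -1) ∧ ∀ x ∈ CL L y, w * x * w⁻¹ = x ^ (s * (p : ℤ) ^ i) := by
  have hc := h.isCyclic_CL
  obtain ⟨⟨x0, hx0⟩, hgen⟩ := hc.exists_generator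
  have key : ∀ s : ℤ, w * x0 * w⁻¹ = x0 ^ (s * (p : ℤ) ^ i) →
      ∀ x ∈ CL L y, w * x * w⁻¹ = x ^ (s * (p : ℤ) ^ i) := by
    intro s hs x hx
    obtain ⟨k, hk⟩ := Subgroup.mem_zpowers_iff.1 (hgen ⟨x, hx⟩)
    have hk' : x0 ^ k = x := congrArg Subtype.val hk
    rw [← hk', ← conj_zpow, hs, ← _root_.zpow_mul, ← _root_.zpow_mul, mul_comm]
  rcases h.conj_eq hw hi hx0 with h1 | h1
  · refine ⟨1, Or.inl rfl, key 1 ?_⟩
    rw [h1, one_mul, ← zpow_natCast, Nat.cast_pow]
  · refine ⟨-1, Or.inr rfl, key (-1) ?_⟩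
    rw [h1, neg_one_mul, _root_.zpow_neg, ← zpow_natCast, Nat.cast_pow]

/-- Elements of odd order of `H₁` commuting with `y` centralise the torus. -/
theorem comm_of_mem_H1 (h : TH L e y g ε) {w : H} (hw : w * y = y * w) (hw1 : w ∈ H1 L e)
    (hwo : Odd (orderOf w)) {x : H} (hx : x ∈ CL L y) : w * x = x * w := by
  obtain ⟨p, hpc⟩ := CharP.exists F
  have : CharP F p := hpc
  have hp : Fact p.Prime := ⟨CharP.char_is_prime F p⟩
  have h1 := h.conj_eq (p := p) hw (i := 0) (fun a => by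
    rw [tau_eq_one w hw1]; simp) hx
  rw [pow_zero, pow_one] at h1
  rcases h1 with h3 | h3
  · rw [mul_inv_eq_iff_eq_mul] at h3; exact h3
  · -- `w * w` centralises `x`
    have h5 : (w * w) * x * (w * w)⁻¹ = x := by
      rw [_root_.mul_inv_rev]
      calc w * w * x * (w⁻¹ * w⁻¹) = w * (w * x * w⁻¹) * w⁻¹ := by group
        _ = w * x⁻¹ * w⁻¹ := by rw [h3]
        _ = (w * x * w⁻¹)⁻¹ := by group
        _ = x := by rw [h3, inv_inv]
    have h6 : Commute (w * w) x := by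
      rw [mul_inv_eq_iff_eq_mul] at h5; exact h5
    obtain ⟨k, hk⟩ := hwo
    have h7 : w = (w * w) ^ (k + 1) := by
      have h8 : w ^ (2 * k + 1) = 1 := by rw [← hk, pow_orderOf_eq_one]
      rw [← sq, ← pow_mul, show 2 * (k + 1) = (2 * k + 1) + 1 by ring, pow_succ, h8, one_mul]
    rw [h7]
    exact (h6.pow_left (k + 1)).eq

/-- The action of elements of odd order on the torus: `x ↦ x ^ ((ε q₀) ^ c)`, `q = q₀ ^ b`. -/
theorem exists_action (h : TH L e y g ε) {p : ℕ} [Fact p.Prime] [CharP F p] {n : ℕ}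
    (hn : Nat.card F = p ^ n) {w : H} (hw : w * y = y * w) (hwo : Odd (orderOf w))
    (hw1 : w ∉ H1 L e) :
    ∃ d b c : ℕ, n = d * b ∧ Odd b ∧ 3 ≤ b ∧ Nat.Coprime c b ∧ 0 < d ∧
      ∀ x ∈ CL L y, w * x * w⁻¹ = x ^ ((ε * (p : ℤ) ^ d) ^ c) := by
  have hp := Fact.out (p := p.Prime)
  have hF1 : 1 < Nat.card F := Finite.one_lt_card
  have hσ : Odd (orderOf (tau L e w)) := Odd.of_dvd_nat hwo (orderOf_map_dvd _ _)
  obtain ⟨d, b, c, hnd, hb, hcop, hact, hb1⟩ := exists_q0 (p := p) hn (tau L e w) hσ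
  have hb3 : 3 ≤ b := by
    rcases hb with ⟨k, hk⟩
    rcases Nat.eq_zero_or_pos k with h0 | h0
    · exfalso
      apply hw1
      exact hb1 (by omega)
    · omega
  have hd0 : 0 < d := by
    rcases Nat.eq_zero_or_pos d with h0 | h0
    · rw [h0, zero_mul] at hnd
      rw [hnd, pow_zero] at hn
      omega
    · exact h0
  refine ⟨d, b, c, hnd, hb, hb3, hcop, hd0, ?_⟩
  obtain ⟨s, hs, hsx⟩ := h.exists_sign (p := p) hw (i := d * c) (fun a => by
    rw [hact, ← pow_mul])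
  -- the sign
  have hiter : ∀ k : ℕ, ∀ x ∈ CL L y, w ^ k * x * (w ^ k)⁻¹ = x ^ ((s * (p : ℤ) ^ (d * c)) ^ k) := by
    intro k
    induction k with
    | zero => intro x hx; simp
    | succ k ih =>
      intro x hx
      have h1 : w ^ (k + 1) * x * (w ^ (k + 1))⁻¹ = w ^ k * (w * x * w⁻¹) * (w ^ k)⁻¹ := by
        rw [pow_succ]; group
      rw [h1, hsx x hx, ← conj_zpow, ih x hx, ← _root_.zpow_mul, pow_succ]
  have hc := h.isCyclic_CL
  obtain ⟨x0, hx0⟩ := hc.exists_ofOrder_eq_natCard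
  have hwb : (w ^ b) ∈ H1 L e := by
    have h1 : ∀ k : ℕ, ∀ a, (tau L e w ^ k) a = a ^ ((p ^ d) ^ (c * k)) := by
      intro k
      induction k with
      | zero => intro a; simp
      | succ k ih =>
        intro a
        rw [pow_succ', RingAut.mul_apply, ih, hact, ← pow_mul, ← pow_add]
        congr 2
    change tau L e (w ^ b) = 1
    rw [map_pow]
    apply RingEquiv.ext
    intro a
    rw [h1, ← pow_mul, show d * (c * b) = (d * b) * c by ring, ← hnd]
    have h3 : ∀ k : ℕ, a ^ (p ^ (n * k)) = a := by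
      intro k
      induction k with
      | zero => simp
      | succ k ih =>
        rw [Nat.mul_succ, pow_add, pow_mul, ih, ← hn]
        let _ := Fintype.ofFinite F
        rw [Nat.card_eq_fintype_card]; exact FiniteField.pow_card a
    rw [h3]
    rfl
  have hwby : w ^ b * y = y * w ^ b := (Commute.pow_left (show Commute w y from hw) b).eq
  have hwbo : Odd (orderOf (w ^ b)) := Odd.of_dvd_nat hwo (orderOf_pow_dvd b)
  have h1 := h.comm_of_mem_H1 hwby hwb hwbo x0.2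
  have h3 := hiter b x0 x0.2
  rw [h1, mul_inv_cancel_right] at h3
  have h5 : ((Nat.card (CL L y) : ℕ) : ℤ) ∣ (s * (p : ℤ) ^ (d * c)) ^ b - 1 := by
    rw [← hx0]
    apply orderOf_dvd_iff_zpow_eq_one.2
    apply Subtype.ext
    rw [_root_.zpow_sub, zpow_one]
    change (x0 : H) ^ _ * (x0 : H)⁻¹ = 1
    rw [← h3, mul_inv_cancel]
  rw [h.card_CL] at h5
  have hsb : s ^ b = s := by
    rcases hs with h0 | h0
    · rw [h0, one_pow]
    · rw [h0, hb.neg_one_pow]
  have h6 : (s * (p : ℤ) ^ (d * c)) ^ b = s * (Nat.card F : ℤ) ^ c := by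
    rw [mul_pow, hsb, hn, hnd, ← pow_mul]
    push_cast
    rw [← pow_mul]
    congr 2
    ring
  rw [h6] at h5
  have h7 : ((Nat.card F : ℤ) - ε) ∣ (Nat.card F : ℤ) ^ c - ε ^ c := sub_dvd_pow_sub_pow _ _ c
  have h8 : ((Nat.card F : ℤ) - ε) ∣ s * ε ^ c - 1 := by
    have : s * ε ^ c - 1 = (s * (Nat.card F : ℤ) ^ c - 1) - s * ((Nat.card F : ℤ) ^ c - ε ^ c) := by ring
    rw [this]
    exact dvd_sub h5 (h7.mul_left s)
  have hp3 : 3 ≤ p := by
    rcases hp.eq_two_or_odd' with h0 | ⟨k, hk⟩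
    · exfalso
      apply h.two_ne
      have := CharP.cast_eq_zero F p
      rw [h0] at this
      exact_mod_cast this
    · have := hp.two_le
      omega
  have hq9 : (27 : ℤ) ≤ Nat.card F := by
    have : 3 ^ 3 ≤ p ^ n := by
      calc 3 ^ 3 ≤ p ^ 3 := Nat.pow_le_pow_left hp3 3
        _ ≤ p ^ n := Nat.pow_le_pow_right hp.pos (by rw [hnd]; nlinarith only [hb3, hd0])
    rw [hn]
    exact_mod_cast this
  have hεc : ε ^ c = 1 ∨ ε ^ c = -1 := by
    rcases h.eps_or with h0 | h0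
    · left; rw [h0, one_pow]
    · rw [h0]; exact neg_one_pow_eq_or ℤ c
  have h9 : s = ε ^ c := by
    rcases hs with h0 | h0 <;> rcases hεc with h10 | h10
    · rw [h0, h10]
    · exfalso
      rw [h0, h10] at h8
      have := Int.le_of_dvd (by norm_num) ((dvd_neg.2 h8))
      rcases h.eps_or with h11 | h11 <;> rw [h11] at this <;> omega
    · exfalso
      rw [h0, h10] at h8
      have := Int.le_of_dvd (by norm_num) ((dvd_neg.2 h8))
      rcases h.eps_or with h11 | h11 <;> rw [h11] at this <;> omega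
    · rw [h0, h10]
  intro x hx
  rw [hsx x hx, h9, mul_pow, ← pow_mul]

end TH

end Cfsg.Agent.Classification.QDW.TorusF
end

-- part: Classification/QDW/TorusW
section
/-!
# The odd part `W` of `C(u)` in a group `M` over `H`
-/

set_option autoImplicit false
set_option linter.unusedSectionVars false

namespace Cfsg.Agent.Classification.QDW.TorusW

open Subgroup

/-- The action on a cyclic group as a homomorphism to the units of `ZMod`. -/
theorem exists_rho {W H : Type*} [Group W] [Group H] [Finite H] (φ : W →* H) (T : Subgroup H)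
    (hT : IsCyclic T) (hn : ∀ w, ∀ x ∈ T, φ w * x * (φ w)⁻¹ ∈ T) :
    ∃ ρ : W →* (ZMod (Nat.card T))ˣ, (∀ w, ∀ x ∈ T, φ w * x * (φ w)⁻¹ = x ^ ((ρ w : ZMod (Nat.card T))).val) ∧
      ∀ w, ρ w = 1 ↔ ∀ x ∈ T, φ w * x = x * φ w := by
  obtain ⟨⟨c, hc⟩, hcc⟩ := hT.exists_ofOrder_eq_natCard
  have hco : orderOf c = Nat.card T := by
    rw [← hcc]; exact Subgroup.orderOf_coe (⟨c, hc⟩ : T)
  have hgen : ∀ x ∈ T, ∃ k : ℕ, c ^ k = x := by
    intro x hx
    have h1 : (⟨x, hx⟩ : T) ∈ zpowers (⟨c, hc⟩ : T) := by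
      have h3 : zpowers (⟨c, hc⟩ : T) = ⊤ := by
        apply Subgroup.eq_top_of_card_eq
        rw [Nat.card_zpowers, hcc]
      rw [h3]; trivial
    obtain ⟨k, hk⟩ := mem_powers_iff_mem_zpowers.2 h1
    exact ⟨k, congrArg Subtype.val hk⟩
  have hm : 0 < Nat.card T := Nat.card_pos
  have : NeZero (Nat.card T) := ⟨hm.ne'⟩
  have hmod : ∀ k : ℕ, c ^ ((k : ZMod (Nat.card T))).val = c ^ k := by
    intro k
    rw [ZMod.val_natCast, ← hco, pow_mod_orderOf]
  have hinj : ∀ a b : ZMod (Nat.card T), c ^ a.val = c ^ b.val → a = b := by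
    intro a b h
    rw [pow_inj_mod, hco, Nat.mod_eq_of_lt (ZMod.val_lt a), Nat.mod_eq_of_lt (ZMod.val_lt b)] at h
    exact ZMod.val_injective _ h
  have hex : ∀ w : W, ∃ a : ZMod (Nat.card T), φ w * c * (φ w)⁻¹ = c ^ a.val := by
    intro w
    obtain ⟨k, hk⟩ := hgen _ (hn w c hc)
    exact ⟨(k : ZMod (Nat.card T)), by rw [hmod, hk]⟩
  choose f hf using hex
  have hpow : ∀ w, ∀ x ∈ T, φ w * x * (φ w)⁻¹ = x ^ (f w).val := by
    intro w x hx
    obtain ⟨k, rfl⟩ := hgen x hx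
    rw [← conj_pow, hf, ← pow_mul, ← pow_mul, mul_comm]
  let F : W →* ZMod (Nat.card T) :=
    { toFun := f
      map_one' := by
        apply hinj
        rw [← hf, map_one, one_mul, inv_one, mul_one]
        have h1 := hmod 1
        rw [Nat.cast_one, pow_one] at h1
        exact h1.symm
      map_mul' := by
        intro a b
        apply hinj
        have h1 : c ^ (f a * f b).val = c ^ ((f a).val * (f b).val) := by
          rw [← hmod ((f a).val * (f b).val), Nat.cast_mul, ZMod.natCast_zmod_val, ZMod.natCast_zmod_val]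
        rw [← hf, h1, map_mul]
        have h3 : φ a * φ b * c * (φ a * φ b)⁻¹ = φ a * (φ b * c * (φ b)⁻¹) * (φ a)⁻¹ := by group
        rw [h3, hf b, ← conj_pow, hf a, ← pow_mul] }
  refine ⟨F.toHomUnits, fun w x hx => hpow w x hx, fun w => ?_⟩
  constructor
  · intro h x hx
    have h1 : f w = 1 := by
      have := congrArg (fun u : (ZMod (Nat.card T))ˣ => (u : ZMod (Nat.card T))) h
      exact this
    obtain ⟨k, rfl⟩ := hgen x hx
    have h3 := hf w
    rw [h1] at h3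
    have h5 := hmod 1
    rw [Nat.cast_one, pow_one] at h5
    rw [h5, mul_inv_eq_iff_eq_mul] at h3
    exact (Commute.pow_right (show Commute (φ w) c from h3) k).eq
  · intro h
    apply Units.ext
    change f w = 1
    apply hinj
    rw [← hf, h c hc, mul_inv_cancel_right]
    have h5 := hmod 1
    rw [Nat.cast_one, pow_one] at h5
    exact h5.symm

/-- Two involutions with the same image modulo an odd group are conjugate under the kernel. -/
theorem exists_conj_of_map {M H : Type*} [Group M] [Finite M] [Group H] (π : M →* H)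
    (hK : Odd (Nat.card π.ker)) {u v : M} (hu : u * u = 1) (hv : v * v = 1) (h : π u = π v) :
    ∃ z ∈ π.ker, z * u * z⁻¹ = v := by
  have hk : v * u ∈ π.ker := by
    rw [MonoidHom.mem_ker, map_mul, ← h, ← map_mul, hu, map_one]
  have hu' : u⁻¹ = u := inv_eq_of_mul_eq_one_right hu
  have hv' : v⁻¹ = v := inv_eq_of_mul_eq_one_right hv
  have ho : Odd (orderOf (v * u)) := by
    refine Odd.of_dvd_nat hK ?_
    have := _root_.orderOf_dvd_natCard (⟨v * u, hk⟩ : π.ker)
    rwa [Subgroup.orderOf_mk] at this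
  obtain ⟨j, hj⟩ := ho
  have h1 : (v * u) ^ (2 * j + 1) = 1 := by rw [← hj, pow_orderOf_eq_one]
  -- `u` inverts `v * u`
  have h3 : ∀ i : ℕ, u * ((v * u) ^ i)⁻¹ = (v * u) ^ i * u := by
    intro i
    have h5 : u * (v * u)⁻¹ * u⁻¹ = v * u := by
      rw [mul_inv_rev, hu', hv']
      calc u * (u * v) * u = (u * u) * v * u := by group
        _ = v * u := by rw [hu, one_mul]
    have h6 : u * ((v * u) ^ i)⁻¹ * u⁻¹ = (v * u) ^ i := by
      rw [← inv_pow, ← conj_pow, h5]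
    conv_rhs => rw [← h6, inv_mul_cancel_right]
  refine ⟨(v * u) ^ (j + 1), π.ker.pow_mem hk _, ?_⟩
  rw [mul_assoc, h3, ← mul_assoc, ← pow_add, show j + 1 + (j + 1) = (2 * j + 1) + 1 by ring, pow_succ, h1,
    one_mul, mul_assoc, hu, mul_one]

/-- An element of odd order with a preimage in a subgroup has a preimage of odd order. -/
theorem exists_odd_lift {M H : Type*} [Group M] [Finite M] [Group H] (π : M →* H) {x : H}
    (hx : Odd (orderOf x)) (m : M) (hm : π m = x) : ∃ k : ℕ, Odd (orderOf (m ^ k)) ∧ π (m ^ k) = x := by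
  obtain ⟨a, b, hb, hab⟩ := Nat.exists_eq_two_pow_mul_odd (orderOf_pos m).ne'
  have hcop : Nat.Coprime (2 ^ a) (orderOf x) := Nat.Coprime.pow_left _ (Nat.coprime_two_left.2 hx)
  obtain ⟨j, hj⟩ := exists_pow_eq_self_of_coprime hcop
  refine ⟨2 ^ a * j, ?_, ?_⟩
  · have h1 : (m ^ (2 ^ a * j)) ^ b = 1 := by
      rw [← pow_mul, show 2 ^ a * j * b = (2 ^ a * b) * j by ring, ← hab, pow_mul, pow_orderOf_eq_one, one_pow]
    exact Odd.of_dvd_nat hb (orderOf_dvd_of_pow_eq_one h1)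
  · rw [map_pow, hm, pow_mul, hj]

/-- The odd elements of the centralizer of `u` map onto those of the centralizer of `y`. -/
theorem mem_map_iff {M H : Type*} [Group M] [Finite M] [Group H] {π : M →* H}
    (hπ : Function.Surjective π) (hK : Odd (Nat.card π.ker)) {u : M} {y : H} (hu : u * u = 1)
    (huy : π u = y) {W : Subgroup M} (hW : ∀ w, w ∈ W ↔ w * u = u * w ∧ Odd (orderOf w)) (x : H) :
    x ∈ W.map π ↔ x * y = y * x ∧ Odd (orderOf x) := by
  constructor
  · rintro ⟨w, hw, rfl⟩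
    obtain ⟨h1, h3⟩ := (hW w).1 hw
    rw [← huy, ← map_mul, h1, map_mul]
    exact ⟨rfl, Odd.of_dvd_nat h3 (orderOf_map_dvd _ _)⟩
  · rintro ⟨h1, h3⟩
    obtain ⟨m, rfl⟩ := hπ x
    have h5 : π (m * u * m⁻¹) = π u := by
      rw [map_mul, map_mul, map_inv, huy, h1, mul_inv_cancel_right]
    have h6 : (m * u * m⁻¹) * (m * u * m⁻¹) = 1 := by
      have : (m * u * m⁻¹) * (m * u * m⁻¹) = m * (u * u) * m⁻¹ := by group
      rw [this, hu, mul_one, mul_inv_cancel]
    obtain ⟨z, hz, hz'⟩ := exists_conj_of_map π hK hu h6 h5.symm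
    have h7 : π (z⁻¹ * m) = π m := by
      rw [map_mul, map_inv, MonoidHom.mem_ker.1 hz, inv_one, one_mul]
    have h8 : (z⁻¹ * m) * u = u * (z⁻¹ * m) := by
      have : z⁻¹ * m * u = z⁻¹ * (m * u * m⁻¹) * m := by group
      rw [this, ← hz']
      group
    obtain ⟨k, hk, hk'⟩ := exists_odd_lift π h3 (z⁻¹ * m) h7
    exact ⟨(z⁻¹ * m) ^ k, (hW _).2 ⟨(Commute.pow_left (show Commute _ _ from h8) k).eq, hk⟩, hk'⟩

/-- The elements of odd order in a finite cyclic group of order `N`. -/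
theorem card_odd {C : Type*} [Group C] [Finite C] (hC : IsCyclic C) (k : ℕ) :
    Nat.card {x : C // Odd (orderOf x) ∧ x ^ k = 1} = (ordCompl[2] (Nat.card C)).gcd k := by
  let _ : CommGroup C := IsCyclic.commGroup
  have hN : Nat.card C ≠ 0 := Nat.card_pos.ne'
  have hodd : Odd (ordCompl[2] (Nat.card C)) := by
    rw [← Nat.not_even_iff_odd, even_iff_two_dvd]
    exact Nat.not_dvd_ordCompl Nat.prime_two hN
  have h1 : ∀ x : C, Odd (orderOf x) ∧ x ^ k = 1 ↔ x ∈ (powMonoidHom ((ordCompl[2] (Nat.card C)).gcd k) : C →* C).ker := by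
    intro x
    rw [MonoidHom.mem_ker, powMonoidHom_apply]
    constructor
    · rintro ⟨h3, h5⟩
      apply orderOf_dvd_iff_pow_eq_one.1
      apply Nat.dvd_gcd
      · have h6 := _root_.orderOf_dvd_natCard x
        rw [← Nat.ordProj_mul_ordCompl_eq_self (Nat.card C) 2] at h6
        exact (Nat.Coprime.pow_right _ (Nat.coprime_two_right.2 h3)).dvd_of_dvd_mul_left h6
      · exact orderOf_dvd_of_pow_eq_one h5
    · intro h3
      have h5 := orderOf_dvd_of_pow_eq_one h3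
      exact ⟨Odd.of_dvd_nat hodd (h5.trans (Nat.gcd_dvd_left _ _)),
        orderOf_dvd_iff_pow_eq_one.1 (h5.trans (Nat.gcd_dvd_right _ _))⟩
  rw [Nat.card_congr (Equiv.subtypeEquivRight h1)]
  change Nat.card (powMonoidHom ((ordCompl[2] (Nat.card C)).gcd k) : C →* C).ker = _
  rw [IsCyclic.card_powMonoidHom_ker, ← Nat.gcd_assoc,
    Nat.gcd_eq_right (Nat.ordCompl_dvd (Nat.card C) 2)]

/-- The numbers: `N = q - ε`, `N₀ = q₀ - ε`, `q = q₀ ^ b`. -/
theorem fix_num {q0 b N N0 : ℕ} {ε : ℤ} (hε : ε = 1 ∨ ε = -1) (hq0 : 3 ≤ q0) (hodd : Odd q0)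
    (hb : Odd b) (hb3 : 3 ≤ b) (hN : (N : ℤ) = (q0 : ℤ) ^ b - ε) (hN0 : (N0 : ℤ) = q0 - ε) :
    (ordCompl[2] N).gcd N0 = ordCompl[2] N0 ∧ (ordCompl[2] N0) ^ 2 < ordCompl[2] N ∧
      ordCompl[2] N0 ∣ ordCompl[2] N := by
  have hεb : ε ^ b = ε := by
    rcases hε with h | h
    · rw [h, one_pow]
    · rw [h, hb.neg_one_pow]
  have hdvd : (N0 : ℤ) ∣ N := by
    rw [hN, hN0]
    have := sub_dvd_pow_sub_pow (q0 : ℤ) ε b
    rwa [hεb] at this
  obtain ⟨R, hR⟩ := Int.natCast_dvd_natCast.1 hdvd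
  have hN0pos : 0 < N0 := by
    rcases hε with h | h <;> rw [h] at hN0 <;> omega
  -- `R` is odd
  have hRsum : (R : ℤ) = ∑ i ∈ Finset.range b, (q0 : ℤ) ^ i * ε ^ (b - 1 - i) := by
    have h1 := Commute.geom_sum₂_mul (Commute.all (q0 : ℤ) ε) b
    rw [hεb, ← hN, ← hN0, hR] at h1
    push_cast at h1
    have h3 : (N0 : ℤ) ≠ 0 := by exact_mod_cast hN0pos.ne'
    apply mul_left_cancel₀ h3
    rw [← h1, mul_comm]
  have hRodd : Odd R := by
    have h1 : Odd (R : ℤ) := by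
      rw [hRsum]
      have h3 : ∀ i ∈ Finset.range b, Odd ((q0 : ℤ) ^ i * ε ^ (b - 1 - i)) := by
        intro i _
        have h5 : Odd (q0 : ℤ) := by exact_mod_cast hodd
        have h6 : Odd ε := by rcases hε with h | h <;> rw [h] <;> decide
        exact (h5.pow).mul (h6.pow)
      have h5 : Even (∑ i ∈ Finset.range b, ((q0 : ℤ) ^ i * ε ^ (b - 1 - i) - 1)) :=
        Finset.even_sum _ fun i hi => (h3 i hi).sub_odd odd_one
      rw [Finset.sum_sub_distrib, Finset.sum_const, Finset.card_range, nsmul_eq_mul, mul_one] at h5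
      have h6 : Odd (b : ℤ) := by exact_mod_cast hb
      have h7 := h5.add_odd h6
      rwa [sub_add_cancel] at h7
    exact_mod_cast h1
  have hRgt : N0 < R := by
    by_contra hcon
    push Not at hcon
    have h1 : (N : ℤ) = N0 * R := by rw [hR]; push_cast; ring
    have h3 : (R : ℤ) ≤ N0 := by exact_mod_cast hcon
    have h5 : (q0 : ℤ) ^ 3 ≤ (q0 : ℤ) ^ b := pow_le_pow_right₀ (by omega) hb3
    have h6 : (3 : ℤ) ≤ q0 := by exact_mod_cast hq0
    have h7 : (N0 : ℤ) * R ≤ (q0 + 1) * (q0 + 1) := by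
      have h8 : (N0 : ℤ) ≤ q0 + 1 := by rcases hε with h | h <;> rw [h] at hN0 <;> omega
      have h9 : (0 : ℤ) ≤ R := by positivity
      have h10 : (0 : ℤ) ≤ N0 := by positivity
      nlinarith only [hcon, h8]
    have h8 : (q0 : ℤ) ^ 3 - 1 ≤ (q0 + 1) * (q0 + 1) := by
      rcases hε with h | h <;> rw [h] at hN <;> linarith only [hN, hR, h5, h7]
    linarith only [hq0, hN, hN0, hR, h5, h7, mul_nonneg (sub_nonneg.2 h6) (sub_nonneg.2 h6), mul_nonneg (mul_nonneg (sub_nonneg.2 h6) (sub_nonneg.2 h6)) (sub_nonneg.2 h6)]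
  have h2N : ordCompl[2] N = ordCompl[2] N0 * R := by
    rw [hR, Nat.ordCompl_mul, (Nat.ordCompl_eq_self_iff_zero_or_not_dvd R Nat.prime_two).2]
    right
    rw [← even_iff_two_dvd, Nat.not_even_iff_odd]
    exact hRodd
  have hle : ordCompl[2] N0 ≤ N0 := Nat.ordCompl_le N0 2
  have hpos : 0 < ordCompl[2] N0 := Nat.ordCompl_pos 2 hN0pos.ne'
  refine ⟨?_, ?_, ?_⟩
  · apply Nat.dvd_antisymm
    · have h1 : Odd ((ordCompl[2] N).gcd N0) := by
        refine Odd.of_dvd_nat ?_ (Nat.gcd_dvd_left _ _)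
        rw [← Nat.not_even_iff_odd, even_iff_two_dvd]
        apply Nat.not_dvd_ordCompl Nat.prime_two
        rw [hR]
        exact (Nat.mul_pos hN0pos hRodd.pos).ne'
      have h3 : (ordCompl[2] N).gcd N0 ∣ 2 ^ N0.factorization 2 * ordCompl[2] N0 := by
        rw [Nat.ordProj_mul_ordCompl_eq_self]; exact Nat.gcd_dvd_right _ _
      exact (Nat.Coprime.pow_right _ (Nat.coprime_two_right.2 h1)).dvd_of_dvd_mul_left h3
    · exact Nat.dvd_gcd (by rw [h2N]; exact Dvd.intro _ rfl) (Nat.ordCompl_dvd _ _)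
  · rw [h2N, sq]
    exact Nat.mul_lt_mul_of_pos_left (by omega) hpos
  · rw [h2N]; exact Dvd.intro _ rfl

open Matrix Cfsg.Agent.Lib.SL2Mat Cfsg.Agent.Lib.AutSL2 Cfsg.Agent.TwoFusion
  Cfsg.Agent.TwoFusion.NormalSL2 Cfsg.Agent.Classification.QDW.TypeHom
  Cfsg.Agent.Classification.QDW.StructQ Cfsg.Agent.Classification.QDW.TorusG
  Cfsg.Agent.Classification.QDW.TorusF

variable {H : Type*} [Group H] [Finite H] {L : Subgroup H} [hLn : L.Normal] {F : Type*} [Field F]
  [Finite F] {e : L ≃* _root_.Matrix.SpecialLinearGroup (Fin 2) F} {S : Sylow 2 H}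

/-- Elements of odd order of `H₁` are in `L`. -/
theorem mem_L_of_odd (B : Base S L e) {w : H} (hw1 : w ∈ H1 L e) (hwo : Odd (orderOf w)) : w ∈ L := by
  obtain ⟨g, hg⟩ := (mem_H1 w).1 hw1
  -- the determinant of `g` is a square
  have h1 : conjGL (g ^ orderOf w) = 1 := by
    rw [map_pow, ← hg, ← map_pow, pow_orderOf_eq_one, map_one]
  obtain ⟨h01, h10, h00⟩ := StructUniq.scalar_of_conjGL h1
  have h3 : g.1.det ^ orderOf w = (g ^ orderOf w).1 0 0 * (g ^ orderOf w).1 0 0 := by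
    have h5 : (g ^ orderOf w).1.det = g.1.det ^ orderOf w := by
      rw [Units.val_pow_eq_pow_val, det_pow]
    rw [← h5, det_fin_two, h01, h10, ← h00]
    ring
  have hdet : IsSquare g.1.det := by
    obtain ⟨k, hk⟩ := hwo
    have hd : g.1.det ≠ 0 := TorusG.det_ne g
    have h5 : IsSquare (g.1.det ^ orderOf w) := ⟨_, h3⟩
    obtain ⟨s, hs⟩ := h5
    have hdk : g.1.det ^ k ≠ 0 := pow_ne_zero _ hd
    refine ⟨s / g.1.det ^ k, ?_⟩
    rw [div_mul_div_comm, ← hs, eq_div_iff (mul_ne_zero hdk hdk), hk]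
    ring
  obtain ⟨l, hl, c, hc, hlc⟩ := mem_of_isSquare B w g hg hdet
  have hcS := ((B.center_iff c).1 hc).1
  obtain ⟨k, hk⟩ := S.2 ⟨c, hcS⟩
  have hk' : c ^ 2 ^ k = 1 := congrArg Subtype.val hk
  have h5 : w ^ 2 ^ k = l ^ 2 ^ k := by
    rw [hlc, (show Commute l c from (hc l).symm).mul_pow, hk', mul_one]
  obtain ⟨j, hj⟩ := exists_pow_eq_self_of_coprime (x := w) (n := 2 ^ k)
    (Nat.Coprime.pow_left _ (Nat.coprime_two_left.2 hwo))
  rw [← hj, h5]
  exact L.pow_mem (L.pow_mem hl _) _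

/-- The hypotheses: `W` is the set of elements of odd order of `C_M(u)`. -/
structure WHyp {M : Type*} [Group M] [Finite M] (S : Sylow 2 H) (L : Subgroup H) [L.Normal]
    (e : L ≃* _root_.Matrix.SpecialLinearGroup (Fin 2) F) (π : M →* H) (u : M) (g : GL (Fin 2) F) (ε : ℤ)
    (W : Subgroup M) : Prop where
  base : Base S L e
  th : TH L e (π u) g ε
  surj : Function.Surjective π
  odd_ker : Odd (Nat.card π.ker)
  uu : u * u = 1
  mem_W : ∀ w, w ∈ W ↔ w * u = u * w ∧ Odd (orderOf w)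

/-- The torus of odd order. -/
def TT {M : Type*} [Group M] (L : Subgroup H) (π : M →* H) (W : Subgroup M) : Subgroup H := W.map π ⊓ L

/-- `W ∩ ker π`. -/
def A {M : Type*} [Group M] (π : M →* H) (W : Subgroup M) : Subgroup M := W ⊓ π.ker

/-- The elements of `W` without field part. -/
noncomputable def B {M : Type*} [Group M] [Finite M] (L : Subgroup H) [L.Normal]
    (e : L ≃* _root_.Matrix.SpecialLinearGroup (Fin 2) F) (π : M →* H) (W : Subgroup M) : Subgroup M :=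
  W ⊓ StructF.N π L e

namespace WHyp

variable {M : Type*} [Group M] [Finite M] {π : M →* H} {u : M} {g : GL (Fin 2) F} {ε : ℤ}
  {W : Subgroup M}

theorem mem_map (h : WHyp S L e π u g ε W) (x : H) :
    x ∈ W.map π ↔ x * π u = π u * x ∧ Odd (orderOf x) :=
  mem_map_iff h.surj h.odd_ker h.uu rfl h.mem_W x

theorem mem_TT (h : WHyp S L e π u g ε W) (x : H) :
    x ∈ TT L π W ↔ x ∈ CL L (π u) ∧ Odd (orderOf x) := by
  rw [TT, mem_inf, h.mem_map, mem_CL]
  tauto

theorem mem_TT_iff (h : WHyp S L e π u g ε W) (x : H) :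
    x ∈ TT L π W ↔ x ∈ W.map π ∧ x ∈ H1 L e := by
  rw [TT, mem_inf]
  refine ⟨fun h1 => ⟨h1.1, L_le_H1 h1.2⟩, fun h1 => ⟨h1.1, ?_⟩⟩
  exact mem_L_of_odd h.base h1.2 ((h.mem_map x).1 h1.1).2

theorem TT_le (h : WHyp S L e π u g ε W) : TT L π W ≤ CL L (π u) := fun x hx => ((h.mem_TT x).1 hx).1

theorem isCyclic_TT (h : WHyp S L e π u g ε W) : IsCyclic (TT L π W) := by
  have := h.th.isCyclic_CL
  exact isCyclic_of_injective (Subgroup.inclusion h.TT_le) (Subgroup.inclusion_injective _)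

theorem card_sub (h : WHyp S L e π u g ε W) (k : ℕ) :
    Nat.card {x : H // x ∈ TT L π W ∧ x ^ k = 1} = (ordCompl[2] (Nat.card (CL L (π u)))).gcd k := by
  rw [← card_odd h.th.isCyclic_CL k]
  refine Nat.card_congr
    { toFun := fun x => ⟨⟨x.1, ((h.mem_TT x.1).1 x.2.1).1⟩, ?_, ?_⟩
      invFun := fun x => ⟨x.1.1, (h.mem_TT _).2 ⟨x.1.2, ?_⟩, ?_⟩
      left_inv := fun x => rfl
      right_inv := fun x => rfl }
  · rw [← Subgroup.orderOf_coe]; exact ((h.mem_TT x.1).1 x.2.1).2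
  · exact Subtype.ext x.2.2
  · rw [Subgroup.orderOf_coe]; exact x.2.1
  · exact congrArg Subtype.val x.2.2

theorem card_TT (h : WHyp S L e π u g ε W) :
    Nat.card (TT L π W) = ordCompl[2] (Nat.card (CL L (π u))) := by
  have h1 := h.card_sub 0
  rw [Nat.gcd_zero_right] at h1
  rw [← h1]
  refine Nat.card_congr
    { toFun := fun x => ⟨x.1, x.2, pow_zero _⟩
      invFun := fun x => ⟨x.1, x.2.1⟩
      left_inv := fun x => rfl
      right_inv := fun x => rfl }

theorem A_le_B : A π W ≤ B L e π W := by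
  rintro x ⟨h1, h3⟩
  refine ⟨h1, ?_⟩
  change π x ∈ H1 L e
  rw [MonoidHom.mem_ker.1 h3]
  exact one_mem _

theorem mem_A (x : M) : x ∈ A π W ↔ x ∈ W ∧ π x = 1 := by
  rw [A, mem_inf, MonoidHom.mem_ker]

theorem mem_B (x : M) : x ∈ B L e π W ↔ x ∈ W ∧ π x ∈ H1 L e := Iff.rfl

theorem mem_B_iff (h : WHyp S L e π u g ε W) (x : M) : x ∈ B L e π W ↔ x ∈ W ∧ π x ∈ TT L π W := by
  rw [mem_B]
  constructor
  · rintro ⟨h1, h3⟩
    exact ⟨h1, (h.mem_TT_iff _).2 ⟨mem_map_of_mem π h1, h3⟩⟩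
  · rintro ⟨h1, h3⟩
    exact ⟨h1, ((h.mem_TT_iff _).1 h3).2⟩

theorem map_B (h : WHyp S L e π u g ε W) : (B L e π W).map π = TT L π W := by
  ext x
  constructor
  · rintro ⟨w, hw, rfl⟩
    exact ((h.mem_B_iff w).1 hw).2
  · intro hx
    obtain ⟨⟨w, hw, rfl⟩, h3⟩ := (h.mem_TT_iff x).1 hx
    exact ⟨w, (h.mem_B_iff w).2 ⟨hw, hx⟩, rfl⟩

/-- Counting preimages in `B`. -/
theorem card_preimage (h : WHyp S L e π u g ε W) (X : Subgroup H) (hX : X ≤ TT L π W) :
    Nat.card (B L e π W ⊓ X.comap π : Subgroup M) = Nat.card X * Nat.card (A π W) := by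
  set Y : Subgroup M := B L e π W ⊓ X.comap π with hY
  set f : Y →* H := π.comp Y.subtype with hf
  have h1 := f.ker.card_mul_index
  rw [Subgroup.index_ker] at h1
  have h3 : f.range = X := by
    ext x
    constructor
    · rintro ⟨z, rfl⟩
      exact (mem_inf.1 z.2).2
    · intro hx
      have h5 := hX hx
      rw [← h.map_B (e := e)] at h5
      obtain ⟨b, hb, rfl⟩ := h5
      exact ⟨⟨b, mem_inf.2 ⟨hb, hx⟩⟩, rfl⟩
  have h5 : Nat.card f.ker = Nat.card (A π W) := by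
    refine Nat.card_congr
      { toFun := fun x => ⟨(x.1 : M), (mem_A _).2 ⟨(mem_inf.1 (mem_inf.1 x.1.2).1).1, x.2⟩⟩
        invFun := fun x => ⟨⟨x.1, mem_inf.2 ⟨A_le_B x.2, by
          change π x.1 ∈ X
          rw [((mem_A x.1).1 x.2).2]; exact one_mem _⟩⟩, ((mem_A x.1).1 x.2).2⟩
        left_inv := fun x => rfl
        right_inv := fun x => rfl }
  rw [← h1, h3, h5, mul_comm]

theorem card_B (h : WHyp S L e π u g ε W) :
    Nat.card (B L e π W) = Nat.card (TT L π W) * Nat.card (A π W) := by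
  rw [← h.card_preimage (TT L π W) le_rfl]
  congr 1
  have : B L e π W ⊓ (TT L π W).comap π = B L e π W := by
    rw [inf_eq_left]
    intro x hx
    exact ((h.mem_B_iff x).1 hx).2
  rw [this]

theorem conj_mem_TT (w : W) (x : H) (hx : x ∈ TT L π W) :
    π w * x * (π w)⁻¹ ∈ TT L π W := by
  refine mem_inf.2 ⟨?_, hLn.conj_mem _ (mem_inf.1 hx).2 _⟩
  have h1 : π w ∈ W.map π := mem_map_of_mem π w.2
  exact (W.map π).mul_mem ((W.map π).mul_mem h1 (mem_inf.1 hx).1) ((W.map π).inv_mem h1)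

theorem coe_ordCompl (h : WHyp S L e π u g ε W) : ((Nat.card (CL L (π u)) : ℕ) : ℤ) = Nat.card F - ε :=
  h.th.card_CL

/-- The action of `w ∉ B` on the torus, with the fixed points. -/
theorem exists_fix (h : WHyp S L e π u g ε W) {w : M} (hw : w ∈ W) (hwB : w ∉ B L e π W) :
    ∃ p d b c N0 : ℕ, p.Prime ∧ 0 < d ∧ Odd p ∧ Odd b ∧ 3 ≤ b ∧ Nat.Coprime c b ∧
      Nat.card F = (p ^ d) ^ b ∧ (N0 : ℤ) = (p : ℤ) ^ d - ε ∧
      (∀ x ∈ TT L π W, π w * x * (π w)⁻¹ = x ^ ((ε * (p : ℤ) ^ d) ^ c)) ∧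
      (∀ x ∈ TT L π W, π w * x = x * π w ↔ x ^ N0 = 1) ∧
      Nat.card {x : H // x ∈ TT L π W ∧ x ^ N0 = 1} = ordCompl[2] N0 ∧
      (ordCompl[2] N0) ^ 2 < Nat.card (TT L π W) ∧ ordCompl[2] N0 ∣ Nat.card (TT L π W) := by
  obtain ⟨p, hpc⟩ := CharP.exists F
  have : CharP F p := hpc
  have hp : Fact p.Prime := ⟨CharP.char_is_prime F p⟩
  have hp1 := hp.out
  let _ := Fintype.ofFinite F
  obtain ⟨n, -, hn⟩ := FiniteField.card F p
  rw [← Nat.card_eq_fintype_card] at hn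
  obtain ⟨hwu, hwo⟩ := (h.mem_W w).1 hw
  have hwy : π w * π u = π u * π w := by rw [← map_mul, hwu, map_mul]
  have hwo' : Odd (orderOf (π w)) := Odd.of_dvd_nat hwo (orderOf_map_dvd _ _)
  have hw1 : π w ∉ H1 L e := fun h1 => hwB ⟨hw, h1⟩
  obtain ⟨d, b, c, hndb, hb, hb3, hcop, hd0, hact⟩ := h.th.exists_action (p := p) hn hwy hwo' hw1
  have hpodd : Odd p := by
    rcases hp1.eq_two_or_odd' with h0 | h0
    · exfalso
      apply h.th.two_ne
      have := CharP.cast_eq_zero F p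
      rw [h0] at this
      exact_mod_cast this
    · exact h0
  have hp3 : 3 ≤ p := by
    have := hp1.two_le
    rcases hpodd with ⟨k, hk⟩
    omega
  have hq0 : 3 ≤ p ^ d := hp3.trans (Nat.le_self_pow hd0.ne' p)
  have hcardF : Nat.card F = (p ^ d) ^ b := by rw [hn, hndb, pow_mul]
  have hε := h.th.eps_or
  have hεε := h.th.eps_sq
  have hεb : ε ^ b = ε := by
    rcases hε with h | h
    · rw [h, one_pow]
    · rw [h, hb.neg_one_pow]
  -- the number `q₀ - ε`
  obtain ⟨N0, hN0⟩ : ∃ N0 : ℕ, (N0 : ℤ) = (p : ℤ) ^ d - ε := by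
    have h1 : (0 : ℤ) ≤ (p : ℤ) ^ d - ε := by
      have : (3 : ℤ) ≤ (p : ℤ) ^ d := by exact_mod_cast hq0
      rcases hε with h | h <;> rw [h] <;> omega
    exact ⟨_, Int.toNat_of_nonneg h1⟩
  have hnum := fix_num (q0 := p ^ d) (b := b) (N := Nat.card (CL L (π u))) (N0 := N0) hε hq0
    (hpodd.pow) hb hb3 (by rw [h.coe_ordCompl, hcardF]; push_cast; ring) (by rw [hN0]; push_cast; ring)
  have hfix : ∀ x ∈ TT L π W, π w * x = x * π w ↔ x ^ N0 = 1 := by
    intro x hx
    have hxC := h.TT_le hx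
    have h1 := hact x hxC
    -- `x ^ (Q ^ b) = x`
    have hxq : x ^ ((Nat.card F : ℤ) - ε) = 1 := by
      rw [← h.coe_ordCompl, zpow_natCast]
      have := _root_.orderOf_dvd_natCard (⟨x, hxC⟩ : CL L (π u))
      rw [Subgroup.orderOf_mk] at this
      exact orderOf_dvd_iff_pow_eq_one.1 this
    have hN0' : x ^ N0 = 1 ↔ x ^ (ε * (p : ℤ) ^ d) = x := by
      have h3 : (ε * (p : ℤ) ^ d) = ε * N0 + 1 := by rw [hN0]; linear_combination hεε
      rw [h3, _root_.zpow_add, zpow_one, mul_eq_right, _root_.zpow_mul', zpow_natCast]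
      rcases hε with h | h
      · rw [h, zpow_one]
      · rw [h, _root_.zpow_neg, zpow_one, inv_eq_one]
    rw [hN0']
    have hiter : ∀ z : H, ∀ k : ℕ, (fun z : H => z ^ (ε * (p : ℤ) ^ d))^[k] z = z ^ ((ε * (p : ℤ) ^ d) ^ k) := by
      intro z k
      induction k with
      | zero => simp
      | succ k ih =>
        rw [Function.iterate_succ_apply', ih, ← _root_.zpow_mul, pow_succ]
    constructor
    · intro h3
      rw [h3, mul_inv_cancel_right] at h1
      have hc1 : Function.IsPeriodicPt (fun z : H => z ^ (ε * (p : ℤ) ^ d)) c x := by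
        change (fun z : H => z ^ (ε * (p : ℤ) ^ d))^[c] x = x
        rw [hiter, ← h1]
      have hb1 : Function.IsPeriodicPt (fun z : H => z ^ (ε * (p : ℤ) ^ d)) b x := by
        change (fun z : H => z ^ (ε * (p : ℤ) ^ d))^[b] x = x
        have h5 : (ε * (p : ℤ) ^ d) ^ b = ε * ((Nat.card F : ℤ) - ε) + 1 := by
          rw [mul_pow, hεb, hcardF]
          push_cast
          linear_combination hεε
        rw [hiter, h5, _root_.zpow_add, zpow_one, mul_eq_right, _root_.zpow_mul', hxq, _root_.one_zpow]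
      have h5 := hc1.gcd hb1
      rw [hcop] at h5
      exact h5
    · intro h3
      have h5 : x ^ ((ε * (p : ℤ) ^ d) ^ c) = x := by
        rw [← hiter]
        exact Function.iterate_fixed h3 c
      rw [h5, mul_inv_eq_iff_eq_mul] at h1
      exact h1
  refine ⟨p, d, b, c, N0, hp1, hd0, hpodd, hb, hb3, hcop, hcardF, hN0,
    fun x hx => hact x (h.TT_le hx), hfix, ?_, ?_, ?_⟩
  · rw [h.card_sub, hnum.1]
  · rw [h.card_TT]; exact hnum.2.1
  · rw [h.card_TT]; exact hnum.2.2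

/-- `w ∈ B` iff `w` centralises the torus. -/
theorem mem_B_iff_comm (h : WHyp S L e π u g ε W) {w : M} (hw : w ∈ W) :
    w ∈ B L e π W ↔ ∀ x ∈ TT L π W, π w * x = x * π w := by
  constructor
  · intro hwB x hx
    obtain ⟨h1, h3⟩ := (h.mem_B_iff w).1 hwB
    have hc := h.isCyclic_TT
    let _ : CommGroup (TT L π W) := IsCyclic.commGroup
    exact congrArg Subtype.val (mul_comm (⟨π w, h3⟩ : TT L π W) ⟨x, hx⟩)
  · intro h1
    by_contra hwB
    obtain ⟨p, d, b, c, N0, -, -, -, -, -, -, -, -, -, hfix, hcard, hlt, -⟩ := h.exists_fix hw hwB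
    have h3 : Nat.card {x : H // x ∈ TT L π W ∧ x ^ N0 = 1} = Nat.card (TT L π W) := by
      refine Nat.card_congr
        { toFun := fun x => ⟨x.1, x.2.1⟩
          invFun := fun x => ⟨x.1, x.2, (hfix x.1 x.2).1 (h1 x.1 x.2)⟩
          left_inv := fun x => rfl
          right_inv := fun x => rfl }
    rw [← h3, hcard] at hlt
    have h5 : 0 < ordCompl[2] N0 := by
      rw [← hcard, h3]; exact Nat.card_pos
    nlinarith only [hlt]

/-- The action of `W` on the torus. -/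
theorem exists_rho (h : WHyp S L e π u g ε W) :
    ∃ ρ : W →* (ZMod (Nat.card (TT L π W)))ˣ,
      (∀ (w : W) (b : M), b ∈ B L e π W →
        ∃ a ∈ A π W, (w : M) * b * (w : M)⁻¹ = b ^ (ρ w : ZMod (Nat.card (TT L π W))).val * a) ∧
      (∀ (w : W) (x : H), x ∈ TT L π W → π w * x * (π w)⁻¹ = x ^ (ρ w : ZMod (Nat.card (TT L π W))).val) ∧
      ∀ w : W, ρ w = 1 ↔ (w : M) ∈ B L e π W := by
  obtain ⟨ρ, h1, h3⟩ := TorusW.exists_rho (π.comp W.subtype) (TT L π W) h.isCyclic_TT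
    (fun w x hx => conj_mem_TT w x hx)
  refine ⟨ρ, ?_, h1, ?_⟩
  · intro w b hb
    obtain ⟨hbW, hbT⟩ := (h.mem_B_iff b).1 hb
    refine ⟨(b ^ (ρ w : ZMod (Nat.card (TT L π W))).val)⁻¹ * (w * b * (w : M)⁻¹), ?_, by group⟩
    rw [mem_A]
    refine ⟨W.mul_mem (W.inv_mem (W.pow_mem hbW _)) (W.mul_mem (W.mul_mem w.2 hbW) (W.inv_mem w.2)), ?_⟩
    have h5 := h1 w (π b) hbT
    change π w * π b * (π w)⁻¹ = _ at h5
    rw [map_mul, map_inv, map_pow, map_mul, map_mul, map_inv, h5, inv_mul_cancel]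
  · intro w
    rw [h3, h.mem_B_iff_comm w.2]
    rfl

/-- `B / A` is cyclic. -/
theorem exists_gen (h : WHyp S L e π u g ε W) :
    ∃ c ∈ B L e π W, ∀ b ∈ B L e π W, ∃ k : ℕ, b * (c ^ k)⁻¹ ∈ A π W := by
  obtain ⟨⟨x, hx⟩, hxc⟩ := h.isCyclic_TT.exists_ofOrder_eq_natCard
  have hx' := hx
  rw [← h.map_B (e := e)] at hx'
  obtain ⟨c, hc, rfl⟩ := hx'
  refine ⟨c, hc, fun b hb => ?_⟩
  obtain ⟨hbW, hbT⟩ := (h.mem_B_iff b).1 hb
  have h1 : (⟨π b, hbT⟩ : TT L π W) ∈ zpowers (⟨π c, hx⟩ : TT L π W) := by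
    have h3 : zpowers (⟨π c, hx⟩ : TT L π W) = ⊤ := by
      apply Subgroup.eq_top_of_card_eq
      rw [Nat.card_zpowers, hxc]
    rw [h3]; trivial
  obtain ⟨k, hk⟩ := mem_powers_iff_mem_zpowers.2 h1
  have hk' : π c ^ k = π b := congrArg Subtype.val hk
  refine ⟨k, (mem_A _).2 ⟨W.mul_mem hbW (W.inv_mem (W.pow_mem hc.1 k)), ?_⟩⟩
  rw [map_mul, map_inv, map_pow, hk', mul_inv_cancel]

/-- Zsigmondy primes. -/
theorem mem_B_of_zsigmondy (h : WHyp S L e π u g ε W) {w : M} (hw : w ∈ W) {p n r : ℕ}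
    (hp : p.Prime) (hn : Nat.card F = p ^ n) (hr : ∀ j, r ∣ p ^ j - 1 → n ∣ j) {x : H}
    (hx : x ∈ TT L π W) (hxr : orderOf x = r) (hwx : π w * x = x * π w) : w ∈ B L e π W := by
  by_contra hwB
  obtain ⟨p', d, b, c, N0, hp', hd, hpodd, hb, hb3, -, hF, hN0, -, hfix, -⟩ := h.exists_fix hw hwB
  have h1 := (hfix x hx).1 hwx
  have hpp : p = p' := by
    have h3 : p ∣ p' := by
      apply hp.dvd_of_dvd_pow (n := d * b)
      rw [pow_mul, ← hF, hn]
      apply dvd_pow_self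
      rintro rfl
      rw [pow_zero] at hn
      have := Finite.one_lt_card (α := F)
      omega
    exact (Nat.prime_dvd_prime_iff_eq hp hp').1 h3
  subst hpp
  have hnd : n = d * b := by
    apply Nat.pow_right_injective hp.two_le
    change p ^ n = p ^ (d * b)
    rw [pow_mul, ← hF, hn]
  have h3 : r ∣ N0 := by rw [← hxr]; exact orderOf_dvd_of_pow_eq_one h1
  have h5 : r ∣ p ^ (d * 2) - 1 := by
    have h6 : (r : ℤ) ∣ ((p ^ (d * 2) - 1 : ℕ) : ℤ) := by
      have h7 : 1 ≤ p ^ (d * 2) := Nat.one_le_pow _ _ hp.pos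
      rw [Nat.cast_sub h7]
      push_cast
      have h8 : ((p : ℤ) ^ (d * 2) - 1) = ((p : ℤ) ^ d - ε) * ((p : ℤ) ^ d + ε) := by
        rw [pow_mul]
        linear_combination h.th.eps_sq
      rw [h8, ← hN0]
      exact (Int.natCast_dvd_natCast.2 h3).mul_right _
    exact_mod_cast h6
  have h6 := hr _ h5
  rw [hnd] at h6
  have h7 : b ∣ 2 := Nat.dvd_of_mul_dvd_mul_left hd h6
  have := Nat.le_of_dvd (by norm_num) h7
  omega

/-- `M = N W`. -/
theorem exists_mul (h : WHyp S L e π u g ε W) (hodd : Odd (H1 L e).index) (R : Sylow 2 M)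
    (hR : Cfsg.IsQuasiDihedral (R : Subgroup M) ∨ Cfsg.IsWreathed (R : Subgroup M)) (hu : u ∈ R) (m : M) :
    ∃ n ∈ StructF.N π L e, ∃ w ∈ W, m = n * w := by
  obtain ⟨n, hn, c, hc, rfl⟩ := StructF.exists_mul h.surj hodd R hR m
  -- the odd part of `c`
  obtain ⟨a, k, hk, hak⟩ := Nat.exists_eq_two_pow_mul_odd (orderOf_pos c).ne'
  have hcN : c ^ k ∈ StructF.N π L e := by
    have h1 : (c ^ k) ^ 2 ^ a = 1 := by
      rw [← pow_mul, mul_comm k, ← hak, pow_orderOf_eq_one]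
    have hN := StructF.odd_index_N (π := π) (e := e) h.surj hodd
    have h3 : (QuotientGroup.mk' (StructF.N π L e) (c ^ k)) ^ 2 ^ a = 1 := by
      rw [← map_pow, h1, map_one]
    have h4 : (QuotientGroup.mk' (StructF.N π L e) (c ^ k)) ^ (StructF.N π L e).index = 1 := by
      rw [Subgroup.index]; exact pow_card_eq_one'
    have h5 := Nat.dvd_gcd (orderOf_dvd_of_pow_eq_one h3) (orderOf_dvd_of_pow_eq_one h4)
    have h6 : Nat.Coprime (2 ^ a) (StructF.N π L e).index := Nat.Coprime.pow_left _ (Nat.coprime_two_left.2 hN)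
    rw [h6] at h5
    exact (QuotientGroup.eq_one_iff _).1 (orderOf_eq_one_iff.1 (Nat.dvd_one.1 h5))
  -- `c = (c ^ k) ^ i * (odd)`
  have hcop : Nat.Coprime k (2 ^ a) := Nat.Coprime.pow_right _ (Nat.coprime_two_right.2 hk)
  have h1 : (k : ℤ) * Nat.gcdA k (2 ^ a) + ((2 ^ a : ℕ) : ℤ) * Nat.gcdB k (2 ^ a) = 1 := by
    rw [← Nat.gcd_eq_gcd_ab, hcop]; rfl
  have h3 : c = (c ^ k) ^ (Nat.gcdA k (2 ^ a)) * (c ^ (2 ^ a)) ^ (Nat.gcdB k (2 ^ a)) := by
    rw [← zpow_natCast, ← zpow_natCast c (2 ^ a), ← _root_.zpow_mul, ← _root_.zpow_mul, ← _root_.zpow_add, h1,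
      zpow_one]
  refine ⟨n * (c ^ k) ^ (Nat.gcdA k (2 ^ a)), (StructF.N π L e).mul_mem hn ((StructF.N π L e).zpow_mem hcN _),
    (c ^ (2 ^ a)) ^ (Nat.gcdB k (2 ^ a)), (h.mem_W _).2 ⟨?_, ?_⟩, by rw [mul_assoc, ← h3]⟩
  · have h5 : Commute c u := hc u hu
    exact ((h5.pow_left _).zpow_left _).eq
  · have h5 : ((c ^ (2 ^ a)) ^ (Nat.gcdB k (2 ^ a))) ^ k = 1 := by
      rw [← zpow_natCast ((c ^ (2 ^ a)) ^ (Nat.gcdB k (2 ^ a))) k, ← _root_.zpow_mul, mul_comm, _root_.zpow_mul,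
        zpow_natCast, ← pow_mul, ← hak, pow_orderOf_eq_one, _root_.one_zpow]
    exact Odd.of_dvd_nat hk (orderOf_dvd_of_pow_eq_one h5)

end WHyp

end Cfsg.Agent.Classification.QDW.TorusW
end

-- part: Classification/QDW/FuDichG
section
/-!
# The dichotomy of the field case at the level of `G`

`M = C(t)`, `V = ⟨t, u⟩`, `W` the set of elements of odd order of `C(V)`, `s` and `h` induce `S₃` on `V`.
With `ρ : W → (ZMod m)ˣ` the action on the torus: either `ρ` is invariant under all elements normalising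
`V`, or a Sylow `r`-subgroup `P` of `W` satisfies `|P : P ∩ A_t ∩ A_u ∩ A_{tu}| = m_r ^ 3`.
-/

set_option autoImplicit false
set_option linter.unusedSectionVars false

namespace Cfsg.Agent.Classification.QDW.FuDichG

open Subgroup Matrix Cfsg.Agent.Lib.SL2Mat Cfsg.Agent.Lib.AutSL2 Cfsg.Agent.TwoFusion
  Cfsg.Agent.TwoFusion.NormalSL2 Cfsg.Agent.Classification.QDW.TypeHom
  Cfsg.Agent.Classification.QDW.StructQ Cfsg.Agent.Classification.QDW.TorusG
  Cfsg.Agent.Classification.QDW.TorusF Cfsg.Agent.Classification.QDW.TorusW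

/-- Exponents on a cyclic group are determined by the power maps. -/
theorem zmod_eq_of_pow {H : Type*} [Group H] (T : Subgroup H) [Finite T] (hT : IsCyclic T)
    (a b : ZMod (Nat.card T)) (hab : ∀ x ∈ T, x ^ a.val = x ^ b.val) : a = b := by
  obtain ⟨⟨c, hc⟩, hcc⟩ := hT.exists_ofOrder_eq_natCard
  have hco : orderOf c = Nat.card T := by
    rw [← hcc]; exact Subgroup.orderOf_coe (⟨c, hc⟩ : T)
  have : NeZero (Nat.card T) := ⟨Nat.card_pos.ne'⟩
  have h := hab c hc
  rw [pow_inj_mod, hco, Nat.mod_eq_of_lt (ZMod.val_lt a), Nat.mod_eq_of_lt (ZMod.val_lt b)] at h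
  exact ZMod.val_injective _ h

/-- Two Sylow subgroups of a commutative group coincide. -/
theorem eq_of_isPGroup {T : Type*} [Group T] [Finite T] (hT : ∀ x y : T, x * y = y * x) {r : ℕ}
    [Fact r.Prime] {X Y : Subgroup T} (hX : IsPGroup r X) (hY : IsPGroup r Y)
    (hXi : ¬ r ∣ X.index) (hYi : ¬ r ∣ Y.index) : X = Y := by
  have hN : ∀ Z : Subgroup T, Z.Normal := fun Z =>
    ⟨fun z hz g => by rw [hT g z, mul_inv_cancel_right]; exact hz⟩
  have key : ∀ X Y : Subgroup T, IsPGroup r X → IsPGroup r Y → ¬ r ∣ Y.index → X ≤ Y := by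
    intro X Y hX hY hYi x hx
    have := hN Y
    obtain ⟨k, hk⟩ := hX ⟨x, hx⟩
    have hk' : x ^ r ^ k = 1 := congrArg Subtype.val hk
    have h2 : (QuotientGroup.mk' Y x) ^ r ^ k = 1 := by rw [← map_pow, hk', map_one]
    have h3 : (QuotientGroup.mk' Y x) ^ Y.index = 1 := by
      rw [Subgroup.index]; exact pow_card_eq_one'
    have h4 := Nat.dvd_gcd (orderOf_dvd_of_pow_eq_one h2) (orderOf_dvd_of_pow_eq_one h3)
    have h5 : Nat.Coprime (r ^ k) Y.index :=
      Nat.Coprime.pow_left _ ((Nat.Prime.coprime_iff_not_dvd Fact.out).2 hYi)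
    rw [h5] at h4
    exact (QuotientGroup.eq_one_iff x).1 (orderOf_eq_one_iff.1 (Nat.dvd_one.1 h4))
  exact le_antisymm (key X Y hX hY hYi) (key Y X hY hX hXi)

/-- The order of a Sylow subgroup. -/
theorem card_of_isPGroup {T : Type*} [Group T] [Finite T] {r : ℕ}
    [Fact r.Prime] {X : Subgroup T} (hX : IsPGroup r X) (hXi : ¬ r ∣ X.index) :
    Nat.card X = ordProj[r] (Nat.card T) := by
  obtain ⟨k, hk⟩ := IsPGroup.iff_card.1 hX
  have h1 := X.card_mul_index
  rw [← h1, hk, Nat.factorization_mul (pow_ne_zero _ (Fact.out : r.Prime).ne_zero)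
    (Subgroup.index_ne_zero_of_finite), Nat.factorization_pow, Finsupp.add_apply]
  rw [Nat.factorization_eq_zero_of_not_dvd hXi, add_zero, Finsupp.smul_apply,
    Nat.Prime.factorization_self Fact.out, smul_eq_mul, mul_one]

variable {H : Type*} [Group H] [Finite H] {L : Subgroup H} [hLn : L.Normal] {F : Type*} [Field F]
  [Finite F] {e : L ≃* _root_.Matrix.SpecialLinearGroup (Fin 2) F} {S : Sylow 2 H}

/-- The `G`-level data: `M = C(t)`, `V = ⟨t, u⟩`, `W` the elements of odd order of `C(V)`, and elements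
`s`, `h` inducing `S₃` on `V`. -/
structure Setup {G : Type*} [Group G] [Finite G] (t u s h : G) (M : Subgroup G) (S : Sylow 2 H)
    (L : Subgroup H) [L.Normal] (e : L ≃* _root_.Matrix.SpecialLinearGroup (Fin 2) F) (π : M →* H)
    (uM : u ∈ M) (g : GL (Fin 2) F) (ε : ℤ) (W : Subgroup G) : Prop where
  mem_M : ∀ x, x ∈ M ↔ x * t = t * x
  mem_W : ∀ x, x ∈ W ↔ x * t = t * x ∧ x * u = u * x ∧ Odd (orderOf x)
  whyp : WHyp S L e π ⟨u, uM⟩ g ε (W.subgroupOf M)
  st : s * t = t * s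
  su : s * u * s⁻¹ = t * u
  ht : h * t * h⁻¹ = u
  hu : h * u * h⁻¹ = t * u

namespace Setup

variable {G : Type*} [Group G] [Finite G] {t u s h : G} {M : Subgroup G} {π : M →* H}
    {uM : u ∈ M} {g : GL (Fin 2) F} {ε : ℤ} {W : Subgroup G}

section

variable (hS : Setup t u s h M S L e π uM g ε W)

include hS

theorem W_le : W ≤ M := fun x hx => (hS.mem_M x).2 ((hS.mem_W x).1 hx).1

theorem ut : u * t = t * u := (hS.mem_M u).1 uM

theorem uu : u * u = 1 := congrArg Subtype.val hS.whyp.uu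

theorem tt : t * t = 1 := by
  have h1 : t = h⁻¹ * u * h := by rw [← hS.ht]; group
  have h2 : h⁻¹ * u * h * (h⁻¹ * u * h) = h⁻¹ * (u * u) * h := by group
  rw [h1, h2, hS.uu, mul_one, inv_mul_cancel]

/-- Membership in `W` through the centralizer of `V`. -/
theorem conj_mem_W {c : G} (h1 : c⁻¹ * t * c = t ∨ c⁻¹ * t * c = u ∨ c⁻¹ * t * c = t * u)
    (h2 : c⁻¹ * u * c = t ∨ c⁻¹ * u * c = u ∨ c⁻¹ * u * c = t * u) {x : G} (hx : x ∈ W) :
    c * x * c⁻¹ ∈ W := by
  obtain ⟨ht, hu, ho⟩ := (hS.mem_W x).1 hx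
  have key : ∀ v : G, (v = t ∨ v = u ∨ v = t * u) → x * v = v * x := by
    rintro v (rfl | rfl | rfl)
    · exact ht
    · exact hu
    · rw [← mul_assoc, ht, mul_assoc, hu, mul_assoc]
  refine (hS.mem_W _).2 ⟨?_, ?_, ?_⟩
  · have h3 := key _ h1
    calc c * x * c⁻¹ * t = c * (x * (c⁻¹ * t * c)) * c⁻¹ := by group
      _ = c * ((c⁻¹ * t * c) * x) * c⁻¹ := by rw [h3]
      _ = t * (c * x * c⁻¹) := by group
  · have h3 := key _ h2
    calc c * x * c⁻¹ * u = c * (x * (c⁻¹ * u * c)) * c⁻¹ := by group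
      _ = c * ((c⁻¹ * u * c) * x) * c⁻¹ := by rw [h3]
      _ = u * (c * x * c⁻¹) := by group
  · have h3 : orderOf (c * x * c⁻¹) = orderOf x := by
      have := MulEquiv.orderOf_eq (MulAut.conj c) x
      rwa [MulAut.conj_apply] at this
    rwa [h3]

/-- Elements permuting `V` normalise `W`. -/
theorem mem_normalizer {c : G} (h1 : c⁻¹ * t * c = t ∨ c⁻¹ * t * c = u ∨ c⁻¹ * t * c = t * u)
    (h2 : c⁻¹ * u * c = t ∨ c⁻¹ * u * c = u ∨ c⁻¹ * u * c = t * u) :
    c ∈ normalizer (W : Set G) := by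
  have h3 : W.map (MulAut.conj c).toMonoidHom ≤ W := by
    rintro _ ⟨x, hx, rfl⟩
    exact hS.conj_mem_W h1 h2 hx
  have h4 : W.map (MulAut.conj c).toMonoidHom = W := by
    apply SetLike.coe_injective
    apply Set.eq_of_subset_of_ncard_le h3
    have : Nat.card (W.map (MulAut.conj c).toMonoidHom) = Nat.card W :=
      Nat.card_congr (W.equivMapOfInjective _ (MulAut.conj c).injective).toEquiv.symm
    exact this.ge
  rw [mem_normalizer_iff]
  intro x
  refine ⟨fun hx => hS.conj_mem_W h1 h2 hx, fun hx => ?_⟩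
  rw [← h4] at hx
  obtain ⟨y, hy, hyx⟩ := hx
  have : y = x := (MulAut.conj c).injective hyx
  rwa [← this]

theorem s_mem : s ∈ normalizer (W : Set G) := by
  apply hS.mem_normalizer
  · left
    rw [mul_assoc, ← hS.st, inv_mul_cancel_left]
  · right; right
    -- `s⁻¹ u s = t u`
    have h1 : s * (t * u) * s⁻¹ = u := by
      calc s * (t * u) * s⁻¹ = (s * t * s⁻¹) * (s * u * s⁻¹) := by group
        _ = t * (t * u) := by rw [hS.st, mul_inv_cancel_right, hS.su]
        _ = u := by rw [← mul_assoc, hS.tt, one_mul]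
    calc s⁻¹ * u * s = s⁻¹ * (s * (t * u) * s⁻¹) * s := by rw [h1]
      _ = t * u := by group

theorem htu : h * (t * u) * h⁻¹ = t := by
  calc h * (t * u) * h⁻¹ = (h * t * h⁻¹) * (h * u * h⁻¹) := by group
    _ = u * (t * u) := by rw [hS.ht, hS.hu]
    _ = u * (u * t) := by rw [hS.ut]
    _ = t := by rw [← mul_assoc, hS.uu, one_mul]

theorem h_mem : h ∈ normalizer (W : Set G) := by
  apply hS.mem_normalizer
  · right; right
    calc h⁻¹ * t * h = h⁻¹ * (h * (t * u) * h⁻¹) * h := by rw [hS.htu]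
      _ = t * u := by group
  · left
    calc h⁻¹ * u * h = h⁻¹ * (h * t * h⁻¹) * h := by rw [hS.ht]
      _ = t := by group

end

/-- Conjugation `x ↦ c⁻¹ x c` on `W`. -/
noncomputable def cj (W : Subgroup G) (c : normalizer (W : Set G)) : W →* W where
  toFun x := ⟨(c : G)⁻¹ * x * c, (mem_normalizer_iff''.1 c.2 x).1 x.2⟩
  map_one' := by ext; simp
  map_mul' a b := by
    ext
    change (c : G)⁻¹ * (a * b) * c = ((c : G)⁻¹ * a * c) * ((c : G)⁻¹ * b * c)
    group

theorem coe_cj (W : Subgroup G) (c : normalizer (W : Set G)) (x : W) :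
    ((cj W c x : W) : G) = (c : G)⁻¹ * x * c := rfl

theorem cj_mul (W : Subgroup G) (a b : normalizer (W : Set G)) (x : W) :
    cj W (a * b) x = cj W b (cj W a x) := by
  ext
  rw [coe_cj, coe_cj, coe_cj]
  push_cast
  group

theorem cj_one (W : Subgroup G) (x : W) : cj W 1 x = x := by
  ext
  rw [coe_cj]
  push_cast
  group

theorem cj_bijective (W : Subgroup G) (c : normalizer (W : Set G)) :
    Function.Bijective (cj W c) := by
  constructor
  · intro a b hab
    have := congrArg (cj W c⁻¹) hab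
    rwa [← cj_mul, ← cj_mul, mul_inv_cancel, cj_one, cj_one] at this
  · intro b
    exact ⟨cj W c⁻¹ b, by rw [← cj_mul, inv_mul_cancel, cj_one]⟩

/-- The map `W → H`. -/
noncomputable def pr (hS : Setup t u s h M S L e π uM g ε W) : W →* H :=
  π.comp (Subgroup.inclusion hS.W_le)

section

variable (hS : Setup t u s h M S L e π uM g ε W)

/-- The torus of odd order. -/
abbrev tor (_hS : Setup t u s h M S L e π uM g ε W) : Subgroup H := TT L π (W.subgroupOf M)

theorem pr_apply (w : W) : hS.pr w = π ⟨w, hS.W_le w.2⟩ := rfl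

theorem mem_tor_pr (w : W) : hS.pr w ∈ hS.tor ↔ hS.pr w ∈ H1 L e := by
  have h1 : (⟨w, hS.W_le w.2⟩ : M) ∈ W.subgroupOf M := w.2
  rw [hS.whyp.mem_TT_iff]
  exact ⟨fun h2 => h2.2, fun h2 => ⟨mem_map_of_mem π h1, h2⟩⟩

theorem exists_pr {x : H} (hx : x ∈ hS.tor) : ∃ w : W, hS.pr w = x := by
  obtain ⟨⟨w, hw, rfl⟩, -⟩ := (hS.whyp.mem_TT_iff x).1 hx
  exact ⟨⟨w, hw⟩, rfl⟩

theorem tor_comm {x y : H} (hx : x ∈ hS.tor) (hy : y ∈ hS.tor) : x * y = y * x := by
  have hc := hS.whyp.isCyclic_TT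
  let _ : CommGroup hS.tor := IsCyclic.commGroup
  exact congrArg Subtype.val (mul_comm (⟨x, hx⟩ : hS.tor) ⟨y, hy⟩)

/-- The action `ρ` of `W` on the torus. -/
theorem exists_rho : ∃ ρ : W →* (ZMod (Nat.card hS.tor))ˣ,
    (∀ (w : W) (x : H), x ∈ hS.tor →
      hS.pr w * x * (hS.pr w)⁻¹ = x ^ (ρ w : ZMod (Nat.card hS.tor)).val) ∧
    ∀ w : W, ρ w = 1 ↔ hS.pr w ∈ H1 L e := by
  obtain ⟨ρ, -, h1, h2⟩ := hS.whyp.exists_rho
  refine ⟨ρ.comp (Subgroup.subgroupOfEquivOfLe hS.W_le).symm.toMonoidHom, ?_, ?_⟩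
  · intro w x hx
    exact h1 ((Subgroup.subgroupOfEquivOfLe hS.W_le).symm w) x hx
  · intro w
    have h3 := h2 ((Subgroup.subgroupOfEquivOfLe hS.W_le).symm w)
    refine h3.trans ?_
    have h4 : (((Subgroup.subgroupOfEquivOfLe hS.W_le).symm w : W.subgroupOf M) : M) =
        ⟨w, hS.W_le w.2⟩ := rfl
    rw [h4]
    constructor
    · intro h5; exact h5.2
    · intro h5; exact ⟨w.2, h5⟩

/-- `ρ` is invariant under `C(t) ∩ N(W)`. -/
theorem rho_conj {ρ : W →* (ZMod (Nat.card hS.tor))ˣ}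
    (hρ : ∀ (w : W) (x : H), x ∈ hS.tor →
      hS.pr w * x * (hS.pr w)⁻¹ = x ^ (ρ w : ZMod (Nat.card hS.tor)).val)
    {c : normalizer (W : Set G)} (hc : (c : G) ∈ M) (w : W) : ρ (cj W c w) = ρ w := by
  apply Units.ext
  apply zmod_eq_of_pow hS.tor hS.whyp.isCyclic_TT
  intro x hx
  obtain ⟨k, hk⟩ : ∃ k : H, k = π ⟨c, hc⟩ := ⟨_, rfl⟩
  have hprc : hS.pr (cj W c w) = k⁻¹ * hS.pr w * k := by
    rw [pr_apply, pr_apply, hk, ← map_inv, ← map_mul, ← map_mul]
    rfl
  have hkx : k * x * k⁻¹ ∈ hS.tor := by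
    have h1 : (⟨c, hc⟩ : M) ∈ normalizer (W.subgroupOf M : Set M) := by
      rw [mem_normalizer_iff]
      intro y
      rw [mem_subgroupOf, mem_subgroupOf]
      exact mem_normalizer_iff.1 c.2 y
    refine mem_inf.2 ⟨?_, hLn.conj_mem _ (mem_inf.1 hx).2 _⟩
    obtain ⟨y, hy, hyx⟩ := (mem_inf.1 hx).1
    refine ⟨(⟨c, hc⟩ * y * ⟨c, hc⟩⁻¹ :), ((mem_normalizer_iff.1 h1 y).1 hy :), ?_⟩
    rw [map_mul, map_mul, map_inv, hyx, hk]
  have h2 := hρ w _ hkx
  rw [← hρ _ x hx, hprc]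
  calc k⁻¹ * hS.pr w * k * x * (k⁻¹ * hS.pr w * k)⁻¹
      = k⁻¹ * (hS.pr w * (k * x * k⁻¹) * (hS.pr w)⁻¹) * k := by group
    _ = k⁻¹ * ((k * x * k⁻¹) ^ (ρ w : ZMod (Nat.card hS.tor)).val) * k := by rw [h2]
    _ = x ^ (ρ w : ZMod (Nat.card hS.tor)).val := by
        rw [conj_pow]; group

/-- `r` is a Zsigmondy prime dividing the order of the torus. -/
structure Zsig (_hS : Setup t u s h M S L e π uM g ε W) (p n r : ℕ) : Prop where
  prime_p : p.Prime
  card_F : Nat.card F = p ^ n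
  prime_r : r.Prime
  zsig : ∀ j, r ∣ p ^ j - 1 → n ∣ j
  dvd : r ∣ Nat.card _hS.tor

variable {hS}

/-- An element of `W` centralising an element of order `r` of the torus has no field part. -/
theorem Zsig.rho_eq_one {p n r : ℕ} (hZ : Zsig hS p n r) {ρ : W →* (ZMod (Nat.card hS.tor))ˣ}
    (hρ1 : ∀ w : W, ρ w = 1 ↔ hS.pr w ∈ H1 L e) {w : W} {x : H} (hx : x ∈ hS.tor)
    (hxr : orderOf x = r) (hwx : hS.pr w * x = x * hS.pr w) : ρ w = 1 := by
  rw [hρ1]
  have h1 : (⟨w, hS.W_le w.2⟩ : M) ∈ W.subgroupOf M := w.2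
  exact (hS.whyp.mem_B_of_zsigmondy h1 hZ.prime_p hZ.card_F hZ.zsig hx hxr hwx).2

theorem Zsig.exists_elt {p n r : ℕ} (hZ : Zsig hS p n r) : ∃ x ∈ hS.tor, orderOf x = r := by
  have := Fact.mk hZ.prime_r
  obtain ⟨x, hx⟩ := exists_prime_orderOf_dvd_card' r hZ.dvd
  exact ⟨x, x.2, by rw [Subgroup.orderOf_coe, hx]⟩

/-- `r`-elements of `W` have no field part. -/
theorem Zsig.rho_pElt {p n r : ℕ} (hZ : Zsig hS p n r) {ρ : W →* (ZMod (Nat.card hS.tor))ˣ}
    (hρ : ∀ (w : W) (x : H), x ∈ hS.tor →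
      hS.pr w * x * (hS.pr w)⁻¹ = x ^ (ρ w : ZMod (Nat.card hS.tor)).val)
    (hρ1 : ∀ w : W, ρ w = 1 ↔ hS.pr w ∈ H1 L e) {w : W} {k : ℕ} (hw : w ^ r ^ k = 1) :
    ρ w = 1 := by
  have := Fact.mk hZ.prime_r
  obtain ⟨x, hx, hxr⟩ := hZ.exists_elt
  apply hZ.rho_eq_one hρ1 hx hxr
  set a : ℕ := (ρ w : ZMod (Nat.card hS.tor)).val with ha
  have h1 : ∀ j : ℕ, hS.pr w ^ j * x * (hS.pr w ^ j)⁻¹ = x ^ a ^ j := by
    intro j
    induction j with
    | zero => simp
    | succ j ih =>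
      have e1 : hS.pr w ^ (j + 1) * x * (hS.pr w ^ (j + 1))⁻¹ =
          hS.pr w * (hS.pr w ^ j * x * (hS.pr w ^ j)⁻¹) * (hS.pr w)⁻¹ := by
        rw [pow_succ']; group
      rw [e1, ih, ← conj_pow, hρ w x hx, ← ha, ← pow_mul, pow_succ']
  have h2 : x ^ a ^ r ^ k = x := by
    rw [← h1, ← map_pow, hw, map_one, one_mul, inv_one, mul_one]
  -- `a ^ (r ^ k) ≡ a mod r`
  have h3 : (a : ZMod r) ^ r ^ k = a := ZMod.pow_card_pow _
  have h4 : (a : ZMod r) = 1 := by
    rw [← h3]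
    have h5 : x ^ a ^ r ^ k = x ^ 1 := by rw [h2, pow_one]
    rw [pow_eq_pow_iff_modEq, hxr] at h5
    have h6 := (ZMod.natCast_eq_natCast_iff _ _ _).2 h5
    push_cast at h6
    exact h6
  have h5 : x ^ a = x := by
    have h6 : x ^ a = x ^ 1 := by
      rw [pow_eq_pow_iff_modEq, hxr]
      apply (ZMod.natCast_eq_natCast_iff _ _ _).1
      push_cast
      exact h4
    rw [h6, pow_one]
  have h6 := hρ w x hx
  rw [← ha, h5, mul_inv_eq_iff_eq_mul] at h6
  exact h6

/-- Sylow `r`-subgroups of `W` map into the torus. -/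
theorem Zsig.map_le {p n r : ℕ} (hZ : Zsig hS p n r) (Q : Subgroup W) (hQ : IsPGroup r Q) :
    Q.map hS.pr ≤ hS.tor := by
  obtain ⟨ρ, hρ, hρ1⟩ := hS.exists_rho
  rintro _ ⟨x, hx, rfl⟩
  obtain ⟨k, hk⟩ := hQ ⟨x, hx⟩
  rw [hS.mem_tor_pr, ← hρ1]
  exact hZ.rho_pElt hρ hρ1 (congrArg Subtype.val hk)

/-- Its image is a Sylow `r`-subgroup of the torus. -/
theorem Zsig.map_index {p n r : ℕ} (hZ : Zsig hS p n r) (Q : Subgroup W) (hQ : IsPGroup r Q)
    (hQi : ¬ r ∣ Q.index) : ¬ r ∣ ((Q.map hS.pr).subgroupOf hS.tor).index := by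
  set B' : Subgroup W := hS.tor.comap hS.pr with hB'
  have hQB : Q ≤ B' := fun x hx => hZ.map_le Q hQ (mem_map_of_mem _ hx)
  set f : B' →* hS.tor := (hS.pr.comp B'.subtype).codRestrict hS.tor (fun x => x.2) with hf
  have hfs : Function.Surjective f := by
    rintro ⟨x, hx⟩
    obtain ⟨w, rfl⟩ := hS.exists_pr hx
    exact ⟨⟨w, hx⟩, rfl⟩
  have h1 : (Q.subgroupOf B').map f = (Q.map hS.pr).subgroupOf hS.tor := by
    ext x
    constructor
    · rintro ⟨y, hy, rfl⟩
      exact ⟨(y : W), hy, rfl⟩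
    · rintro ⟨y, hy, hyx⟩
      exact ⟨⟨y, hQB hy⟩, hy, Subtype.ext hyx⟩
  rw [← h1]
  intro hd
  apply hQi
  have h2 := hd.trans (index_map_dvd (Q.subgroupOf B') hfs)
  rw [← relIndex_mul_index hQB]
  exact h2.mul_right _

theorem Zsig.map_isPGroup {p n r : ℕ} (_hZ : Zsig hS p n r) (Q : Subgroup W) (hQ : IsPGroup r Q) :
    IsPGroup r ((Q.map hS.pr).subgroupOf hS.tor) := (hQ.map _).comap_subtype

/-- All Sylow `r`-subgroups of `W` have the same image. -/
theorem Zsig.map_eq {p n r : ℕ} (hZ : Zsig hS p n r) (Q R : Subgroup W) (hQ : IsPGroup r Q)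
    (hQi : ¬ r ∣ Q.index) (hR : IsPGroup r R) (hRi : ¬ r ∣ R.index) :
    Q.map hS.pr = R.map hS.pr := by
  have := Fact.mk hZ.prime_r
  have h1 : (Q.map hS.pr).subgroupOf hS.tor = (R.map hS.pr).subgroupOf hS.tor := by
    apply eq_of_isPGroup (r := r) (fun x y => Subtype.ext (hS.tor_comm x.2 y.2))
      (hZ.map_isPGroup Q hQ) (hZ.map_isPGroup R hR) (hZ.map_index Q hQ hQi) (hZ.map_index R hR hRi)
  have h2 := congrArg (Subgroup.map hS.tor.subtype) h1
  rwa [subgroupOf_map_subtype, subgroupOf_map_subtype, inf_eq_left.2 (hZ.map_le Q hQ),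
    inf_eq_left.2 (hZ.map_le R hR)] at h2

theorem Zsig.card_map {p n r : ℕ} (hZ : Zsig hS p n r) (Q : Subgroup W) (hQ : IsPGroup r Q)
    (hQi : ¬ r ∣ Q.index) : Nat.card (Q.map hS.pr) = ordProj[r] (Nat.card hS.tor) := by
  have := Fact.mk hZ.prime_r
  rw [← card_of_isPGroup (hZ.map_isPGroup Q hQ) (hZ.map_index Q hQ hQi)]
  exact (Nat.card_congr (Subgroup.subgroupOfEquivOfLe (hZ.map_le Q hQ)).toEquiv).symm

/-- The image of `P` under the conjugated projections. -/
theorem Zsig.map_cj {p n r : ℕ} (hZ : Zsig hS p n r) (P : Subgroup W) (hP : IsPGroup r P)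
    (hPi : ¬ r ∣ P.index) (c : normalizer (W : Set G)) :
    (P.map (cj W c)).map hS.pr = P.map hS.pr := by
  apply hZ.map_eq _ _ (hP.map _) _ hP hPi
  intro hd
  exact hPi (hd.trans (index_map_dvd P (cj_bijective W c).2))

/-- `h` as an element of `N(W)`. -/
abbrev hN (hS : Setup t u s h M S L e π uM g ε W) : normalizer (W : Set G) := ⟨h, hS.h_mem⟩

/-- `s` as an element of `N(W)`. -/
abbrev sN (hS : Setup t u s h M S L e π uM g ε W) : normalizer (W : Set G) := ⟨s, hS.s_mem⟩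

theorem conj_h_pow (hS : Setup t u s h M S L e π uM g ε W) :
    h ^ 2 * t * (h ^ 2)⁻¹ = t * u ∧ h ^ 3 * t * (h ^ 3)⁻¹ = t := by
  have h2 : h ^ 2 * t * (h ^ 2)⁻¹ = t * u := by
    calc h ^ 2 * t * (h ^ 2)⁻¹ = h * (h * t * h⁻¹) * h⁻¹ := by rw [pow_two]; group
      _ = t * u := by rw [hS.ht, hS.hu]
  refine ⟨h2, ?_⟩
  calc h ^ 3 * t * (h ^ 3)⁻¹ = h * (h ^ 2 * t * (h ^ 2)⁻¹) * h⁻¹ := by rw [pow_succ' h 2]; group
    _ = t := by rw [h2, hS.htu]

theorem s_inv (hS : Setup t u s h M S L e π uM g ε W) :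
    s⁻¹ * u * s = t * u ∧ s⁻¹ * (t * u) * s = u := by
  have h1 : s * (t * u) * s⁻¹ = u := by
    calc s * (t * u) * s⁻¹ = (s * t * s⁻¹) * (s * u * s⁻¹) := by group
      _ = t * (t * u) := by rw [hS.st, mul_inv_cancel_right, hS.su]
      _ = u := by rw [← mul_assoc, hS.tt, one_mul]
  constructor
  · calc s⁻¹ * u * s = s⁻¹ * (s * (t * u) * s⁻¹) * s := by rw [h1]
      _ = t * u := by group
  · calc s⁻¹ * (t * u) * s = s⁻¹ * (s * u * s⁻¹) * s := by rw [hS.su]
      _ = u := by group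

theorem mem_M_of_conj (hS : Setup t u s h M S L e π uM g ε W) {c : G} (hc : c * t * c⁻¹ = t) :
    c ∈ M := (hS.mem_M c).2 (mul_inv_eq_iff_eq_mul.1 hc)

section rel

variable {ρ : W →* (ZMod (Nat.card hS.tor))ˣ}
    (hρ : ∀ (w : W) (x : H), x ∈ hS.tor →
      hS.pr w * x * (hS.pr w)⁻¹ = x ^ (ρ w : ZMod (Nat.card hS.tor)).val)

include hρ

theorem rho_succ (i : Fin 3) (w : W) :
    ρ (cj W (hS.hN ^ ((i + 1 : Fin 3) : ℕ)) (cj W hS.hN⁻¹ w)) = ρ (cj W (hS.hN ^ (i : ℕ)) w) := by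
  fin_cases i
  · change ρ (cj W (hS.hN ^ 1) (cj W hS.hN⁻¹ w)) = ρ (cj W (hS.hN ^ 0) w)
    rw [← cj_mul, pow_one, inv_mul_cancel, pow_zero]
  · change ρ (cj W (hS.hN ^ 2) (cj W hS.hN⁻¹ w)) = ρ (cj W (hS.hN ^ 1) w)
    rw [← cj_mul, pow_one]
    congr 2
    group
  · change ρ (cj W (hS.hN ^ 0) (cj W hS.hN⁻¹ w)) = ρ (cj W (hS.hN ^ 2) w)
    have e1 : cj W (hS.hN ^ 2) w = cj W (hS.hN ^ 3) (cj W hS.hN⁻¹ w) := by
      rw [← cj_mul]
      congr 2
      rw [pow_succ' _ 2]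
      group
    rw [pow_zero, cj_one, e1]
    refine (hS.rho_conj hρ ?_ _).symm
    exact hS.mem_M_of_conj hS.conj_h_pow.2

theorem rho_s0 (w : W) :
    ρ (cj W (hS.hN ^ ((0 : Fin 3) : ℕ)) (cj W hS.sN⁻¹ w)) =
      ρ (cj W (hS.hN ^ ((0 : Fin 3) : ℕ)) w) := by
  change ρ (cj W (hS.hN ^ 0) (cj W hS.sN⁻¹ w)) = ρ (cj W (hS.hN ^ 0) w)
  rw [pow_zero, cj_one, cj_one]
  refine hS.rho_conj hρ ?_ _
  change s⁻¹ ∈ M
  exact inv_mem ((hS.mem_M s).2 hS.st)

theorem rho_s1 (w : W) :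
    ρ (cj W (hS.hN ^ ((1 : Fin 3) : ℕ)) (cj W hS.sN⁻¹ w)) =
      ρ (cj W (hS.hN ^ ((2 : Fin 3) : ℕ)) w) := by
  change ρ (cj W (hS.hN ^ 1) (cj W hS.sN⁻¹ w)) = ρ (cj W (hS.hN ^ 2) w)
  have e1 : cj W (hS.hN ^ 1) (cj W hS.sN⁻¹ w) =
      cj W ((hS.hN ^ 2)⁻¹ * hS.sN⁻¹ * hS.hN) (cj W (hS.hN ^ 2) w) := by
    rw [← cj_mul, ← cj_mul, pow_one]
    congr 2
    group
  rw [e1]
  refine hS.rho_conj hρ ?_ _
  change (h ^ 2)⁻¹ * s⁻¹ * h ∈ M
  apply hS.mem_M_of_conj
  calc (h ^ 2)⁻¹ * s⁻¹ * h * t * ((h ^ 2)⁻¹ * s⁻¹ * h)⁻¹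
      = (h ^ 2)⁻¹ * (s⁻¹ * (h * t * h⁻¹) * s) * h ^ 2 := by group
    _ = (h ^ 2)⁻¹ * (t * u) * h ^ 2 := by rw [hS.ht, hS.s_inv.1]
    _ = (h ^ 2)⁻¹ * (h ^ 2 * t * (h ^ 2)⁻¹) * h ^ 2 := by rw [hS.conj_h_pow.1]
    _ = t := by group

theorem rho_s2 (w : W) :
    ρ (cj W (hS.hN ^ ((2 : Fin 3) : ℕ)) (cj W hS.sN⁻¹ w)) =
      ρ (cj W (hS.hN ^ ((1 : Fin 3) : ℕ)) w) := by
  change ρ (cj W (hS.hN ^ 2) (cj W hS.sN⁻¹ w)) = ρ (cj W (hS.hN ^ 1) w)
  have e1 : cj W (hS.hN ^ 2) (cj W hS.sN⁻¹ w) =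
      cj W (hS.hN⁻¹ * hS.sN⁻¹ * hS.hN ^ 2) (cj W (hS.hN ^ 1) w) := by
    rw [← cj_mul, ← cj_mul, pow_one]
    congr 2
    group
  rw [e1]
  refine hS.rho_conj hρ ?_ _
  change h⁻¹ * s⁻¹ * h ^ 2 ∈ M
  apply hS.mem_M_of_conj
  calc h⁻¹ * s⁻¹ * h ^ 2 * t * (h⁻¹ * s⁻¹ * h ^ 2)⁻¹
      = h⁻¹ * (s⁻¹ * (h ^ 2 * t * (h ^ 2)⁻¹) * s) * h := by group
    _ = h⁻¹ * u * h := by rw [hS.conj_h_pow.1, hS.s_inv.2]
    _ = h⁻¹ * (h * t * h⁻¹) * h := by rw [hS.ht]
    _ = t := by group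

end rel

/-- `d - 1` is prime to `r`. -/
theorem Zsig.not_dvd_sub {p n r : ℕ} (hZ : Zsig hS p n r) {ρ : W →* (ZMod (Nat.card hS.tor))ˣ}
    (hρ : ∀ (w : W) (x : H), x ∈ hS.tor →
      hS.pr w * x * (hS.pr w)⁻¹ = x ^ (ρ w : ZMod (Nat.card hS.tor)).val)
    (hρ1 : ∀ w : W, ρ w = 1 ↔ hS.pr w ∈ H1 L e) {w : W} (hw : ρ w ≠ 1) :
    ¬ (r : ℤ) ∣ ((ρ w : ZMod (Nat.card hS.tor)).val : ℤ) - 1 := by
  intro hd
  apply hw
  obtain ⟨x, hx, hxr⟩ := hZ.exists_elt
  apply hZ.rho_eq_one hρ1 hx hxr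
  have h1 : x ^ (ρ w : ZMod (Nat.card hS.tor)).val = x := by
    have h2 : x ^ (((ρ w : ZMod (Nat.card hS.tor)).val : ℤ) - 1) = 1 := by
      rw [← orderOf_dvd_iff_zpow_eq_one, hxr]; exact hd
    rw [_root_.zpow_sub, zpow_natCast, zpow_one, mul_inv_eq_one] at h2
    exact h2
  have h2 := hρ w x hx
  rw [h1, mul_inv_eq_iff_eq_mul] at h2
  exact h2

/-- `d - d⁻¹` is prime to `r`. -/
theorem Zsig.not_dvd_sub' {p n r : ℕ} (hZ : Zsig hS p n r) {ρ : W →* (ZMod (Nat.card hS.tor))ˣ}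
    (hρ : ∀ (w : W) (x : H), x ∈ hS.tor →
      hS.pr w * x * (hS.pr w)⁻¹ = x ^ (ρ w : ZMod (Nat.card hS.tor)).val)
    (hρ1 : ∀ w : W, ρ w = 1 ↔ hS.pr w ∈ H1 L e) {w w' : W} (hw : ρ w ≠ 1)
    (hww' : ρ w * ρ w' = 1) :
    ¬ (r : ℤ) ∣ ((ρ w : ZMod (Nat.card hS.tor)).val : ℤ) -
      ((ρ w' : ZMod (Nat.card hS.tor)).val : ℤ) := by
  intro hd
  apply hw
  obtain ⟨x, hx, hxr⟩ := hZ.exists_elt
  -- `ρ (w ^ 2) = 1`
  have hxm : x ^ Nat.card hS.tor = 1 := by
    have := _root_.orderOf_dvd_natCard (⟨x, hx⟩ : hS.tor)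
    rw [Subgroup.orderOf_mk] at this
    exact orderOf_dvd_iff_pow_eq_one.1 this
  have h2 : ρ (w * w) = 1 := by
    apply hZ.rho_eq_one hρ1 hx hxr
    set a := (ρ w : ZMod (Nat.card hS.tor)).val with ha
    set b := (ρ w' : ZMod (Nat.card hS.tor)).val with hb
    have hab : x ^ (a * b) = x := by
      have h1' : ρ (w * w') = 1 := by rw [map_mul]; exact hww'
      have h3 := hρ (w * w') x hx
      rw [h1'] at h3
      have h4 := hρ 1 x hx
      rw [map_one ρ] at h4
      rw [← h4, map_one hS.pr, one_mul, inv_one, mul_one, map_mul hS.pr] at h3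
      calc x ^ (a * b) = (x ^ b) ^ a := by rw [mul_comm, pow_mul]
        _ = hS.pr w * x ^ b * (hS.pr w)⁻¹ := (hρ w _ (hS.tor.pow_mem hx b)).symm
        _ = hS.pr w * (hS.pr w' * x * (hS.pr w')⁻¹) * (hS.pr w)⁻¹ := by rw [hρ w' x hx]
        _ = hS.pr w * hS.pr w' * x * (hS.pr w * hS.pr w')⁻¹ := by group
        _ = x := h3
    have hxab : x ^ a = x ^ b := by
      have h3 : x ^ ((a : ℤ) - (b : ℤ)) = 1 := by
        rw [← orderOf_dvd_iff_zpow_eq_one, hxr]; exact hd
      rw [_root_.zpow_sub, zpow_natCast, zpow_natCast, mul_inv_eq_one] at h3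
      exact h3
    have haa : x ^ (a * a) = x := by
      rw [pow_mul, hxab, ← pow_mul, mul_comm, hab]
    have h3 : hS.pr (w * w) * x * (hS.pr (w * w))⁻¹ = x := by
      rw [map_mul]
      calc hS.pr w * hS.pr w * x * (hS.pr w * hS.pr w)⁻¹
          = hS.pr w * (hS.pr w * x * (hS.pr w)⁻¹) * (hS.pr w)⁻¹ := by group
        _ = hS.pr w * (x ^ a) * (hS.pr w)⁻¹ := by rw [hρ w x hx]
        _ = (x ^ a) ^ a := hρ w _ (hS.tor.pow_mem hx a)
        _ = x := by rw [← pow_mul, haa]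
    rwa [mul_inv_eq_iff_eq_mul] at h3
  rw [map_mul] at h2
  -- odd order
  have ho : Odd (orderOf (w : G)) := ((hS.mem_W (w : G)).1 w.2).2.2
  rw [Subgroup.orderOf_coe] at ho
  have h3 : ρ w ^ orderOf w = 1 := by rw [← map_pow, pow_orderOf_eq_one, map_one]
  obtain ⟨k, hk⟩ := ho
  rw [hk, pow_succ, pow_mul, pow_two, h2, one_pow, one_mul] at h3
  exact h3

/-- The pattern `(1, d, d⁻¹)` at every place. -/
theorem exists_w {ρ : W →* (ZMod (Nat.card hS.tor))ˣ}
    (hρ : ∀ (w : W) (x : H), x ∈ hS.tor →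
      hS.pr w * x * (hS.pr w)⁻¹ = x ^ (ρ w : ZMod (Nat.card hS.tor)).val)
    (hne : ¬ ∀ w : W, ρ (cj W hS.hN w) = ρ w) (j : Fin 3) :
    ∃ w : W, ρ (cj W (hS.hN ^ (j : ℕ)) w) = 1 ∧
      ρ (cj W (hS.hN ^ ((j + 1 : Fin 3) : ℕ)) w) * ρ (cj W (hS.hN ^ ((j + 2 : Fin 3) : ℕ)) w) = 1 ∧
      ρ (cj W (hS.hN ^ ((j + 1 : Fin 3) : ℕ)) w) ≠ 1 := by
  have hsucc := hS.rho_succ hρ
  rcases FuDich.exists_split (fun i : Fin 3 => ρ.comp (cj W (hS.hN ^ (i : ℕ))))
    (cj W hS.sN⁻¹) (cj W hS.hN⁻¹) (fun i w => hsucc i w) (fun w => (cj_bijective W _).2 w)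
    (fun w => hS.rho_s0 hρ w) (fun w => hS.rho_s1 hρ w) (fun w => hS.rho_s2 hρ w) with h1 | h1
  · exfalso
    apply hne
    intro w
    have h2 := DFunLike.congr_fun (h1 1 0) w
    change ρ (cj W (hS.hN ^ 1) w) = ρ (cj W (hS.hN ^ 0) w) at h2
    rwa [pow_one, pow_zero, cj_one] at h2
  · obtain ⟨w, h2, h3, h4⟩ := h1
    fin_cases j
    · exact ⟨w, h2, h3, h4⟩
    · refine ⟨cj W hS.hN⁻¹ w, (hsucc 0 w).trans h2, ?_, ?_⟩
      · exact (congrArg₂ (· * ·) (hsucc 1 w) (hsucc 2 w)).trans h3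
      · intro h5
        exact h4 ((hsucc 1 w).symm.trans h5)
    · refine ⟨cj W hS.hN⁻¹ (cj W hS.hN⁻¹ w), (hsucc 1 _).trans ((hsucc 0 w).trans h2), ?_, ?_⟩
      · exact (congrArg₂ (· * ·) ((hsucc 2 _).trans (hsucc 1 w))
          ((hsucc 0 _).trans (hsucc 2 w))).trans h3
      · intro h5
        exact h4 ((hsucc 1 w).symm.trans ((hsucc 2 _).symm.trans h5))

/-- An element of `P` with prescribed middle component. -/
theorem Zsig.exists_middle {p n r : ℕ} (hZ : Zsig hS p n r)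
    {ρ : W →* (ZMod (Nat.card hS.tor))ˣ}
    (hρ : ∀ (w : W) (x : H), x ∈ hS.tor →
      hS.pr w * x * (hS.pr w)⁻¹ = x ^ (ρ w : ZMod (Nat.card hS.tor)).val)
    (hρ1 : ∀ w : W, ρ w = 1 ↔ hS.pr w ∈ H1 L e)
    (hne : ¬ ∀ w : W, ρ (cj W hS.hN w) = ρ w) (P : Subgroup W) (hP : IsPGroup r P)
    (hPi : ¬ r ∣ P.index) (j : Fin 3) (y : H) (hy : y ∈ P.map hS.pr) :
    ∃ x ∈ P, hS.pr (cj W (hS.hN ^ (j : ℕ)) x) = 1 ∧
      hS.pr (cj W (hS.hN ^ ((j + 1 : Fin 3) : ℕ)) x) = y ∧
      hS.pr (cj W (hS.hN ^ ((j + 2 : Fin 3) : ℕ)) x) = 1 := by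
  have := Fact.mk hZ.prime_r
  obtain ⟨w, h1, h2, h3⟩ := hS.exists_w hρ hne j
  -- Frattini
  obtain ⟨N0, hN0⟩ : ∃ N0 : Subgroup W, N0 = ⨅ i : Fin 3, (ρ.comp (cj W (hS.hN ^ (i : ℕ)))).ker :=
    ⟨_, rfl⟩
  have hN0n : N0.Normal := by
    rw [hN0]
    exact normal_iInf_normal (fun i => MonoidHom.normal_ker _)
  have hPN : P ≤ N0 := by
    rw [hN0]
    refine le_iInf fun i x hx => ?_
    rw [MonoidHom.mem_ker]
    obtain ⟨k, hk⟩ := hP ⟨x, hx⟩
    have hk' : x ^ r ^ k = 1 := congrArg Subtype.val hk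
    apply hZ.rho_pElt hρ hρ1 (k := k)
    rw [← map_pow, hk', map_one]
  have hfr := Sylow.normalizer_sup_eq_top' (hP.toSylow hPi) (N := N0) hPN
  have hw := Subgroup.mem_top w
  rw [← hfr] at hw
  obtain ⟨m, hm, b, hb, rfl⟩ := mem_sup_of_normal_right.1 hw
  have hm' : ∀ x, x ∈ P ↔ m * x * m⁻¹ ∈ P := mem_normalizer_iff.1 hm
  have hb' : ∀ i : Fin 3, ρ (cj W (hS.hN ^ (i : ℕ)) b) = 1 := by
    intro i
    rw [hN0, mem_iInf] at hb
    exact hb i
  have hmb : ∀ i : Fin 3, ρ (cj W (hS.hN ^ (i : ℕ)) (m * b)) = ρ (cj W (hS.hN ^ (i : ℕ)) m) := by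
    intro i
    rw [map_mul, map_mul, hb' i, mul_one]
  rw [hmb] at h1
  rw [hmb, hmb] at h2
  rw [hmb] at h3
  -- the maps
  have hcard : ∃ k : ℕ, Nat.card (P.map hS.pr) = r ^ k := IsPGroup.iff_card.1 (hP.map _)
  obtain ⟨kk, hkk⟩ := hcard
  have hpr : Prime (r : ℤ) := Nat.prime_iff_prime_int.1 hZ.prime_r
  suffices key : ∃ x : P, hS.pr.comp ((cj W (hS.hN ^ ((j + 0 : Fin 3) : ℕ))).comp P.subtype) x = 1 ∧
      hS.pr.comp ((cj W (hS.hN ^ ((j + 1 : Fin 3) : ℕ))).comp P.subtype) x = y ∧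
      hS.pr.comp ((cj W (hS.hN ^ ((j + 2 : Fin 3) : ℕ))).comp P.subtype) x = 1 by
    obtain ⟨x, hx1, hx2, hx3⟩ := key
    refine ⟨x, x.2, ?_, hx2, hx3⟩
    have e0 : j + 0 = j := add_zero j
    change hS.pr (cj W (hS.hN ^ ((j + 0 : Fin 3) : ℕ)) x) = 1 at hx1
    rwa [e0] at hx1
  refine FuDich.exists_middle
    (fun i : Fin 3 => hS.pr.comp ((cj W (hS.hN ^ ((j + i : Fin 3) : ℕ))).comp P.subtype))
    (P.map hS.pr) ?_ (fun x => ⟨m * x * m⁻¹, (hm' x).1 x.2⟩)
    (fun i => ((ρ (cj W (hS.hN ^ ((j + i : Fin 3) : ℕ)) m) : ZMod (Nat.card hS.tor)).val : ℤ))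
    ?_ ?_ ?_ y hy
  · -- surjectivity
    intro y hy
    rw [← hZ.map_cj P hP hPi (hS.hN ^ ((j + 1 : Fin 3) : ℕ))] at hy
    obtain ⟨_, ⟨x, hx, rfl⟩, hxy⟩ := hy
    exact ⟨⟨x, hx⟩, hxy⟩
  · intro i x
    rw [zpow_natCast]
    have hxT : hS.pr (cj W (hS.hN ^ ((j + i : Fin 3) : ℕ)) x) ∈ hS.tor :=
      hZ.map_le _ (hP.map (cj W (hS.hN ^ ((j + i : Fin 3) : ℕ))))
        (mem_map_of_mem _ (mem_map_of_mem _ x.2))
    rw [MonoidHom.comp_apply, MonoidHom.comp_apply]
    change hS.pr (cj W (hS.hN ^ ((j + i : Fin 3) : ℕ)) (m * x * m⁻¹)) = _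
    rw [map_mul, map_mul, map_inv, map_mul, map_mul, map_inv, hρ _ _ hxT]
    rfl
  · intro x
    have e0 : j + 0 = j := add_zero j
    have h4 : ρ (cj W (hS.hN ^ ((j + 0 : Fin 3) : ℕ)) m) = 1 := by rw [e0]; exact h1
    have hxT : hS.pr (cj W (hS.hN ^ ((j + 0 : Fin 3) : ℕ)) x) ∈ hS.tor :=
      hZ.map_le _ (hP.map (cj W (hS.hN ^ ((j + 0 : Fin 3) : ℕ))))
        (mem_map_of_mem _ (mem_map_of_mem _ x.2))
    rw [zpow_natCast, h4]
    have h5 := hρ 1 _ hxT
    rw [map_one ρ, map_one hS.pr, one_mul, inv_one, mul_one] at h5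
    exact h5.symm
  · intro y hy
    apply FuDich.exists_zpow_eq _ _ y hy
    rw [hkk]
    push_cast
    apply IsCoprime.pow_right
    apply IsCoprime.symm
    rw [Prime.coprime_iff_not_dvd hpr, hpr.dvd_mul, not_or]
    exact ⟨hZ.not_dvd_sub hρ hρ1 h3, hZ.not_dvd_sub' hρ hρ1 h3 h2⟩

seal _root_.Nat.mod _root_.Cfsg.Agent.Classification.QDW.FuDichG.Setup.cj in
/-- All triples are attained. -/
theorem Zsig.exists_triple {p n r : ℕ} (hZ : Zsig hS p n r)
    {ρ : W →* (ZMod (Nat.card hS.tor))ˣ}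
    (hρ : ∀ (w : W) (x : H), x ∈ hS.tor →
      hS.pr w * x * (hS.pr w)⁻¹ = x ^ (ρ w : ZMod (Nat.card hS.tor)).val)
    (hρ1 : ∀ w : W, ρ w = 1 ↔ hS.pr w ∈ H1 L e)
    (hne : ¬ ∀ w : W, ρ (cj W hS.hN w) = ρ w) (P : Subgroup W) (hP : IsPGroup r P)
    (hPi : ¬ r ∣ P.index) (f : Fin 3 → H) (hf : ∀ i, f i ∈ P.map hS.pr) :
    ∃ x ∈ P, ∀ i : Fin 3, hS.pr (cj W (hS.hN ^ (i : ℕ)) x) = f i := by
  have key := fun j y hy => hZ.exists_middle hρ hρ1 hne P hP hPi j y hy
  obtain ⟨x0, hx0, h00, h01, h02⟩ := key 2 (f 0) (hf 0)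
  obtain ⟨x1, hx1, h10, h11, h12⟩ := key 0 (f 1) (hf 1)
  obtain ⟨x2, hx2, h20, h21, h22⟩ := key 1 (f 2) (hf 2)
  -- `h00 : component 2 = 1`, `h01 : component 0 = f 0`, `h02 : component 1 = 1`
  change hS.pr (cj W (hS.hN ^ 2) x0) = 1 at h00
  change hS.pr (cj W (hS.hN ^ 0) x0) = f 0 at h01
  change hS.pr (cj W (hS.hN ^ 1) x0) = 1 at h02
  change hS.pr (cj W (hS.hN ^ 0) x1) = 1 at h10
  change hS.pr (cj W (hS.hN ^ 1) x1) = f 1 at h11
  change hS.pr (cj W (hS.hN ^ 2) x1) = 1 at h12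
  change hS.pr (cj W (hS.hN ^ 1) x2) = 1 at h20
  change hS.pr (cj W (hS.hN ^ 2) x2) = f 2 at h21
  change hS.pr (cj W (hS.hN ^ 0) x2) = 1 at h22
  refine ⟨x0 * x1 * x2, P.mul_mem (P.mul_mem hx0 hx1) hx2, fun i => ?_⟩
  fin_cases i
  · change hS.pr (cj W (hS.hN ^ 0) (x0 * x1 * x2)) = f 0
    rw [map_mul, map_mul, map_mul, map_mul, h01, h10, h22, mul_one, mul_one]
  · change hS.pr (cj W (hS.hN ^ 1) (x0 * x1 * x2)) = f 1
    rw [map_mul, map_mul, map_mul, map_mul, h02, h11, h20, mul_one, one_mul]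
  · change hS.pr (cj W (hS.hN ^ 2) (x0 * x1 * x2)) = f 2
    rw [map_mul, map_mul, map_mul, map_mul, h00, h12, h21, one_mul, one_mul]

/-- The order of the Sylow `r`-subgroup of the torus. -/
noncomputable def mr (hS : Setup t u s h M S L e π uM g ε W) (r : ℕ) : ℕ :=
  ordProj[r] (Nat.card hS.tor)

theorem Zsig.mr_eq {p n r : ℕ} (hZ : Zsig hS p n r) : ∃ k, hS.mr r = r ^ (k + 1) := by
  have h1 : 0 < (Nat.card hS.tor).factorization r :=
    hZ.prime_r.factorization_pos_of_dvd Nat.card_pos.ne' hZ.dvd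
  exact ⟨(Nat.card hS.tor).factorization r - 1, by rw [Nat.sub_add_cancel h1]; rfl⟩

/-- `|P : P ∩ A_t ∩ A_u ∩ A_{tu}| = m_r ^ 3` inside `W`. -/
theorem Zsig.relIndex_eq {p n r : ℕ} (hZ : Zsig hS p n r)
    {ρ : W →* (ZMod (Nat.card hS.tor))ˣ}
    (hρ : ∀ (w : W) (x : H), x ∈ hS.tor →
      hS.pr w * x * (hS.pr w)⁻¹ = x ^ (ρ w : ZMod (Nat.card hS.tor)).val)
    (hρ1 : ∀ w : W, ρ w = 1 ↔ hS.pr w ∈ H1 L e)
    (hne : ¬ ∀ w : W, ρ (cj W hS.hN w) = ρ w) (P : Subgroup W) (hP : IsPGroup r P)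
    (hPi : ¬ r ∣ P.index) (X : Subgroup W)
    (hX : ∀ x, x ∈ P → (x ∈ X ↔ ∀ i : Fin 3, hS.pr (cj W (hS.hN ^ (i : ℕ)) x) = 1)) :
    X.relIndex P = hS.mr r ^ 3 := by
  obtain ⟨Φ, hΦ⟩ : ∃ Φ : P →* (Fin 3 → H), ∀ (x : P) (i : Fin 3),
      Φ x i = hS.pr (cj W (hS.hN ^ (i : ℕ)) x) :=
    ⟨MonoidHom.pi fun i : Fin 3 => hS.pr.comp ((cj W (hS.hN ^ (i : ℕ))).comp P.subtype),
      fun x i => rfl⟩
  have hker : X.subgroupOf P = Φ.ker := by
    ext x
    rw [mem_subgroupOf, hX x x.2, MonoidHom.mem_ker]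
    constructor
    · intro h1
      funext i
      rw [hΦ]; exact h1 i
    · intro h1 i
      rw [← hΦ, h1]; rfl
  rw [relIndex, hker, index_ker]
  have hrange : ∀ f : Fin 3 → H, f ∈ Φ.range ↔ ∀ i, f i ∈ P.map hS.pr := by
    intro f
    constructor
    · rintro ⟨x, rfl⟩ i
      rw [hΦ, ← hZ.map_cj P hP hPi (hS.hN ^ (i : ℕ))]
      exact mem_map_of_mem _ (mem_map_of_mem _ x.2)
    · intro h1
      obtain ⟨x, hx, hxf⟩ := hZ.exists_triple hρ hρ1 hne P hP hPi f h1
      exact ⟨⟨x, hx⟩, funext fun i => by rw [hΦ]; exact hxf i⟩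
  have h1 : Nat.card Φ.range = Nat.card (Fin 3 → P.map hS.pr) := by
    refine Nat.card_congr
      { toFun := fun f i => ⟨f.1 i, (hrange f.1).1 f.2 i⟩
        invFun := fun f => ⟨fun i => f i, (hrange _).2 fun i => (f i).2⟩
        left_inv := fun f => rfl
        right_inv := fun f => rfl }
  rw [h1, Nat.card_fun, Nat.card_eq_fintype_card (α := Fin 3), Fintype.card_fin,
    hZ.card_map P hP hPi]
  rfl

/-- `|P : P ∩ A_v| = m_r` inside `W`. -/
theorem Zsig.relIndex_one {p n r : ℕ} (hZ : Zsig hS p n r) (P : Subgroup W) (hP : IsPGroup r P)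
    (hPi : ¬ r ∣ P.index) (c : normalizer (W : Set G)) (X : Subgroup W)
    (hX : ∀ x, x ∈ P → (x ∈ X ↔ hS.pr (cj W c x) = 1)) : X.relIndex P = hS.mr r := by
  have hker : X.subgroupOf P = (hS.pr.comp ((cj W c).comp P.subtype)).ker := by
    ext x
    rw [mem_subgroupOf, hX x x.2, MonoidHom.mem_ker]
    rfl
  have hrange : (hS.pr.comp ((cj W c).comp P.subtype)).range = P.map hS.pr := by
    rw [← hZ.map_cj P hP hPi c]
    ext y
    constructor
    · rintro ⟨x, rfl⟩
      exact mem_map_of_mem _ (mem_map_of_mem _ x.2)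
    · rintro ⟨_, ⟨x, hx, rfl⟩, rfl⟩
      exact ⟨⟨x, hx⟩, rfl⟩
  rw [relIndex, hker, index_ker, hrange, hZ.card_map P hP hPi]
  rfl

/-- `P / P ∩ A_v` is cyclic. -/
theorem Zsig.exists_gen {p n r : ℕ} (hZ : Zsig hS p n r) (P : Subgroup W) (hP : IsPGroup r P)
    (hPi : ¬ r ∣ P.index) (c : normalizer (W : Set G)) :
    ∃ x ∈ P, ∀ y ∈ P, ∃ k : ℕ, hS.pr (cj W c (y * (x ^ k)⁻¹)) = 1 := by
  have hc := hS.whyp.isCyclic_TT
  have hle := hZ.map_le P hP
  have hcyc : IsCyclic (P.map hS.pr) :=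
    isCyclic_of_injective (Subgroup.inclusion hle) (Subgroup.inclusion_injective _)
  obtain ⟨⟨a, ha⟩, haa⟩ := hcyc.exists_ofOrder_eq_natCard
  have ha' := ha
  rw [← hZ.map_cj P hP hPi c] at ha'
  obtain ⟨_, ⟨x, hx, rfl⟩, hxa⟩ := ha'
  refine ⟨x, hx, fun y hy => ?_⟩
  have hy' : hS.pr (cj W c y) ∈ P.map hS.pr := by
    rw [← hZ.map_cj P hP hPi c]
    exact mem_map_of_mem _ (mem_map_of_mem _ hy)
  have h1 : (⟨_, hy'⟩ : P.map hS.pr) ∈ zpowers (⟨a, ha⟩ : P.map hS.pr) := by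
    have h3 : zpowers (⟨a, ha⟩ : P.map hS.pr) = ⊤ := by
      apply Subgroup.eq_top_of_card_eq
      rw [Nat.card_zpowers, haa]
    rw [h3]; trivial
  obtain ⟨k, hk⟩ := mem_powers_iff_mem_zpowers.2 h1
  have hk' : a ^ k = hS.pr (cj W c y) := congrArg Subtype.val hk
  refine ⟨k, ?_⟩
  rw [map_mul, map_mul, map_inv, map_inv, map_pow, map_pow, hxa, hk', mul_inv_cancel]

end

/-! ### the output in `G` -/

section output

variable (hS : Setup t u s h M S L e π uM g ε W)

/-- The kernel of `π` in `G`. -/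
def KG (π : M →* H) : Subgroup G := π.ker.map M.subtype

theorem mem_KG {π : M →* H} {x : G} : x ∈ KG π ↔ ∃ hx : x ∈ M, π ⟨x, hx⟩ = 1 := by
  constructor
  · rintro ⟨y, hy, rfl⟩
    exact ⟨y.2, hy⟩
  · rintro ⟨hx, h1⟩
    exact ⟨⟨x, hx⟩, h1, rfl⟩

theorem mem_KG_iff (c : normalizer (W : Set G)) (x : W) :
    (c : G)⁻¹ * x * c ∈ KG π ↔ hS.pr (cj W c x) = 1 := by
  rw [mem_KG]
  constructor
  · rintro ⟨h1, h2⟩
    exact h2
  · intro h1
    exact ⟨hS.W_le (cj W c x).2, h1⟩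

/-- Case `S`: `W` acts in the same way on the three tori. -/
def CaseS (hS : Setup t u s h M S L e π uM g ε W) : Prop :=
  ∀ ρ : W →* (ZMod (Nat.card hS.tor))ˣ,
    (∀ (w : W) (x : H), x ∈ hS.tor →
      hS.pr w * x * (hS.pr w)⁻¹ = x ^ (ρ w : ZMod (Nat.card hS.tor)).val) →
    ∀ w : W, ρ (cj W hS.hN w) = ρ w

/-- **Case U**: `|P : P₀| = m_r ^ 3`. -/
theorem relIndex_of_not_caseS {p n r : ℕ} (hZ : Zsig hS p n r) (hU : ¬ hS.CaseS)
    (P : Subgroup G) (hPW : P ≤ W) (hP : IsPGroup r P) (hPi : ¬ r ∣ P.relIndex W)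
    (X : Subgroup G) (hX : ∀ x ∈ P, (x ∈ X ↔ x ∈ KG π ∧ h⁻¹ * x * h ∈ KG π ∧
      (h ^ 2)⁻¹ * x * h ^ 2 ∈ KG π)) : X.relIndex P = hS.mr r ^ 3 := by
  obtain ⟨ρ, hρ, hne⟩ : ∃ ρ : W →* (ZMod (Nat.card hS.tor))ˣ,
      (∀ (w : W) (x : H), x ∈ hS.tor →
        hS.pr w * x * (hS.pr w)⁻¹ = x ^ (ρ w : ZMod (Nat.card hS.tor)).val) ∧
      ¬ ∀ w : W, ρ (cj W hS.hN w) = ρ w := by
    by_contra hcon
    push Not at hcon
    exact hU fun ρ hρ => hcon ρ hρ
  obtain ⟨ρ', hρ', hρ1'⟩ := hS.exists_rho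
  have hρ1 : ∀ w : W, ρ w = 1 ↔ hS.pr w ∈ H1 L e := by
    intro w
    have : ρ w = ρ' w := by
      apply Units.ext
      apply zmod_eq_of_pow hS.tor hS.whyp.isCyclic_TT
      intro x hx
      rw [← hρ w x hx, ← hρ' w x hx]
    rw [this, hρ1']
  have hP' : IsPGroup r (P.subgroupOf W) := hP.comap_subtype
  have h1 := hZ.relIndex_eq hρ hρ1 hne (P.subgroupOf W) hP' hPi (X.subgroupOf W) ?_
  · rw [← h1]
    have h2 : (X.comap W.subtype).relIndex (P.subgroupOf W) =
        X.relIndex ((P.subgroupOf W).map W.subtype) := relIndex_comap _ _ _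
    rw [subgroupOf_map_subtype, inf_eq_left.2 hPW] at h2
    exact h2.symm
  · intro x hx
    rw [mem_subgroupOf]
    refine (hX (x : G) hx).trans ?_
    have e0 := hS.mem_KG_iff (hS.hN ^ ((0 : Fin 3) : ℕ)) x
    have e1 := hS.mem_KG_iff (hS.hN ^ ((1 : Fin 3) : ℕ)) x
    have e2 := hS.mem_KG_iff (hS.hN ^ ((2 : Fin 3) : ℕ)) x
    change (h ^ 0)⁻¹ * (x : G) * h ^ 0 ∈ KG π ↔ _ at e0
    change (h ^ 1)⁻¹ * (x : G) * h ^ 1 ∈ KG π ↔ _ at e1
    change (h ^ 2)⁻¹ * (x : G) * h ^ 2 ∈ KG π ↔ _ at e2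
    rw [pow_zero, inv_one, one_mul, mul_one] at e0
    rw [pow_one] at e1
    rw [e0, e1, e2, Fin.forall_fin_succ, Fin.forall_fin_succ, Fin.forall_fin_succ]
    constructor
    · rintro ⟨h1, h2, h3⟩
      exact ⟨h1, h2, h3, fun i => i.elim0⟩
    · rintro ⟨h1, h2, h3, -⟩
      exact ⟨h1, h2, h3⟩

/-- `|P : P ∩ A_v| = m_r`. -/
theorem relIndex_one {p n r : ℕ} (hZ : Zsig hS p n r)
    (P : Subgroup G) (hPW : P ≤ W) (hP : IsPGroup r P) (hPi : ¬ r ∣ P.relIndex W)
    {c : G} (hc : c ∈ normalizer (W : Set G))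
    (X : Subgroup G) (hX : ∀ x ∈ P, (x ∈ X ↔ c⁻¹ * x * c ∈ KG π)) :
    X.relIndex P = hS.mr r := by
  have hP' : IsPGroup r (P.subgroupOf W) := hP.comap_subtype
  have h1 := hZ.relIndex_one (P.subgroupOf W) hP' hPi ⟨c, hc⟩ (X.subgroupOf W) ?_
  · rw [← h1]
    have h2 : (X.comap W.subtype).relIndex (P.subgroupOf W) =
        X.relIndex ((P.subgroupOf W).map W.subtype) := relIndex_comap _ _ _
    rw [subgroupOf_map_subtype, inf_eq_left.2 hPW] at h2
    exact h2.symm
  · intro x hx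
    rw [mem_subgroupOf]
    exact (hX (x : G) hx).trans (hS.mem_KG_iff ⟨c, hc⟩ x)

/-- `P / P ∩ A_v` is cyclic. -/
theorem exists_gen {p n r : ℕ} (hZ : Zsig hS p n r)
    (P : Subgroup G) (hPW : P ≤ W) (hP : IsPGroup r P) (hPi : ¬ r ∣ P.relIndex W)
    {c : G} (hc : c ∈ normalizer (W : Set G)) :
    ∃ g ∈ P, ∀ x ∈ P, ∃ k : ℕ, c⁻¹ * (x * (g ^ k)⁻¹) * c ∈ KG π := by
  have hP' : IsPGroup r (P.subgroupOf W) := hP.comap_subtype
  obtain ⟨g, hg, h1⟩ := hZ.exists_gen (P.subgroupOf W) hP' hPi ⟨c, hc⟩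
  refine ⟨g, hg, fun x hx => ?_⟩
  obtain ⟨k, hk⟩ := h1 ⟨x, hPW hx⟩ hx
  exact ⟨k, (hS.mem_KG_iff ⟨c, hc⟩ _).2 hk⟩

/-- The image of `P` (for the Sylow `r`-subgroup of the torus). -/
theorem card_map {p n r : ℕ} (hZ : Zsig hS p n r)
    (P : Subgroup G) (hPW : P ≤ W) (hP : IsPGroup r P) (hPi : ¬ r ∣ P.relIndex W) :
    Nat.card ((P.subgroupOf M).map π) = hS.mr r ∧ (P.subgroupOf M).map π ≤ hS.tor := by
  have hP' : IsPGroup r (P.subgroupOf W) := hP.comap_subtype
  have h1 : (P.subgroupOf M).map π = (P.subgroupOf W).map hS.pr := by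
    ext y
    constructor
    · rintro ⟨x, hx, rfl⟩
      exact ⟨⟨x, hPW hx⟩, hx, rfl⟩
    · rintro ⟨x, hx, rfl⟩
      exact ⟨⟨x, hS.W_le x.2⟩, hx, rfl⟩
  rw [h1]
  exact ⟨hZ.card_map _ hP' hPi, hZ.map_le _ hP'⟩

/-! ### Case `S` -/

theorem CaseS.rho_pow (hSS : hS.CaseS) {ρ : W →* (ZMod (Nat.card hS.tor))ˣ}
    (hρ : ∀ (w : W) (x : H), x ∈ hS.tor →
      hS.pr w * x * (hS.pr w)⁻¹ = x ^ (ρ w : ZMod (Nat.card hS.tor)).val)
    (k : ℕ) (w : W) : ρ (cj W (hS.hN ^ k) w) = ρ w := by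
  induction k generalizing w with
  | zero => rw [pow_zero, cj_one]
  | succ k ih => rw [pow_succ, cj_mul, hSS ρ hρ, ih]

/-- In case `S` the action is invariant under all elements permuting `V`. -/
theorem CaseS.rho_conj (hSS : hS.CaseS) {ρ : W →* (ZMod (Nat.card hS.tor))ˣ}
    (hρ : ∀ (w : W) (x : H), x ∈ hS.tor →
      hS.pr w * x * (hS.pr w)⁻¹ = x ^ (ρ w : ZMod (Nat.card hS.tor)).val)
    {c : normalizer (W : Set G)}
    (hc : (c : G) * t * (c : G)⁻¹ = t ∨ (c : G) * t * (c : G)⁻¹ = u ∨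
      (c : G) * t * (c : G)⁻¹ = t * u) (w : W) : ρ (cj W c w) = ρ w := by
  obtain ⟨k, hk⟩ : ∃ k : ℕ, (c : G) * t * (c : G)⁻¹ = h ^ k * t * (h ^ k)⁻¹ := by
    rcases hc with h1 | h1 | h1
    · exact ⟨0, by rw [h1]; group⟩
    · exact ⟨1, by rw [h1, pow_one, hS.ht]⟩
    · exact ⟨2, by rw [h1, hS.conj_h_pow.1]⟩
  have e1 : cj W c w = cj W ((hS.hN ^ k)⁻¹ * c) (cj W (hS.hN ^ k) w) := by
    rw [← cj_mul, mul_inv_cancel_left]
  rw [e1, hS.rho_conj hρ, CaseS.rho_pow hS hSS hρ]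
  change (h ^ k)⁻¹ * (c : G) ∈ M
  apply hS.mem_M_of_conj
  calc (h ^ k)⁻¹ * (c : G) * t * ((h ^ k)⁻¹ * (c : G))⁻¹
      = (h ^ k)⁻¹ * ((c : G) * t * (c : G)⁻¹) * h ^ k := by group
    _ = t := by rw [hk]; group

/-- **Case S**: `c w c⁻¹ w⁻¹` has no field part. -/
theorem CaseS.conj_mem (hSS : hS.CaseS) {c : G} (hcW : c ∈ normalizer (W : Set G))
    (hc : c⁻¹ * t * c = t ∨ c⁻¹ * t * c = u ∨ c⁻¹ * t * c = t * u) {w : G} (hw : w ∈ W) :
    ∃ (h1 : c * w * c⁻¹ ∈ M) (h2 : w ∈ M),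
      (⟨c * w * c⁻¹, h1⟩ : M) * (⟨w, h2⟩ : M)⁻¹ ∈ StructF.N π L e := by
  obtain ⟨ρ, hρ, hρ1⟩ := hS.exists_rho
  have hcw : c * w * c⁻¹ ∈ W := (mem_normalizer_iff.1 hcW w).1 hw
  have h3 := CaseS.rho_conj hS hSS hρ (c := ⟨c, hcW⟩⁻¹)
    (by
      change c⁻¹ * t * c⁻¹⁻¹ = t ∨ c⁻¹ * t * c⁻¹⁻¹ = u ∨ c⁻¹ * t * c⁻¹⁻¹ = t * u
      rw [inv_inv]; exact hc) ⟨w, hw⟩
  have h4 : cj W (⟨c, hcW⟩⁻¹ : normalizer (W : Set G)) ⟨w, hw⟩ = ⟨c * w * c⁻¹, hcw⟩ := by
    ext
    rw [coe_cj]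
    change c⁻¹⁻¹ * w * c⁻¹ = c * w * c⁻¹
    rw [inv_inv]
  rw [h4] at h3
  have h5 : ρ (⟨c * w * c⁻¹, hcw⟩ * ⟨w, hw⟩⁻¹) = 1 := by
    rw [map_mul, map_inv, h3, mul_inv_cancel]
  have h6 := (hρ1 _).1 h5
  rw [map_mul, map_inv] at h6
  refine ⟨hS.W_le hcw, hS.W_le hw, ?_⟩
  rw [StructF.mem_N, map_mul, map_inv]
  exact h6

end output

end Setup

end Cfsg.Agent.Classification.QDW.FuDichG
end

-- part: Classification/QDW/GeoPole
section
/-!
# Subgroups of `PGL₂(q)` containing a torus element of Zsigmondy prime order (abstract part)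

`G` is a finite group acting on the projective line over an algebraically closed field (`Pole`), of order
dividing `q (q² - 1)`, `q = p ^ n`; `t ∈ G` is an `r`-element, `r ∣ q - ε` a Zsigmondy prime. Then
`⟨t⟩` is normal in `G`, or `G` fixes the only pole of `p`-elements, or `G` has `q + 1` such poles and
Sylow `p`-subgroups of order `q`.
-/

set_option autoImplicit false
set_option linter.unusedSectionVars false

namespace Cfsg.Agent.Classification.QDW.GeoPole

open Subgroup MulAction Cfsg.Agent.ClassicalGeometry.PoleCount Cfsg.Agent.ClassicalGeometry.PoleCount.Pole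
open Cfsg.Agent.ClassicalGeometry.PoleCases Cfsg.Agent.ClassicalGeometry.PoleWild

/-- Elements of odd order of dihedral groups generate normal subgroups. -/
theorem dihedral_normal {k : ℕ} {t : DihedralGroup k} (ht : Odd (orderOf t)) (g : DihedralGroup k) :
    g * t * g⁻¹ ∈ zpowers t := by
  rcases t with i | i
  · rcases g with j | j
    · refine ⟨1, ?_⟩
      rw [DihedralGroup.inv_r, DihedralGroup.r_mul_r, DihedralGroup.r_mul_r, add_neg_cancel_comm]
      exact zpow_one _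
    · refine ⟨-1, ?_⟩
      rw [DihedralGroup.inv_sr, DihedralGroup.sr_mul_r, DihedralGroup.sr_mul_sr]
      change (DihedralGroup.r i) ^ (-1 : ℤ) = _
      rw [zpow_neg_one, DihedralGroup.inv_r]
      congr 1
      ring
  · exfalso
    rw [DihedralGroup.orderOf_sr] at ht
    exact absurd ht (by decide)

/-- A group acting freely on a finite set of `m` points has order dividing `m`. -/
theorem card_dvd_of_free {A X : Type*} [Group A] [Finite A] [Finite X] [MulAction A X]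
    (hfree : ∀ (a : A) (x : X), a • x = x → a = 1) : Nat.card A ∣ Nat.card X := by
  classical
  have := Fintype.ofFinite A
  have := Fintype.ofFinite X
  have h1 := Nat.card_congr (MulAction.selfEquivSigmaOrbitsQuotientStabilizer A X)
  rw [h1, Nat.card_sigma]
  apply Finset.dvd_sum
  intro ω _
  have h3 : stabilizer A (Quotient.out ω) = ⊥ := by
    rw [eq_bot_iff]
    intro a ha
    exact hfree a _ ha
  have h5 : Nat.card (A ⧸ stabilizer A (Quotient.out ω)) = Nat.card A := by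
    have h6 := Subgroup.card_mul_index (stabilizer A (Quotient.out ω))
    rw [h3, Subgroup.card_bot, one_mul] at h6
    rw [← h6, h3]
    rfl
  exact dvd_of_eq h5.symm

variable {G Ω K : Type*} [Group G] [Finite G] [MulAction G Ω] [Field K] {p : ℕ} [hp : Fact p.Prime]
  [CharP K p]

/-- All non-identity powers of an element of order prime to `p` have the same two fixed points. -/
theorem exists_fix (h : Pole p K G Ω) {t : G} (ht1 : t ≠ 1) (ht : (orderOf t).Coprime p) :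
    ∃ a b : Ω, a ≠ b ∧ ∀ c ∈ zpowers t, c ≠ 1 → ∀ x, c • x = x ↔ x = a ∨ x = b := by
  have hpow : ∀ c ∈ zpowers t, c ^ p = 1 → c = 1 := by
    intro c hc hcp
    have h1 : orderOf c ∣ orderOf t := orderOf_dvd_of_mem_zpowers hc
    have h3 := Nat.dvd_gcd h1 (orderOf_dvd_of_pow_eq_one hcp)
    rw [ht] at h3
    exact orderOf_eq_one_iff.1 (Nat.dvd_one.1 h3)
  obtain ⟨a, b, hab, hfix⟩ := h.two t fun h1 => ht1 (hpow t (mem_zpowers t) h1)
  refine ⟨a, b, hab, fun c hc hc1 => ?_⟩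
  obtain ⟨a', b', hab', hfix'⟩ := h.two c fun h1 => hc1 (hpow c hc h1)
  obtain ⟨k, rfl⟩ := mem_zpowers_iff.1 hc
  have ha : (t ^ k) • a = a := by
    have h1 : t ∈ stabilizer G a := (hfix a).2 (Or.inl rfl)
    exact (stabilizer G a).zpow_mem h1 k
  have hb : (t ^ k) • b = b := by
    have h1 : t ∈ stabilizer G b := (hfix b).2 (Or.inr rfl)
    exact (stabilizer G b).zpow_mem h1 k
  have ha' := (hfix' a).1 ha
  have hb' := (hfix' b).1 hb
  intro x
  rw [hfix']
  rcases ha' with rfl | rfl <;> rcases hb' with rfl | rfl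
  · exact absurd rfl hab
  · exact Iff.rfl
  · exact or_comm
  · exact absurd rfl hab

/-- A free cyclic action. -/
theorem orderOf_dvd_ncard {c : G} {S : Set Ω} (hS : S.Finite)
    (hinv : ∀ d ∈ zpowers c, ∀ x ∈ S, d • x ∈ S) (hfree : ∀ d ∈ zpowers c, d ≠ 1 → ∀ x ∈ S, d • x ≠ x) :
    orderOf c ∣ S.ncard := by
  let P : SubMulAction (zpowers c) Ω :=
    { carrier := S
      smul_mem' := fun d x hx => hinv d d.2 x hx }
  have hfin : Finite P := hS
  have h1 := card_dvd_of_free (A := zpowers c) (X := P) (fun d x hx => by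
    by_contra hd
    exact hfree d d.2 (fun h => hd (Subtype.ext h)) x.1 x.2 (congrArg Subtype.val hx))
  rw [Nat.card_zpowers] at h1
  exact h1

theorem main (h : Pole p K G Ω) (hp2 : Odd p) {n r : ℕ} {ε : ℤ} (hε : ε = 1 ∨ ε = -1) (hn : 0 < n)
    (hG : Nat.card G ∣ p ^ n * (p ^ (2 * n) - 1)) (hr : r.Prime) (hr7 : 7 ≤ r)
    (hrq : (r : ℤ) ∣ (p : ℤ) ^ n - ε) (hrn : ∀ j, r ∣ p ^ j - 1 → n ∣ j)
    (hrn' : ε = -1 → ∀ j, r ∣ p ^ j - 1 → 2 * n ∣ j) {t : G} (ht1 : t ≠ 1) {e : ℕ}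
    (ht : orderOf t = r ^ e)
    (hs : ε = 1 → Even n → ∃ s : G, s * t = t * s ∧ orderOf s = 2 ^ (p ^ n - 1).factorization 2) :
    (∀ g : G, g * t * g⁻¹ ∈ zpowers t) ∨ (∃ x ∈ Op p G Ω, ∀ g : G, g • x = x) ∨
      ((Op p G Ω).ncard = p ^ n + 1 ∧ ∀ x ∈ Op p G Ω, Nat.card (h.E x) = p ^ n) := by
  have hp1 := hp.out
  have hrp : r ≠ p := by
    rintro rfl
    have h1 : (r : ℤ) ∣ (r : ℤ) ^ n := dvd_pow_self _ hn.ne'
    have h3 : (r : ℤ) ∣ ε := by
      have := dvd_sub h1 hrq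
      rwa [sub_sub_cancel] at this
    have h5 : (r : ℤ) ∣ 1 := by
      rcases hε with h | h
      · rwa [h] at h3
      · rw [h] at h3; exact (dvd_neg.1 h3)
    have := Int.le_of_dvd (by norm_num) h5
    omega
  have hcop : (orderOf t).Coprime p := by
    rw [ht]
    exact Nat.Coprime.pow_left _ ((Nat.coprime_primes hr hp1).2 hrp)
  have he : e ≠ 0 := by
    rintro rfl
    rw [pow_zero] at ht
    exact ht1 (orderOf_eq_one_iff.1 ht)
  have hrdvd : r ∣ Nat.card G := by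
    have h1 := _root_.orderOf_dvd_natCard t
    rw [ht] at h1
    exact (dvd_pow_self r he).trans h1
  have hodd : Odd (orderOf t) := by
    rw [ht]
    exact (hr.eq_two_or_odd'.resolve_left (by omega)).pow
  -- the dihedral and cyclic cases
  by_cases hpG : p ∣ Nat.card G
  swap
  · left
    have hpow : ∀ g : G, g ≠ 1 → g ^ p ≠ 1 := by
      intro g hg hgp
      apply hpG
      rw [← orderOf_eq_prime hgp hg]
      exact _root_.orderOf_dvd_natCard g
    have hcyc : ∀ x : Ω, IsCyclic (stabilizer G x) := by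
      intro x
      obtain ⟨χ, hχ⟩ := h.chi x
      have hinj : Function.Injective χ := by
        rw [injective_iff_map_eq_one]
        intro g hg
        by_contra hne
        have h1 := (hχ g).mp hg
        exact hpow g (fun h => hne (Subtype.ext h)) (congrArg Subtype.val h1)
      exact isCyclic_of_injective_ringHom ((Units.coeHom K).comp χ) (Units.val_injective.comp hinj)
    rcases Cfsg.Agent.ClassicalGeometry.PolePrime.pole_prime
      (fun (g : G) hg => h.two g (hpow g hg)) hcyc with h1 | ⟨k, hk, ⟨f⟩⟩ | ⟨⟨f⟩⟩ | ⟨⟨f⟩⟩ | ⟨⟨f⟩⟩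
    · intro g
      let _ : CommGroup G := IsCyclic.commGroup
      rw [mul_comm g t, mul_inv_cancel_right]
      exact mem_zpowers t
    · intro g
      have h3 : Odd (orderOf (f t)) := by rw [MulEquiv.orderOf_eq]; exact hodd
      obtain ⟨j, hj⟩ := mem_zpowers_iff.1 (dihedral_normal h3 (f g))
      rw [← map_zpow, ← map_mul, ← map_inv, ← map_mul] at hj
      exact mem_zpowers_iff.2 ⟨j, f.injective hj⟩
    · exfalso
      rw [Nat.card_congr f.toEquiv, nat_card_alternatingGroup, Nat.card_fin] at hrdvd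
      have h3 : r ∣ Nat.factorial 4 := hrdvd.trans ⟨2, by decide⟩
      have := (hr.dvd_factorial).1 h3
      omega
    · exfalso
      rw [Nat.card_congr f.toEquiv, Nat.card_perm, Nat.card_fin] at hrdvd
      have := (hr.dvd_factorial).1 hrdvd
      omega
    · exfalso
      rw [Nat.card_congr f.toEquiv, nat_card_alternatingGroup, Nat.card_fin] at hrdvd
      have h3 : r ∣ Nat.factorial 5 := hrdvd.trans ⟨2, by decide⟩
      have := (hr.dvd_factorial).1 h3
      omega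
  · right
    obtain ⟨u, hu⟩ := exists_prime_orderOf_dvd_card' p hpG
    have hup : u ^ p = 1 := by rw [← hu]; exact pow_orderOf_eq_one u
    have hu1 : u ≠ 1 := by
      rintro rfl
      rw [orderOf_one] at hu
      exact hp1.one_lt.ne hu
    obtain ⟨x₀, hx₀⟩ := h.one u hu1 hup
    have hx₀' : x₀ ∈ Op p G Ω := ⟨u, hu1, hup, (hx₀ x₀).mpr rfl⟩
    by_cases hone : ∀ x ∈ Op p G Ω, x = x₀
    · left
      exact ⟨x₀, hx₀', fun g => hone _ (smul_mem_Op g hx₀')⟩
    · right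
      push Not at hone
      obtain ⟨x₁, hx₁, hne⟩ := hone
      have hfin : (Op p G Ω).Finite := h.finite_Op
      have hr2 : 2 ≤ (Op p G Ω).ncard := by
        rw [← Set.ncard_pair hne.symm]
        exact Set.ncard_le_ncard (by
          rintro x (rfl | rfl)
          · exact hx₀'
          · exact hx₁) hfin
      obtain ⟨i, hi⟩ := (IsPGroup.iff_card).1 (h.isPGroup_E x₀)
      have hnc : (Op p G Ω).ncard = Nat.card (h.E x₀) + 1 := by
        obtain ⟨y, hy, heq, h1 | ⟨h1, h2, h3⟩ | ⟨h1, h2, h3, h4, h5, h6⟩⟩ := numbers h hx₀' hr2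
        · exact h1
        · exfalso
          have : Even (p ^ i) := by rw [← hi, h1]; decide
          exact (Nat.not_even_iff_odd.2 hp2.pow) this
        · exfalso
          rw [h2] at hrdvd
          have h7 : r ∣ Nat.factorial 5 := hrdvd.trans ⟨2, by decide⟩
          have := (hr.dvd_factorial).1 h7
          omega
      rw [hi] at hnc
      -- the fixed points of `t`
      obtain ⟨a, b, hab, hfix⟩ := exists_fix h ht1 hcop
      have hda : ∀ d ∈ zpowers t, d • a = a := by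
        intro d hd
        by_cases hd1 : d = 1
        · rw [hd1, one_smul]
        · exact (hfix d hd hd1 a).2 (Or.inl rfl)
      have hdb : ∀ d ∈ zpowers t, d • b = b := by
        intro d hd
        by_cases hd1 : d = 1
        · rw [hd1, one_smul]
        · exact (hfix d hd hd1 b).2 (Or.inr rfl)
      have hdvd : orderOf t ∣ (Op p G Ω \ {a, b}).ncard := by
        apply orderOf_dvd_ncard (hfin.subset Set.sdiff_subset)
        · rintro d hd x ⟨hx, hxab⟩
          refine ⟨smul_mem_Op d hx, fun h1 => hxab ?_⟩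
          rcases h1 with h1 | h1
          · left
            have h3 : d • x = d • a := by rw [hda d hd]; exact h1
            exact smul_left_cancel d h3
          · right
            have h3 : d • x = d • b := by rw [hdb d hd]; exact h1
            exact smul_left_cancel d h3
        · rintro d hd hd1 x ⟨hx, hxab⟩ hdx
          exact hxab ((hfix d hd hd1 x).1 hdx)
      have hrS : r ∣ (Op p G Ω \ {a, b}).ncard := by
        rw [ht] at hdvd
        exact (dvd_pow_self r he).trans hdvd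
      -- the exponent
      have hip : p ^ i ∣ p ^ n := by
        have h1 : p ^ i ∣ Nat.card G := by
          rw [← hi]; exact Subgroup.card_subgroup_dvd_card _
        refine (Nat.Coprime.dvd_of_dvd_mul_right ?_ (h1.trans hG))
        apply Nat.Coprime.pow_left
        rw [hp1.coprime_iff_not_dvd]
        intro h3
        have h5 : p ∣ p ^ (2 * n) := dvd_pow_self _ (by omega)
        have h6 : 1 ≤ p ^ (2 * n) := Nat.one_le_pow _ _ hp1.pos
        have h7 : p ∣ 1 := by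
          have := Nat.dvd_sub h5 h3
          rwa [Nat.sub_sub_self h6] at this
        exact hp1.one_lt.ne' (Nat.dvd_one.1 h7)
      have hin : i ≤ n := (Nat.pow_dvd_pow_iff_le_right hp1.one_lt).1 hip
      have hi0 : 0 < i := by
        rcases Nat.eq_zero_or_pos i with h0 | h0
        · exfalso
          rw [h0, pow_zero] at hi
          have h1 : (⟨u, (hx₀ x₀).mpr rfl, hup⟩ : h.E x₀) = 1 := by
            have := (Nat.card_eq_one_iff_unique.1 hi).1
            exact Subsingleton.elim _ _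
          exact hu1 (congrArg Subtype.val h1)
        · exact h0
      have hpi1 : 1 ≤ p ^ i := Nat.one_le_pow _ _ hp1.pos
      have hlast : n ∣ i → i = n := fun h1 => le_antisymm hin (Nat.le_of_dvd hi0 h1)
      have hkey : i = n := by
        by_cases ha : a ∈ Op p G Ω
        · by_cases hb : b ∈ Op p G Ω
          · have hsub : ({a, b} : Set Ω) ⊆ Op p G Ω := by
              rintro x (rfl | rfl)
              · exact ha
              · exact hb
            rw [Set.ncard_sdiff hsub (Set.toFinite _), hnc, Set.ncard_pair hab] at hrS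
            exact hlast (hrn i (by rwa [show p ^ i + 1 - 2 = p ^ i - 1 by omega] at hrS))
          · exfalso
            have h1 : Op p G Ω \ {a, b} = Op p G Ω \ {a} := by
              ext x
              simp only [Set.mem_sdiff, Set.mem_insert_iff, Set.mem_singleton_iff]
              constructor
              · rintro ⟨h1, h3⟩
                exact ⟨h1, fun h5 => h3 (Or.inl h5)⟩
              · rintro ⟨h1, h3⟩
                refine ⟨h1, ?_⟩
                rintro (h5 | h5)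
                · exact h3 h5
                · rw [h5] at h1; exact hb h1
            have h3 := Set.ncard_sdiff_singleton_add_one ha hfin
            rw [h1] at hrS
            have h5 : (Op p G Ω \ {a}).ncard = p ^ i := by omega
            rw [h5] at hrS
            exact hrp ((Nat.prime_dvd_prime_iff_eq hr hp1).1 (hr.dvd_of_dvd_pow hrS))
        · by_cases hb : b ∈ Op p G Ω
          · exfalso
            have h1 : Op p G Ω \ {a, b} = Op p G Ω \ {b} := by
              ext x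
              simp only [Set.mem_sdiff, Set.mem_insert_iff, Set.mem_singleton_iff]
              constructor
              · rintro ⟨h1, h3⟩
                exact ⟨h1, fun h5 => h3 (Or.inr h5)⟩
              · rintro ⟨h1, h3⟩
                refine ⟨h1, ?_⟩
                rintro (h5 | h5)
                · rw [h5] at h1; exact ha h1
                · exact h3 h5
            have h3 := Set.ncard_sdiff_singleton_add_one hb hfin
            rw [h1] at hrS
            have h5 : (Op p G Ω \ {b}).ncard = p ^ i := by omega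
            rw [h5] at hrS
            exact hrp ((Nat.prime_dvd_prime_iff_eq hr hp1).1 (hr.dvd_of_dvd_pow hrS))
          · have h1 : Op p G Ω \ {a, b} = Op p G Ω := by
              ext x
              simp only [Set.mem_sdiff, Set.mem_insert_iff, Set.mem_singleton_iff]
              constructor
              · rintro ⟨h1, h3⟩
                exact h1
              · intro h1
                refine ⟨h1, ?_⟩
                rintro (h5 | h5)
                · rw [h5] at h1; exact ha h1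
                · rw [h5] at h1; exact hb h1
            rw [h1, hnc] at hrS
            have h3 : p ^ (2 * i) - 1 = (p ^ i + 1) * (p ^ i - 1) := by
              rw [mul_comm 2 i, pow_mul, ← Nat.sq_sub_sq, one_pow]
            have h5 : r ∣ p ^ (2 * i) - 1 := by rw [h3]; exact hrS.mul_right _
            rcases hε with hε | hε
            · obtain ⟨k, hk⟩ := hrn _ h5
              have hk2 : k = 1 ∨ k = 2 := by
                have hk0 : k ≠ 0 := by rintro rfl; omega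
                have hk3 : k ≤ 2 := by
                  by_contra hcon
                  push Not at hcon
                  nlinarith only [hn, hin, hk, hcon]
                omega
              rcases hk2 with rfl | rfl
              · exfalso
                -- `n = 2 i`
                obtain ⟨s, hst, hso⟩ := hs hε ⟨i, by omega⟩
                have hpn : p ^ n - 1 = (p ^ i + 1) * (p ^ i - 1) := by
                  rw [← h3]; congr 2; omega
                have hpi3 : 3 ≤ p ^ i := by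
                  have h7 : 3 ≤ p := by
                    have := hp1.two_le
                    rcases hp2 with ⟨k, hk⟩
                    omega
                  exact h7.trans (Nat.le_self_pow hi0.ne' p)
                have hev : Even (p ^ i) ∨ Odd (p ^ i) := Nat.even_or_odd _
                have hoddpi : Odd (p ^ i) := hp2.pow
                have h2m : 1 ≤ (p ^ i - 1).factorization 2 := by
                  rw [← Nat.prime_two.dvd_iff_one_le_factorization (by omega)]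
                  obtain ⟨k, hk⟩ := hoddpi
                  exact ⟨k, by omega⟩
                have hfac : (p ^ n - 1).factorization 2 = (p ^ i + 1).factorization 2 +
                    (p ^ i - 1).factorization 2 := by
                  rw [hpn, Nat.factorization_mul (by omega) (by omega)]
                  rfl
                have hs1 : s ≠ 1 := by
                  rintro rfl
                  rw [orderOf_one] at hso
                  have : 2 ≤ 2 ^ (p ^ n - 1).factorization 2 := by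
                    calc 2 = 2 ^ 1 := (pow_one 2).symm
                      _ ≤ _ := Nat.pow_le_pow_right (by norm_num) (by omega)
                  omega
                have hscop : (orderOf s).Coprime p := by
                  rw [hso]
                  exact Nat.Coprime.pow_left _ (Nat.coprime_two_left.2 hp2)
                obtain ⟨a', b', hab', hfix'⟩ := exists_fix h hs1 hscop
                have htt : t * t ∈ zpowers t := mul_mem (mem_zpowers t) (mem_zpowers t)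
                have htt1 : t * t ≠ 1 := by
                  intro h7
                  have h8 : orderOf t ∣ 2 := orderOf_dvd_of_pow_eq_one (by rw [sq]; exact h7)
                  have h9 := Nat.dvd_gcd h8 (dvd_refl (orderOf t))
                  have h10 : Nat.Coprime 2 (orderOf t) := Nat.coprime_two_left.2 hodd
                  have h11 : orderOf t ∣ 1 := by
                    have := Nat.dvd_gcd h8 (dvd_refl (orderOf t))
                    rwa [h10] at this
                  exact ht1 (orderOf_eq_one_iff.1 (Nat.dvd_one.1 h11))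
                have hsfix : ∀ x : Ω, s • x = x → x = a ∨ x = b := by
                  intro x hx
                  apply (hfix (t * t) htt htt1 x).1
                  have hx' := (hfix' s (mem_zpowers s) hs1 x).1 hx
                  have h7 : ∀ z : Ω, s • z = z → s • (t • z) = t • z := by
                    intro z hz
                    rw [← mul_smul, hst, mul_smul, hz]
                  have h8 := (hfix' s (mem_zpowers s) hs1 _).1 (h7 x hx)
                  have h9 := (hfix' s (mem_zpowers s) hs1 _).1 (h7 _ (h7 x hx))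
                  rw [mul_smul]
                  -- `x, t x, t t x ∈ {a', b'}`
                  by_cases h10 : t • x = x
                  · rw [h10, h10]
                  · have h11 : t • (t • x) ≠ t • x := fun h12 => h10 (smul_left_cancel t h12)
                    rcases hx' with rfl | rfl <;> rcases h8 with h8 | h8 <;> rcases h9 with h9 | h9
                    · exact h9
                    · exact absurd h8 h10
                    · exact h9
                    · exact absurd (h9.trans h8.symm) h11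
                    · exact absurd (h9.trans h8.symm) h11
                    · exact h9
                    · exact absurd h8 h10
                    · exact h9
                have hsab : ∀ d ∈ zpowers s, d ≠ 1 → ∀ x : Ω, d • x = x → x = a ∨ x = b := by
                  intro d hd hd1 x hx
                  apply hsfix
                  exact (hfix' s (mem_zpowers s) hs1 x).2 ((hfix' d hd hd1 x).1 hx)
                have h7 : orderOf s ∣ (Op p G Ω).ncard := by
                  apply orderOf_dvd_ncard hfin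
                  · intro d hd x hx
                    exact smul_mem_Op d hx
                  · intro d hd hd1 x hx hdx
                    rcases hsab d hd hd1 x hdx with rfl | rfl
                    · exact ha hx
                    · exact hb hx
                rw [hso, hnc, Nat.prime_two.pow_dvd_iff_le_factorization (by omega), hfac] at h7
                omega
              · omega
            · have h7 := hrn' hε _ h5
              exact hlast (Nat.dvd_of_mul_dvd_mul_left (by norm_num) h7)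
      subst hkey
      refine ⟨hnc, fun x hx => ?_⟩
      rw [h.card_E_eq hx hx₀', hi]

end Cfsg.Agent.Classification.QDW.GeoPole
end

-- part: Classification/QDW/GeoPhi
section
/-!
# The embedding of `PGL(2,F)` into `PSL(2,K)`, `K` the algebraic closure

* `exists_Phi`: `Φ : GL(2,F) →* PSL(2,K)` with the same kernel as `conjGL`;
* `exists_phi`: `φ : H₁ →* PSL(2,K)` with kernel `C(L)`.
-/

set_option autoImplicit false
set_option linter.unusedSectionVars false

namespace Cfsg.Agent.Classification.QDW.GeoPhi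

open Subgroup Matrix Cfsg.Agent.Lib.SL2Mat Cfsg.Agent.Lib.AutSL2 Cfsg.Agent.TwoFusion
  Cfsg.Agent.TwoFusion.NormalSL2 Cfsg.Agent.Classification.QDW.TypeHom
  Cfsg.Agent.Classification.QDW.StructQ Cfsg.Agent.Classification.QDW.TorusG
  Cfsg.Agent.Classification.QDW.TorusF Cfsg.Agent.Classification.QDW.TorusW

theorem ker_conjGL (F : Type*) [Field F] : (conjGL (F := F)).ker = Subgroup.center (GL (Fin 2) F) := by
  ext g
  rw [MonoidHom.mem_ker, Subgroup.mem_center_iff]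
  constructor
  · intro h
    obtain ⟨h01, h10, h00⟩ := StructUniq.scalar_of_conjGL h
    intro x
    apply Units.ext
    ext i j
    rw [Units.val_mul, Units.val_mul, Matrix.mul_apply, Matrix.mul_apply, Fin.sum_univ_two, Fin.sum_univ_two]
    fin_cases i <;> fin_cases j <;> simp [h01, h10, h00, mul_comm]
  · intro h
    apply MulEquiv.ext
    intro x
    change conjGL g x = x
    rw [← mem_TG, mem_TG_iff]
    have h1 := h (SpecialLinearGroup.toGL x)
    have h3 := congrArg (fun u : GL (Fin 2) F => (u : Matrix (Fin 2) (Fin 2) F)) h1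
    exact h3.symm

theorem exists_Phi (F : Type*) [Field F] :
    ∃ Φ : GL (Fin 2) F →* ProjectiveSpecialLinearGroup (Fin 2) (AlgebraicClosure F),
      Φ.ker = (conjGL (F := F)).ker := by
  obtain ⟨f⟩ := Cfsg.Agent.LieExceptional.PGLeqPSL.nonempty_pgl_mulEquiv_psl (AlgebraicClosure F)
    (fun x => by
      obtain ⟨z, hz⟩ := IsAlgClosed.exists_pow_nat_eq x (n := 2) (by norm_num)
      exact ⟨z, hz.symm⟩)
  set ι := algebraMap F (AlgebraicClosure F) with hι
  let m : GL (Fin 2) F →* GL (Fin 2) (AlgebraicClosure F) := GeneralLinearGroup.map ι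
  let q : GL (Fin 2) (AlgebraicClosure F) →* ProjGenLinGroup (Fin 2) (AlgebraicClosure F) :=
    QuotientGroup.mk' _
  refine ⟨f.toMonoidHom.comp (q.comp m), ?_⟩
  ext g
  rw [MonoidHom.mem_ker]
  change f (q (m g)) = 1 ↔ _
  rw [map_eq_one_iff f f.injective]
  have h1 : q (m g) = 1 ↔ m g ∈ Subgroup.center (GL (Fin 2) (AlgebraicClosure F)) :=
    QuotientGroup.eq_one_iff _
  rw [h1, ← ker_conjGL, MonoidHom.mem_ker, MonoidHom.mem_ker]
  have hent : ∀ i j, (m g).1 i j = ι (g.1 i j) := fun i j => rfl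
  constructor
  · intro h
    obtain ⟨h01, h10, h00⟩ := StructUniq.scalar_of_conjGL h
    rw [hent] at h01 h10 h00
    rw [hent] at h00
    exact StructUniq.conjGL_of_scalar ((map_eq_zero ι).1 h01) ((map_eq_zero ι).1 h10) (ι.injective h00)
  · intro h
    obtain ⟨h01, h10, h00⟩ := StructUniq.scalar_of_conjGL h
    apply StructUniq.conjGL_of_scalar
    · rw [hent, h01, map_zero]
    · rw [hent, h10, map_zero]
    · rw [hent, hent, h00]

variable {H : Type*} [Group H] [Finite H] {L : Subgroup H} [hLn : L.Normal] {F : Type*} [Field F]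
  [Finite F] {e : L ≃* _root_.Matrix.SpecialLinearGroup (Fin 2) F}

/-- The homomorphism `H₁ → PSL(2,K)`. -/
theorem exists_phi : ∃ (Φ : GL (Fin 2) F →* ProjectiveSpecialLinearGroup (Fin 2) (AlgebraicClosure F))
    (φ : H1 L e →* ProjectiveSpecialLinearGroup (Fin 2) (AlgebraicClosure F)),
      Φ.ker = (conjGL (F := F)).ker ∧ (∀ (h : H1 L e) g, act L e (h : H) = conjGL g → φ h = Φ g) ∧
      (∀ h : H1 L e, φ h = 1 ↔ act L e (h : H) = 1) := by
  obtain ⟨Φ, hΦ⟩ := exists_Phi F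
  have hex : ∀ h : H1 L e, ∃ g : GL (Fin 2) F, act L e (h : H) = conjGL g := fun h => (mem_H1 _).1 h.2
  choose c hc using hex
  have hwd : ∀ g g' : GL (Fin 2) F, conjGL g = conjGL g' → Φ g = Φ g' := by
    intro g g' h
    have h1 : g⁻¹ * g' ∈ (conjGL (F := F)).ker := by
      rw [MonoidHom.mem_ker, map_mul, map_inv, h, inv_mul_cancel]
    rw [← hΦ, MonoidHom.mem_ker, map_mul, map_inv, inv_mul_eq_one] at h1
    exact h1
  let φ : H1 L e →* ProjectiveSpecialLinearGroup (Fin 2) (AlgebraicClosure F) :=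
    { toFun := fun h => Φ (c h)
      map_one' := by
        rw [← map_one Φ]
        apply hwd
        rw [← hc, map_one]
        exact map_one _
      map_mul' := by
        intro a b
        rw [← map_mul]
        apply hwd
        rw [← hc, map_mul, ← hc, ← hc]
        exact map_mul _ _ _ }
  have hφ : ∀ (h : H1 L e) g, act L e (h : H) = conjGL g → φ h = Φ g := by
    intro h g hg
    apply hwd
    rw [← hc, hg]
  refine ⟨Φ, φ, hΦ, hφ, fun h => ?_⟩
  rw [hφ h (c h) (hc h), ← MonoidHom.mem_ker, hΦ, MonoidHom.mem_ker, hc]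

/-- The order of the image of `Φ`. -/
theorem card_range_Phi {Φ : GL (Fin 2) F →* ProjectiveSpecialLinearGroup (Fin 2) (AlgebraicClosure F)}
    (hΦ : Φ.ker = (conjGL (F := F)).ker) :
    Nat.card Φ.range = Nat.card F * (Nat.card F ^ 2 - 1) := by
  let _ := Fintype.ofFinite F
  have h1 := Nat.card_congr (QuotientGroup.quotientKerEquivRange Φ).toEquiv
  rw [← h1, hΦ, ker_conjGL]
  have h3 := Cfsg.Agent.ClassicalGeometry.PSL2Basic.card_PGL2 F
  rw [← Nat.card_eq_fintype_card] at h3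
  exact h3

end Cfsg.Agent.Classification.QDW.GeoPhi
end

-- part: Classification/QDW/Stab
section
/-!
# Stability of the torus part of `O(C(V))`

`W` is a finite group with normal subgroups `A i ≤ B i` (`i : Fin 3`), `B i / A i` cyclic of order
`m`, `W / B i` of order at most `f`; an element outside `B i` has few fixed points on `B i / A i`
(less than `√(m / f)`). If the `A i` have pairwise trivial intersection and are permuted by
automorphisms then `B 0 = B 1 = B 2`.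
-/

set_option autoImplicit false
set_option linter.unusedSectionVars false
set_option linter.unusedVariables false

namespace Cfsg.Agent.Classification.QDW.Stab

variable {W : Type*} [Group W]

/-- One side `A ≤ B ≤ W`. -/
structure Side (m f : ℕ) (A B : Subgroup W) : Prop where
  normA : A.Normal
  normB : B.Normal
  le : A ≤ B
  card : A.relIndex B = m
  cyc : ∃ g ∈ B, ∀ x ∈ B, ∃ n : ℤ, x * g ^ n ∈ A
  idx : B.index ≤ f
  fix : ∀ w, w ∉ B → ∃ d : ℕ, 0 < d ∧ f * d ^ 2 < m ∧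
    ∀ x ∈ B, w * x * w⁻¹ * x⁻¹ ∈ A → x ^ d ∈ A

namespace Side

variable {m f : ℕ} {A B : Subgroup W}

theorem comm_mem (h : Side m f A B) {x y : W} (hx : x ∈ B) (hy : y ∈ B) :
    x * y * x⁻¹ * y⁻¹ ∈ A := by
  have := h.normA
  obtain ⟨g, hg, hgen⟩ := h.cyc
  obtain ⟨k, hk⟩ := hgen x hx
  obtain ⟨l, hl⟩ := hgen y hy
  have e1 : ((x * y * x⁻¹ * y⁻¹ : W) : W ⧸ A) = 1 := by
    have h1 : (x : W ⧸ A) = ((g : W ⧸ A) ^ k)⁻¹ := by
      rw [eq_inv_iff_mul_eq_one, ← QuotientGroup.mk_zpow, ← QuotientGroup.mk_mul]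
      exact (QuotientGroup.eq_one_iff _).2 hk
    have h2 : (y : W ⧸ A) = ((g : W ⧸ A) ^ l)⁻¹ := by
      rw [eq_inv_iff_mul_eq_one, ← QuotientGroup.mk_zpow, ← QuotientGroup.mk_mul]
      exact (QuotientGroup.eq_one_iff _).2 hl
    rw [QuotientGroup.mk_mul, QuotientGroup.mk_mul, QuotientGroup.mk_mul, QuotientGroup.mk_inv,
      QuotientGroup.mk_inv, h1, h2]
    group
  exact (QuotientGroup.eq_one_iff _).1 e1

/-- The number of elements `x` of `B` with `x ^ e ∈ A`. -/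
theorem card_le [Finite W] (h : Side m f A B) {e : ℕ} (he : 0 < e) :
    Nat.card {x : W // x ∈ B ∧ x ^ e ∈ A} ≤ e * Nat.card A := by
  classical
  have := h.normA
  obtain ⟨g, hg, hgen⟩ := h.cyc
  have hZ : IsCyclic (Subgroup.zpowers ((g : W) : W ⧸ A)) := inferInstance
  have hfin := Fintype.ofFinite (Subgroup.zpowers ((g : W) : W ⧸ A))
  have hmem : ∀ x ∈ B, ((x : W) : W ⧸ A) ∈ Subgroup.zpowers ((g : W) : W ⧸ A) := by
    intro x hx
    obtain ⟨n, hn⟩ := hgen x hx
    refine Subgroup.mem_zpowers_iff.2 ⟨-n, ?_⟩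
    rw [zpow_neg, eq_comm, eq_inv_iff_mul_eq_one, ← QuotientGroup.mk_zpow,
      ← QuotientGroup.mk_mul]
    exact (QuotientGroup.eq_one_iff _).2 hn
  let E := {y : Subgroup.zpowers ((g : W) : W ⧸ A) // y ^ e = 1}
  have hE : Nat.card E ≤ e := by
    have h1 := IsCyclic.card_pow_eq_one_le (α := Subgroup.zpowers ((g : W) : W ⧸ A)) he
    rw [Nat.card_eq_fintype_card, Fintype.card_subtype]
    exact h1
  let F : {x : W // x ∈ B ∧ x ^ e ∈ A} → E × A := fun x =>
    (⟨⟨((x.1 : W) : W ⧸ A), hmem x.1 x.2.1⟩, Subtype.ext (by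
      change ((x.1 : W) : W ⧸ A) ^ e = 1
      rw [← QuotientGroup.mk_pow]
      exact (QuotientGroup.eq_one_iff _).2 x.2.2)⟩,
     ⟨(((x.1 : W) : W ⧸ A).out)⁻¹ * x.1, QuotientGroup.eq.1 (QuotientGroup.out_eq' _)⟩)
  have hF : Function.Injective F := by
    intro x y hxy
    have h1 : ((x.1 : W) : W ⧸ A) = ((y.1 : W) : W ⧸ A) :=
      congrArg (fun z : E × A => ((z.1.1 : Subgroup.zpowers ((g : W) : W ⧸ A)) : W ⧸ A)) hxy
    have h2 : (((x.1 : W) : W ⧸ A).out)⁻¹ * x.1 = (((y.1 : W) : W ⧸ A).out)⁻¹ * y.1 :=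
      congrArg (fun z : E × A => (z.2 : W)) hxy
    rw [h1] at h2
    exact Subtype.ext (mul_left_cancel h2)
  have h1 := Nat.card_le_card_of_injective F hF
  rw [Nat.card_prod] at h1
  exact h1.trans (Nat.mul_le_mul_right _ hE)

theorem card_mul_relIndex {H K : Subgroup W} (hHK : H ≤ K) :
    Nat.card H * H.relIndex K = Nat.card K := by
  have h1 := Subgroup.relIndex_mul_relIndex ⊥ H K bot_le hHK
  rwa [Subgroup.relIndex_bot_left, Subgroup.relIndex_bot_left] at h1

/-- A subgroup between `A` and `B` of exponent `e` modulo `A` has index at most `e` over `A`. -/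
theorem relIndex_le [Finite W] (h : Side m f A B) {I : Subgroup W} (hAI : A ≤ I) (hIB : I ≤ B)
    {e : ℕ} (he : 0 < e) (hI : ∀ x ∈ I, x ^ e ∈ A) : A.relIndex I ≤ e := by
  have h1 : Nat.card I ≤ Nat.card {x : W // x ∈ B ∧ x ^ e ∈ A} :=
    Nat.card_le_card_of_injective (fun x : I => ⟨x.1, hIB x.2, hI x.1 x.2⟩)
      (fun x y hxy => Subtype.ext (congrArg (fun z : {x : W // x ∈ B ∧ x ^ e ∈ A} => z.1) hxy))
  have h2 := h1.trans (h.card_le he)
  rw [← card_mul_relIndex hAI, mul_comm e] at h2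
  exact Nat.le_of_mul_le_mul_left h2 Nat.card_pos

end Side

section Main

variable {m f : ℕ}

end Main

section Num

theorem num_aux {Q : ℤ} (hQ : 3 ≤ Q) {b : ℕ} (hb : 3 ≤ b) :
    (b : ℤ) * (Q * (Q + 1) ^ 2) + 6 ≤ 6 * Q ^ b := by
  induction b, hb using Nat.le_induction with
  | base =>
    push_cast
    linarith only [hQ, mul_nonneg (sub_nonneg.2 hQ) (sub_nonneg.2 hQ), mul_nonneg (mul_nonneg
      (sub_nonneg.2 hQ) (sub_nonneg.2 hQ)) (sub_nonneg.2 hQ)]
  | succ b hb ih =>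
    have h1 : (0 : ℤ) < Q * (Q + 1) ^ 2 := by positivity
    have h2 : (1 : ℤ) ≤ b := by exact_mod_cast (by omega : 1 ≤ b)
    have h3 : (0 : ℤ) < Q ^ b := by positivity
    have h4 : Q ^ (b + 1) = Q ^ b * Q := pow_succ Q b
    rw [h4]
    push_cast
    have h5 : (0 : ℤ) ≤ ((b : ℤ) - 1) * (Q * (Q + 1) ^ 2) := mul_nonneg (sub_nonneg.2 h2) h1.le
    have h6 : (0 : ℤ) ≤ Q ^ b * (Q - 3) := mul_nonneg h3.le (sub_nonneg.2 hQ)
    have h7 : (1 : ℤ) ≤ Q ^ b := by linarith
    linarith only [ih, h1, h5, h6]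

/-- The numerical condition: `q₀ = p ^ n₀`, `q = q₀ ^ b`, `d`, `m` the parts of `q₀ - e`, `q - e`
prime to `r ≥ 2`. -/
theorem num {p n₀ b f r m d : ℕ} {e : ℤ} (he : e = 1 ∨ e = -1) (hp : 3 ≤ p) (hn₀ : 1 ≤ n₀)
    (hb : 3 ≤ b) (hf : f ≤ b * n₀) (hr : 2 ≤ r) (hd : ((p : ℤ) ^ n₀) - e = r * d)
    (hm : (((p : ℤ) ^ n₀) ^ b) - e = r * m) : f * d ^ 2 < m := by
  have h3n : ∀ n : ℕ, 1 ≤ n → 3 * (n : ℤ) ≤ (p : ℤ) ^ n := by
    intro n hn
    induction n, hn using Nat.le_induction with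
    | base =>
      rw [pow_one]
      exact_mod_cast hp
    | succ n hn ih =>
      have hp' : (3 : ℤ) ≤ p := by exact_mod_cast hp
      have hn' : (1 : ℤ) ≤ n := by exact_mod_cast hn
      rw [pow_succ]
      push_cast
      nlinarith only [hp, hn, ih, mul_nonneg (sub_nonneg.2 ih) (sub_nonneg.2 hp')]
  set Q : ℤ := (p : ℤ) ^ n₀ with hQ
  have h3 := h3n n₀ hn₀
  have hn' : (1 : ℤ) ≤ n₀ := by exact_mod_cast hn₀
  have hQ3 : 3 ≤ Q := by linarith only [hn₀, h3]
  have h4 := num_aux hQ3 hb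
  have hb' : (3 : ℤ) ≤ b := by exact_mod_cast hb
  have hf' : (f : ℤ) ≤ b * n₀ := by exact_mod_cast hf
  have hr' : (2 : ℤ) ≤ r := by exact_mod_cast hr
  have hQb : (1 : ℤ) ≤ Q ^ b := one_le_pow₀ (by linarith only [hn₀, h3])
  have h5 : (f : ℤ) * (Q - e) ^ 2 < 2 * (Q ^ b - e) := by
    have h6 : 3 * ((f : ℤ) * (Q - e) ^ 2) ≤ b * Q * (Q - e) ^ 2 := by
      have h7 : 3 * (f : ℤ) ≤ b * Q := by nlinarith only [hf, h3]
      linarith only [mul_nonneg (sub_nonneg.2 h7) (sq_nonneg (Q - e))]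
    have h8 : (b : ℤ) * Q * (Q - e) ^ 2 < 6 * (Q ^ b - e) := by
      rcases he with rfl | rfl
      · have h9 : (0 : ℤ) < b * Q * (4 * Q) := by positivity
        linarith only [h4, h9]
      · linarith only [h4]
    linarith only [h6, h8]
  have h6 : ((r : ℤ) * r) * (f * d ^ 2) < (r * r) * m := by
    calc ((r : ℤ) * r) * (f * d ^ 2) = f * (Q - e) ^ 2 := by rw [hd]; ring
      _ < 2 * (Q ^ b - e) := h5
      _ ≤ r * (Q ^ b - e) := by
        have : (0 : ℤ) ≤ Q ^ b - e := by rcases he with rfl | rfl <;> linarith only [hQb]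
        nlinarith only [hr, this]
      _ = (r * r) * m := by rw [hm]; ring
  have h7 : ((f * d ^ 2 : ℕ) : ℤ) < m := by
    push_cast
    exact lt_of_mul_lt_mul_left h6 (by positivity)
  exact_mod_cast h7

end Num

end Cfsg.Agent.Classification.QDW.Stab
end

-- part: Classification/QDW/GeoTorus
section
/-!
# Subgroups of `H₁` containing a torus element of Zsigmondy prime order
-/

set_option autoImplicit false
set_option linter.unusedSectionVars false

namespace Cfsg.Agent.Classification.QDW.GeoTorus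

open Subgroup Matrix Cfsg.Agent.Lib.SL2Mat Cfsg.Agent.Lib.AutSL2 Cfsg.Agent.TwoFusion
  Cfsg.Agent.TwoFusion.NormalSL2 Cfsg.Agent.Classification.QDW.TypeHom
  Cfsg.Agent.Classification.QDW.StructQ Cfsg.Agent.Classification.QDW.TorusG
  Cfsg.Agent.Classification.QDW.TorusF Cfsg.Agent.Classification.QDW.TorusW
open Cfsg.Agent.ClassicalGeometry.PoleCount Cfsg.Agent.ClassicalGeometry.PoleCount.Pole
open Cfsg.Agent.ClassicalGeometry.PoleBridge (pslPerm pole_of_injective)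
open scoped commutatorElement

variable {H : Type*} [Group H] [Finite H] {L : Subgroup H} [hLn : L.Normal] {F : Type*} [Field F]
  [Finite F] {e : L ≃* _root_.Matrix.SpecialLinearGroup (Fin 2) F} {S : Sylow 2 H}

/-- An element of odd order of `L` acting trivially on `L` is trivial. -/
theorem eq_one_of_act (B : Base S L e) {l : H} (hlo : Odd (orderOf l))
    (h : act L e l = 1) : l = 1 := by
  have h1 : ∀ x ∈ L, l * x = x * l := by
    intro x hx
    have h3 := act_mk (e := e) l ⟨x, hx⟩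
    rw [h] at h3
    have h5 := congrArg Subtype.val (e.injective h3)
    change x = l * x * l⁻¹ at h5
    rw [eq_mul_inv_iff_mul_eq] at h5
    exact h5.symm
  have hS := ((B.center_iff l).1 (B.cent l h1)).1
  obtain ⟨k, hk⟩ := S.2 ⟨l, hS⟩
  have hk' : l ^ 2 ^ k = 1 := congrArg Subtype.val hk
  have h3 := Nat.dvd_gcd (orderOf_dvd_of_pow_eq_one hk') (dvd_refl (orderOf l))
  rw [Nat.Coprime.pow_left k (Nat.coprime_two_left.2 hlo)] at h3
  exact orderOf_eq_one_iff.1 (Nat.dvd_one.1 h3)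

/-- Elements acting trivially are central `2`-elements. -/
theorem central_of_act (B : Base S L e) {c : H} (h : act L e c = 1) :
    (∀ x, c * x = x * c) ∧ ∃ k : ℕ, c ^ 2 ^ k = 1 := by
  have h1 : ∀ x ∈ L, c * x = x * c := by
    intro x hx
    have h3 := act_mk (e := e) c ⟨x, hx⟩
    rw [h] at h3
    have h5 := congrArg Subtype.val (e.injective h3)
    change x = c * x * c⁻¹ at h5
    rw [eq_mul_inv_iff_mul_eq] at h5
    exact h5.symm
  refine ⟨B.cent c h1, ?_⟩
  obtain ⟨k, hk⟩ := S.2 ⟨c, ((B.center_iff c).1 (B.cent c h1)).1⟩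
  exact ⟨k, congrArg Subtype.val hk⟩

/-- If two elements of odd order have the same action, they are equal. -/
theorem eq_of_act (B : Base S L e) {a b : H} (ha : Odd (orderOf a)) (hb : Odd (orderOf b))
    (h : act L e a = act L e b) : a = b := by
  have h1 : act L e (b⁻¹ * a) = 1 := by rw [map_mul, map_inv, h, inv_mul_cancel]
  obtain ⟨hc, k, hk⟩ := central_of_act B h1
  set c := b⁻¹ * a with hcdef
  have hac : a = b * c := by rw [hcdef, mul_inv_cancel_left]
  have hcb : Commute b c := (hc b).symm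
  -- `c` has odd order
  have h3 : c ^ (orderOf a * orderOf b) = 1 := by
    have h5 : a ^ (orderOf a * orderOf b) = 1 := by rw [pow_mul, pow_orderOf_eq_one, one_pow]
    have h6 : b ^ (orderOf a * orderOf b) = 1 := by rw [mul_comm, pow_mul, pow_orderOf_eq_one, one_pow]
    rw [hac, hcb.mul_pow, ← hac, h6, one_mul] at h5
    exact h5
  have h5 := Nat.dvd_gcd (orderOf_dvd_of_pow_eq_one hk) (orderOf_dvd_of_pow_eq_one h3)
  rw [Nat.Coprime.pow_left k (Nat.coprime_two_left.2 (ha.mul hb))] at h5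
  have h6 : c = 1 := orderOf_eq_one_iff.1 (Nat.dvd_one.1 h5)
  rw [hac, h6, mul_one]

/-- The numbers and the Zsigmondy prime. -/
structure Zs (F : Type*) (ε : ℤ) (p n r : ℕ) : Prop where
  p_prime : p.Prime
  p_odd : Odd p
  n_ge : 3 ≤ n
  card_F : Nat.card F = p ^ n
  r_prime : r.Prime
  r_ge : 7 ≤ r
  dvd : (r : ℤ) ∣ (p : ℤ) ^ n - ε
  zs : ∀ j, r ∣ p ^ j - 1 → n ∣ j
  zs' : ε = -1 → ∀ j, r ∣ p ^ j - 1 → 2 * n ∣ j

theorem card_L (L : Subgroup H) (e : L ≃* _root_.Matrix.SpecialLinearGroup (Fin 2) F) :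
    Nat.card L = Nat.card F * (Nat.card F ^ 2 - 1) := by
  let _ := Fintype.ofFinite F
  rw [Nat.card_congr e.toEquiv, Cfsg.Agent.ClassicalGeometry.PSL2Basic.card_SL2, Nat.card_eq_fintype_card]

/-- The homomorphism `φ : H₁ → PSL(2,K)`. -/
structure Phi (L : Subgroup H) [L.Normal] (e : L ≃* _root_.Matrix.SpecialLinearGroup (Fin 2) F)
    (φ : H1 L e →* ProjectiveSpecialLinearGroup (Fin 2) (AlgebraicClosure F)) : Prop where
  ker : ∀ h : H1 L e, φ h = 1 ↔ act L e (h : H) = 1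
  card : Nat.card φ.range ∣ Nat.card F * (Nat.card F ^ 2 - 1)

theorem exists_Phi : ∃ φ : H1 L e →* ProjectiveSpecialLinearGroup (Fin 2) (AlgebraicClosure F),
    Phi L e φ := by
  obtain ⟨Φ, φ, hΦ, hφ, hker⟩ := GeoPhi.exists_phi (L := L) (e := e)
  refine ⟨φ, hker, ?_⟩
  have h1 : φ.range ≤ Φ.range := by
    rintro _ ⟨a, rfl⟩
    obtain ⟨g, hg⟩ := (mem_H1 _).1 a.2
    exact ⟨g, (hφ a g hg).symm⟩
  have h3 : Finite Φ.range := by
    have : Finite (GL (Fin 2) F) := inferInstance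
    exact Finite.of_surjective _ Φ.rangeRestrict_surjective
  have h5 := Subgroup.card_dvd_of_le h1
  rwa [GeoPhi.card_range_Phi hΦ] at h5

namespace Phi

variable {φ : H1 L e →* ProjectiveSpecialLinearGroup (Fin 2) (AlgebraicClosure F)}

theorem eq_iff (hφ : Phi L e φ) (a b : H1 L e) : φ a = φ b ↔ act L e (a : H) = act L e (b : H) := by
  have h1 := hφ.ker (b⁻¹ * a)
  rw [map_mul, map_inv, inv_mul_eq_one] at h1
  rw [eq_comm, h1]
  change act L e ((b : H)⁻¹ * a) = 1 ↔ _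
  rw [map_mul, map_inv, inv_mul_eq_one]
  exact eq_comm

theorem orderOf_eq (hφ : Phi L e φ) (a : H1 L e) : orderOf (φ a) = orderOf (act L e (a : H)) := by
  rw [orderOf_eq_orderOf_iff]
  intro j
  rw [← map_pow, ← map_pow, hφ.ker]
  rfl

theorem inj (hφ : Phi L e φ) (B : Base S L e) {a b : H1 L e} (ha : Odd (orderOf (a : H)))
    (hb : Odd (orderOf (b : H))) (h : φ a = φ b) : a = b :=
  Subtype.ext (eq_of_act B ha hb ((hφ.eq_iff a b).1 h))

end Phi

theorem orderOf_act (B : Base S L e) {a : H} (ha : Odd (orderOf a)) :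
    orderOf (act L e a) = orderOf a := by
  rw [orderOf_eq_orderOf_iff]
  intro j
  rw [← map_pow]
  constructor
  · intro h1
    exact eq_one_of_act B (Odd.of_dvd_nat ha (orderOf_pow_dvd j)) h1
  · intro h1
    rw [h1, map_one]

theorem orderOf_conj (g t : H) : orderOf (g * t * g⁻¹) = orderOf t := by
  have h7 : g * t * g⁻¹ = MulAut.conj g t := rfl
  rw [h7, MulEquiv.orderOf_eq]

theorem Zs.charP {ε : ℤ} {p n r : ℕ} (hz : Zs F ε p n r) : CharP F p := by
  let _ := Fintype.ofFinite F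
  obtain ⟨p', hpc⟩ := CharP.exists F
  obtain ⟨j, hp', hj⟩ := FiniteField.card F p'
  have h1 : p' ∣ p ^ n := by
    rw [← hz.card_F, Nat.card_eq_fintype_card, hj]; exact dvd_pow_self _ j.ne_zero
  have h3 := hp'.dvd_of_dvd_pow h1
  rw [← (Nat.prime_dvd_prime_iff_eq hp' hz.p_prime).1 h3]
  exact hpc

/-- First step: the three cases. -/
theorem cases (B : Base S L e) {ε : ℤ} (hε : ε = 1 ∨ ε = -1) {p n r : ℕ} (hz : Zs F ε p n r)
    [hp : Fact p.Prime] [CharP (AlgebraicClosure F) p] [DecidableEq (AlgebraicClosure F)]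
    {φ : H1 L e →* ProjectiveSpecialLinearGroup (Fin 2) (AlgebraicClosure F)} (hφ : Phi L e φ)
    (X : Subgroup (H1 L e)) {t : H1 L e} (htX : t ∈ X) (ht1 : (t : H) ≠ 1)
    {k : ℕ} (ht : orderOf (t : H) = r ^ k)
    (hs : ε = 1 → Even n → ∃ s ∈ X, s * t = t * s ∧
      orderOf (act L e (s : H)) = 2 ^ (p ^ n - 1).factorization 2)
    (pole : @Pole p (AlgebraicClosure F) (X.map φ) (OnePoint (AlgebraicClosure F)) _
      (Cfsg.Agent.ClassicalGeometry.PoleBridge.act (X.map φ).subtype) _) :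
    (∀ g ∈ X, (g : H) * t * (g : H)⁻¹ ∈ zpowers (t : H)) ∨
      (∃ x, (∃ v ∈ X, φ v ≠ 1 ∧ φ v ^ p = 1) ∧ ∀ g ∈ X, pslPerm (AlgebraicClosure F) (φ g) x = x) ∨
      (Nat.card F + 1) * Nat.card F ∣ Nat.card (X.map φ) := by
  have hp1 := hz.p_prime
  have hr1 := hz.r_prime
  have hr7 := hz.r_ge
  have hn0 : 0 < n := by have := hz.n_ge; omega
  have hodd : Odd (orderOf (t : H)) := by
    rw [ht]
    exact (hr1.eq_two_or_odd'.resolve_left (by omega)).pow
  let G : Subgroup (ProjectiveSpecialLinearGroup (Fin 2) (AlgebraicClosure F)) := X.map φ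
  have hGfin : Finite G := Set.Finite.to_subtype ((Set.toFinite _).image _)
  have hG0fin : Finite φ.range := Finite.of_surjective _ φ.rangeRestrict_surjective
  let _ := Cfsg.Agent.ClassicalGeometry.PoleBridge.act G.subtype
  have hact : ∀ (g : G) (x : OnePoint (AlgebraicClosure F)),
    g • x = pslPerm (AlgebraicClosure F) (g : ProjectiveSpecialLinearGroup (Fin 2) _) x := fun _ _ => rfl
  have hcardG : Nat.card G ∣ p ^ n * (p ^ (2 * n) - 1) := by
    have hGG0 : G ≤ φ.range := by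
      rintro _ ⟨a, -, rfl⟩
      exact ⟨a, rfl⟩
    have h3 := (Subgroup.card_dvd_of_le hGG0).trans hφ.card
    rw [hz.card_F, ← pow_mul, mul_comm n 2] at h3
    exact h3
  have ht'o : orderOf (⟨φ t, mem_map_of_mem φ htX⟩ : G) = r ^ k := by
    rw [Subgroup.orderOf_mk, hφ.orderOf_eq, orderOf_act B hodd, ht]
  have ht'1 : (⟨φ t, mem_map_of_mem φ htX⟩ : G) ≠ 1 := by
    intro h1
    rw [h1, orderOf_one, ← ht] at ht'o
    exact ht1 (orderOf_eq_one_iff.1 ht'o.symm)
  have hs' : ε = 1 → Even n → ∃ s : G, s * ⟨φ t, mem_map_of_mem φ htX⟩ = ⟨φ t, mem_map_of_mem φ htX⟩ * s ∧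
      orderOf s = 2 ^ (p ^ n - 1).factorization 2 := by
    intro h1 h3
    obtain ⟨s, hsX, hst, hso⟩ := hs h1 h3
    refine ⟨⟨φ s, mem_map_of_mem φ hsX⟩, ?_, ?_⟩
    · apply Subtype.ext
      change φ _ * φ _ = φ _ * φ _
      rw [← map_mul, ← map_mul, hst]
    · rw [Subgroup.orderOf_mk, hφ.orderOf_eq, hso]
  rcases GeoPole.main (G := G) pole hz.p_odd hε hn0 hcardG hr1 hr7 hz.dvd hz.zs hz.zs' ht'1 ht'o hs' with
    h1 | ⟨x, hx, hxfix⟩ | ⟨h1, h3⟩
  · -- `⟨t⟩` is normal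
    left
    intro g hg
    obtain ⟨j, hj⟩ := mem_zpowers_iff.1 (h1 ⟨φ g, mem_map_of_mem φ hg⟩)
    have hj' : φ (t ^ j) = φ (g * t * g⁻¹) := by
      rw [map_zpow, map_mul, map_mul, map_inv]
      exact congrArg Subtype.val hj
    have h5 : t ^ j = g * t * g⁻¹ := by
      refine hφ.inj B ?_ ?_ hj'
      · exact Odd.of_dvd_nat hodd (orderOf_dvd_of_mem_zpowers ⟨j, rfl⟩)
      · change Odd (orderOf ((g : H) * t * (g : H)⁻¹))
        rw [orderOf_conj]; exact hodd
    exact mem_zpowers_iff.2 ⟨j, congrArg Subtype.val h5⟩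
  · right; left
    obtain ⟨v, hv1, hvp, hvx⟩ := hx
    obtain ⟨v0, hv0, hv0'⟩ := v.2
    refine ⟨x, ⟨v0, hv0, ?_, ?_⟩, fun g hg => hxfix ⟨φ g, mem_map_of_mem φ hg⟩⟩
    · intro h5
      exact hv1 (Subtype.ext (hv0'.symm.trans h5))
    · rw [hv0']
      exact congrArg Subtype.val hvp
  · right; right
    have hne : (Op p G (OnePoint (AlgebraicClosure F))).Nonempty := by
      rw [← Set.ncard_pos pole.finite_Op, h1]
      omega
    obtain ⟨x, hx⟩ := hne
    have h5 := h3 x hx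
    have h6 := (MulAction.stabilizer G x).card_mul_index
    rw [MulAction.index_stabilizer, ← pole.Op_eq_orbit hx] at h6
    have h7 : (Op p G (OnePoint (AlgebraicClosure F))).ncard = p ^ n + 1 := h1
    have h8 : Nat.card (pole.E x) ∣ Nat.card (MulAction.stabilizer G x) :=
      Subgroup.card_dvd_of_le (pole.E_le_stabilizer x)
    rw [h5] at h8
    rw [hz.card_F]
    change _ ∣ Nat.card G
    rw [← h6, mul_comm (p ^ n + 1)]
    exact mul_dvd_mul h8 (dvd_of_eq h7.symm)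

/-- `SL(2,F) → H₁`. -/
noncomputable def psi (L : Subgroup H) [L.Normal] (e : L ≃* _root_.Matrix.SpecialLinearGroup (Fin 2) F) :
    _root_.Matrix.SpecialLinearGroup (Fin 2) F →* H1 L e :=
  (L.subtype.comp e.symm.toMonoidHom).codRestrict (H1 L e) fun x => L_le_H1 (e.symm x).2

theorem psi_coe (x : _root_.Matrix.SpecialLinearGroup (Fin 2) F) : (psi L e x : H) = e.symm x := rfl

theorem act_psi_center {c : _root_.Matrix.SpecialLinearGroup (Fin 2) F} (hc : c ∈ Subgroup.center _) :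
    act L e (psi L e c : H) = 1 := by
  apply MulEquiv.ext
  intro x
  rw [psi_coe, act_of_mem, e.apply_symm_apply, Subgroup.mem_center_iff.1 hc x |>.symm, mul_inv_cancel_right]
  rfl

/-- Third case: `L ≤ X`. -/
theorem top_case (B : Base S L e) (hq : 27 ≤ Nat.card F)
    {φ : H1 L e →* ProjectiveSpecialLinearGroup (Fin 2) (AlgebraicClosure F)} (hφ : Phi L e φ)
    (X : Subgroup (H1 L e)) (hX : (Nat.card F + 1) * Nat.card F ∣ Nat.card (X.map φ)) :
    ∀ x, psi L e x ∈ X := by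
  classical
  let _ := Fintype.ofFinite F
  have hG0fin : Finite φ.range := Finite.of_surjective _ φ.rangeRestrict_surjective
  have hle : X.map φ ≤ φ.range := by
    rintro _ ⟨a, -, rfl⟩
    exact ⟨a, rfl⟩
  have hXfin : Finite (X.map φ) := Set.Finite.to_subtype ((Set.toFinite _).image _)
  -- the index
  have hrel : (X.map φ).relIndex φ.range ≤ Nat.card F - 1 := by
    have h1 := Stab.Side.card_mul_relIndex hle
    have h3 : 0 < Nat.card φ.range := Nat.card_pos
    have h5 := Nat.le_of_dvd (by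
      have : 0 < Nat.card F ^ 2 - 1 := by
        have : 1 < Nat.card F ^ 2 := Nat.one_lt_pow (by norm_num) (by omega)
        omega
      exact Nat.mul_pos (by omega) this) hφ.card
    have h6 := Nat.le_of_dvd Nat.card_pos hX
    rw [← h1] at h5
    have h7 : Nat.card F * (Nat.card F ^ 2 - 1) = (Nat.card F + 1) * Nat.card F * (Nat.card F - 1) := by
      have h8 : Nat.card F ^ 2 - 1 = (Nat.card F + 1) * (Nat.card F - 1) := by
        rw [← Nat.sq_sub_sq, one_pow]
      rw [h8]; ring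
    rw [h7] at h5
    have h8 : (Nat.card F + 1) * Nat.card F * (X.map φ).relIndex φ.range ≤
        (Nat.card F + 1) * Nat.card F * (Nat.card F - 1) := (Nat.mul_le_mul_right _ h6).trans h5
    exact Nat.le_of_mul_le_mul_left h8 (Nat.mul_pos (by omega) (by omega))
  set X1 : Subgroup (H1 L e) := (X.map φ).comap φ with hX1
  have hX1i : X1.index ≤ Nat.card F - 1 := by rw [hX1, Subgroup.index_comap]; exact hrel
  have hX1ne : X1.index ≠ 0 := Subgroup.index_ne_zero_of_finite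
  set Y : Subgroup (_root_.Matrix.SpecialLinearGroup (Fin 2) F) := X1.comap (psi L e) with hY
  have hYi : Y.index ≤ Nat.card F - 1 := by
    rw [hY, Subgroup.index_comap]
    refine le_trans ?_ hX1i
    have h1 := Subgroup.relIndex_le_of_le_right (H := X1) (K := (psi L e).range) (L := ⊤) le_top (by
      rw [Subgroup.relIndex_top_right]; exact hX1ne)
    rwa [Subgroup.relIndex_top_right] at h1
  have hYt : Y = ⊤ := by
    have h1 : Y.map (QuotientGroup.mk' (Subgroup.center (_root_.Matrix.SpecialLinearGroup (Fin 2) F))) = ⊤ := by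
      by_contra hne
      have h3 := (Cfsg.Agent.S0806.result (F := F) rfl (by
        simp only [Finset.mem_insert, Finset.mem_singleton]
        rw [← Nat.card_eq_fintype_card]
        omega)).1 _ hne
      have h5 := Subgroup.index_map_dvd Y (f := QuotientGroup.mk' (Subgroup.center (_root_.Matrix.SpecialLinearGroup (Fin 2) F)))
        (QuotientGroup.mk'_surjective _)
      have h6 := Nat.le_of_dvd (Nat.pos_of_ne_zero Subgroup.index_ne_zero_of_finite) h5
      rw [← Nat.card_eq_fintype_card] at h3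
      have h7 := h3.trans (h6.trans hYi)
      omega
    rw [eq_top_iff]
    intro x _
    have h3 : QuotientGroup.mk' (Subgroup.center (_root_.Matrix.SpecialLinearGroup (Fin 2) F)) x ∈
        Y.map (QuotientGroup.mk' (Subgroup.center (_root_.Matrix.SpecialLinearGroup (Fin 2) F))) := by
      rw [h1]; trivial
    obtain ⟨y, hy, hyx⟩ := h3
    have h5 : y⁻¹ * x ∈ Subgroup.center (_root_.Matrix.SpecialLinearGroup (Fin 2) F) := QuotientGroup.eq.1 hyx
    have h6 : y⁻¹ * x ∈ Y := by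
      change psi L e (y⁻¹ * x) ∈ X1
      change φ (psi L e (y⁻¹ * x)) ∈ X.map φ
      rw [(hφ.ker _).2 (act_psi_center h5)]
      exact one_mem _
    have h7 := Y.mul_mem hy h6
    rwa [mul_inv_cancel_left] at h7
  -- commutators
  have hcomm : _root_.commutator (_root_.Matrix.SpecialLinearGroup (Fin 2) F) ≤ X.comap (psi L e) := by
    rw [commutator_def, Subgroup.commutator_le]
    intro x _ y _
    have hx : x ∈ Y := by rw [hYt]; trivial
    have hy : y ∈ Y := by rw [hYt]; trivial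
    obtain ⟨a, ha, hax⟩ := (show φ (psi L e x) ∈ X.map φ from hx)
    obtain ⟨b, hb, hby⟩ := (show φ (psi L e y) ∈ X.map φ from hy)
    have hcx : ∀ z : H1 L e, (a⁻¹ * psi L e x) * z = z * (a⁻¹ * psi L e x) := by
      intro z
      have h1 : act L e ((a⁻¹ * psi L e x : H1 L e) : H) = 1 := by
        rw [← hφ.ker, map_mul, map_inv, hax, inv_mul_cancel]
      exact Subtype.ext ((central_of_act B h1).1 z)
    have hcy : ∀ z : H1 L e, (b⁻¹ * psi L e y) * z = z * (b⁻¹ * psi L e y) := by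
      intro z
      have h1 : act L e ((b⁻¹ * psi L e y : H1 L e) : H) = 1 := by
        rw [← hφ.ker, map_mul, map_inv, hby, inv_mul_cancel]
      exact Subtype.ext ((central_of_act B h1).1 z)
    have hx' : psi L e x = a * (a⁻¹ * psi L e x) := (mul_inv_cancel_left _ _).symm
    have hy' : psi L e y = b * (b⁻¹ * psi L e y) := (mul_inv_cancel_left _ _).symm
    change psi L e ⁅x, y⁆ ∈ X
    rw [map_commutatorElement]
    have h3 : ⁅psi L e x, psi L e y⁆ = ⁅a, b⁆ := by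
      generalize hc : a⁻¹ * psi L e x = c at hx' hcx
      generalize hd : b⁻¹ * psi L e y = d at hy' hcy
      rw [hx', hy', commutatorElement_def, commutatorElement_def]
      have e1 : a * c * (b * d) * (a * c)⁻¹ * (b * d)⁻¹ = a * (c * b) * d * c⁻¹ * a⁻¹ * (d⁻¹ * b⁻¹) := by group
      rw [e1, hcx b]
      have e2 : a * (b * c) * d * c⁻¹ * a⁻¹ * (d⁻¹ * b⁻¹) = a * b * (c * d) * c⁻¹ * a⁻¹ * (d⁻¹ * b⁻¹) := by group
      rw [e2, hcx d]
      have e3 : a * b * (d * c) * c⁻¹ * a⁻¹ * (d⁻¹ * b⁻¹) = a * b * (d * a⁻¹) * (d⁻¹ * b⁻¹) := by group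
      rw [e3, hcy a⁻¹]
      group
    rw [h3]
    exact X.mul_mem (X.mul_mem (X.mul_mem ha hb) (X.inv_mem ha)) (X.inv_mem hb)
  rw [Cfsg.Agent.TwoFusion.SLTwoFacts.commutator_eq_top (by rw [← Nat.card_eq_fintype_card]; omega)] at hcomm
  intro x
  exact hcomm trivial

/-- Second case: a Sylow `p`-subgroup of `L` is contained in `X` and normalised by `X`. -/
theorem borel_case (B : Base S L e) {ε : ℤ} (hε : ε = 1 ∨ ε = -1) {p n r : ℕ} (hz : Zs F ε p n r)
    [hp : Fact p.Prime] [CharP (AlgebraicClosure F) p] [DecidableEq (AlgebraicClosure F)]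
    {φ : H1 L e →* ProjectiveSpecialLinearGroup (Fin 2) (AlgebraicClosure F)} (hφ : Phi L e φ)
    (pole : @Pole p (AlgebraicClosure F) φ.range (OnePoint (AlgebraicClosure F)) _
      (Cfsg.Agent.ClassicalGeometry.PoleBridge.act φ.range.subtype) _)
    (X : Subgroup (H1 L e)) {t : H1 L e} (htX : t ∈ X) (ht1 : (t : H) ≠ 1)
    {k : ℕ} (ht : orderOf (t : H) = r ^ k) {x : OnePoint (AlgebraicClosure F)}
    (hv : ∃ v ∈ X, φ v ≠ 1 ∧ φ v ^ p = 1)
    (hx : ∀ g ∈ X, pslPerm (AlgebraicClosure F) (φ g) x = x) :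
    ε = 1 ∧ ∃ P : Subgroup (H1 L e), P ≤ L.subgroupOf (H1 L e) ∧ Nat.card P = Nat.card F ∧ P ≤ X ∧
      ∀ g ∈ X, ∀ y ∈ P, g * y * g⁻¹ ∈ P := by
  have hp1 := hz.p_prime
  have hr1 := hz.r_prime
  have hr7 := hz.r_ge
  have hn0 : 0 < n := by have := hz.n_ge; omega
  have hodd : Odd (orderOf (t : H)) := by
    rw [ht]
    exact (hr1.eq_two_or_odd'.resolve_left (by omega)).pow
  have hG0fin : Finite φ.range := Finite.of_surjective _ φ.rangeRestrict_surjective
  let _ := Cfsg.Agent.ClassicalGeometry.PoleBridge.act φ.range.subtype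
  have hact : ∀ (g : φ.range) (x : OnePoint (AlgebraicClosure F)),
    g • x = pslPerm (AlgebraicClosure F) (g : ProjectiveSpecialLinearGroup (Fin 2) _) x := fun _ _ => rfl
  -- a `p`-element `w` of `X`
  obtain ⟨v, hvX, hv1, hvp⟩ := hv
  have hvact : act L e ((v ^ p : H1 L e) : H) = 1 := by
    rw [← hφ.ker, map_pow, hvp]
  obtain ⟨-, j, hj⟩ := central_of_act B hvact
  have hwp : (v ^ 2 ^ j) ^ p = 1 := by
    apply Subtype.ext
    have h1 : (v ^ 2 ^ j) ^ p = (v ^ p) ^ 2 ^ j := by rw [← pow_mul, ← pow_mul, mul_comm]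
    rw [h1]
    exact hj
  have hφw : φ (v ^ 2 ^ j) ≠ 1 := by
    intro h1
    rw [map_pow] at h1
    have h3 := Nat.dvd_gcd (orderOf_dvd_of_pow_eq_one h1) (orderOf_dvd_of_pow_eq_one hvp)
    rw [Nat.Coprime.pow_left j (Nat.coprime_two_left.2 hz.p_odd)] at h3
    exact hv1 (orderOf_eq_one_iff.1 (Nat.dvd_one.1 h3))
  obtain ⟨w, hw⟩ : ∃ w, w = v ^ 2 ^ j := ⟨_, rfl⟩
  rw [← hw] at hwp hφw
  have hwX : w ∈ X := by rw [hw]; exact X.pow_mem hvX _
  have hoddp : ∀ y : H1 L e, (∃ m : ℕ, y ^ p ^ m = 1) → Odd (orderOf (y : H)) := by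
    rintro y ⟨m, hm⟩
    have h1 : (y : H) ^ p ^ m = 1 := congrArg Subtype.val hm
    exact Odd.of_dvd_nat (hz.p_odd.pow) (orderOf_dvd_of_pow_eq_one h1)
  have hwL : (w : H) ∈ L := mem_L_of_odd B w.2 (hoddp w ⟨1, by rw [pow_one]; exact hwp⟩)
  -- the Sylow subgroup
  have hwpg : IsPGroup p (zpowers (⟨(w : H), hwL⟩ : L)) := by
    rintro ⟨_, m, rfl⟩
    refine ⟨1, Subtype.ext ?_⟩
    apply Subtype.ext
    change ((w : H) ^ m) ^ p ^ 1 = 1
    rw [pow_one, ← zpow_natCast, ← _root_.zpow_mul, mul_comm, _root_.zpow_mul, zpow_natCast,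
      show (w : H) ^ p = 1 from congrArg Subtype.val hwp, _root_.one_zpow]
  obtain ⟨P1, hP1⟩ := hwpg.exists_le_sylow
  let ι : L →* H1 L e := Subgroup.inclusion L_le_H1
  have hι : Function.Injective ι := Subgroup.inclusion_injective _
  set P : Subgroup (H1 L e) := (P1 : Subgroup L).map ι with hP
  have hPL : P ≤ L.subgroupOf (H1 L e) := by
    rintro _ ⟨y, -, rfl⟩
    exact y.2
  have hwP : w ∈ P := ⟨⟨w, hwL⟩, hP1 (mem_zpowers _), rfl⟩
  have hPpg : IsPGroup p P := P1.2.map ι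
  have hcardL : Nat.card L = p ^ n * (p ^ (2 * n) - 1) := by
    rw [card_L L e, hz.card_F, ← pow_mul, mul_comm n 2]
  have hcop : Nat.Coprime p (p ^ (2 * n) - 1) := by
    rw [hp1.coprime_iff_not_dvd]
    intro h3
    have h5 : p ∣ p ^ (2 * n) := dvd_pow_self _ (by omega)
    have h6 : 1 ≤ p ^ (2 * n) := Nat.one_le_pow _ _ hp1.pos
    have h7 : p ∣ 1 := by
      have := Nat.dvd_sub h5 h3
      rwa [Nat.sub_sub_self h6] at this
    exact hp1.one_lt.ne' (Nat.dvd_one.1 h7)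
  have hcardP : Nat.card P = p ^ n := by
    have h1 : Nat.card P = Nat.card P1 := Nat.card_congr ((P1 : Subgroup L).equivMapOfInjective ι hι).symm.toEquiv
    rw [h1, Sylow.card_eq_multiplicity, hcardL]
    congr 1
    have h3 : p ^ (2 * n) - 1 ≠ 0 := by
      have : 1 < p ^ (2 * n) := Nat.one_lt_pow (by omega) hp1.one_lt
      omega
    rw [Nat.factorization_mul (pow_ne_zero _ hp1.ne_zero) h3, Finsupp.add_apply,
      hp1.factorization_pow, Finsupp.single_eq_same,
      Nat.factorization_eq_zero_of_not_dvd ((hp1.coprime_iff_not_dvd).1 hcop), add_zero]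
  -- the image of `P` is `E x`
  have hwx : (⟨φ w, ⟨w, rfl⟩⟩ : φ.range) ∈ pole.E x :=
    ⟨hx w hwX, Subtype.ext (by change φ w ^ p = 1; rw [← map_pow, hwp, map_one])⟩
  have hw1 : (⟨φ w, ⟨w, rfl⟩⟩ : φ.range) ≠ 1 := fun h1 => hφw (congrArg Subtype.val h1)
  have hQpg : IsPGroup p (P.map φ.rangeRestrict) := hPpg.map _
  have hQE : P.map φ.rangeRestrict ≤ pole.E x :=
    pole.le_E_of_isPGroup hwx hw1 _ hQpg (mem_map_of_mem φ.rangeRestrict hwP)
  have hinjP : ∀ a ∈ P, ∀ b ∈ P, φ a = φ b → a = b := by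
    intro a ha b hb hab
    obtain ⟨m, hm⟩ := hPpg ⟨a, ha⟩
    obtain ⟨m', hm'⟩ := hPpg ⟨b, hb⟩
    exact hφ.inj B (hoddp a ⟨m, congrArg Subtype.val hm⟩) (hoddp b ⟨m', congrArg Subtype.val hm'⟩) hab
  have hcardQ : Nat.card (P.map φ.rangeRestrict) = p ^ n := by
    rw [← hcardP]
    refine (Nat.card_congr (Equiv.ofBijective
      (fun y : P => (⟨φ.rangeRestrict y, mem_map_of_mem _ y.2⟩ : P.map φ.rangeRestrict)) ⟨?_, ?_⟩)).symm
    · intro a b hab
      exact Subtype.ext (hinjP a a.2 b b.2 (congrArg (fun z => ((z : φ.range) : ProjectiveSpecialLinearGroup (Fin 2) (AlgebraicClosure F))) (congrArg Subtype.val hab)))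
    · rintro ⟨_, y, hy, rfl⟩
      exact ⟨⟨y, hy⟩, rfl⟩
  have hEQ : P.map φ.rangeRestrict = pole.E x := by
    apply Subgroup.eq_of_le_of_card_ge hQE
    rw [hcardQ]
    obtain ⟨i, hi⟩ := (IsPGroup.iff_card).1 (pole.isPGroup_E x)
    rw [hi]
    apply Nat.pow_le_pow_right hp1.pos
    have h1 : p ^ i ∣ p ^ n * (p ^ (2 * n) - 1) := by
      have h3 := hφ.card
      rw [hz.card_F, ← pow_mul, mul_comm n 2] at h3
      rw [← hi]
      exact (Subgroup.card_subgroup_dvd_card _).trans h3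
    have h5 : p ^ i ∣ p ^ n := (Nat.Coprime.pow_left i hcop).dvd_of_dvd_mul_right h1
    exact (Nat.pow_dvd_pow_iff_le_right hp1.one_lt).1 h5
  -- `X` normalises `P`
  have hnorm : ∀ g ∈ X, ∀ y ∈ P, g * y * g⁻¹ ∈ P := by
    intro g hg y hy
    have hyE : (⟨φ y, ⟨y, rfl⟩⟩ : φ.range) ∈ pole.E x := hQE (mem_map_of_mem φ.rangeRestrict hy)
    have h1 : (⟨φ (g * y * g⁻¹), ⟨_, rfl⟩⟩ : φ.range) ∈ pole.E x := by
      refine ⟨?_, ?_⟩
      · change pslPerm _ (φ (g * y * g⁻¹)) x = x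
        have h3 : pslPerm (AlgebraicClosure F) (φ g)⁻¹ x = x := by
          have := hx g⁻¹ (X.inv_mem hg)
          rwa [map_inv] at this
        rw [map_mul, map_mul, map_inv, map_mul, map_mul, Equiv.Perm.mul_apply, Equiv.Perm.mul_apply, h3]
        have h5 : pslPerm (AlgebraicClosure F) (φ y) x = x := hyE.1
        rw [h5, hx g hg]
      · apply Subtype.ext
        change φ (g * y * g⁻¹) ^ p = 1
        have h5 : φ y ^ p = 1 := congrArg Subtype.val hyE.2
        rw [map_mul, map_mul, map_inv, conj_pow, h5, mul_one, mul_inv_cancel]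
    rw [← hEQ] at h1
    obtain ⟨y', hy', hyy⟩ := h1
    have h5 : φ y' = φ (g * y * g⁻¹) := congrArg Subtype.val hyy
    obtain ⟨m, hm⟩ := hPpg ⟨y, hy⟩
    obtain ⟨m', hm'⟩ := hPpg ⟨y', hy'⟩
    have h6 := hφ.inj B (hoddp y' ⟨m', congrArg Subtype.val hm'⟩) (hoddp (g * y * g⁻¹) ⟨m, by
      rw [conj_pow, show y ^ p ^ m = 1 from congrArg Subtype.val hm, mul_one, mul_inv_cancel]⟩) h5
    rw [← h6]; exact hy'
  -- `P ≤ X`
  have hcardi : ∃ i, 0 < i ∧ i ≤ n ∧ Nat.card (P ⊓ X : Subgroup (H1 L e)) = p ^ i := by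
    obtain ⟨i, hi⟩ := (IsPGroup.iff_card).1 (hPpg.to_le (inf_le_left : P ⊓ X ≤ P))
    refine ⟨i, ?_, ?_, hi⟩
    · rcases Nat.eq_zero_or_pos i with h0 | h0
      · exfalso
        rw [h0, pow_zero] at hi
        have h1 : (⟨w, hwP, hwX⟩ : (P ⊓ X : Subgroup (H1 L e))) = 1 := by
          have := (Nat.card_eq_one_iff_unique.1 hi).1
          exact Subsingleton.elim _ _
        apply hφw
        rw [show w = 1 from congrArg Subtype.val h1, map_one]
      · exact h0
    · have h1 : p ^ i ∣ p ^ n := by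
        rw [← hi, ← hcardP]
        exact Subgroup.card_dvd_of_le inf_le_left
      exact (Nat.pow_dvd_pow_iff_le_right hp1.one_lt).1 h1
  obtain ⟨i, hi0, hin, hi⟩ := hcardi
  have hri : r ∣ p ^ i - 1 := by
    have hmem : ∀ a ∈ zpowers t, ∀ y : H1 L e, y ∈ P ⊓ X ∧ y ≠ 1 → a * y * a⁻¹ ∈ P ⊓ X ∧ a * y * a⁻¹ ≠ 1 := by
      rintro a ha y ⟨⟨hyP, hyX⟩, hy1⟩
      have haX : a ∈ X := (Subgroup.zpowers_le.2 htX) ha
      refine ⟨⟨hnorm a haX y hyP, X.mul_mem (X.mul_mem haX hyX) (X.inv_mem haX)⟩, ?_⟩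
      intro h1
      exact hy1 (conj_eq_one_iff.1 h1)
    let _ : MulAction (zpowers t) {y : H1 L e // y ∈ P ⊓ X ∧ y ≠ 1} :=
      { smul := fun a y => ⟨(a : H1 L e) * y.1 * (a : H1 L e)⁻¹, hmem a a.2 y.1 y.2⟩
        one_smul := fun y => Subtype.ext (by
          change (1 : H1 L e) * y.1 * (1 : H1 L e)⁻¹ = y.1
          rw [one_mul, inv_one, mul_one])
        mul_smul := fun a b y => Subtype.ext (by
          change ((a : H1 L e) * b) * y.1 * ((a : H1 L e) * b)⁻¹ = a * (b * y.1 * (b : H1 L e)⁻¹) * (a : H1 L e)⁻¹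
          group) }
    have h1 : Nat.card (zpowers t) ∣ Nat.card {y : H1 L e // y ∈ P ⊓ X ∧ y ≠ 1} := by
      apply GeoPole.card_dvd_of_free
      intro a y hay
      have h3 : (a : H1 L e) * y.1 * (a : H1 L e)⁻¹ = y.1 := congrArg Subtype.val hay
      have haX : (a : H1 L e) ∈ X := (Subgroup.zpowers_le.2 htX) a.2
      have hao : Odd (orderOf ((a : H1 L e) : H)) := by
        obtain ⟨m, hm⟩ := mem_zpowers_iff.1 a.2
        have : ((a : H1 L e) : H) ∈ zpowers (t : H) := mem_zpowers_iff.2 ⟨m, congrArg Subtype.val hm⟩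
        exact Odd.of_dvd_nat hodd (orderOf_dvd_of_mem_zpowers this)
      have hyE : (⟨φ y.1, ⟨y.1, rfl⟩⟩ : φ.range) ∈ pole.E x :=
        hQE (mem_map_of_mem φ.rangeRestrict y.2.1.1)
      have hy1 : (⟨φ y.1, ⟨y.1, rfl⟩⟩ : φ.range) ≠ 1 := by
        intro h5
        apply y.2.2
        apply hinjP y.1 y.2.1.1 1 (one_mem _)
        rw [map_one]
        exact congrArg Subtype.val h5
      have h5 : (⟨φ (a : H1 L e), ⟨_, rfl⟩⟩ : φ.range) ∈ pole.E x := by
        refine pole.mem_E_of_commute hyE hy1 (hx _ haX) (Subtype.ext ?_)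
        change φ (a : H1 L e) * φ y.1 = φ y.1 * φ (a : H1 L e)
        rw [← map_mul, ← map_mul]
        congr 1
        rwa [mul_inv_eq_iff_eq_mul] at h3
      have h6 : φ ((a : H1 L e) ^ p) = 1 := by
        rw [map_pow]
        exact congrArg Subtype.val h5.2
      rw [hφ.ker] at h6
      have h7 : ((a : H1 L e) : H) ^ p = 1 :=
        eq_one_of_act B (Odd.of_dvd_nat hao (orderOf_pow_dvd p)) h6
      have h8 : orderOf ((a : H1 L e) : H) ∣ r ^ k := by
        obtain ⟨m, hm⟩ := mem_zpowers_iff.1 a.2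
        have : ((a : H1 L e) : H) ∈ zpowers (t : H) := mem_zpowers_iff.2 ⟨m, congrArg Subtype.val hm⟩
        rw [← ht]
        exact orderOf_dvd_of_mem_zpowers this
      have hrp : Nat.Coprime p (r ^ k) := by
        apply Nat.Coprime.pow_right
        rw [Nat.coprime_primes hp1 hr1]
        rintro rfl
        have h9 : (p : ℤ) ∣ (p : ℤ) ^ n := dvd_pow_self _ hn0.ne'
        have h10 : (p : ℤ) ∣ ε := by
          have := dvd_sub h9 hz.dvd
          rwa [sub_sub_cancel] at this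
        have h11 : (p : ℤ) ∣ 1 := by
          rcases hε with h | h
          · rwa [h] at h10
          · rw [h] at h10; exact (dvd_neg.1 h10)
        have := Int.le_of_dvd (by norm_num) h11
        omega
      have h9 := Nat.dvd_gcd (orderOf_dvd_of_pow_eq_one h7) h8
      rw [hrp] at h9
      exact Subtype.ext (Subtype.ext (orderOf_eq_one_iff.1 (Nat.dvd_one.1 h9)))
    have h3 : Nat.card {y : H1 L e // y ∈ P ⊓ X ∧ y ≠ 1} = p ^ i - 1 := by
      rw [← hi]
      change (((P ⊓ X : Subgroup (H1 L e)) : Set (H1 L e)) \ {1}).ncard = _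
      rw [Set.ncard_sdiff_singleton_of_mem (one_mem (P ⊓ X))]
      rfl
    rw [h3, Nat.card_zpowers] at h1
    have h5 : orderOf t = r ^ k := by rw [← ht]; exact (Subgroup.orderOf_coe t).symm
    rw [h5] at h1
    refine dvd_trans (dvd_pow_self r ?_) h1
    rintro rfl
    rw [pow_zero] at ht
    exact ht1 (orderOf_eq_one_iff.1 ht)
  have hin' : i = n := le_antisymm hin (Nat.le_of_dvd hi0 (hz.zs i hri))
  have hPX : P ≤ X := by
    have h1 : P ⊓ X = P := by
      apply Subgroup.eq_of_le_of_card_ge inf_le_left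
      rw [hi, hcardP, hin']
    rw [← h1]; exact inf_le_right
  refine ⟨?_, P, hPL, by rw [hcardP, hz.card_F], hPX, hnorm⟩
  rcases hε with h | h
  · exact h
  · exfalso
    rw [hin'] at hri
    have h1 := Nat.le_of_dvd hn0 (hz.zs' h n hri)
    omega

theorem Zs.card_ge {ε : ℤ} {p n r : ℕ} (hz : Zs F ε p n r) : 27 ≤ Nat.card F := by
  have h1 := hz.p_prime.two_le
  have h3 : 3 ≤ p := by
    rcases hz.p_odd with ⟨k, hk⟩
    omega
  rw [hz.card_F]
  calc 27 = 3 ^ 3 := by norm_num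
    _ ≤ p ^ 3 := Nat.pow_le_pow_left h3 3
    _ ≤ p ^ n := Nat.pow_le_pow_right hz.p_prime.pos hz.n_ge

/-- **The trichotomy.** -/
theorem main (B : Base S L e) {ε : ℤ} (hε : ε = 1 ∨ ε = -1) {p n r : ℕ} (hz : Zs F ε p n r)
    (X : Subgroup (H1 L e)) {t : H1 L e} (htX : t ∈ X) (ht1 : (t : H) ≠ 1)
    {k : ℕ} (ht : orderOf (t : H) = r ^ k)
    (hs : ε = 1 → Even n → ∃ s ∈ X, s * t = t * s ∧
      orderOf (act L e (s : H)) = 2 ^ (p ^ n - 1).factorization 2) :
    (∀ l, ∀ hl : l ∈ L, (⟨l, L_le_H1 hl⟩ : H1 L e) ∈ X) ∨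
      (∀ g ∈ X, (g : H) * t * (g : H)⁻¹ ∈ zpowers (t : H)) ∨
      (ε = 1 ∧ ∃ P : Subgroup (H1 L e), P ≤ L.subgroupOf (H1 L e) ∧ Nat.card P = Nat.card F ∧ P ≤ X ∧
        ∀ g ∈ X, ∀ y ∈ P, g * y * g⁻¹ ∈ P) := by
  classical
  have hp : Fact p.Prime := ⟨hz.p_prime⟩
  have := hz.charP
  have : CharP (AlgebraicClosure F) p := charP_of_injective_algebraMap (algebraMap F _).injective p
  obtain ⟨φ, hφ⟩ := exists_Phi (L := L) (e := e)
  rcases cases B hε hz hφ X htX ht1 ht hs (pole_of_injective p (X.map φ).subtype (X.map φ).subtype_injective)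
    with h1 | ⟨x, hv, hx⟩ | h1
  · exact Or.inr (Or.inl h1)
  · exact Or.inr (Or.inr (borel_case B hε hz hφ
      (pole_of_injective p φ.range.subtype φ.range.subtype_injective) X htX ht1 ht hv hx))
  · left
    intro l hl
    have h3 := top_case B hz.card_ge hφ X h1 (e ⟨l, hl⟩)
    have h5 : psi L e (e ⟨l, hl⟩) = ⟨l, L_le_H1 hl⟩ := by
      apply Subtype.ext
      rw [psi_coe, e.symm_apply_apply]
    rwa [h5] at h3

end Cfsg.Agent.Classification.QDW.GeoTorus
end

-- part: Classification/QDW/GeoMk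
section
/-!
# `CaseU.Geo`: the fields `tri` and `index_T`
-/

set_option autoImplicit false
set_option linter.unusedSectionVars false

namespace Cfsg.Agent.Classification.QDW.GeoMk

open Subgroup Matrix Cfsg.Agent.Lib.SL2Mat Cfsg.Agent.TwoFusion
  Cfsg.Agent.TwoFusion.NormalSL2 Cfsg.Agent.Classification.QDW.TypeHom
  Cfsg.Agent.Classification.QDW.StructQ Cfsg.Agent.Classification.QDW.TorusG
  Cfsg.Agent.Classification.QDW.TorusF Cfsg.Agent.Classification.QDW.TorusW
  Cfsg.Agent.Classification.QDW.GeoTorus Cfsg.Agent.Classification.InvCent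
  Cfsg.Agent.Classification.QDW.CaseU

variable {C : Type*} [Group C] [Finite C] {z u₀ s₀ s₀' : C} {q : ℕ} {ε : ℤ} {Z T T' U Tr E : Subgroup C}

/-- The index of the normalizer of `Tr`. -/
theorem index_T (hC : CHyp z q ε Z T T' U s₀ s₀' u₀) (hTr : Tr ≤ T) (hne : ∃ x ∈ Tr, x ∉ Z) :
    (q : ℤ) * (q + ε) ≤ 2 * (Nm Tr).index := by
  obtain ⟨x, hx, hxZ⟩ := hne
  have h1 : ∀ g ∈ Nm Tr, g ∈ T ∨ s₀ * g ∈ T := by
    intro g hg
    have h3 := (Subgroup.mem_normalizer_iff.1 hg x).1 hx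
    exact hC.fus_T x (hTr hx) hxZ g (hTr h3)
  have hcard : Nat.card (Nm Tr) ≤ 2 * Nat.card T := by
    classical
    let f : Nm Tr → T ⊕ T := fun g => if hg : (g : C) ∈ T then Sum.inl ⟨g, hg⟩ else
      Sum.inr ⟨s₀ * g, (h1 g g.2).resolve_left hg⟩
    have hf : Function.Injective f := by
      intro a b hab
      by_cases ha : (a : C) ∈ T <;> by_cases hb : (b : C) ∈ T
      · simp only [f, ha, hb, dite_true, Sum.inl.injEq, Subtype.mk.injEq] at hab
        exact Subtype.ext hab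
      · simp only [f, ha, hb, dite_true, dite_false, reduceCtorEq] at hab
      · simp only [f, ha, hb, dite_true, dite_false, reduceCtorEq] at hab
      · simp only [f, ha, hb, dite_false, Sum.inr.injEq, Subtype.mk.injEq, mul_right_inj] at hab
        exact Subtype.ext hab
    have h3 := Nat.card_le_card_of_injective f hf
    rw [Nat.card_sum] at h3
    omega
  have hZ : 0 < Nat.card Z := Nat.card_pos
  have h3 : (Nat.card (Nm Tr) : ℤ) * (Nm Tr).index = Nat.card Z * (q * (q ^ 2 - 1)) := by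
    have h5 := (Nm Tr).card_mul_index
    rw [hC.card_C] at h5
    have h6 : 1 ≤ q ^ 2 := Nat.one_le_pow _ _ (by have := hC.one_lt_q; omega)
    have h7 : ((Nat.card (Nm Tr) * (Nm Tr).index : ℕ) : ℤ) = ((Nat.card Z * (q * (q ^ 2 - 1)) : ℕ) : ℤ) := by
      rw [h5]
    push_cast [Nat.cast_sub h6] at h7
    exact h7
  have h5 : (Nat.card (Nm Tr) : ℤ) ≤ 2 * (Nat.card Z * (q - ε)) := by
    rw [← hC.card_T]; exact_mod_cast hcard
  have hq : (1 : ℤ) < q := by exact_mod_cast hC.one_lt_q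
  have hεq : (0 : ℤ) < q - ε := by rcases hC.eps with h | h <;> rw [h] <;> omega
  have hεε : ε * ε = 1 := by rcases hC.eps with h | h <;> rw [h] <;> norm_num
  have h6 : ((q : ℤ) ^ 2 - 1) = (q - ε) * (q + ε) := by linear_combination hεε
  rw [h6] at h3
  have hi : (0 : ℤ) ≤ (Nm Tr).index := by positivity
  have h7 : (Nat.card Z * (q - ε) : ℤ) * (q * (q + ε)) ≤ (Nat.card Z * (q - ε) : ℤ) * (2 * (Nm Tr).index) := by
    calc (Nat.card Z * (q - ε) : ℤ) * (q * (q + ε)) = (Nat.card (Nm Tr) : ℤ) * (Nm Tr).index := by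
          rw [h3]; ring
      _ ≤ 2 * (Nat.card Z * (q - ε)) * (Nm Tr).index := mul_le_mul_of_nonneg_right h5 hi
      _ = _ := by ring
  have h8 : (0 : ℤ) < Nat.card Z * (q - ε) := mul_pos (by exact_mod_cast hZ) hεq
  exact le_of_mul_le_mul_left h7 h8

variable {L₀ : Subgroup C} [hLn : L₀.Normal] {F : Type*} [Field F] [Finite F]
  {e₀ : L₀ ≃* _root_.Matrix.SpecialLinearGroup (Fin 2) F} {S₀ : Sylow 2 C} {p n r : ℕ}

theorem r_dvd_card (hC : CHyp z q ε Z T T' U s₀ s₀' u₀) (hq : Nat.card F = q) (hz : Zs F ε p n r)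
    (hind : ¬ r ∣ Tr.index) : r ∣ Nat.card Tr := by
  have h1 : (r : ℤ) ∣ Nat.card T := by
    rw [hC.card_T, ← hq, hz.card_F]
    push_cast
    exact hz.dvd.mul_left _
  have h3 : r ∣ Nat.card T := by exact_mod_cast h1
  have h5 : r ∣ Nat.card Tr * Tr.index := by
    rw [Tr.card_mul_index]
    exact h3.trans (Subgroup.card_subgroup_dvd_card T)
  exact (hz.r_prime.dvd_mul.1 h5).resolve_right hind

theorem notMem_Z (hZ2 : ∃ k, Nat.card Z = 2 ^ k) {x : C} (hx : Odd (orderOf x)) (hxZ : x ∈ Z) : x = 1 := by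
  obtain ⟨k, hk⟩ := hZ2
  have h1 : orderOf x ∣ 2 ^ k := by
    rw [← hk, ← Subgroup.orderOf_mk x hxZ]
    exact _root_.orderOf_dvd_natCard _
  have h3 := Nat.dvd_gcd h1 (dvd_refl (orderOf x))
  rw [Nat.Coprime.pow_left k (Nat.coprime_two_left.2 hx)] at h3
  exact orderOf_eq_one_iff.1 (Nat.dvd_one.1 h3)

theorem odd_of_pg (hz : Zs F ε p n r) (hpg : IsPGroup r Tr) {x : C} (hx : x ∈ Tr) :
    Odd (orderOf x) ∧ ∃ k, orderOf x = r ^ k := by
  have : Fact r.Prime := ⟨hz.r_prime⟩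
  obtain ⟨k, hk⟩ := (IsPGroup.iff_orderOf.1 hpg) ⟨x, hx⟩
  rw [Subgroup.orderOf_mk] at hk
  refine ⟨?_, k, hk⟩
  rw [hk]
  exact (hz.r_prime.eq_two_or_odd'.resolve_left (by have := hz.r_ge; omega)).pow

/-- `Tr` is cyclic and contained in `L₀`. -/
theorem Tr_le (hC : CHyp z q ε Z T T' U s₀ s₀' u₀) (B : _root_.Cfsg.Agent.Classification.QDW.StructQ.Base S₀ L₀ e₀) (hH : ∀ c, c ∈ H1 L₀ e₀)
    (hz : Zs F ε p n r) (hTr : Tr ≤ T) (hpg : IsPGroup r Tr) : Tr ≤ CL L₀ u₀ ∧ IsCyclic Tr := by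
  have hle : Tr ≤ CL L₀ u₀ := by
    intro x hx
    rw [mem_CL]
    exact ⟨mem_L_of_odd B (hH x) (odd_of_pg hz hpg hx).1, hC.T_comm x (hTr hx) u₀ hC.u_mem⟩
  refine ⟨hle, ?_⟩
  have huu : u₀ * u₀ = 1 := by rw [← sq, ← hC.orderOf_u]; exact pow_orderOf_eq_one u₀
  have hL : ∃ l ∈ L₀, l * u₀ ≠ u₀ * l := by
    by_contra hcon
    push Not at hcon
    have h1 := B.cent u₀ (fun l hl => (hcon l hl).symm) s₀
    have h3 := hC.s_u
    rw [← h1, mul_inv_cancel_right] at h3
    have h5 : z = 1 := by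
      have : z * u₀ = 1 * u₀ := by rw [one_mul]; exact h3.symm
      exact mul_right_cancel this
    have h6 := hC.orderOf_t
    rw [h5, orderOf_one] at h6
    omega
  obtain ⟨g, ε', hTH⟩ := exists_TH (e := e₀) B.two_ne (hH u₀) huu hL
  have := hTH.isCyclic_CL
  exact isCyclic_of_injective (Subgroup.inclusion hle) (Subgroup.inclusion_injective _)

/-- **Zsigmondy-Dickson.** -/
theorem tri (hC : CHyp z q ε Z T T' U s₀ s₀' u₀) (norm₁ : ε = 1 → ∀ τ ∈ T, ∀ v ∈ U, τ * v * τ⁻¹ ∈ U)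
    (hZ2 : ∃ k, Nat.card Z = 2 ^ k) (B : _root_.Cfsg.Agent.Classification.QDW.StructQ.Base S₀ L₀ e₀) (hH : ∀ c, c ∈ H1 L₀ e₀)
    (hq : Nat.card F = q) (hz : Zs F ε p n r) (hTr : Tr ≤ T) (hpg : IsPGroup r Tr)
    (hind : ¬ r ∣ Tr.index) (hET : E ≤ T)
    (hE : ε = 1 → Even n → ∃ s ∈ E, orderOf (act L₀ e₀ s) = 2 ^ (p ^ n - 1).factorization 2)
    (J : Subgroup C) (hTJ : Tr ≤ J) (hEJ : E ≤ J) (hLJ : ¬ L₀ ≤ J) :
    (∀ g ∈ J, ∀ x ∈ Tr, g * x * g⁻¹ ∈ Tr) ∨
      (ε = 1 ∧ ((U ≤ J ∧ J ≤ Nm U) ∨ (cj s₀ U ≤ J ∧ J ≤ Nm (cj s₀ U)))) := by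
  have hcyc := (Tr_le hC B hH hz hTr hpg).2
  obtain ⟨⟨t, ht⟩, htc⟩ := hcyc.exists_ofOrder_eq_natCard
  have hto : orderOf t = Nat.card Tr := by rw [← htc]; exact (Subgroup.orderOf_mk t ht).symm
  have hrd := r_dvd_card hC hq hz hind
  have ht1 : t ≠ 1 := by
    rintro rfl
    rw [orderOf_one] at hto
    rw [← hto] at hrd
    have := Nat.le_of_dvd (by norm_num) hrd
    have := hz.r_ge
    omega
  obtain ⟨htodd, k, hk⟩ := odd_of_pg hz hpg ht
  have hzp : zpowers t = Tr := by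
    apply Subgroup.eq_of_le_of_card_ge (zpowers_le.2 ht)
    rw [Nat.card_zpowers, hto]
  rcases GeoTorus.main B hC.eps hz (J.comap (H1 L₀ e₀).subtype) (t := ⟨t, hH t⟩) (hTJ ht) ht1 hk
    (fun h1 h3 => by
      obtain ⟨s, hs, hso⟩ := hE h1 h3
      exact ⟨⟨s, hH s⟩, hEJ hs, Subtype.ext (hC.T_comm s (hET hs) t (hTr ht)), hso⟩) with
    h1 | h1 | ⟨hε, P, hPL, hPc, hPJ, hPn⟩
  · exfalso
    exact hLJ fun l hl => h1 l hl
  · left
    intro g hg x hx
    rw [← hzp] at hx ⊢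
    obtain ⟨j, rfl⟩ := mem_zpowers_iff.1 hx
    rw [← conj_zpow]
    exact (zpowers t).zpow_mem (h1 ⟨g, hH g⟩ hg) j
  · right
    refine ⟨hε, ?_⟩
    subst hε
    have hp : Fact p.Prime := ⟨hz.p_prime⟩
    have hqn : q = p ^ n := by rw [← hq]; exact hz.card_F
    have hq3 : 3 ≤ q := by rw [← hq]; have := hz.card_ge; omega
    -- `P` as a subgroup of `C`
    set P' : Subgroup C := P.map (H1 L₀ e₀).subtype with hP'
    have hP'c : Nat.card P' = q := by
      rw [← hq, ← hPc]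
      exact Nat.card_congr (P.equivMapOfInjective _ (H1 L₀ e₀).subtype_injective).symm.toEquiv
    have hP'J : P' ≤ J := by
      rintro _ ⟨y, hy, rfl⟩
      exact hPJ hy
    have hP'n : ∀ g ∈ J, ∀ y ∈ P', g * y * g⁻¹ ∈ P' := by
      rintro g hg _ ⟨y, hy, rfl⟩
      exact ⟨_, hPn ⟨g, hH g⟩ hg y hy, rfl⟩
    -- Sylow
    obtain ⟨a, ha⟩ := hZ2
    have hn0 : 0 < n := by have := hz.n_ge; omega
    have hfac : (Nat.card C).factorization p = n := by
      have h2 : (2 : ℕ) ≠ p := by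
        intro h2
        have := hz.p_odd
        rw [← h2] at this
        exact absurd this (by decide)
      have h3 : p ^ (2 * n) - 1 ≠ 0 := by
        have : 1 < p ^ (2 * n) := Nat.one_lt_pow (by omega) hz.p_prime.one_lt
        omega
      have h4 : ¬ p ∣ p ^ (2 * n) - 1 := by
        intro h3
        have h5 : p ∣ p ^ (2 * n) := dvd_pow_self _ (by omega)
        have h6 : 1 ≤ p ^ (2 * n) := Nat.one_le_pow _ _ hz.p_prime.pos
        have h7 : p ∣ 1 := by
          have := Nat.dvd_sub h5 h3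
          rwa [Nat.sub_sub_self h6] at this
        exact hz.p_prime.one_lt.ne' (Nat.dvd_one.1 h7)
      have h5 : ¬ p ∣ 2 ^ a := by
        intro h5
        exact h2 ((Nat.prime_dvd_prime_iff_eq hz.p_prime Nat.prime_two).1 (hz.p_prime.dvd_of_dvd_pow h5)).symm
      rw [hC.card_C, ha, hqn, ← pow_mul, mul_comm n 2,
        Nat.factorization_mul (pow_ne_zero _ (by norm_num)) (mul_ne_zero (pow_ne_zero _ hz.p_prime.ne_zero) h3),
        Nat.factorization_mul (pow_ne_zero _ hz.p_prime.ne_zero) h3]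
      simp only [Finsupp.add_apply]
      rw [Nat.factorization_eq_zero_of_not_dvd h4, Nat.factorization_eq_zero_of_not_dvd h5,
        hz.p_prime.factorization_pow, Finsupp.single_eq_same, zero_add, add_zero]
    obtain ⟨c, hc⟩ := MulAction.exists_smul_eq C
      (Sylow.ofCard U (by rw [hC.card_U, hfac, hqn])) (Sylow.ofCard P' (by rw [hP'c, hfac, hqn]))
    have hcP : cj c U = P' := by
      have h1 := congrArg (fun Q : Sylow p C => (Q : Subgroup C)) hc
      exact h1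
    have hb := hC.base
    have h₁ := hC.torus
    have hn := norm₁ rfl
    -- `t` fixes the point `c`
    have htN : c⁻¹ * t * c ∈ LineC.N U := by
      apply LineC.mem_N_of
      intro v hv
      have h1 : c * v * c⁻¹ ∈ P' := by
        rw [← hcP, mem_cj]
        have : c⁻¹ * (c * v * c⁻¹) * c = v := by group
        rw [this]; exact hv
      have h3 := hP'n t (hTJ ht) _ h1
      rw [← hcP, mem_cj] at h3
      have h5 : c⁻¹ * (t * (c * v * c⁻¹) * t⁻¹) * c = c⁻¹ * t * c * v * (c⁻¹ * t * c)⁻¹ := by group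
      rwa [h5] at h3
    have hfix : t • ((c : C) : C ⧸ LineC.N U) = ((c : C) : C ⧸ LineC.N U) := by
      change ((t * c : C) : C ⧸ LineC.N U) = ((c : C) : C ⧸ LineC.N U)
      rw [QuotientGroup.eq]
      have h1 : (t * c)⁻¹ * c = (c⁻¹ * t * c)⁻¹ := by group
      rw [h1]
      exact inv_mem htN
    have hcj : ∀ m ∈ LineC.N U, cj m U = U := by
      intro m hm
      ext y
      rw [mem_cj]
      have h1 := (LineC.mem_N.1 (inv_mem hm)) y
      rw [inv_inv] at h1
      exact h1.symm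
    have hcjm : ∀ a b : C, cj (a * b) U = cj a (cj b U) := by
      intro a b
      ext y
      rw [mem_cj, mem_cj, mem_cj]
      have : (a * b)⁻¹ * y * (a * b) = b⁻¹ * (a⁻¹ * y * a) * b := by group
      rw [this]
    have hNm : ∀ Q : Subgroup C, Q = P' → Q ≤ J ∧ J ≤ Nm Q := by
      rintro Q rfl
      refine ⟨hP'J, fun g hg => ?_⟩
      exact Subgroup.mem_normalizer_fintype (S := (P' : Set C)) (fun y hy => hP'n g hg y hy)
    by_cases hx1 : ((c : C) : C ⧸ LineC.N U) = LineC.inf U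
    · left
      apply hNm
      have h1 : c ∈ LineC.N U := by
        have := QuotientGroup.eq.1 hx1
        rw [mul_one] at this
        exact inv_mem_iff.1 this
      rw [← hcP, hcj c h1]
    · by_cases hx2 : ((c : C) : C ⧸ LineC.N U) = LineC.zer U s₀
      · right
        apply hNm
        have h1 : c⁻¹ * s₀ ∈ LineC.N U := QuotientGroup.eq.1 hx2
        have h3 : s₀ = c * (c⁻¹ * s₀) := by group
        rw [h3, hcjm, hcj _ h1, hcP]
      · exfalso
        have h1 := LineC.mem_Z_of_fix hb h₁ hn (hTr ht) hq3 hx1 hx2 hfix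
        exact ht1 (notMem_Z ⟨a, ha⟩ htodd h1)

/-- The structure `Geo`. -/
theorem geo (hC : CHyp z q ε Z T T' U s₀ s₀' u₀) (norm₁ : ε = 1 → ∀ τ ∈ T, ∀ v ∈ U, τ * v * τ⁻¹ ∈ U)
    (hZ2 : ∃ k, Nat.card Z = 2 ^ k) (B : _root_.Cfsg.Agent.Classification.QDW.StructQ.Base S₀ L₀ e₀) (hH : ∀ c, c ∈ H1 L₀ e₀)
    (hq : Nat.card F = q) (hz : Zs F ε p n r) (hTr : Tr ≤ T) (hpg : IsPGroup r Tr)
    (hind : ¬ r ∣ Tr.index) (hET : E ≤ T) (hzE : z ∈ E) (huE : u₀ ∈ E) (hsE : s₀ ∈ L₀ ⊔ E)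
    (hE : ε = 1 → Even n → ∃ s ∈ E, orderOf (act L₀ e₀ s) = 2 ^ (p ^ n - 1).factorization 2) :
    Geo z q ε Z T T' U s₀ s₀' u₀ L₀ Tr E r where
  chyp := hC
  norm₁ := norm₁
  q_big := by rw [← hq]; exact hz.card_ge
  Z_two := hZ2
  L_normal := hLn
  s_mem := hsE
  E_le := hET
  z_mem := hzE
  u_mem := huE
  Tr_le := hTr
  Tr_pg := hpg
  Tr_index := hind
  tri := fun J hTJ hEJ hLJ => tri hC norm₁ hZ2 B hH hq hz hTr hpg hind hET hE J hTJ hEJ hLJ
  index_T := by
    apply index_T hC hTr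
    have hrd := r_dvd_card hC hq hz hind
    have h1 : Nat.card Tr ≠ 1 := by
      intro h1
      rw [h1] at hrd
      have := Nat.le_of_dvd (by norm_num) hrd
      have := hz.r_ge
      omega
    have h3 : Nontrivial Tr := by
      rw [← Finite.one_lt_card_iff_nontrivial]
      have := Nat.card_pos (α := Tr)
      omega
    obtain ⟨x, hx⟩ := exists_ne (1 : Tr)
    refine ⟨x, x.2, fun hxZ => hx (Subtype.ext ?_)⟩
    exact notMem_Z hZ2 (odd_of_pg hz hpg x.2).1 hxZ

end Cfsg.Agent.Classification.QDW.GeoMk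
end

private theorem dce_17827b7e226c : _root_.True := by
  try have : _root_.True := by simp only [_root_.Cfsg.Agent.Classification.QDW.FuDichG.Setup.pr.congr_simp]
  try have : _root_.True := by simp only [_root_.Cfsg.Agent.Classification.QDW.FuDichG.Setup.sN.congr_simp]
  try have : _root_.True := by simp only [_root_.Cfsg.Agent.Classification.QDW.TorusF.CL.eq_1]
  try have : _root_.True := by simp only [_root_.Cfsg.Agent.Classification.QDW.FuDichG.Setup.hN.congr_simp]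
  try have : _root_.True := by simp only [_root_.Cfsg.Agent.Classification.QDW.StructQ.tau.congr_simp]
  try have : _root_.True := by simp only [_root_.Cfsg.Agent.Classification.QDW.TorusW.A.eq_1]
  try have : _root_.True := by simp only [_root_.Cfsg.Agent.Classification.QDW.TorusW.TT.eq_1]
  try have : _root_.True := by simp only [_root_.Cfsg.Agent.Classification.QDW.FuDichG.Setup.tor.congr_simp]
  exact _root_.True.intro
end
end
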