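import Mathlib
import Cfsg.Prelude.Def_Characters
import Cfsg.Agent.Characters.CentralCharacter
import Cfsg.Agent.Classification.InvCent.GUTwo
set_option linter.all false

/-!
# Central extensions by groups of odd order which meet the derived group trivially

* `exists_mulEquiv_prod`: `π : C →* D` surjective, `ker π` central of odd order with
  `ker π ⊓ C' = ⊥`, and `D / D'` a 2-group: `C ≃* D × ker π`;
* `exists_quotient`: `Γ` with a cyclic central subgroup `Zo` of odd order, `Zo ⊓ Γ' = ⊥`, and `π` as above for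
  `D = Γ ⧸ Zo`, with cyclic kernel of order dividing `|Zo|`: `C ≃* Γ ⧸ Z` for some `Z ≤ Zo`.
-/

set_option autoImplicit false

namespace Cfsg.Agent.Classification.QDW.CentralEnd

/-- A central extension by a group of odd order, meeting the derived group trivially, of a group whose
abelianization is a 2-group is a direct product. -/
theorem exists_mulEquiv_prod {C D : Type*} [Group C] [Group D] (π : C →* D)
    (hπ : Function.Surjective π) (hodd : Odd (Nat.card π.ker))
    (hcap : π.ker ⊓ commutator C = ⊥) (a : ℕ) (hD : ∀ d : D, d ^ 2 ^ a ∈ commutator D) :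
    Nonempty (C ≃* D × π.ker) := by
  classical
  -- the homomorphism of the kernel into the abelianization
  set f : π.ker →* Abelianization C := Abelianization.of.comp π.ker.subtype with hf
  have hfi : Function.Injective f := by
    rw [← MonoidHom.ker_eq_bot_iff, Subgroup.eq_bot_iff_forall]
    intro x hx
    have h1 : (x : C) ∈ commutator C := by
      have h2 : Abelianization.of (x : C) = 1 := hx
      rwa [← MonoidHom.mem_ker, Abelianization.ker_of] at h2
    have h2 : (x : C) ∈ π.ker ⊓ commutator C := ⟨x.2, h1⟩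
    rw [hcap, Subgroup.mem_bot] at h2
    exact Subtype.ext h2
  set e : π.ker ≃* f.range := MonoidHom.ofInjective hfi with he
  have hmem : ∀ c : C, (Abelianization.of c) ^ 2 ^ a ∈ f.range := by
    intro c
    have h1 : π (c ^ 2 ^ a) ∈ commutator D := by
      rw [map_pow]
      exact hD _
    have h2 : (commutator C).map π = commutator D := by
      rw [commutator_def, commutator_def, Subgroup.map_commutator, ← MonoidHom.range_eq_map,
        MonoidHom.range_eq_top.2 hπ]
    rw [← h2] at h1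
    obtain ⟨x, hx, hxc⟩ := Subgroup.mem_map.1 h1
    have h3 : x⁻¹ * c ^ 2 ^ a ∈ π.ker := by
      rw [MonoidHom.mem_ker, map_mul, map_inv, hxc, inv_mul_cancel]
    refine ⟨⟨x⁻¹ * c ^ 2 ^ a, h3⟩, ?_⟩
    have h4 : Abelianization.of x = 1 := by
      rwa [← MonoidHom.mem_ker, Abelianization.ker_of]
    change Abelianization.of (x⁻¹ * c ^ 2 ^ a) = _
    rw [map_mul, map_inv, h4, inv_one, one_mul, map_pow]
  set g : C →* f.range := ((powMonoidHom (2 ^ a)).comp Abelianization.of).codRestrict f.range hmem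
    with hg
  set ρ : C →* π.ker := e.symm.toMonoidHom.comp g with hρ
  have hρK : ∀ k : π.ker, ρ (k : C) = k ^ 2 ^ a := by
    intro k
    have h1 : e (k ^ 2 ^ a) = g (k : C) := by
      apply Subtype.ext
      change f (k ^ 2 ^ a) = (Abelianization.of (k : C)) ^ 2 ^ a
      rw [map_pow]
      rfl
    change e.symm (g (k : C)) = _
    rw [← h1, MulEquiv.symm_apply_apply]
  have hcop : (Nat.card π.ker).Coprime (2 ^ a) :=
    (Nat.coprime_two_right.2 hodd).pow_right a
  have hfin : Finite π.ker := Nat.finite_of_card_ne_zero (by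
    intro h
    rw [h] at hodd
    exact absurd hodd (by decide))
  have hbij : Function.Bijective (fun k : π.ker => k ^ 2 ^ a) := (powCoprime hcop).bijective
  refine ⟨MulEquiv.ofBijective (π.prod ρ) ⟨?_, ?_⟩⟩
  · rw [← MonoidHom.ker_eq_bot_iff, Subgroup.eq_bot_iff_forall]
    intro x hx
    rw [MonoidHom.mem_ker, MonoidHom.prod_apply, Prod.mk_eq_one] at hx
    obtain ⟨h1, h2⟩ := hx
    have h3 := hρK ⟨x, h1⟩
    rw [h2] at h3
    have h4 : (⟨x, h1⟩ : π.ker) = 1 := by
      apply hbij.1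
      change (⟨x, h1⟩ : π.ker) ^ 2 ^ a = 1 ^ 2 ^ a
      rw [← h3, one_pow]
    exact congrArg Subtype.val h4
  · rintro ⟨d, k⟩
    obtain ⟨c, rfl⟩ := hπ d
    obtain ⟨k', hk'⟩ := hbij.2 ((ρ c)⁻¹ * k)
    refine ⟨c * (k' : C), ?_⟩
    rw [MonoidHom.prod_apply, map_mul, map_mul, MonoidHom.mem_ker.1 k'.2, mul_one, hρK]
    have h5 : k' ^ 2 ^ a = (ρ c)⁻¹ * k := hk'
    rw [h5, mul_inv_cancel_left]

/-- Cyclic central extensions are determined by the order of the kernel. -/
theorem exists_quotient {Γ : Type*} [Group Γ] (Zo : Subgroup Γ) [Zo.Normal]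
    (hZc : Zo ≤ Subgroup.center Γ) (hZo : Odd (Nat.card Zo)) [IsCyclic Zo]
    (hcap : Zo ⊓ commutator Γ = ⊥) (a : ℕ)
    (hD' : ∀ d : Γ ⧸ Zo, d ^ 2 ^ a ∈ commutator (Γ ⧸ Zo))
    {C : Type*} [Group C] (π : C →* Γ ⧸ Zo) (hπ : Function.Surjective π)
    [IsCyclic π.ker] (hcard : Nat.card π.ker ∣ Nat.card Zo)
    (hcapC : π.ker ⊓ commutator C = ⊥) :
    ∃ (Z : Subgroup Γ) (_ : Z.Normal), Z ≤ Zo ∧ Nonempty (C ≃* Γ ⧸ Z) := by
  classical
  have hfinZ : Finite Zo := Nat.finite_of_card_ne_zero (by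
    intro h
    rw [h] at hZo
    exact absurd hZo (by decide))
  have hoddK : Odd (Nat.card π.ker) := Odd.of_dvd_nat hZo hcard
  obtain ⟨e1⟩ := exists_mulEquiv_prod π hπ hoddK hcapC a hD'
  -- the subgroup of index `|K|` in `Zo`
  obtain ⟨Z', hZ'⟩ : ∃ Z' : Subgroup Zo, Nat.card (Zo ⧸ Z') = Nat.card π.ker := by
    obtain ⟨b, hb⟩ := hcard
    obtain ⟨y, hy⟩ := IsCyclic.exists_generator (α := Zo)
    refine ⟨Subgroup.zpowers (y ^ Nat.card π.ker), ?_⟩
    have h1 : orderOf y = Nat.card Zo := orderOf_eq_card_of_forall_mem_zpowers hy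
    have hpos : 0 < Nat.card π.ker := by
      rcases Nat.eq_zero_or_pos (Nat.card π.ker) with h | h
      · rw [h] at hoddK
        exact absurd hoddK (by decide)
      · exact h
    have h2 : Nat.card (Subgroup.zpowers (y ^ Nat.card π.ker)) = b := by
      rw [Nat.card_zpowers, orderOf_pow, h1, hb, Nat.gcd_mul_right_left,
        Nat.mul_div_cancel_left _ hpos]
    have h3 := Subgroup.card_eq_card_quotient_mul_card_subgroup (Subgroup.zpowers (y ^ Nat.card π.ker))
    rw [h2, hb] at h3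
    have hb0 : 0 < b := by
      rcases Nat.eq_zero_or_pos b with h | h
      · rw [h, mul_zero] at hb
        rw [hb] at hZo
        exact absurd hZo (by decide)
      · exact h
    exact (Nat.eq_of_mul_eq_mul_right hb0 h3).symm
  set Z : Subgroup Γ := Z'.map Zo.subtype with hZ
  have hZle : Z ≤ Zo := by
    rw [hZ]
    rintro _ ⟨x, -, rfl⟩
    exact x.2
  have hZn : Z.Normal := by
    refine ⟨fun x hx g => ?_⟩
    have h1 := Subgroup.mem_center_iff.1 (hZc (hZle hx)) g
    rw [h1, mul_inv_cancel_right]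
    exact hx
  refine ⟨Z, hZn, hZle, ?_⟩
  -- the projection of the quotient
  set π2 : Γ ⧸ Z →* Γ ⧸ Zo := QuotientGroup.map Z Zo (MonoidHom.id Γ) (by
    intro x hx
    exact hZle hx) with hπ2
  have hπ2s : Function.Surjective π2 := by
    intro d
    obtain ⟨g, rfl⟩ := QuotientGroup.mk'_surjective Zo d
    exact ⟨(g : Γ ⧸ Z), rfl⟩
  have hker2 : ∀ g : Γ, (g : Γ ⧸ Z) ∈ π2.ker ↔ g ∈ Zo := by
    intro g
    rw [MonoidHom.mem_ker]
    change ((g : Γ) : Γ ⧸ Zo) = 1 ↔ _
    exact QuotientGroup.eq_one_iff g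
  have hkereq : π2.ker = Zo.map (QuotientGroup.mk' Z) := by
    ext x
    obtain ⟨g, rfl⟩ := QuotientGroup.mk'_surjective Z x
    rw [show ((QuotientGroup.mk' Z) g ∈ π2.ker) ↔ g ∈ Zo from hker2 g]
    constructor
    · intro h
      exact ⟨g, h, rfl⟩
    · rintro ⟨g', hg', h⟩
      have h1 : g'⁻¹ * g ∈ Z := QuotientGroup.eq.1 h
      have h2 : g = g' * (g'⁻¹ * g) := by group
      rw [h2]
      exact Zo.mul_mem hg' (hZle h1)
  -- the kernel is the quotient of `Zo`
  set ψ : Zo →* π2.ker := ((QuotientGroup.mk' Z).comp Zo.subtype).codRestrict π2.ker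
    (fun x => (hker2 (x : Γ)).2 x.2) with hψ
  have hψs : Function.Surjective ψ := by
    rintro ⟨x, hx⟩
    have hx' := hx
    rw [hkereq] at hx'
    obtain ⟨g, hg, rfl⟩ := hx'
    exact ⟨⟨g, hg⟩, rfl⟩
  have hψk : ψ.ker = Z' := by
    ext x
    rw [MonoidHom.mem_ker]
    constructor
    · intro h
      have h1 : ((x : Γ) : Γ ⧸ Z) = 1 := congrArg Subtype.val h
      rw [QuotientGroup.eq_one_iff] at h1
      obtain ⟨y, hy, hyx⟩ := h1
      have : y = x := Subtype.ext hyx
      rw [← this]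
      exact hy
    · intro h
      apply Subtype.ext
      change ((x : Γ) : Γ ⧸ Z) = 1
      rw [QuotientGroup.eq_one_iff]
      exact ⟨x, h, rfl⟩
  have hcyc2 : IsCyclic π2.ker := isCyclic_of_surjective ψ hψs
  have hcard2 : Nat.card π2.ker = Nat.card π.ker := by
    rw [← hZ', ← hψk]
    exact (Nat.card_congr (QuotientGroup.quotientKerEquivOfSurjective ψ hψs).toEquiv).symm
  have hcap2 : π2.ker ⊓ commutator (Γ ⧸ Z) = ⊥ := by
    have h2 : (commutator Γ).map (QuotientGroup.mk' Z) = commutator (Γ ⧸ Z) := by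
      rw [commutator_def, commutator_def, Subgroup.map_commutator, ← MonoidHom.range_eq_map,
        MonoidHom.range_eq_top.2 (QuotientGroup.mk'_surjective Z)]
    rw [Subgroup.eq_bot_iff_forall]
    intro x hx
    rw [← h2] at hx
    obtain ⟨hx1, g, hg, rfl⟩ := hx
    have h3 : g ∈ Zo := (hker2 g).1 hx1
    have h4 : g ∈ Zo ⊓ commutator Γ := ⟨h3, hg⟩
    rw [hcap, Subgroup.mem_bot] at h4
    rw [h4, map_one]
  obtain ⟨e2⟩ := exists_mulEquiv_prod π2 hπ2s (by rw [hcard2]; exact hoddK) hcap2 a hD'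
  have e3 : π.ker ≃* π2.ker := mulEquivOfCyclicCardEq hcard2.symm
  exact ⟨e1.trans ((MulEquiv.prodCongr (MulEquiv.refl _) e3).trans e2.symm)⟩

section Det

open Cfsg Cfsg.Agent.Characters.CentralCharacter

/-- A central element of the derived group acts on an irreducible representation of degree `n` by an
`n`-th root of unity. -/
theorem exists_root {C : Type*} [Group C] {χ : C → ℂ} (hχ : IsIrrCharacter C χ) {z : C}
    (hz : z ∈ Subgroup.center C) (hz' : z ∈ commutator C) {n : ℕ} (hn : χ 1 = n) :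
    ∃ w : ℂ, w ^ n = 1 ∧ ∀ g, χ (g * z) = w * χ g := by
  obtain ⟨m, ρ, hρ, rfl⟩ := hχ
  have hm : m = n := by
    have h1 : ρ.character 1 = (m : ℂ) := by
      rw [Representation.char_one]
      simp
    rw [h1] at hn
    exact_mod_cast hn
  subst hm
  obtain ⟨c, hc⟩ := exists_scalar_of_commute ρ (ρ z) (by
    intro g v
    have h1 := Subgroup.mem_center_iff.1 hz g
    rw [← Module.End.mul_apply, ← Module.End.mul_apply, ← map_mul, ← map_mul, h1])
  refine ⟨c, ?_, ?_⟩
  · -- the determinant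
    set D : C →* ℂ := (LinearMap.det : Module.End ℂ (Fin m → ℂ) →* ℂ).comp ρ with hD
    have h1 : z ∈ (D.toHomUnits).ker :=
      Abelianization.commutator_subset_ker _ hz'
    have h2 : D z = 1 := by
      have h3 := congrArg Units.val (MonoidHom.mem_ker.1 h1)
      simpa using h3
    rw [hD, MonoidHom.comp_apply] at h2
    have h4 : (ρ z : Module.End ℂ (Fin m → ℂ)) = c • LinearMap.id := hc
    rw [h4, LinearMap.det_smul, LinearMap.det_id, mul_one, Module.finrank_fin_fun] at h2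
    exact h2
  · intro g
    change LinearMap.trace ℂ _ (ρ (g * z)) = c * LinearMap.trace ℂ _ (ρ g)
    rw [map_mul]
    have h4 : (ρ z : Module.End ℂ (Fin m → ℂ)) = c • LinearMap.id := hc
    rw [h4]
    have h5 : (ρ g * (c • LinearMap.id : Module.End ℂ (Fin m → ℂ))) = c • (ρ g) := by
      ext v
      simp
    rw [h5, map_smul, smul_eq_mul]

/-- Central subgroup, derived group, degrees coprime to the order: trivial intersection. -/
theorem inf_commutator_eq_bot {C : Type*} [Group C] [Finite C] (K : Subgroup C)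
    (hK : K ≤ Subgroup.center C)
    (h : ∀ z ∈ K, z ≠ 1 → ∃ χ : C → ℂ, IsIrrCharacter C χ ∧ χ z ≠ χ 1 ∧
      ∃ n : ℕ, χ 1 = n ∧ n.Coprime (Nat.card K)) :
    K ⊓ commutator C = ⊥ := by
  rw [Subgroup.eq_bot_iff_forall]
  rintro z ⟨hzK, hz'⟩
  by_contra hz1
  obtain ⟨χ, hχ, hne, n, hn, hcop⟩ := h z hzK hz1
  obtain ⟨w, hw, hwz⟩ := exists_root hχ (hK hzK) hz' hn
  have h1 : ∀ k : ℕ, ∀ g, χ (g * z ^ k) = w ^ k * χ g := by
    intro k
    induction k with
    | zero => intro g; simp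
    | succ k ih => intro g; rw [pow_succ z, ← mul_assoc, hwz, ih, pow_succ w]; ring
  have h2 : w ^ Nat.card K = 1 := by
    have h3 : z ^ Nat.card K = 1 := by
      have h4 : (⟨z, hzK⟩ : K) ^ Nat.card K = 1 := pow_card_eq_one'
      exact congrArg Subtype.val h4
    have h4 := h1 (Nat.card K) 1
    rw [h3, one_mul] at h4
    have h5 : χ 1 ≠ 0 := by
      intro h0
      apply hne
      have h6 := h1 1 1
      rw [pow_one, pow_one, one_mul] at h6
      rw [h6, h0, mul_zero]
    have h7 : (w ^ Nat.card K - 1) * χ 1 = 0 := by rw [sub_mul, ← h4, one_mul, sub_self]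
    rcases mul_eq_zero.1 h7 with h8 | h8
    · exact sub_eq_zero.1 h8
    · exact absurd h8 h5
  have h3 : w = 1 := by
    have h4 : orderOf w ∣ Nat.gcd n (Nat.card K) :=
      Nat.dvd_gcd (orderOf_dvd_of_pow_eq_one hw) (orderOf_dvd_of_pow_eq_one h2)
    rw [hcop] at h4
    exact orderOf_eq_one_iff.1 (Nat.dvd_one.1 h4)
  apply hne
  have h6 := hwz 1
  rwa [one_mul, h3, one_mul] at h6

end Det

section Lin

open Matrix Cfsg Cfsg.Agent.Classification.InvCent.GLTwo Cfsg.Agent.Classification.InvCent.GUTwo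

variable {F : Type*} [Field F]

/-- A scalar of odd order and determinant one is trivial. -/
theorem eq_one_of_det {g : GL (Fin 2) F} (hc : g ∈ Subgroup.center (GL (Fin 2) F))
    (ho : Odd (orderOf g)) (hd : GeneralLinearGroup.det g = 1) : g = 1 := by
  rw [GeneralLinearGroup.center_eq_range_scalar] at hc
  obtain ⟨a, rfl⟩ := hc
  rw [scalar_eq_dg, det_dg] at hd
  have h1 : (GeneralLinearGroup.scalar (Fin 2) a) ^ 2 = 1 := by
    rw [← map_pow, sq, hd, map_one]
  have h2 := orderOf_dvd_of_pow_eq_one h1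
  rcases (Nat.dvd_prime Nat.prime_two).1 h2 with h3 | h3
  · exact orderOf_eq_one_iff.1 h3
  · rw [h3] at ho
    exact absurd ho (by decide)

theorem gl_cap (Zo : Subgroup (GL (Fin 2) F)) (hZc : Zo ≤ Subgroup.center (GL (Fin 2) F))
    (hZo : Odd (Nat.card Zo)) : Zo ⊓ commutator (GL (Fin 2) F) = ⊥ := by
  rw [Subgroup.eq_bot_iff_forall]
  rintro g ⟨hg, hg'⟩
  refine eq_one_of_det (hZc hg) ?_ ?_
  · refine Odd.of_dvd_nat hZo ?_
    have := orderOf_dvd_natCard (⟨g, hg⟩ : Zo)
    rwa [← Subgroup.orderOf_coe] at this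
  · exact MonoidHom.mem_ker.1
      (Abelianization.commutator_subset_ker (GeneralLinearGroup.det (n := Fin 2) (R := F)) hg')

variable [Fintype F]

theorem gl_cyclic (Zo : Subgroup (GL (Fin 2) F)) (hZc : Zo ≤ Subgroup.center (GL (Fin 2) F)) :
    IsCyclic Zo := by
  have h1 : IsCyclic (Subgroup.center (GL (Fin 2) F)) := by
    rw [GeneralLinearGroup.center_eq_range_scalar]
    exact isCyclic_of_surjective (GeneralLinearGroup.scalar (Fin 2)).rangeRestrict
      (MonoidHom.rangeRestrict_surjective _)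
  exact isCyclic_of_injective (Subgroup.inclusion hZc) (Subgroup.inclusion_injective hZc)

/-- **The central end, linear case.** -/
theorem exists_quotient_gl (Zo : Subgroup (GL (Fin 2) F)) [Zo.Normal]
    (hZc : Zo ≤ Subgroup.center (GL (Fin 2) F)) (hZo : Odd (Nat.card Zo)) (a : ℕ)
    (hD' : ∀ d : GL (Fin 2) F ⧸ Zo, d ^ 2 ^ a ∈ commutator (GL (Fin 2) F ⧸ Zo))
    {C : Type*} [Group C] (π : C →* GL (Fin 2) F ⧸ Zo) (hπ : Function.Surjective π)
    [IsCyclic π.ker] (hcard : Nat.card π.ker ∣ Nat.card Zo)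
    (hcapC : π.ker ⊓ commutator C = ⊥) :
    ∃ (Z : Subgroup (GL (Fin 2) F)) (_ : Z.Normal), Z ≤ Subgroup.center (GL (Fin 2) F) ∧
      Odd (Nat.card Z) ∧ Nonempty (C ≃* GL (Fin 2) F ⧸ Z) := by
  have := gl_cyclic Zo hZc
  obtain ⟨Z, hn, hle, e⟩ := exists_quotient Zo hZc hZo (gl_cap Zo hZc hZo) a hD' π hπ hcard hcapC
  exact ⟨Z, hn, hle.trans hZc, Odd.of_dvd_nat hZo (Subgroup.card_dvd_of_le hle), e⟩

end Lin

section Uni

open Matrix Cfsg Cfsg.Agent.Classification.InvCent.GLTwo Cfsg.Agent.Classification.InvCent.GUTwo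

variable {F : Type*} [Field F] [Fintype F] {q : ℕ}

theorem gu_center (hF : Fintype.card F = q ^ 2) (hq : Odd q) (g : Cfsg.GU 2 F q) :
    g ∈ Subgroup.center (Cfsg.GU 2 F q) ↔ (g : GL (Fin 2) F) ∈ Subgroup.center (GL (Fin 2) F) := by
  obtain ⟨σ, κ, P⟩ := exists_par hF hq
  exact P.mem_center_iff g

/-- **The central end, unitary case.** -/
theorem exists_quotient_gu (hF : Fintype.card F = q ^ 2) (hq : Odd q)
    (Zo : Subgroup (Cfsg.GU 2 F q)) [Zo.Normal]
    (hZc : Zo ≤ Subgroup.center (Cfsg.GU 2 F q)) (hZo : Odd (Nat.card Zo)) (a : ℕ)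
    (hD' : ∀ d : Cfsg.GU 2 F q ⧸ Zo, d ^ 2 ^ a ∈ commutator (Cfsg.GU 2 F q ⧸ Zo))
    {C : Type*} [Group C] (π : C →* Cfsg.GU 2 F q ⧸ Zo) (hπ : Function.Surjective π)
    [IsCyclic π.ker] (hcard : Nat.card π.ker ∣ Nat.card Zo)
    (hcapC : π.ker ⊓ commutator C = ⊥) :
    ∃ (Z : Subgroup (Cfsg.GU 2 F q)) (_ : Z.Normal), Z ≤ Subgroup.center (Cfsg.GU 2 F q) ∧
      Odd (Nat.card Z) ∧ Nonempty (C ≃* Cfsg.GU 2 F q ⧸ Z) := by
  have hcyc : IsCyclic Zo := by
    have h0 : IsCyclic (Subgroup.center (GL (Fin 2) F)) := gl_cyclic _ le_rfl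
    set f : Zo →* Subgroup.center (GL (Fin 2) F) :=
      ((Cfsg.GU 2 F q).subtype.comp Zo.subtype).codRestrict _
        (fun x => (gu_center hF hq _).1 (hZc x.2)) with hf
    refine isCyclic_of_injective f ?_
    intro x y hxy
    have h1 : ((x : Cfsg.GU 2 F q) : GL (Fin 2) F) = ((y : Cfsg.GU 2 F q) : GL (Fin 2) F) :=
      congrArg (fun w : Subgroup.center (GL (Fin 2) F) => (w : GL (Fin 2) F)) hxy
    exact Subtype.ext (Subtype.ext h1)
  have hcap : Zo ⊓ commutator (Cfsg.GU 2 F q) = ⊥ := by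
    rw [Subgroup.eq_bot_iff_forall]
    rintro g ⟨hg, hg'⟩
    apply Subtype.ext
    refine eq_one_of_det ((gu_center hF hq g).1 (hZc hg)) ?_ ?_
    · refine Odd.of_dvd_nat hZo ?_
      have := orderOf_dvd_natCard (⟨g, hg⟩ : Zo)
      rw [← Subgroup.orderOf_coe] at this
      rwa [Subgroup.orderOf_coe]
    · exact MonoidHom.mem_ker.1 (Abelianization.commutator_subset_ker
        ((GeneralLinearGroup.det (n := Fin 2) (R := F)).comp (Cfsg.GU 2 F q).subtype) hg')
  obtain ⟨Z, hn, hle, e⟩ := exists_quotient Zo hZc hZo hcap a hD' π hπ hcard hcapC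
  exact ⟨Z, hn, hle.trans hZc, Odd.of_dvd_nat hZo (Subgroup.card_dvd_of_le hle), e⟩

end Uni

end Cfsg.Agent.Classification.QDW.CentralEnd
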