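import Cfsg.Agent.Classification.InvCent.InstGU
import Cfsg.Agent.Classification.InvCent.PairCount
import Cfsg.Agent.Classification.InvCent.InstGL
import Cfsg.Agent.Classification.RTwo.General
import Cfsg.Agent.Classification.RTwo.SDChar
import Cfsg.Prelude.Def_Involutions
import Mathlib
import Cfsg.Agent.Classification.InvCent.SDChi
import Cfsg.Agent.Classification.InvCent.FusionCore
import Cfsg.Agent.Classification.QDW.NormBound_m3
import Cfsg.Agent.Classification.QDW.FieldRes_mg_m3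
import Cfsg.Agent.Lib.SL2Hom
import Cfsg.Agent.Classification.QDW.FOneStruct_m3
import Cfsg.Prelude.Def_Characters
import Cfsg.Agent.Characters.Core
import Cfsg.Agent.Characters.Clifford
import Cfsg.Agent.Characters.Values
import Cfsg.Agent.Characters.DegreeBounds
import Cfsg.Agent.CharactersDeep.CosetAverage
import Cfsg.Agent.Classification.QDW.CoreConst
import Cfsg.Agent.Classification.QDW.FrobLift
import Cfsg.Agent.Classification.QDW.WrDefs
import Cfsg.Agent.Characters.Linear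
import Cfsg.Agent.CharactersDeep.IndFun
import Cfsg.Agent.CharactersDeep.AbelianQuotient
import Cfsg.Agent.OddOrderCharacters.NormTwo
import Cfsg.Agent.Classification.QDW.WrDeg
import Cfsg.Agent.Characters.SchurBound
import Cfsg.Agent.Classification.QDW.CentralEnd
import Cfsg.Agent.Classification.RTwo.Main_mg
import Cfsg.Agent.Classification.DihMinimal
import Cfsg.Agent.FastGrp
import Cfsg.Agent.Prune
set_option linter.all false

section
prune_inst 0x7ff8ecfa8ba889dfdfff7e2ffed2ddf810808fffa4dff943bfe0219f8b9f030209c56b8589e010fe0e47c29410a87803f97eceffea6bdc7ffffd57b41ffbee0fe5f7b50851d488340eac2ffe03f17f0a6f3ffdfffffffffffffffff7ffffffbeffffe3feffff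

-- part: Classification/QDW/EndMain
section
prune_inst 0x3120054540620200001c0002d0207aa7c70005b000230401cc06004400888b620900a74004a0100b020022410031006813000050420000000a8404000001000080aa5000a308a11524001f80000c01000020000000000000000080000000000001c010000
set_option linter.all false
open scoped Cfsg.Agent.FastGrp

-- part: Classification/QDW/EndIso
section
/-!
# From `C/K ≅ GL₂(F)/Z` with a split central odd kernel `K` to `C ≅ GL₂(F)/Z₀` (and `GU₂`)
-/

set_option autoImplicit false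
set_option linter.unusedSectionVars false

open Matrix

namespace Cfsg.Agent.Classification.QDW.EndIso

open Cfsg.Agent.Classification.InvCent Cfsg.Agent.Classification.InvCent.GLTwo
  Cfsg.Agent.Classification.InvCent.GUTwo Cfsg.Agent.Classification.InvCent.InstGU

section Abstract

variable {C M : Type*} [Group C] [Group M]

/-- A retraction onto a normal subgroup splits the group. -/
theorem nonempty_prod (K : Subgroup C) [K.Normal] (ρ : C →* K) (hρ : ∀ k : K, ρ (k : C) = k) :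
    Nonempty (C ≃* K × C ⧸ K) := by
  refine ⟨MulEquiv.ofBijective (ρ.prod (QuotientGroup.mk' K)) ⟨?_, ?_⟩⟩
  · rw [← MonoidHom.ker_eq_bot_iff, eq_bot_iff]
    intro x hx
    have h1 : ρ x = 1 := congrArg Prod.fst (MonoidHom.mem_ker.1 hx)
    have h2 : (x : C ⧸ K) = 1 := congrArg Prod.snd (MonoidHom.mem_ker.1 hx)
    have h3 : x ∈ K := (QuotientGroup.eq_one_iff x).1 h2
    have h4 := hρ ⟨x, h3⟩
    rw [Subgroup.mem_bot]
    have h5 : (⟨x, h3⟩ : K) = 1 := h4.symm.trans h1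
    exact congrArg Subtype.val h5
  · rintro ⟨k, x⟩
    obtain ⟨c, rfl⟩ := QuotientGroup.mk_surjective x
    refine ⟨c * ((ρ c)⁻¹ : K) * k, Prod.ext ?_ ?_⟩
    · change ρ (c * (((ρ c)⁻¹ : K) : C) * (k : C)) = k
      rw [map_mul, map_mul, hρ, hρ, mul_inv_cancel, one_mul]
    · change ((c * (((ρ c)⁻¹ : K) : C) * (k : C) : C) : C ⧸ K) = (c : C ⧸ K)
      rw [QuotientGroup.eq]
      have : (c * (((ρ c)⁻¹ : K) : C) * (k : C))⁻¹ * c =
          (k : C)⁻¹ * ((((ρ c)⁻¹ : K) : C)⁻¹) := by group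
      rw [this]
      exact K.mul_mem (K.inv_mem k.2) (K.inv_mem (SetLike.coe_mem _))

/-- A surjection between cyclic groups. -/
theorem exists_surjective {A B : Type*} [Group A] [Group B] [Finite A] [Finite B]
    (hA : IsCyclic A) (hB : IsCyclic B) (h : Nat.card B ∣ Nat.card A) :
    ∃ ψ : A →* B, Function.Surjective ψ := by
  let f : Multiplicative (ZMod (Nat.card A)) →* Multiplicative (ZMod (Nat.card B)) :=
    AddMonoidHom.toMultiplicative (ZMod.castHom h (ZMod (Nat.card B))).toAddMonoidHom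
  have hf : Function.Surjective f := by
    intro x
    obtain ⟨y, hy⟩ := ZMod.castHom_surjective h (Multiplicative.toAdd x)
    exact ⟨Multiplicative.ofAdd y, congrArg Multiplicative.ofAdd hy⟩
  let eA := zmodCyclicMulEquiv hA
  let eB := zmodCyclicMulEquiv hB
  refine ⟨(eB.toMonoidHom.comp f).comp eA.symm.toMonoidHom, ?_⟩
  exact (eB.surjective.comp hf).comp eA.symm.surjective

/-- **Splitting**: `C/K ≅ M/Z`, both `K` and `Z` cyclic retracts, `|K| ∣ |Z|`. -/
theorem exists_quotient_equiv (K : Subgroup C) [K.Normal] [Finite K] (ρ : C →* K)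
    (hρ : ∀ k : K, ρ (k : C) = k) (Z : Subgroup M) [Z.Normal] [Finite Z] (σ : M →* Z)
    (hσ : ∀ z : Z, σ (z : M) = z) (hK : IsCyclic K) (hZ : IsCyclic Z)
    (hd : Nat.card K ∣ Nat.card Z) (e : C ⧸ K ≃* M ⧸ Z) :
    ∃ (Z₀ : Subgroup M) (_ : Z₀.Normal), Z₀ ≤ Z ∧ Nonempty (C ≃* M ⧸ Z₀) := by
  obtain ⟨ψ, hψ⟩ := exists_surjective hZ hK hd
  let f : M →* K × M ⧸ Z := (ψ.comp σ).prod (QuotientGroup.mk' Z)
  have hf : Function.Surjective f := by
    rintro ⟨k, x⟩
    obtain ⟨m, rfl⟩ := QuotientGroup.mk_surjective x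
    obtain ⟨z, rfl⟩ := hψ k
    refine ⟨m * ((σ m)⁻¹ : Z) * z, Prod.ext ?_ ?_⟩
    · change ψ (σ (m * (((σ m)⁻¹ : Z) : M) * (z : M))) = ψ z
      rw [map_mul σ, map_mul σ, hσ, hσ, mul_inv_cancel, one_mul]
    · change ((m * (((σ m)⁻¹ : Z) : M) * (z : M) : M) : M ⧸ Z) = (m : M ⧸ Z)
      rw [QuotientGroup.eq]
      have : (m * (((σ m)⁻¹ : Z) : M) * (z : M))⁻¹ * m =
          (z : M)⁻¹ * ((((σ m)⁻¹ : Z) : M)⁻¹) := by group
      rw [this]
      exact Z.mul_mem (Z.inv_mem z.2) (Z.inv_mem (SetLike.coe_mem _))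
  refine ⟨f.ker, inferInstance, ?_, ?_⟩
  · intro m hm
    have h2 : (m : M ⧸ Z) = 1 := congrArg Prod.snd (MonoidHom.mem_ker.1 hm)
    exact (QuotientGroup.eq_one_iff m).1 h2
  · obtain ⟨e1⟩ := nonempty_prod K ρ hρ
    exact ⟨(e1.trans (MulEquiv.prodCongr (MulEquiv.refl K) e)).trans
      (QuotientGroup.quotientKerEquivOfSurjective f hf).symm⟩

/-- The odd scalars are a direct factor. -/
theorem exists_retraction_scalar {D : Type*} [CommGroup D] [Finite D] (sc : D →* M) (δ : M →* D)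
    (hδ : ∀ c, δ (sc c) = c ^ 2) (Z : Subgroup M)
    (h1 : ∀ z ∈ Z, ∃ c : D, Odd (orderOf c) ∧ z = sc c) (h2 : ∀ c : D, Odd (orderOf c) → sc c ∈ Z) :
    ∃ σ : M →* Z, ∀ z : Z, σ (z : M) = z := by
  have hpos : 0 < Nat.card D := Nat.card_pos
  obtain ⟨a, m, hm, ham⟩ := Nat.exists_eq_two_pow_mul_odd hpos.ne'
  have hcop : Nat.Coprime (2 ^ (a + 1)) m := (Nat.Coprime.pow_left _ (Nat.coprime_two_left.2 hm))
  have htot : 0 < Nat.totient m := Nat.totient_pos.2 hm.pos
  let N : ℕ := 2 ^ a * (2 ^ (a + 1)) ^ (Nat.totient m - 1)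
  have hN2 : 2 * N = (2 ^ (a + 1)) ^ Nat.totient m := by
    obtain ⟨k, hk⟩ : ∃ k, Nat.totient m = k + 1 := ⟨Nat.totient m - 1, by omega⟩
    simp only [N]
    rw [hk, Nat.add_sub_cancel, pow_succ (2 ^ (a + 1)) k]
    ring
  have hNm : 2 * N ≡ 1 [MOD m] := by
    rw [hN2]
    exact Nat.ModEq.pow_totient hcop
  have hodd : ∀ g : M, Odd (orderOf (δ g ^ N)) := by
    intro g
    have h3 : (δ g ^ N) ^ m = 1 := by
      rw [← pow_mul]
      have h4 : Nat.card D ∣ N * m := by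
        rw [ham]
        exact ⟨(2 ^ (a + 1)) ^ (Nat.totient m - 1), by simp only [N]; ring⟩
      obtain ⟨k, hk⟩ := h4
      rw [hk, pow_mul, pow_card_eq_one', one_pow]
    exact Odd.of_dvd_nat hm (orderOf_dvd_of_pow_eq_one h3)
  refine ⟨(sc.comp ((powMonoidHom N).comp δ)).codRestrict Z fun g => h2 _ (hodd g), ?_⟩
  rintro ⟨z, hz⟩
  apply Subtype.ext
  obtain ⟨c, hc, rfl⟩ := h1 z hz
  change sc ((δ (sc c)) ^ N) = sc c
  congr 1
  rw [hδ, ← pow_mul]
  have h5 : orderOf c ∣ m := by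
    have h6 : orderOf c ∣ 2 ^ a * m := by rw [← ham]; exact orderOf_dvd_natCard c
    exact (Nat.Coprime.pow_right a (Nat.coprime_two_right.2 hc)).dvd_of_dvd_mul_left h6
  have h7 : c ^ (2 * N) = c ^ 1 := pow_eq_pow_iff_modEq.2 (hNm.of_dvd h5)
  rw [h7, pow_one]

end Abstract

section Lin

variable {F : Type*} [Field F] [Fintype F]

theorem scalar_mem_center (a : Fˣ) : dg a a ∈ Subgroup.center (GL (Fin 2) F) := by
  rw [dg_mem_center]

/-- the scalar embedding -/
noncomputable def scG (F : Type*) [Field F] : Fˣ →* GL (Fin 2) F where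
  toFun c := dg c c
  map_one' := dg_one
  map_mul' a b := (dg_mul a a b b).symm

theorem scG_injective : Function.Injective (scG F) := fun _ _ h => (dg_injective h).1

theorem exists_retraction_GL (hF : Odd (Fintype.card F)) (Z : Subgroup (GL (Fin 2) F))
    (hZc : Z ≤ Subgroup.center (GL (Fin 2) F)) (hZo : Odd (Nat.card Z))
    (hmax : ∀ z ∈ Subgroup.center (GL (Fin 2) F), Odd (orderOf z) → z ∈ Z) :
    (∃ σ : GL (Fin 2) F →* Z, ∀ z : Z, σ (z : GL (Fin 2) F) = z) ∧ IsCyclic Z := by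
  have h2 : (2 : F) ≠ 0 := by
    apply Ring.two_ne_zero
    intro h
    have := FiniteField.even_card_iff_char_two.mp h
    have h2 := Nat.odd_iff.mp hF
    omega
  have hsc : ∀ z ∈ Z, ∃ c : Fˣ, Odd (orderOf c) ∧ z = scG F c := by
    intro z hz
    obtain ⟨a, b, rfl⟩ := exists_dg h2 (center_le_Tor (hZc hz))
    have h3 := hZc hz
    rw [dg_mem_center] at h3
    subst h3
    refine ⟨a, ?_, rfl⟩
    have h4 : (dg a a : GL (Fin 2) F) ^ Nat.card Z = 1 :=
      congrArg Subtype.val (pow_card_eq_one' (x := (⟨dg a a, hz⟩ : Z)))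
    have h5 : a ^ Nat.card Z = 1 := by
      rw [dg_pow, ← dg_one] at h4
      exact (dg_injective h4).1
    exact Odd.of_dvd_nat hZo (orderOf_dvd_of_pow_eq_one h5)
  have hsc' : ∀ c : Fˣ, Odd (orderOf c) → scG F c ∈ Z := by
    intro c hc
    refine hmax _ (scalar_mem_center c) ?_
    exact (orderOf_injective _ scG_injective c).symm ▸ hc
  refine ⟨exists_retraction_scalar (scG F) GeneralLinearGroup.det (fun c => ?_) Z hsc hsc', ?_⟩
  · change GeneralLinearGroup.det (dg c c) = c ^ 2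
    rw [det_dg, sq]
  · have h3 : IsCyclic (scG F).range := isCyclic_of_surjective (scG F).rangeRestrict
      (scG F).rangeRestrict_surjective
    have h4 : Z ≤ (scG F).range := by
      intro z hz
      obtain ⟨c, -, rfl⟩ := hsc z hz
      exact ⟨c, rfl⟩
    exact isCyclic_of_injective (Subgroup.inclusion h4) (Subgroup.inclusion_injective h4)

/-- **`C ≅ GL₂(F)/Z₀`.** -/
theorem exists_equiv_GL {C : Type*} [Group C] [Finite C] (hF : Odd (Fintype.card F))
    (K : Subgroup C) [K.Normal] (ρ : C →* K) (hρ : ∀ k : K, ρ (k : C) = k) (hK : IsCyclic K)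
    (Z : Subgroup (GL (Fin 2) F)) [Z.Normal]
    (hZc : Z ≤ Subgroup.center (GL (Fin 2) F)) (hZo : Odd (Nat.card Z))
    (hmax : ∀ z ∈ Subgroup.center (GL (Fin 2) F), Odd (orderOf z) → z ∈ Z)
    (hd : Nat.card K ∣ Nat.card Z) (e : C ⧸ K ≃* GL (Fin 2) F ⧸ Z) :
    ∃ (Z₀ : Subgroup (GL (Fin 2) F)) (_ : Z₀.Normal), Z₀ ≤ Subgroup.center (GL (Fin 2) F) ∧
      Odd (Nat.card Z₀) ∧ Nonempty (C ≃* GL (Fin 2) F ⧸ Z₀) := by
  obtain ⟨⟨σ, hσ⟩, hZ⟩ := exists_retraction_GL hF Z hZc hZo hmax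
  obtain ⟨Z₀, hn, hle, he⟩ := exists_quotient_equiv K ρ hρ Z σ hσ hK hZ hd e
  exact ⟨Z₀, hn, hle.trans hZc, Odd.of_dvd_nat hZo (Subgroup.card_dvd_of_le hle), he⟩

end Lin

section Uni

variable {F : Type*} [Field F] [Fintype F] {q : ℕ} {σ : F →+* F} {κ : Fˣ}

theorem scN_apply (P : Par F q σ κ) (c : Nm F q) : scN P c = dgU P c c := rfl

theorem scN_injective (P : Par F q σ κ) : Function.Injective (scN P) :=
  fun _ _ h => (dgU_injective P h).1

theorem exists_retraction_GU (P : Par F q σ κ) (Z : Subgroup (Cfsg.GU 2 F q))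
    (hZc : Z ≤ Subgroup.center (Cfsg.GU 2 F q)) (hZo : Odd (Nat.card Z))
    (hmax : ∀ z ∈ Subgroup.center (Cfsg.GU 2 F q), Odd (orderOf z) → z ∈ Z) :
    (∃ τ : Cfsg.GU 2 F q →* Z, ∀ z : Z, τ (z : Cfsg.GU 2 F q) = z) ∧ IsCyclic Z := by
  have hsc : ∀ z ∈ Z, ∃ c : Nm F q, Odd (orderOf c) ∧ z = scN P c := by
    intro z hz
    have h3 := hZc hz
    obtain ⟨a, b, rfl⟩ := exists_dgU P (mem_TH.1 (center_le_TH P h3))
    rw [dgU_mem_center] at h3
    subst h3
    refine ⟨a, ?_, rfl⟩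
    have h4 : dgU P a a ^ Nat.card Z = 1 :=
      congrArg Subtype.val (pow_card_eq_one' (x := (⟨dgU P a a, hz⟩ : Z)))
    have h5 : a ^ Nat.card Z = 1 := by
      rw [dgU_pow, ← dgU_one P] at h4
      exact (dgU_injective P h4).1
    exact Odd.of_dvd_nat hZo (orderOf_dvd_of_pow_eq_one h5)
  have hsc' : ∀ c : Nm F q, Odd (orderOf c) → scN P c ∈ Z := by
    intro c hc
    refine hmax _ ((dgU_mem_center P).2 rfl) ?_
    exact (orderOf_injective _ (scN_injective P) c).symm ▸ hc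
  refine ⟨exists_retraction_scalar ((scN P :)) (dtN P) (fun c => ?_) Z hsc hsc', ?_⟩
  · rw [scN_apply, dtN_dgU, sq]
  · have h3 : IsCyclic (scN P).range := isCyclic_of_surjective (scN P).rangeRestrict
      (scN P).rangeRestrict_surjective
    have h4 : Z ≤ (scN P).range := by
      intro z hz
      obtain ⟨c, -, rfl⟩ := hsc z hz
      exact ⟨c, rfl⟩
    exact isCyclic_of_injective (Subgroup.inclusion h4) (Subgroup.inclusion_injective h4)

/-- **`C ≅ GU₂(q)/Z₀`.** -/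
theorem exists_equiv_GU {C : Type*} [Group C] [Finite C] (P : Par F q σ κ)
    (K : Subgroup C) [K.Normal] (ρ : C →* K) (hρ : ∀ k : K, ρ (k : C) = k) (hK : IsCyclic K)
    (Z : Subgroup (Cfsg.GU 2 F q)) [Z.Normal]
    (hZc : Z ≤ Subgroup.center (Cfsg.GU 2 F q)) (hZo : Odd (Nat.card Z))
    (hmax : ∀ z ∈ Subgroup.center (Cfsg.GU 2 F q), Odd (orderOf z) → z ∈ Z)
    (hd : Nat.card K ∣ Nat.card Z) (e : C ⧸ K ≃* Cfsg.GU 2 F q ⧸ Z) :
    ∃ (Z₀ : Subgroup (Cfsg.GU 2 F q)) (_ : Z₀.Normal), Z₀ ≤ Subgroup.center (Cfsg.GU 2 F q) ∧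
      Odd (Nat.card Z₀) ∧ Nonempty (C ≃* Cfsg.GU 2 F q ⧸ Z₀) := by
  obtain ⟨⟨τ, hτ⟩, hZ⟩ := exists_retraction_GU P Z hZc hZo hmax
  obtain ⟨Z₀, hn, hle, he⟩ := exists_quotient_equiv K ρ hρ Z τ hτ hK hZ hd e
  exact ⟨Z₀, hn, hle.trans hZc, Odd.of_dvd_nat hZo (Subgroup.card_dvd_of_le hle), he⟩

end Uni

end Cfsg.Agent.Classification.QDW.EndIso
end

-- part: Classification/QDW/EndLocal
section
/-!
# The core of `C(t)` central: `C_G(V)` is abelian and the core is a direct factor of `C(t)`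

`G` finite simple without strongly embedded subgroup, one class of involutions, `π : C(t) → Q` onto
a group of type `GL₂(q)/Z`, `GU₂(q)/Z` (`CHyp`) with `Z(Q)` a 2-group, `ker π` odd and central.

* `exists_retraction` : `C(t) →* ker π` is a retraction;
* `exists_injective` : `ker π` embeds in the torus `T` of `Q`.
-/

set_option autoImplicit false
set_option linter.unusedSectionVars false

namespace Cfsg.Agent.Classification.QDW.EndLocal

open Cfsg Cfsg.Agent.Classification.RTwo.General Cfsg.Agent.Classification.InvCent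

universe v w

variable {G : Type v} {Q : Type w} [Group G] [Group Q] {t : G} {z : Q}
  {π : (Subgroup.centralizer ({t} : Set G)) →* Q} {q : ℕ} {ε : ℤ} {Z T T' U : Subgroup Q}
  {s s' u : Q}

/-- Involutions of `C(t)` are determined by their image. -/
theorem eq_of_map_eq (h : Hyp t z π)
    (hKc : ∀ k, π k = 1 → ∀ c : Subgroup.centralizer ({t} : Set G), c * k = k * c)
    {x y : Subgroup.centralizer ({t} : Set G)} (hx : x * x = 1) (hy : y * y = 1)
    (hxy : π x = π y) : x = y := by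
  have h1 : π (x * y⁻¹) = 1 := by rw [map_mul, map_inv, hxy, mul_inv_cancel]
  have h2 := hKc _ h1 y
  have hc : Commute x y := by
    have h3 : y * (x * y⁻¹) * y = x * y⁻¹ * y * y := by rw [h2]
    have h4 : y * x = x * y := by simpa only [mul_assoc, _root_.inv_mul_cancel, _root_.mul_one] using h3
    exact h4.symm
  have h3 : x * y⁻¹ = 1 := by
    refine eq_one_of_ker h h1 (m := 1) ?_
    rw [pow_one, hc.inv_right.mul_pow, inv_pow, sq, sq, hx, hy, inv_one, one_mul]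
  exact mul_inv_eq_one.1 h3

/-- Involutions lift to involutions. -/
theorem exists_lift (h : Hyp t z π) {c : Q} (hc : c * c = 1) :
    ∃ x : Subgroup.centralizer ({t} : Set G), x * x = 1 ∧ π x = c := by
  obtain ⟨x₀, hx₀⟩ := h.surj c
  have h1 : π (x₀ * x₀) = 1 := by rw [map_mul, hx₀, hc]
  refine ⟨x₀ ^ Nat.card π.ker, ?_, ?_⟩
  · rw [← (Commute.refl x₀).mul_pow]
    exact congrArg Subtype.val (pow_card_eq_one' (x := (⟨x₀ * x₀, h1⟩ : π.ker)))
  · rw [map_pow, hx₀]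
    exact Cfsg.Agent.Classification.InvCent.InstGL.pow_odd_of_sq hc h.odd_ker

/-- The common context: `x` an involution of `C(t)` over `u`, `w` swaps `t` and `x`. -/
structure Ctx (t : G) (z : Q) (π : (Subgroup.centralizer ({t} : Set G)) →* Q) (q : ℕ) (ε : ℤ)
    (Z T T' U : Subgroup Q) (s s' u : Q) (x : Subgroup.centralizer ({t} : Set G)) (w : G) :
    Prop where
  hyp : Hyp t z π
  chyp : CHyp z q ε Z T T' U s s' u
  central : ∀ k, π k = 1 → ∀ c : Subgroup.centralizer ({t} : Set G), c * k = k * c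
  sq_x : x * x = 1
  map_x : π x = u
  conj_t : w * t * w⁻¹ = x
  conj_x : w * x * w⁻¹ = t

theorem exists_ctx [Finite G] (h : Hyp t z π) (hC : CHyp z q ε Z T T' U s s' u)
    (hKc : ∀ k, π k = 1 → ∀ c : Subgroup.centralizer ({t} : Set G), c * k = k * c) :
    ∃ (x : Subgroup.centralizer ({t} : Set G)) (w : G), Ctx t z π q ε Z T T' U s s' u x w := by
  have : Finite Q := Finite.of_surjective π h.surj
  have := Fintype.ofFinite Q
  obtain ⟨x, hx, hxu⟩ := exists_lift h hC.uu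
  have hx1 : x ≠ 1 := by
    rintro rfl
    have := hC.orderOf_u
    rw [← hxu, map_one, orderOf_one] at this
    norm_num at this
  have hxG : orderOf (x : G) = 2 := by
    rw [Subgroup.orderOf_coe]
    exact orderOf_of_mul_self hx hx1
  obtain ⟨g, hg⟩ := isConj_iff.1 (h.one_class _ hxG)
  have hxt : (x : G) * t = t * x := Subgroup.mem_centralizer_singleton_iff.1 x.2
  -- `t' = g⁻¹ t g`
  have ht' : g⁻¹ * t * g ∈ Subgroup.centralizer ({t} : Set G) := by
    rw [Subgroup.mem_centralizer_singleton_iff]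
    have h1 : t = g⁻¹ * (x : G) * g := by rw [← hg]; group
    calc g⁻¹ * t * g * t = g⁻¹ * t * g * (g⁻¹ * (x : G) * g) := by rw [← h1]
      _ = g⁻¹ * (t * x) * g := by group
      _ = g⁻¹ * (x * t) * g := by rw [hxt]
      _ = (g⁻¹ * (x : G) * g) * (g⁻¹ * t * g) := by group
      _ = t * (g⁻¹ * t * g) := by rw [← h1]
  let t' : Subgroup.centralizer ({t} : Set G) := ⟨g⁻¹ * t * g, ht'⟩
  have ht'2 : t' * t' = 1 := by
    apply Subtype.ext
    change g⁻¹ * t * g * (g⁻¹ * t * g) = 1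
    calc g⁻¹ * t * g * (g⁻¹ * t * g) = g⁻¹ * (t * t) * g := by group
      _ = 1 := by rw [t_mul_t h]; group
  have ht'1 : t' ≠ 1 := by
    intro h1
    have h2 : g⁻¹ * t * g = 1 := congrArg Subtype.val h1
    apply t_ne_one h
    have : t = g * (g⁻¹ * t * g) * g⁻¹ := by group
    rw [this, h2]; group
  have ht't : t' ≠ tt t := by
    intro h1
    have h2 : g⁻¹ * t * g = t := congrArg Subtype.val h1
    have h3 : (x : G) = t := by
      rw [← hg]
      have : g * (g⁻¹ * t * g) * g⁻¹ = g * t * g⁻¹ := by rw [h2]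
      rw [← this]; group
    have h4 : x = tt t := Subtype.ext h3
    have h5 := hC.u_notMem_Z
    rw [← hxu, h4, map_tt h] at h5
    exact h5 hC.t_mem
  have hπt' : π t' ∈ nInv z := by
    rw [mem_nInv]
    refine ⟨orderOf_of_mul_self (by rw [← map_mul, ht'2, map_one]) fun h1 => ?_, fun h1 => ?_⟩
    · exact ht'1 (eq_one_of_ker h h1 (m := 1) (by rw [pow_one, sq, ht'2]))
    · exact ht't (eq_of_map_eq h hKc ht'2 (tt_mul_tt h) (h1.trans (map_tt h).symm))
  obtain ⟨d, hd⟩ := hC.nInv_isConj hπt'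
  obtain ⟨D, hD⟩ := h.surj d
  obtain ⟨E, hEt, hE⟩ : ∃ E : Subgroup.centralizer ({t} : Set G), (E : G) * t = t * E ∧
      E * x * E⁻¹ = t' := by
    refine ⟨D⁻¹, Subgroup.mem_centralizer_singleton_iff.1 (D⁻¹).2, ?_⟩
    rw [inv_inv]
    refine eq_of_map_eq h hKc ?_ ht'2 ?_
    · calc D⁻¹ * x * D * (D⁻¹ * x * D) = D⁻¹ * (x * x) * D := by group
        _ = 1 := by rw [hx]; group
    · rw [map_mul, map_mul, map_inv, hD, hxu, ← hd]
  have hEG : (E : G) * x * (E : G)⁻¹ = g⁻¹ * t * g := congrArg Subtype.val hE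
  refine ⟨x, g * E, h, hC, hKc, hx, hxu, ?_, ?_⟩
  · calc g * E * t * (g * E)⁻¹ = g * (E * t) * (E : G)⁻¹ * g⁻¹ := by group
      _ = g * (t * E) * (E : G)⁻¹ * g⁻¹ := by rw [hEt]
      _ = g * t * g⁻¹ := by group
      _ = x := hg
  · calc g * E * x * (g * E)⁻¹ = g * ((E : G) * x * (E : G)⁻¹) * g⁻¹ := by group
      _ = g * (g⁻¹ * t * g) * g⁻¹ := by rw [hEG]
      _ = t := by group

namespace Ctx

variable {x : Subgroup.centralizer ({t} : Set G)} {w : G}

theorem x_comm (_ : Ctx t z π q ε Z T T' U s s' u x w) : (x : G) * t = t * x :=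
  Subgroup.mem_centralizer_singleton_iff.1 x.2

/-- `C_G(V)` -/
def CV (t : G) (x : Subgroup.centralizer ({t} : Set G)) : Subgroup G :=
  Subgroup.centralizer ({t} : Set G) ⊓ Subgroup.centralizer ({(x : G)} : Set G)

theorem mem_CV {g : G} : g ∈ CV t x ↔ g * t = t * g ∧ g * x = x * g := by
  rw [CV, Subgroup.mem_inf, Subgroup.mem_centralizer_singleton_iff,
    Subgroup.mem_centralizer_singleton_iff]

theorem conj_mem_CV (c : Ctx t z π q ε Z T T' U s s' u x w) {g : G} (hg : g ∈ CV t x) :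
    w * g * w⁻¹ ∈ CV t x := by
  rw [mem_CV] at hg ⊢
  constructor
  · calc w * g * w⁻¹ * t = w * g * w⁻¹ * (w * x * w⁻¹) := by rw [c.conj_x]
      _ = w * (g * x) * w⁻¹ := by group
      _ = w * (x * g) * w⁻¹ := by rw [hg.2]
      _ = (w * x * w⁻¹) * (w * g * w⁻¹) := by group
      _ = t * (w * g * w⁻¹) := by rw [c.conj_x]
  · calc w * g * w⁻¹ * x = w * g * w⁻¹ * (w * t * w⁻¹) := by rw [c.conj_t]
      _ = w * (g * t) * w⁻¹ := by group
      _ = w * (t * g) * w⁻¹ := by rw [hg.1]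
      _ = (w * t * w⁻¹) * (w * g * w⁻¹) := by group
      _ = x * (w * g * w⁻¹) := by rw [c.conj_t]

/-- the core of `C(t)` as a subgroup of `G` -/
def Kt (π : (Subgroup.centralizer ({t} : Set G)) →* Q) : Subgroup G :=
  π.ker.map (Subgroup.centralizer ({t} : Set G)).subtype

theorem mem_Kt {g : G} : g ∈ Kt π ↔ ∃ hg : g ∈ Subgroup.centralizer ({t} : Set G), π ⟨g, hg⟩ = 1 := by
  constructor
  · rintro ⟨k, hk, rfl⟩
    exact ⟨k.2, hk⟩
  · rintro ⟨hg, h1⟩
    exact ⟨⟨g, hg⟩, h1, rfl⟩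

theorem Kt_comm (c : Ctx t z π q ε Z T T' U s s' u x w) {k g : G} (hk : k ∈ Kt π)
    (hg : g * t = t * g) : g * k = k * g := by
  obtain ⟨hk1, hk2⟩ := mem_Kt.1 hk
  have := c.central _ hk2 ⟨g, Subgroup.mem_centralizer_singleton_iff.2 hg⟩
  exact congrArg Subtype.val this

theorem Kt_le_CV (c : Ctx t z π q ε Z T T' U s s' u x w) : Kt π ≤ CV t x := by
  intro k hk
  rw [mem_CV]
  obtain ⟨hk1, -⟩ := mem_Kt.1 hk
  exact ⟨Subgroup.mem_centralizer_singleton_iff.1 hk1, (c.Kt_comm hk c.x_comm).symm⟩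

/-- `K_t ⊓ K_u` -/
def DD (π : (Subgroup.centralizer ({t} : Set G)) →* Q) (w : G) : Subgroup G :=
  Kt π ⊓ (Kt π).comap (MulAut.conj w).toMonoidHom

theorem mem_DD {g : G} : g ∈ DD π w ↔ g ∈ Kt π ∧ w * g * w⁻¹ ∈ Kt π := Iff.rfl

theorem w_sq (c : Ctx t z π q ε Z T T' U s s' u x w) : w * w * t = t * (w * w) := by
  have h1 : w * t = x * w := by
    have := c.conj_t
    rw [← this]; group
  have h2 : w * x = t * w := by
    have := c.conj_x
    nth_rw 2 [← this]; group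
  calc w * w * t = w * (w * t) := by group
    _ = w * x * w := by rw [h1]; group
    _ = t * (w * w) := by rw [h2]; group

theorem conj_mem_DD (c : Ctx t z π q ε Z T T' U s s' u x w) {g : G} (hg : g ∈ DD π w) :
    w * g * w⁻¹ ∈ DD π w := by
  rw [mem_DD] at hg ⊢
  refine ⟨hg.2, ?_⟩
  have h1 := c.Kt_comm hg.1 c.w_sq
  have h2 : w * (w * g * w⁻¹) * w⁻¹ = g := by
    calc w * (w * g * w⁻¹) * w⁻¹ = (w * w * g) * (w * w)⁻¹ := by group
      _ = g * (w * w) * (w * w)⁻¹ := by rw [h1]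
      _ = g := by group
  rw [h2]
  exact hg.1

theorem le_normalizer (c : Ctx t z π q ε Z T T' U s s' u x w) {g : G} (hg : g * t = t * g) :
    g ∈ Subgroup.normalizer (DD π w : Set G) := by
  rw [Subgroup.mem_normalizer_iff]
  intro k
  have hcomm : ∀ k, k ∈ DD π w → g * k * g⁻¹ = k := by
    intro k hk
    rw [c.Kt_comm hk.1 hg]; group
  constructor
  · intro hk
    rw [hcomm k hk]
    exact hk
  · intro hk
    have h1 := c.Kt_comm hk.1 hg
    have h2 : g * k * g⁻¹ = k := by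
      have h3 : g * (g * k * g⁻¹) * g⁻¹ = g * k * g⁻¹ := by rw [h1]; group
      have h4 : g * k * g⁻¹ = g⁻¹ * (g * (g * k * g⁻¹) * g⁻¹) * g := by group
      rw [h3] at h4
      rw [h4]; group
    rwa [h2] at hk

theorem w_mem_normalizer [Finite G] (c : Ctx t z π q ε Z T T' U s s' u x w) :
    w ∈ Subgroup.normalizer (DD π w : Set G) := by
  refine Subgroup.mem_normalizer_iff.2 fun k => ⟨c.conj_mem_DD, fun hk => ?_⟩
  -- `w⁻¹` is `w⁻²` times `w`
  have h1 := c.conj_mem_DD hk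
  have h2 : w * w * k * (w * w)⁻¹ ∈ DD π w := by
    have : w * (w * k * w⁻¹) * w⁻¹ = w * w * k * (w * w)⁻¹ := by group
    rwa [this] at h1
  exact (Subgroup.mem_normalizer_iff.1 (c.le_normalizer c.w_sq) k).2 h2

/-- Every involution of a subgroup containing `C(t)` and `w` is conjugate in it to `t`. -/
theorem exists_conj_t [Finite G] (c : Ctx t z π q ε Z T T' U s s' u x w) {H : Subgroup G}
    (hC : Subgroup.centralizer ({t} : Set G) ≤ H) (hw : w ∈ H) {y : G} (hy : y ∈ H)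
    (hy2 : orderOf y = 2) : ∃ a ∈ H, a * y * a⁻¹ = t := by
  have : Finite Q := Finite.of_surjective π c.hyp.surj
  have := Fintype.ofFinite Q
  have := Fintype.ofFinite G
  have hodd : Odd (Subgroup.centralizer ({t} : Set G)).index :=
    Cfsg.Agent.Classification.RTwo.SDChar.odd_index c.hyp.orderOf_t c.hyp.one_class
  have hrel : Odd ((Subgroup.centralizer ({t} : Set G)).relIndex H) :=
    Odd.of_dvd_nat hodd (Subgroup.relIndex_dvd_index_of_le hC)
  -- a fixed coset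
  obtain ⟨b, hbH, hb⟩ : ∃ b ∈ H, b⁻¹ * y * b ∈ Subgroup.centralizer ({t} : Set G) := by
    have : Fact (Nat.Prime 2) := ⟨Nat.prime_two⟩
    let y' : H := ⟨y, hy⟩
    have hy' : orderOf y' = 2 := by rw [← Subgroup.orderOf_coe]; exact hy2
    have hP : IsPGroup 2 (Subgroup.zpowers y') :=
      IsPGroup.of_card (n := 1) (by rw [Nat.card_zpowers, hy', pow_one])
    have hnd : ¬ 2 ∣ Nat.card (H ⧸ (Subgroup.centralizer ({t} : Set G)).subgroupOf H) := by
      intro h2
      exact absurd hrel (Nat.not_odd_iff_even.2 (even_iff_two_dvd.2 h2))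
    obtain ⟨r, hr⟩ := hP.nonempty_fixed_point_of_prime_not_dvd_card
      (H ⧸ (Subgroup.centralizer ({t} : Set G)).subgroupOf H) hnd
    obtain ⟨b, rfl⟩ := QuotientGroup.mk_surjective r
    have h1 : y' • (b : H ⧸ (Subgroup.centralizer ({t} : Set G)).subgroupOf H) = b :=
      hr ⟨y', Subgroup.mem_zpowers y'⟩
    have h2 : ((y' * b : H) : H ⧸ (Subgroup.centralizer ({t} : Set G)).subgroupOf H) = b := h1
    rw [eq_comm, QuotientGroup.eq, Subgroup.mem_subgroupOf] at h2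
    refine ⟨b, b.2, ?_⟩
    have h3 : ((b⁻¹ * (y' * b) : H) : G) = (b : G)⁻¹ * y * b := by
      simp only [y', mul_assoc, _root_.Subgroup.coe_mul, _root_.InvMemClass.coe_inv]
    rwa [h3] at h2
  -- in `C(t)`
  let y₁ : Subgroup.centralizer ({t} : Set G) := ⟨b⁻¹ * y * b, hb⟩
  have hyy : y * y = 1 := mul_self_of_orderOf hy2
  have hy1 : y₁ * y₁ = 1 := by
    apply Subtype.ext
    change b⁻¹ * y * b * (b⁻¹ * y * b) = 1
    calc b⁻¹ * y * b * (b⁻¹ * y * b) = b⁻¹ * (y * y) * b := by group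
      _ = 1 := by rw [hyy]; group
  by_cases h1 : y₁ = tt t
  · refine ⟨b⁻¹, H.inv_mem hbH, ?_⟩
    rw [inv_inv]
    exact congrArg Subtype.val h1
  · have hπ : π y₁ ∈ nInv z := by
      rw [mem_nInv]
      refine ⟨orderOf_of_mul_self (by rw [← map_mul, hy1, map_one]) fun h2 => ?_, fun h2 => ?_⟩
      · have h3 := eq_one_of_ker c.hyp h2 (m := 1) (by rw [pow_one, sq, hy1])
        have h4 : b⁻¹ * y * b = 1 := congrArg Subtype.val h3
        have h5 : y = 1 := by
          have : y = b * (b⁻¹ * y * b) * b⁻¹ := by group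
          rw [this, h4]; group
        rw [h5, orderOf_one] at hy2
        norm_num at hy2
      · exact h1 (eq_of_map_eq c.hyp c.central hy1 (tt_mul_tt c.hyp)
          (h2.trans (map_tt c.hyp).symm))
    obtain ⟨d, hd⟩ := c.chyp.nInv_isConj hπ
    obtain ⟨D, hD⟩ := c.hyp.surj d
    have h2 : D⁻¹ * x * D = y₁ := by
      refine eq_of_map_eq c.hyp c.central ?_ hy1 ?_
      · calc D⁻¹ * x * D * (D⁻¹ * x * D) = D⁻¹ * (x * x) * D := by group
          _ = 1 := by rw [c.sq_x]; group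
      · rw [map_mul, map_mul, map_inv, hD, c.map_x, ← hd]
    have h3 : (D : G)⁻¹ * x * D = b⁻¹ * y * b := congrArg Subtype.val h2
    refine ⟨w * D * b⁻¹, H.mul_mem (H.mul_mem hw (hC D.2)) (H.inv_mem hbH), ?_⟩
    calc w * D * b⁻¹ * y * (w * D * b⁻¹)⁻¹ = w * D * (b⁻¹ * y * b) * (D : G)⁻¹ * w⁻¹ := by group
      _ = w * D * ((D : G)⁻¹ * x * D) * (D : G)⁻¹ * w⁻¹ := by rw [h3]
      _ = w * x * w⁻¹ := by group
      _ = t := c.conj_x

/-- Without strongly embedded subgroup `K_t ⊓ K_u = 1`. -/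
theorem DD_eq_bot [Finite G] [IsSimpleGroup G] (c : Ctx t z π q ε Z T T' U s s' u x w)
    (hse : ∀ M : Subgroup G, ¬ IsStronglyEmbedded M) : DD π w = ⊥ := by
  by_contra hne
  have hC : Subgroup.centralizer ({t} : Set G) ≤ Subgroup.normalizer (DD π w : Set G) :=
    fun g hg => c.le_normalizer (Subgroup.mem_centralizer_singleton_iff.1 hg)
  refine hse (Subgroup.normalizer (DD π w : Set G)) ⟨fun htop => ?_, ?_, fun g hg => ?_⟩
  · have hn : (DD π w).Normal := Subgroup.normalizer_eq_top_iff.1 htop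
    rcases hn.eq_bot_or_eq_top with h1 | h1
    · exact hne h1
    · have h2 : t ∈ Kt π := by
        have : t ∈ DD π w := by rw [h1]; exact Subgroup.mem_top t
        exact this.1
      obtain ⟨h3, h4⟩ := mem_Kt.1 h2
      have h5 := map_tt c.hyp
      have h6 : π (tt t) = 1 := h4
      exact z_ne_one c.hyp (h5.symm.trans h6)
  · have h1 : t ∈ Subgroup.normalizer (DD π w : Set G) := c.le_normalizer rfl
    have h2 : orderOf (⟨t, h1⟩ : Subgroup.normalizer (DD π w : Set G)) = 2 := by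
      rw [← Subgroup.orderOf_coe]; exact c.hyp.orderOf_t
    exact even_iff_two_dvd.2 (h2 ▸ orderOf_dvd_natCard _)
  · by_contra hodd
    rw [Nat.not_odd_iff_even, even_iff_two_dvd] at hodd
    have : Fact (Nat.Prime 2) := ⟨Nat.prime_two⟩
    obtain ⟨⟨y, hy1, hy2⟩, hy⟩ := exists_prime_orderOf_dvd_card' 2 hodd
    rw [← Subgroup.orderOf_coe] at hy
    obtain ⟨y₀, hy₀, rfl⟩ := hy2
    have hy0 : orderOf y₀ = 2 := by
      rw [← hy]
      exact ((MulAut.conj g).orderOf_eq y₀).symm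
    obtain ⟨a, ha, hat⟩ := c.exists_conj_t hC c.w_mem_normalizer hy1 hy
    obtain ⟨b, hb, hbt⟩ := c.exists_conj_t hC c.w_mem_normalizer hy₀ hy0
    have h1 : a * g * b⁻¹ ∈ Subgroup.centralizer ({t} : Set G) := by
      rw [Subgroup.mem_centralizer_singleton_iff]
      have hat' : a * (g * y₀ * g⁻¹) * a⁻¹ = t := hat
      calc a * g * b⁻¹ * t = a * g * b⁻¹ * (b * y₀ * b⁻¹) := by rw [hbt]
        _ = (a * (g * y₀ * g⁻¹) * a⁻¹) * (a * g * b⁻¹) := by group
        _ = t * (a * g * b⁻¹) := by rw [hat']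
    have h2 : g = a⁻¹ * (a * g * b⁻¹) * b := by group
    apply hg
    rw [h2]
    exact Subgroup.mul_mem _ (Subgroup.mul_mem _ (Subgroup.inv_mem _ ha) (hC h1)) hb

theorem map_mem_T (c : Ctx t z π q ε Z T T' U s s' u x w)
    {g : Subgroup.centralizer ({t} : Set G)} (hg : g * x = x * g) : π g ∈ T := by
  refine c.chyp.cent_T u c.chyp.u_mem c.chyp.u_notMem_Z (π g) ?_
  rw [← c.map_x, ← map_mul, hg, map_mul]

/-- `C_G(V)` is commutative. -/
theorem CV_comm [Finite G] [IsSimpleGroup G] (c : Ctx t z π q ε Z T T' U s s' u x w)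
    (hse : ∀ M : Subgroup G, ¬ IsStronglyEmbedded M) {a b : G} (ha : a ∈ CV t x)
    (hb : b ∈ CV t x) : a * b = b * a := by
  have key : ∀ a ∈ CV t x, ∀ b ∈ CV t x, a * b * a⁻¹ * b⁻¹ ∈ Kt π := by
    intro a ha b hb
    let a' : Subgroup.centralizer ({t} : Set G) := ⟨a, ha.1⟩
    let b' : Subgroup.centralizer ({t} : Set G) := ⟨b, hb.1⟩
    have h1 : π a' ∈ T := c.map_mem_T (Subtype.ext (mem_CV.1 ha).2)
    have h2 : π b' ∈ T := c.map_mem_T (Subtype.ext (mem_CV.1 hb).2)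
    refine mem_Kt.2 ⟨(a' * b' * a'⁻¹ * b'⁻¹).2, ?_⟩
    change π (a' * b' * a'⁻¹ * b'⁻¹) = 1
    rw [map_mul, map_mul, map_mul, map_inv, map_inv, c.chyp.T_comm _ h1 _ h2]
    group
  have h1 : a * b * a⁻¹ * b⁻¹ ∈ DD π w := by
    refine ⟨key a ha b hb, ?_⟩
    have h2 := key _ (c.conj_mem_CV ha) _ (c.conj_mem_CV hb)
    have h3 : w * a * w⁻¹ * (w * b * w⁻¹) * (w * a * w⁻¹)⁻¹ * (w * b * w⁻¹)⁻¹ =
        (MulAut.conj w).toMonoidHom (a * b * a⁻¹ * b⁻¹) := by
      change _ = w * (a * b * a⁻¹ * b⁻¹) * w⁻¹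
      group
    rw [h3] at h2
    exact h2
  rw [c.DD_eq_bot hse, Subgroup.mem_bot] at h1
  calc a * b = (a * b * a⁻¹ * b⁻¹) * (b * a) := by group
    _ = b * a := by rw [h1, one_mul]

/-- The core embeds in the torus `T`. -/
theorem exists_injective [Finite G] [IsSimpleGroup G] (c : Ctx t z π q ε Z T T' U s s' u x w)
    (hse : ∀ M : Subgroup G, ¬ IsStronglyEmbedded M) :
    ∃ f : π.ker →* T, Function.Injective f := by
  have hmem : ∀ k : π.ker, w * ((k : Subgroup.centralizer ({t} : Set G)) : G) * w⁻¹ ∈ CV t x :=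
    fun k => c.conj_mem_CV (c.Kt_le_CV ⟨k, k.2, rfl⟩)
  refine ⟨{ toFun := fun k => ⟨π ⟨_, (hmem k).1⟩,
              c.map_mem_T (Subtype.ext (mem_CV.1 (hmem k)).2)⟩
            map_one' := ?_
            map_mul' := ?_ }, ?_⟩
  · apply Subtype.ext
    change π _ = 1
    rw [← map_one π]
    congr 1
    apply Subtype.ext
    change w * 1 * w⁻¹ = 1
    group
  · intro k l
    apply Subtype.ext
    change π _ = π _ * π _
    rw [← map_mul π]
    congr 1
    apply Subtype.ext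
    change w * ((((k * l : π.ker) : Subgroup.centralizer ({t} : Set G))) : G) * w⁻¹ =
      w * ((k : Subgroup.centralizer ({t} : Set G)) : G) * w⁻¹ *
        (w * ((l : Subgroup.centralizer ({t} : Set G)) : G) * w⁻¹)
    have : (((k * l : π.ker) : Subgroup.centralizer ({t} : Set G)) : G) =
      ((k : Subgroup.centralizer ({t} : Set G)) : G) *
        ((l : Subgroup.centralizer ({t} : Set G)) : G) := rfl
    rw [this]
    group
  · rw [injective_iff_map_eq_one]
    intro k hk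
    have h1 : π ⟨_, (hmem k).1⟩ = 1 := congrArg Subtype.val hk
    have h2 : ((k : Subgroup.centralizer ({t} : Set G)) : G) ∈ DD π w :=
      ⟨⟨k, k.2, rfl⟩, mem_Kt.2 ⟨(hmem k).1, h1⟩⟩
    rw [c.DD_eq_bot hse, Subgroup.mem_bot] at h2
    exact Subtype.ext (Subtype.ext h2)

theorem index_T [Finite G] (c : Ctx t z π q ε Z T T' U s s' u x w) :
    (T.index : ℤ) = q * (q + ε) := by
  have : Finite Q := Finite.of_surjective π c.hyp.surj
  have h1 : (T.index : ℤ) * Nat.card T = Nat.card Q := by exact_mod_cast T.index_mul_card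
  have h2 := c.chyp.card_T
  have h3 : (Nat.card Q : ℤ) = Nat.card Z * (q * (q ^ 2 - 1)) := by
    rw [c.chyp.card_C]
    have h4 : 1 ≤ q ^ 2 := Nat.one_le_pow _ _ (by have := c.chyp.one_lt_q; omega)
    push_cast [Nat.cast_sub h4]
    ring
  have hZ : (0 : ℤ) < Nat.card Z := by exact_mod_cast Nat.card_pos
  have hq : (1 : ℤ) < q := by exact_mod_cast c.chyp.one_lt_q
  have hε : ε * ε = 1 := by rcases c.chyp.eps with h | h <;> rw [h] <;> norm_num
  have hqe : (q : ℤ) - ε ≠ 0 := by rcases c.chyp.eps with h | h <;> rw [h] <;> omega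
  have h4 : ((Nat.card Z : ℤ) * (q - ε)) * T.index = ((Nat.card Z : ℤ) * (q - ε)) * (q * (q + ε)) := by
    rw [← h2, mul_comm, h1, h3, h2]
    linear_combination ((Nat.card Z : ℤ) * q) * hε
  exact mul_left_cancel₀ (mul_ne_zero hZ.ne' hqe) h4

theorem card_ker_dvd [Finite G] [IsSimpleGroup G] (c : Ctx t z π q ε Z T T' U s s' u x w)
    (hse : ∀ M : Subgroup G, ¬ IsStronglyEmbedded M) {m : ℕ} (hZ : Nat.card Z = 2 ^ m) :
    (Nat.card π.ker : ℤ) ∣ q - ε := by
  obtain ⟨f, hf⟩ := c.exists_injective hse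
  have : Finite Q := Finite.of_surjective π c.hyp.surj
  have h1 : Nat.card π.ker ∣ Nat.card T := Subgroup.card_dvd_of_injective f hf
  have h2 : (Nat.card π.ker : ℤ) ∣ (2 : ℤ) ^ m * (q - ε) := by
    have h3 := c.chyp.card_T
    rw [hZ] at h3
    have h4 : (Nat.card π.ker : ℤ) ∣ Nat.card T := by exact_mod_cast h1
    rw [h3] at h4
    exact_mod_cast h4
  have h3 : IsCoprime (Nat.card π.ker : ℤ) (2 ^ m) := by
    have h4 : Nat.Coprime (Nat.card π.ker) (2 ^ m) :=
      Nat.Coprime.pow_right _ (Nat.coprime_two_right.2 c.hyp.odd_ker)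
    exact_mod_cast Nat.isCoprime_iff_coprime.2 h4
  exact h3.dvd_of_dvd_mul_left h2

theorem coprime_index [Finite G] [IsSimpleGroup G] (c : Ctx t z π q ε Z T T' U s s' u x w)
    (hse : ∀ M : Subgroup G, ¬ IsStronglyEmbedded M) {m : ℕ} (hZ : Nat.card Z = 2 ^ m) :
    Nat.Coprime (2 ^ (m + 1) * T.index) (Nat.card π.ker) := by
  rw [Nat.coprime_mul_iff_left]
  refine ⟨Nat.Coprime.pow_left _ (Nat.coprime_two_left.2 c.hyp.odd_ker), ?_⟩
  rw [← Nat.isCoprime_iff_coprime, c.index_T]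
  have h1 := c.card_ker_dvd hse hZ
  have h2 : IsCoprime ((q : ℤ) * (q + ε)) (Nat.card π.ker : ℤ) := by
    refine IsCoprime.mul_left ?_ ?_
    · -- `q`
      obtain ⟨k, hk⟩ := h1
      rcases c.chyp.eps with h | h
      · exact ⟨1, -k, by rw [h] at hk; linear_combination hk⟩
      · exact ⟨-1, k, by rw [h] at hk; linear_combination -hk⟩
    · obtain ⟨k, hk⟩ := h1
      have h3 : IsCoprime (2 : ℤ) (Nat.card π.ker : ℤ) := by
        exact_mod_cast Nat.isCoprime_iff_coprime.2 (Nat.coprime_two_left.2 c.hyp.odd_ker)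
      have h4 : IsCoprime (2 * ε : ℤ) (Nat.card π.ker : ℤ) := by
        rcases c.chyp.eps with h | h
        · rw [h, mul_one]; exact h3
        · rw [h, mul_neg_one]; exact h3.neg_left
      have h5 : (q : ℤ) + ε = 2 * ε + (Nat.card π.ker : ℤ) * k := by linear_combination hk
      rw [h5]
      exact IsCoprime.add_mul_left_left h4 k
  exact_mod_cast h2

/-- **The core is a direct factor of `C(t)`.** -/
theorem exists_retraction [Finite G] [IsSimpleGroup G] (c : Ctx t z π q ε Z T T' U s s' u x w)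
    (hse : ∀ M : Subgroup G, ¬ IsStronglyEmbedded M) {m : ℕ} (hZ : Nat.card Z = 2 ^ m) :
    ∃ ρ : Subgroup.centralizer ({t} : Set G) →* π.ker,
      ∀ k : π.ker, ρ (k : Subgroup.centralizer ({t} : Set G)) = k := by
  have : Finite Q := Finite.of_surjective π c.hyp.surj
  let A : Subgroup (Subgroup.centralizer ({t} : Set G)) := T.comap π
  have hAx : ∀ a ∈ A, a * x = x * a := by
    intro a ha
    have h1 : a * x * a⁻¹ = x := by
      refine eq_of_map_eq c.hyp c.central ?_ c.sq_x ?_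
      · calc a * x * a⁻¹ * (a * x * a⁻¹) = a * (x * x) * a⁻¹ := by group
          _ = 1 := by rw [c.sq_x]; group
      · rw [map_mul, map_mul, map_inv, c.map_x, c.chyp.T_comm _ ha _ c.chyp.u_mem]
        group
    calc a * x = (a * x * a⁻¹) * a := by group
      _ = x * a := by rw [h1]
  have hAC : ∀ a ∈ A, (a : G) ∈ CV t x := fun a ha =>
    ⟨a.2, Subgroup.mem_centralizer_singleton_iff.2 (congrArg Subtype.val (hAx a ha))⟩
  have hA : ∀ a ∈ A, ∀ b ∈ A, a * b = b * a := fun a ha b hb =>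
    Subtype.ext (c.CV_comm hse (hAC a ha) (hAC b hb))
  have hidx : A.index = T.index := Subgroup.index_comap_of_surjective T c.hyp.surj
  obtain ⟨S₀, hS₀⟩ := c.hyp.surj s
  have hσ : ∀ a ∈ A, S₀ * a * S₀⁻¹ ∈ A := by
    intro a ha
    rw [Subgroup.mem_comap, map_mul, map_mul, map_inv, hS₀]
    exact c.chyp.s_conj _ ha
  have hN : ∀ a ∈ A, π ((a * (S₀ * a * S₀⁻¹)) ^ 2 ^ m) = 1 := by
    intro a ha
    rw [map_pow, map_mul, map_mul, map_mul, map_inv, hS₀, ← hZ]
    exact congrArg Subtype.val (pow_card_eq_one' (x := (⟨_, c.chyp.s_norm _ ha⟩ : Z)))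
  -- the exponent
  obtain ⟨e, he⟩ : ∃ e : ℕ, 2 ^ (m + 1) * T.index * e ≡ 1 [MOD Nat.card π.ker] := by
    have hpos : 0 < Nat.card π.ker := Nat.card_pos
    have htot : 0 < Nat.totient (Nat.card π.ker) := Nat.totient_pos.2 hpos
    refine ⟨(2 ^ (m + 1) * T.index) ^ (Nat.totient (Nat.card π.ker) - 1), ?_⟩
    rw [← pow_succ', Nat.sub_add_cancel htot]
    exact Nat.ModEq.pow_totient (c.coprime_index hse hZ)
  let p : A →* π.ker :=
    { toFun := fun a => ⟨((a : Subgroup.centralizer ({t} : Set G)) * (S₀ * a * S₀⁻¹)) ^ (2 ^ m * e),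
        by rw [MonoidHom.mem_ker, pow_mul, map_pow, hN a a.2, one_pow]⟩
      map_one' := by
        apply Subtype.ext
        change (1 * (S₀ * 1 * S₀⁻¹)) ^ (2 ^ m * e) = 1
        rw [mul_one, mul_inv_cancel, mul_one, one_pow]
      map_mul' := by
        intro a b
        apply Subtype.ext
        change ((a : Subgroup.centralizer ({t} : Set G)) * b *
          (S₀ * (a * b) * S₀⁻¹)) ^ (2 ^ m * e) = (a * (S₀ * a * S₀⁻¹)) ^ (2 ^ m * e) *
            (b * (S₀ * b * S₀⁻¹)) ^ (2 ^ m * e)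
        have h1 : Commute ((a : Subgroup.centralizer ({t} : Set G)) * (S₀ * a * S₀⁻¹))
            (b * (S₀ * b * S₀⁻¹)) :=
          hA _ (A.mul_mem a.2 (hσ _ a.2)) _ (A.mul_mem b.2 (hσ _ b.2))
        rw [← h1.mul_pow]
        congr 1
        have h2 := hA _ (hσ _ a.2) _ b.2
        calc (a : Subgroup.centralizer ({t} : Set G)) * b * (S₀ * (a * b) * S₀⁻¹)
            = a * (b * (S₀ * a * S₀⁻¹)) * (S₀ * b * S₀⁻¹) := by group
          _ = a * ((S₀ * a * S₀⁻¹) * b) * (S₀ * b * S₀⁻¹) := by rw [h2]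
          _ = a * (S₀ * a * S₀⁻¹) * (b * (S₀ * b * S₀⁻¹)) := by group }
  letI : CommGroup A :=
    { (inferInstance : Group A) with mul_comm := fun a b => Subtype.ext (hA _ a.2 _ b.2) }
  have : A.FiniteIndex := ⟨by rw [hidx]; exact Subgroup.index_ne_zero_of_finite⟩
  refine ⟨p.comp (MonoidHom.transfer (MonoidHom.id A)), ?_⟩
  rintro ⟨k, hk⟩
  have hkey : ∀ (n : ℕ) (g₀ : Subgroup.centralizer ({t} : Set G)), g₀⁻¹ * k ^ n * g₀ ∈ A →
      g₀⁻¹ * k ^ n * g₀ = k ^ n := by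
    intro n g₀ _
    have h1 := c.central (k ^ n) (by rw [map_pow, MonoidHom.mem_ker.1 hk, one_pow]) g₀
    rw [mul_assoc, ← h1, inv_mul_cancel_left]
  have h1 := MonoidHom.transfer_eq_pow (MonoidHom.id A) k hkey
  have h2 : (MonoidHom.transfer (MonoidHom.id A) k : A).1 = k ^ A.index := by rw [h1]; rfl
  apply Subtype.ext
  change ((MonoidHom.transfer (MonoidHom.id A) k : A).1 *
    (S₀ * (MonoidHom.transfer (MonoidHom.id A) k : A).1 * S₀⁻¹)) ^ (2 ^ m * e) = k
  rw [h2]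
  have h3 : S₀ * k ^ A.index * S₀⁻¹ = k ^ A.index := by
    rw [c.central (k ^ A.index) (by rw [map_pow, MonoidHom.mem_ker.1 hk, one_pow]) S₀,
      mul_inv_cancel_right]
  rw [h3, ← pow_add, ← pow_mul, hidx]
  have h4 : orderOf k ∣ Nat.card π.ker := by
    have := orderOf_dvd_natCard (⟨k, hk⟩ : π.ker)
    rwa [← Subgroup.orderOf_coe] at this
  have h5 : (T.index + T.index) * (2 ^ m * e) = 2 ^ (m + 1) * T.index * e := by ring
  rw [h5]
  have h6 : k ^ (2 ^ (m + 1) * T.index * e) = k ^ 1 := pow_eq_pow_iff_modEq.2 (he.of_dvd h4)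
  rw [h6, pow_one]

end Ctx

end Cfsg.Agent.Classification.QDW.EndLocal
end

-- part: Classification/QDW/EndMain
section
/-!
# `O(C(t)) ≤ Z(C(t))` and `C(t)/O(C(t))` of type `GL₂(q)/O(Z)`, `GU₂(q)/O(Z)` give
# `C(t) ≅ GL₂(q)/Z₀`, `GU₂(q)/Z₀`
-/

set_option autoImplicit false
set_option linter.unusedSectionVars false

open Matrix

namespace Cfsg.Agent.Classification.QDW.EndMain

open Cfsg Cfsg.Agent.Classification.RTwo.General Cfsg.Agent.Classification.InvCent
  Cfsg.Agent.Classification.QDW.EndIso Cfsg.Agent.Classification.QDW.EndLocal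

universe v w

section Cyc

variable {G : Type v} {Q : Type w} [Group G] [Group Q] {t : G} {z : Q}
  {π : (Subgroup.centralizer ({t} : Set G)) →* Q} {q : ℕ} {ε : ℤ} {Z T T' U : Subgroup Q}
  {s s' u : Q}

/-- The core is cyclic. -/
theorem isCyclic_ker [Finite G] [IsSimpleGroup G] {x : Subgroup.centralizer ({t} : Set G)} {w : G}
    (c : Ctx t z π q ε Z T T' U s s' u x w)
    (hse : ∀ M : Subgroup G, ¬ IsStronglyEmbedded M) {m : ℕ} (hZ : Nat.card Z = 2 ^ m)
    {D : Subgroup Q} (hD : IsCyclic D) (hT₀ : ∀ y ∈ T, y * (s * y * s⁻¹) = 1 → y ∈ D) :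
    IsCyclic π.ker := by
  obtain ⟨f, hf⟩ := c.exists_injective hse
  have hfD : ∀ k, (f k : Q) ∈ D := by
    intro k
    refine hT₀ _ (f k).2 ?_
    have hn := c.chyp.s_norm _ (f k).2
    -- odd order and 2-power order
    have h1 : ((f k : Q) * (s * (f k : Q) * s⁻¹)) ^ 2 ^ m = 1 := by
      rw [← hZ]
      exact congrArg Subtype.val (pow_card_eq_one' (x := (⟨_, hn⟩ : Z)))
    have h2 : (f k : Q) ^ Nat.card π.ker = 1 := by
      have h3 : f k ^ Nat.card π.ker = 1 := by rw [← map_pow, pow_card_eq_one', map_one]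
      exact congrArg Subtype.val h3
    have hc : Commute (f k : Q) (s * (f k : Q) * s⁻¹) :=
      c.chyp.T_comm _ (f k).2 _ (c.chyp.s_conj _ (f k).2)
    have h3 : ((f k : Q) * (s * (f k : Q) * s⁻¹)) ^ Nat.card π.ker = 1 := by
      rw [hc.mul_pow, h2, conj_pow, h2]; group
    have h4 := orderOf_dvd_of_pow_eq_one h1
    have h5 := orderOf_dvd_of_pow_eq_one h3
    have h6 : Nat.Coprime (2 ^ m) (Nat.card π.ker) :=
      Nat.Coprime.pow_left _ (Nat.coprime_two_left.2 c.hyp.odd_ker)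
    exact orderOf_eq_one_iff.1 (Nat.eq_one_of_dvd_coprimes h6 h4 h5)
  let g : π.ker →* D := ((Subgroup.subtype T).comp f).codRestrict D hfD
  refine isCyclic_of_injective g ?_
  intro a b hab
  have h1 : (f a : Q) = f b := congrArg (fun y : D => (y : Q)) hab
  exact hf (Subtype.ext h1)

end Cyc

/-- A quotient of order a power of two. -/
theorem card_two_pow {A : Type*} [Group A] [Finite A] {n : ℕ} (h : ∀ a : A, a ^ 2 ^ n = 1) :
    ∃ m : ℕ, Nat.card A = 2 ^ m := by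
  have : Fact (Nat.Prime 2) := ⟨Nat.prime_two⟩
  exact IsPGroup.iff_card.1 (fun a => ⟨n, h a⟩)

section Lin

variable {F : Type*} [Field F] [Fintype F] {G : Type v} {Q : Type w} [Group G] [Group Q]
  {ψ : GL (Fin 2) F →* Q}

open Cfsg.Agent.Classification.InvCent.InstGL Cfsg.Agent.Classification.InvCent.GLTwo

theorem two_pow_gZ (S : InstGL.Setup ψ)
    (hmax : ∀ z ∈ Subgroup.center (GL (Fin 2) F), Odd (orderOf z) → ψ z = 1) :
    ∃ m : ℕ, Nat.card (InstGL.gZ ψ) = 2 ^ m := by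
  have : Finite Q := Finite.of_surjective ψ S.surj
  obtain ⟨n, k, hk, hnk⟩ := Nat.exists_eq_two_pow_mul_odd (n := Nat.card Fˣ) Nat.card_pos.ne'
  refine card_two_pow (n := n) ?_
  rintro ⟨_, g, hg, rfl⟩
  apply Subtype.ext
  change ψ g ^ 2 ^ n = 1
  rw [← map_pow]
  refine hmax _ (Subgroup.pow_mem _ hg _) ?_
  obtain ⟨a, b, rfl⟩ := exists_dg S.two_ne_zero (center_le_Tor hg)
  refine Odd.of_dvd_nat hk (orderOf_dvd_of_pow_eq_one ?_)
  rw [← pow_mul, ← hnk, dg_pow, pow_card_eq_one', pow_card_eq_one', dg_one]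

/-- The images of `diag(a, a⁻¹)`. -/
noncomputable def dd (ψ : GL (Fin 2) F →* Q) : Fˣ →* Q where
  toFun a := ψ (dg a a⁻¹)
  map_one' := by rw [inv_one, dg_one, map_one]
  map_mul' a b := by rw [← map_mul, dg_mul, mul_inv]

theorem mem_dd (S : InstGL.Setup ψ) {y : Q} (hy : y ∈ InstGL.gT ψ)
    (h1 : y * (ψ wt * y * (ψ wt)⁻¹) = 1) : y ∈ (dd ψ).range := by
  obtain ⟨g, hg, rfl⟩ := hy
  have h2 := S.wt_conj_eq hg
  rw [h1] at h2
  obtain ⟨a, b, rfl⟩ := exists_dg S.two_ne_zero hg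
  rw [det_dg] at h2
  have h3 := S.pow_card h2.symm
  rw [dg_pow, ← dg_one] at h3
  have h4 := (dg_injective h3).1
  obtain ⟨k, hk⟩ := S.odd_ker
  -- `c² = ab`, `dg c c ∈ ker`
  have h5 : (a * b) ^ (k + 1) * (a * b) ^ (k + 1) = a * b := by
    rw [← pow_add, show k + 1 + (k + 1) = 2 * k + 1 + 1 by ring, pow_succ, ← hk, h4, one_mul]
  have h6 : ψ (dg ((a * b) ^ (k + 1)) ((a * b) ^ (k + 1))) = 1 := by
    rw [← dg_pow, map_pow, ← h2, one_pow]
  refine ⟨a * ((a * b) ^ (k + 1))⁻¹, ?_⟩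
  have h7 : dg a b = dg (a * ((a * b) ^ (k + 1))⁻¹) (a * ((a * b) ^ (k + 1))⁻¹)⁻¹ *
      dg ((a * b) ^ (k + 1)) ((a * b) ^ (k + 1)) := by
    rw [dg_mul, inv_mul_cancel_right, mul_inv, inv_inv]
    congr 1
    calc b = a⁻¹ * (a * b) := by group
      _ = a⁻¹ * ((a * b) ^ (k + 1) * (a * b) ^ (k + 1)) := by rw [h5]
      _ = a⁻¹ * (a * b) ^ (k + 1) * (a * b) ^ (k + 1) := by group
  rw [h7, map_mul ψ, h6, mul_one]
  rfl

/-- **`C(t) ≅ GL₂(F)/Z₀`.** -/
theorem exists_GL [Finite G] [IsSimpleGroup G] {t : G} (ht : orderOf t = 2)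
    (hone : ∀ x : G, orderOf x = 2 → IsConj t x)
    (hse : ∀ M : Subgroup G, ¬ IsStronglyEmbedded M)
    (π : (Subgroup.centralizer ({t} : Set G)) →* Q) (hπ : Function.Surjective π)
    (hodd : Odd (Nat.card π.ker))
    (hKc : ∀ k, π k = 1 → ∀ c : Subgroup.centralizer ({t} : Set G), c * k = k * c)
    (S : InstGL.Setup ψ)
    (hmax : ∀ z ∈ Subgroup.center (GL (Fin 2) F), Odd (orderOf z) → ψ z = 1) :
    ∃ (Z₀ : Subgroup (GL (Fin 2) F)) (_ : Z₀.Normal), Z₀ ≤ Subgroup.center (GL (Fin 2) F) ∧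
      Odd (Nat.card Z₀) ∧
      Nonempty (Subgroup.centralizer ({t} : Set G) ≃* GL (Fin 2) F ⧸ Z₀) := by
  have : Finite Q := Finite.of_surjective π hπ
  have hH₀ : Hyp t (π (tt t)) π := ⟨ht, hone, hπ, hodd, fun _ => rfl⟩
  have hz : orderOf (π (tt t)) = 2 := orderOf_of_mul_self (z_mul_z hH₀) (z_ne_one hH₀)
  have hzt : π (tt t) = InstGL.gt ψ := S.eq_neg_one hz (fun c => ((z_comm hH₀ c).eq).symm)
  have hH : Hyp t (InstGL.gt ψ) π := hzt ▸ hH₀
  obtain ⟨d, hd⟩ := S.exists_nonsquare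
  obtain ⟨x, w, c⟩ := exists_ctx hH (S.cHyp hd) hKc
  obtain ⟨m, hm⟩ := two_pow_gZ S hmax
  obtain ⟨ρ, hρ⟩ := c.exists_retraction hse hm
  have hcyc : IsCyclic π.ker := isCyclic_ker c hse hm (D := (dd ψ).range)
    (isCyclic_of_surjective _ (dd ψ).rangeRestrict_surjective) (fun y hy h1 => mem_dd S hy h1)
  have hdvd : Nat.card π.ker ∣ Nat.card ψ.ker := by
    have h1 := c.card_ker_dvd hse hm
    have h2 := S.card_gZ
    have h3 : ((Fintype.card F : ℕ) : ℤ) - 1 = Nat.card Fˣ := by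
      rw [← Nat.card_eq_fintype_card, card_F_eq]; push_cast; ring
    rw [h3, ← h2, hm] at h1
    have h4 : Nat.card π.ker ∣ Nat.card ψ.ker * 2 ^ m := by exact_mod_cast h1
    exact (Nat.Coprime.pow_right _ (Nat.coprime_two_right.2 hodd)).dvd_of_dvd_mul_right h4
  have e : (Subgroup.centralizer ({t} : Set G)) ⧸ π.ker ≃* GL (Fin 2) F ⧸ ψ.ker :=
    (QuotientGroup.quotientKerEquivOfSurjective π hπ).trans
      (QuotientGroup.quotientKerEquivOfSurjective ψ S.surj).symm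
  exact exists_equiv_GL S.odd π.ker ρ hρ hcyc ψ.ker S.ker_le S.odd_ker
    (fun z hz hzo => MonoidHom.mem_ker.2 (hmax z hz hzo)) hdvd e

end Lin

section Uni

variable {F : Type*} [Field F] [Fintype F] {q : ℕ} {σ : F →+* F} {κ : Fˣ} {G : Type v}
  {Q : Type w} [Group G] [Group Q] {ψ : Cfsg.GU 2 F q →* Q}

open Cfsg.Agent.Classification.InvCent.InstGU Cfsg.Agent.Classification.InvCent.GLTwo
  Cfsg.Agent.Classification.InvCent.GUTwo

theorem two_pow_gZ' (S : InstGU.Setup q σ κ ψ)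
    (hmax : ∀ z ∈ Subgroup.center (Cfsg.GU 2 F q), Odd (orderOf z) → ψ z = 1) :
    ∃ m : ℕ, Nat.card (InstGU.gZ ψ) = 2 ^ m := by
  have : Finite Q := Finite.of_surjective ψ S.surj
  obtain ⟨n, k, hk, hnk⟩ := Nat.exists_eq_two_pow_mul_odd (n := Nat.card (Nm F q)) Nat.card_pos.ne'
  refine card_two_pow (n := n) ?_
  rintro ⟨_, g, hg, rfl⟩
  apply Subtype.ext
  change ψ g ^ 2 ^ n = 1
  rw [← map_pow]
  refine hmax _ (Subgroup.pow_mem _ hg _) ?_
  obtain ⟨a, b, rfl⟩ := exists_dgU S.par (mem_TH.1 (center_le_TH S.par hg))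
  refine Odd.of_dvd_nat hk (orderOf_dvd_of_pow_eq_one ?_)
  rw [← pow_mul, ← hnk, dgU_pow, pow_card_eq_one', pow_card_eq_one', dgU_one]

/-- The images of `diag(a, a⁻¹)`. -/
noncomputable def ddU (P : Par F q σ κ) (ψ : Cfsg.GU 2 F q →* Q) : Nm F q →* Q where
  toFun a := ψ (dgU P a a⁻¹)
  map_one' := by rw [inv_one, dgU_one, map_one]
  map_mul' a b := by rw [← map_mul, dgU_mul, mul_inv]

theorem mem_ddU (S : InstGU.Setup q σ κ ψ) {y : Q} (hy : y ∈ InstGU.gT ψ)
    (h1 : y * (ψ (wtU S.par) * y * (ψ (wtU S.par))⁻¹) = 1) : y ∈ (ddU S.par ψ).range := by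
  obtain ⟨g, hg, rfl⟩ := hy
  have h2 := S.wt_conj_eq hg
  rw [h1] at h2
  obtain ⟨a, b, rfl⟩ := exists_dgU S.par (mem_TH.1 hg)
  rw [dtN_dgU] at h2
  have h3 := S.pow_card h2.symm
  rw [dgU_pow, ← dgU_one S.par] at h3
  have h4 := (dgU_injective S.par h3).1
  obtain ⟨k, hk⟩ := S.odd_ker
  have h5 : (a * b) ^ (k + 1) * (a * b) ^ (k + 1) = a * b := by
    rw [← pow_add, show k + 1 + (k + 1) = 2 * k + 1 + 1 by ring, pow_succ, ← hk, h4, one_mul]
  have h6 : ψ (dgU S.par ((a * b) ^ (k + 1)) ((a * b) ^ (k + 1))) = 1 := by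
    rw [← dgU_pow, map_pow, ← h2, one_pow]
  refine ⟨a * ((a * b) ^ (k + 1))⁻¹, ?_⟩
  have h7 : dgU S.par a b =
      dgU S.par (a * ((a * b) ^ (k + 1))⁻¹) (a * ((a * b) ^ (k + 1))⁻¹)⁻¹ *
      dgU S.par ((a * b) ^ (k + 1)) ((a * b) ^ (k + 1)) := by
    rw [dgU_mul, inv_mul_cancel_right, mul_inv, inv_inv]
    congr 1
    calc b = a⁻¹ * (a * b) := by group
      _ = a⁻¹ * ((a * b) ^ (k + 1) * (a * b) ^ (k + 1)) := by rw [h5]
      _ = a⁻¹ * (a * b) ^ (k + 1) * (a * b) ^ (k + 1) := by group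
  rw [h7, map_mul ψ, h6, mul_one]
  rfl

/-- **`C(t) ≅ GU₂(q)/Z₀`.** -/
theorem exists_GU [Finite G] [IsSimpleGroup G] {t : G} (ht : orderOf t = 2)
    (hone : ∀ x : G, orderOf x = 2 → IsConj t x)
    (hse : ∀ M : Subgroup G, ¬ IsStronglyEmbedded M)
    (π : (Subgroup.centralizer ({t} : Set G)) →* Q) (hπ : Function.Surjective π)
    (hodd : Odd (Nat.card π.ker))
    (hKc : ∀ k, π k = 1 → ∀ c : Subgroup.centralizer ({t} : Set G), c * k = k * c)
    (S : InstGU.Setup q σ κ ψ)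
    (hmax : ∀ z ∈ Subgroup.center (Cfsg.GU 2 F q), Odd (orderOf z) → ψ z = 1) :
    ∃ (Z₀ : Subgroup (Cfsg.GU 2 F q)) (_ : Z₀.Normal), Z₀ ≤ Subgroup.center (Cfsg.GU 2 F q) ∧
      Odd (Nat.card Z₀) ∧
      Nonempty (Subgroup.centralizer ({t} : Set G) ≃* Cfsg.GU 2 F q ⧸ Z₀) := by
  have : Finite Q := Finite.of_surjective π hπ
  have hH₀ : Hyp t (π (tt t)) π := ⟨ht, hone, hπ, hodd, fun _ => rfl⟩
  have hz : orderOf (π (tt t)) = 2 := orderOf_of_mul_self (z_mul_z hH₀) (z_ne_one hH₀)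
  have hzt : π (tt t) = InstGU.gt S.par ψ := S.eq_neg_one hz (fun c => ((z_comm hH₀ c).eq).symm)
  have hH : Hyp t (InstGU.gt S.par ψ) π := hzt ▸ hH₀
  obtain ⟨x, w, c⟩ := exists_ctx hH S.cHyp hKc
  obtain ⟨m, hm⟩ := two_pow_gZ' S hmax
  obtain ⟨ρ, hρ⟩ := c.exists_retraction hse hm
  have hcyc : IsCyclic π.ker := isCyclic_ker c hse hm (D := (ddU S.par ψ).range)
    (isCyclic_of_surjective _ (ddU S.par ψ).rangeRestrict_surjective)
    (fun y hy h1 => mem_ddU S hy h1)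
  have hdvd : Nat.card π.ker ∣ Nat.card ψ.ker := by
    have h1 := c.card_ker_dvd hse hm
    have h2 := S.card_gZ
    have h3 : (q : ℤ) - -1 = ((q + 1 : ℕ) : ℤ) := by push_cast; ring
    rw [h3, ← h2, hm] at h1
    have h4 : Nat.card π.ker ∣ Nat.card ψ.ker * 2 ^ m := by exact_mod_cast h1
    exact (Nat.Coprime.pow_right _ (Nat.coprime_two_right.2 hodd)).dvd_of_dvd_mul_right h4
  have e : (Subgroup.centralizer ({t} : Set G)) ⧸ π.ker ≃* Cfsg.GU 2 F q ⧸ ψ.ker :=
    (QuotientGroup.quotientKerEquivOfSurjective π hπ).trans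
      (QuotientGroup.quotientKerEquivOfSurjective ψ S.surj).symm
  exact exists_equiv_GU S.par π.ker ρ hρ hcyc ψ.ker S.ker_le S.odd_ker
    (fun z hz hzo => MonoidHom.mem_ker.2 (hmax z hz hzo)) hdvd e

end Uni

end Cfsg.Agent.Classification.QDW.EndMain
end

private theorem dce_09bfaa9825e7 : _root_.True := by
  try have : _root_.True := by simp only [_root_.Cfsg.Agent.Classification.QDW.EndLocal.Ctx.CV.eq_1]
  exact _root_.True.intro
end

-- part: Classification/QDW/InstC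
section
prune_inst 0x200000000000000000800000000000018000000
set_option linter.all false
open scoped Cfsg.Agent.FastGrp

/-!
# `C` of type `GL₂(q)/Z₀`, `GU₂(q)/Z₀` with centre of order `2`

`CData`: the hypotheses. `CData.exists_split`: the torus normalising `U`, cyclic modulo `Z`.
`CData.ker_le`: a normal subgroup containing `Z` and `U` contains `ker b`.
`CData.index`: the index of a proper subgroup containing `T`.
-/

set_option autoImplicit false
set_option linter.unusedSectionVars false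

namespace Cfsg.Agent.Classification.QDW.InstC

open Cfsg Cfsg.Agent.Classification.InvCent Cfsg.Agent.Classification.QDW.LineC

/-- A commutative group of automorphisms of an abelian group, transitive on the elements different
from zero, is cyclic. -/
theorem exists_generator {A M : Type*} [Group A] [Finite A] [AddCommGroup M] [Nontrivial M]
    (ρ : A →* AddMonoid.End M) (hc : ∀ a b : A, ρ a * ρ b = ρ b * ρ a)
    (ht : ∀ x y : M, x ≠ 0 → y ≠ 0 → ∃ a, ρ a x = y) :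
    ∃ g : A, ∀ a : A, ∃ k : ℤ, ρ a = ρ (g ^ k) := by
  let S : Subring (AddMonoid.End M) := Subring.closure (Set.range ρ)
  have hcomm : ∀ x ∈ Set.range ρ, ∀ y ∈ Set.range ρ, x * y = y * x := by
    rintro _ ⟨a, rfl⟩ _ ⟨b, rfl⟩
    exact hc a b
  have hmc : IsMulCommutative S := Subring.isMulCommutative_closure hcomm
  let _ : CommRing S := { (inferInstance : Ring S) with mul_comm := hmc.is_comm.comm }
  have hρS : ∀ a, ρ a ∈ S := fun a => Subring.subset_closure ⟨a, rfl⟩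
  have hcS : ∀ a, ∀ r ∈ S, ρ a * r = r * ρ a := by
    intro a r hr
    have h1 : (⟨ρ a, hρS a⟩ : S) * ⟨r, hr⟩ = ⟨r, hr⟩ * ⟨ρ a, hρS a⟩ := mul_comm _ _
    exact congrArg Subtype.val h1
  have hnz : NoZeroDivisors S := by
    refine ⟨?_⟩
    rintro ⟨r, hr⟩ ⟨s, hs⟩ hrs
    have h1 : r * s = 0 := congrArg Subtype.val hrs
    by_cases h2 : s = 0
    · right
      exact Subtype.ext h2
    · left
      obtain ⟨x, hx⟩ : ∃ x, s x ≠ 0 := by
        by_contra hcon
        push Not at hcon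
        exact h2 (AddMonoidHom.ext hcon)
      have h3 : r (s x) = 0 := by
        have := congrArg (fun f : AddMonoid.End M => f x) h1
        exact this
      refine Subtype.ext (AddMonoidHom.ext fun y => ?_)
      show r y = 0
      by_cases hy : y = 0
      · rw [hy, map_zero]
      · obtain ⟨a, ha⟩ := ht (s x) y hx hy
        rw [← ha]
        have h4 := congrArg (fun f : AddMonoid.End M => f (s x)) (hcS a r hr)
        have h5 : ρ a (r (s x)) = r (ρ a (s x)) := h4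
        rw [← h5, h3, map_zero]
  have hnt : Nontrivial S := by
    refine ⟨⟨1, 0, fun h1 => ?_⟩⟩
    have h2 : (1 : AddMonoid.End M) = 0 := congrArg Subtype.val h1
    obtain ⟨x, hx⟩ := exists_ne (0 : M)
    exact hx (congrArg (fun f : AddMonoid.End M => f x) h2)
  have hdom : IsDomain S := NoZeroDivisors.to_isDomain S
  let f : A →* S :=
    { toFun := fun a => ⟨ρ a, hρS a⟩
      map_one' := Subtype.ext (map_one ρ)
      map_mul' := fun a b => Subtype.ext (map_mul ρ a b) }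
  let F : A →* Sˣ := f.toHomUnits
  have hfin : Finite F.range := Finite.of_surjective F.rangeRestrict F.rangeRestrict_surjective
  have hcyc : IsCyclic F.range := isCyclic_subgroup_units F.range
  obtain ⟨⟨_, g, rfl⟩, hg⟩ := hcyc.exists_generator
  refine ⟨g, fun a => ?_⟩
  obtain ⟨k, hk⟩ := Subgroup.mem_zpowers_iff.1 (hg ⟨F a, a, rfl⟩)
  refine ⟨k, ?_⟩
  have h1 : F g ^ k = F a := congrArg Subtype.val hk
  rw [← map_zpow] at h1
  have h2 : ((F (g ^ k) : Sˣ) : S) = (F a : S) := congrArg Units.val h1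
  exact (congrArg Subtype.val h2).symm

/-- The torus normalising `U`. -/
structure Split {C : Type*} [Group C] (q : ℕ) (Z T₁ U : Subgroup C) (s₁ : C) : Prop where
  torus : Torus q 1 Z T₁ s₁
  norm : ∀ τ ∈ T₁, ∀ v ∈ U, τ * v * τ⁻¹ ∈ U
  gen : ∃ g ∈ T₁, ∀ x ∈ T₁, ∃ k : ℤ, ∃ ζ ∈ Z, x = g ^ k * ζ

/-- The data of `C`. -/
structure CData {C : Type*} [Group C] (z : C) (q : ℕ) (ε : ℤ) (Z T T' U : Subgroup C)
    (s s' u : C) (b : C →* ℂˣ) : Prop where
  chyp : CHyp z q ε Z T T' U s s' u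
  det : DetHyp q ε T T' U s s' u 2 b
  card_Z : Nat.card Z = 2
  norm₁ : ε = 1 → ∀ τ ∈ T, ∀ v ∈ U, τ * v * τ⁻¹ ∈ U
  norm₂ : ε = -1 → ∀ τ ∈ T', ∀ v ∈ U, τ * v * τ⁻¹ ∈ U

section Split

variable {C : Type*} [Group C] [Finite C] {q : ℕ} {Z T₁ U : Subgroup C} {s₁ : C}

theorem trans_split (hb : Base q Z U) (h₁ : Torus q 1 Z T₁ s₁)
    (hn : ∀ τ ∈ T₁, ∀ v ∈ U, τ * v * τ⁻¹ ∈ U) {v w : C} (hv : v ∈ U) (hw : w ∈ U) (hv1 : v ≠ 1)
    (hw1 : w ≠ 1) : ∃ τ ∈ T₁, τ * v * τ⁻¹ = w := by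
  obtain ⟨c, hc⟩ := hb.fus_U v hv w hw hv1 hw1
  have h2 : c ∈ N U := ti hb hv hv1 (by rw [hc]; exact hw)
  obtain ⟨v', hv', τ, hτ, rfl⟩ := exists_of_N hb h₁ hn h2
  refine ⟨τ, hτ, ?_⟩
  rw [← hc]
  have h3 := hb.U_comm v' hv' _ (hn τ hτ v hv)
  calc τ * v * τ⁻¹ = v' * (τ * v * τ⁻¹) * v'⁻¹ := by rw [h3]; group
    _ = v' * τ * v * (v' * τ)⁻¹ := by group

theorem gen_split (hb : Base q Z U) (h₁ : Torus q 1 Z T₁ s₁)
    (hn : ∀ τ ∈ T₁, ∀ v ∈ U, τ * v * τ⁻¹ ∈ U) :
    ∃ g ∈ T₁, ∀ x ∈ T₁, ∃ k : ℤ, ∃ ζ ∈ Z, x = g ^ k * ζ := by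
  let _ : CommGroup U := { (inferInstance : Group U) with
    mul_comm := fun x y => Subtype.ext (hb.U_comm x x.2 y y.2) }
  obtain ⟨v₀, hv₀, hv₀1⟩ := hb.exists_ne_one
  have hnt : Nontrivial (Additive U) :=
    ⟨⟨Additive.ofMul ⟨v₀, hv₀⟩, 0, fun h1 => hv₀1 (congrArg
      (fun x : Additive U => ((Additive.toMul x : U) : C)) h1)⟩⟩
  let φ : T₁ → (U →* U) := fun τ =>
    { toFun := fun v => ⟨τ * v * (τ : C)⁻¹, hn τ τ.2 v v.2⟩
      map_one' := Subtype.ext (by simp)
      map_mul' := fun v w => Subtype.ext (by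
        show (τ : C) * (v * w : U) * (τ : C)⁻¹ = τ * v * (τ : C)⁻¹ * (τ * w * (τ : C)⁻¹)
        rw [Subgroup.coe_mul]; group) }
  let ρ : T₁ →* AddMonoid.End (Additive U) :=
    { toFun := fun τ => MonoidHom.toAdditive (φ τ)
      map_one' := by
        apply AddMonoidHom.ext
        intro v
        refine congrArg Additive.ofMul (Subtype.ext ?_)
        show ((1 : T₁) : C) * (Additive.toMul v : U) * ((1 : T₁) : C)⁻¹ = (Additive.toMul v : U)
        rw [Subgroup.coe_one, one_mul, inv_one, mul_one]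
      map_mul' := fun τ τ' => by
        apply AddMonoidHom.ext
        intro v
        refine congrArg Additive.ofMul (Subtype.ext ?_)
        show ((τ * τ' : T₁) : C) * (Additive.toMul v : U) * ((τ * τ' : T₁) : C)⁻¹ =
          τ * (τ' * (Additive.toMul v : U) * (τ' : C)⁻¹) * (τ : C)⁻¹
        rw [Subgroup.coe_mul]; group }
  have hρ : ∀ (τ : T₁) (v : U), ρ τ (Additive.ofMul v) =
      Additive.ofMul ⟨τ * v * (τ : C)⁻¹, hn τ τ.2 v v.2⟩ := fun _ _ => rfl
  obtain ⟨g, hg⟩ := exists_generator ρ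
    (fun a b' => by
      rw [← map_mul, ← map_mul]
      congr 1
      exact Subtype.ext (h₁.comm a a.2 b' b'.2))
    (fun x y hx hy => by
      have hx1 : ((Additive.toMul x : U) : C) ≠ 1 := fun h => hx (congrArg Additive.ofMul
        (Subtype.ext h : (Additive.toMul x : U) = 1))
      have hy1 : ((Additive.toMul y : U) : C) ≠ 1 := fun h => hy (congrArg Additive.ofMul
        (Subtype.ext h : (Additive.toMul y : U) = 1))
      obtain ⟨τ, hτ, he⟩ := trans_split hb h₁ hn (Additive.toMul x).2 (Additive.toMul y).2 hx1 hy1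
      refine ⟨⟨τ, hτ⟩, ?_⟩
      exact congrArg Additive.ofMul (Subtype.ext he :
        (⟨τ * (Additive.toMul x : U) * τ⁻¹, hn τ hτ _ (Additive.toMul x).2⟩ : U) =
          Additive.toMul y))
  refine ⟨g, g.2, fun x hx => ?_⟩
  obtain ⟨k, hk⟩ := hg ⟨x, hx⟩
  refine ⟨k, ((g : C) ^ k)⁻¹ * x, ?_, by group⟩
  have h1 := congrArg (fun f : AddMonoid.End (Additive U) => f (Additive.ofMul ⟨v₀, hv₀⟩)) hk
  have h2 : (⟨x, hx⟩ : T₁) * v₀ * ((⟨x, hx⟩ : T₁) : C)⁻¹ = ((g ^ k : T₁) : C) * v₀ *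
      ((g ^ k : T₁) : C)⁻¹ :=
    congrArg (fun y : Additive U => ((Additive.toMul y : U) : C)) h1
  have h3 : x * v₀ * x⁻¹ = (g : C) ^ k * v₀ * ((g : C) ^ k)⁻¹ := h2
  have h4 : (((g : C) ^ k)⁻¹ * x) * v₀ = v₀ * (((g : C) ^ k)⁻¹ * x) := by
    calc (((g : C) ^ k)⁻¹ * x) * v₀ = ((g : C) ^ k)⁻¹ * (x * v₀ * x⁻¹) * x := by group
      _ = ((g : C) ^ k)⁻¹ * ((g : C) ^ k * v₀ * ((g : C) ^ k)⁻¹) * x := by rw [h3]
      _ = v₀ * (((g : C) ^ k)⁻¹ * x) := by group
  exact mem_Z_of_T₁_ZU hb h₁ hn (mul_mem (inv_mem (zpow_mem g.2 k)) hx)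
    (hb.mem_ZU.2 (hb.cent_U v₀ hv₀ hv₀1 _ h4))

end Split

section CData

variable {C : Type*} [Group C] [Finite C] {z : C} {q : ℕ} {ε : ℤ} {Z T T' U : Subgroup C}
  {s s' u : C} {b : C →* ℂˣ}

theorem CData.exists_split (h : CData z q ε Z T T' U s s' u b) :
    ∃ (T₁ : Subgroup C) (s₁ : C), Split q Z T₁ U s₁ ∧ (ε = 1 → T₁ = T) := by
  rcases h.chyp.eps with h1 | h1
  · subst h1
    refine ⟨T, s, ⟨h.chyp.torus, h.norm₁ rfl, ?_⟩, fun _ => rfl⟩
    exact gen_split h.chyp.base h.chyp.torus (h.norm₁ rfl)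
  · subst h1
    have h' : Torus q 1 Z T' s' := by
      have := h.chyp.torus'
      rwa [neg_neg] at this
    exact ⟨T', s', ⟨h', h.norm₂ rfl, gen_split h.chyp.base h' (h.norm₂ rfl)⟩,
      fun h2 => by norm_num at h2⟩

theorem CData.mem_Z (h : CData z q ε Z T T' U s s' u b) {x : C} : x ∈ Z ↔ x = 1 ∨ x = z := by
  have hz1 : z ≠ 1 := by
    intro h1
    have := h.chyp.orderOf_t
    rw [h1, orderOf_one] at this
    omega
  constructor
  · intro hx
    by_contra hcon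
    push Not at hcon
    classical
    have h1 : ({1, z, x} : Finset C).card ≤ Nat.card Z := by
      have h2 : (({1, z, x} : Finset C) : Set C) ⊆ (Z : Set C) := by
        intro y hy
        simp only [Finset.coe_insert, Finset.coe_singleton, Set.mem_insert_iff,
          Set.mem_singleton_iff] at hy
        rcases hy with rfl | rfl | rfl
        · exact one_mem Z
        · exact h.chyp.t_mem
        · exact hx
      have h3 := Set.ncard_le_ncard h2 (Set.toFinite _)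
      rw [Set.ncard_coe_finset] at h3
      exact h3
    rw [h.card_Z, Finset.card_insert_of_notMem, Finset.card_insert_of_notMem,
      Finset.card_singleton] at h1
    · omega
    · simp only [Finset.mem_singleton]
      exact fun h2 => hcon.2 h2.symm
    · simp only [Finset.mem_insert, Finset.mem_singleton, not_or]
      exact ⟨fun h2 => hz1 h2.symm, fun h2 => hcon.1 h2.symm⟩
  · rintro (rfl | rfl)
    · exact one_mem Z
    · exact h.chyp.t_mem

/-- `q - ε = 2 m`, `m` odd. -/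
theorem CData.exists_m (h : CData z q ε Z T T' U s s' u b) :
    ∃ m : ℕ, Odd m ∧ 2 * (m : ℤ) = q - ε := by
  obtain ⟨m, hm, hc⟩ := h.chyp.card_Z
  refine ⟨m, hm, ?_⟩
  rw [h.card_Z] at hc
  exact_mod_cast hc

theorem CData.three_le (h : CData z q ε Z T T' U s s' u b) : 3 ≤ q := by
  have h1 := h.chyp.one_lt_q
  obtain ⟨k, hk⟩ := h.chyp.odd_q
  omega

theorem CData.b_sq (h : CData z q ε Z T T' U s s' u b) (c : C) : b c * b c = 1 := by
  have := h.det.pow_eq_one c
  rwa [sq] at this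

theorem CData.b_z (h : CData z q ε Z T T' U s s' u b) : b z = 1 := by
  have h1 : z = (s * u * s⁻¹) * u⁻¹ := by
    rw [h.chyp.s_u]; group
  rw [h1, map_mul, map_mul, map_mul, map_inv, map_inv]
  calc b s * b u * (b s)⁻¹ * (b u)⁻¹ = 1 := by
        rw [mul_comm (b s) (b u)]; group
    
theorem CData.b_Z (h : CData z q ε Z T T' U s s' u b) {x : C} (hx : x ∈ Z) : b x = 1 := by
  rcases h.mem_Z.1 hx with rfl | rfl
  · exact map_one b
  · exact h.b_z

theorem CData.b_cases (h : CData z q ε Z T T' U s s' u b) (c : C) : b c = 1 ∨ b c = -1 := by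
  have h1 := h.b_sq c
  have h2 : ((b c : ℂˣ) : ℂ) * (b c : ℂˣ) = 1 := by
    rw [← Units.val_mul, h1, Units.val_one]
  rcases mul_self_eq_one_iff.1 h2 with h3 | h3
  · exact Or.inl (Units.ext h3)
  · exact Or.inr (Units.ext (by rw [h3]; rfl))

theorem CData.b_u_ne (h : CData z q ε Z T T' U s s' u b) : b u ≠ 1 := by
  rw [h.det.b_u]
  intro h1
  have h2 := congrArg Units.val h1
  rw [Units.val_neg, Units.val_one] at h2
  norm_num at h2

/-- A normal subgroup containing `Z` and `U` contains `ker b`. -/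
theorem CData.ker_le (h : CData z q ε Z T T' U s s' u b) {M : Subgroup C} (hM : M.Normal)
    (hZ : Z ≤ M) (hU : U ≤ M) : b.ker ≤ M := by
  obtain ⟨T₁, s₁, hs, -⟩ := h.exists_split
  have hb := h.chyp.base
  have h3 := h.three_le
  have hNn : (M ⊓ b.ker).Normal := inferInstance
  have hZN : Z ≤ M ⊓ b.ker := le_inf hZ fun x hx => by
    rw [MonoidHom.mem_ker]; exact h.b_Z hx
  have hUN : U ≤ M ⊓ b.ker := le_inf hU fun x hx => by
    rw [MonoidHom.mem_ker]; exact h.det.b_U x hx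
  obtain ⟨g, hg, hgen⟩ := hs.gen
  have hgg : g * g ∈ M ⊓ b.ker := sq_mem hb hs.torus hs.norm h3 hNn hUN le_rfl hZN hg
  have hev : ∀ j : ℤ, g ^ (j + j) ∈ M ⊓ b.ker := by
    intro j
    rw [zpow_add, ← (Commute.refl g).mul_zpow]
    exact zpow_mem hgg j
  intro x hx
  obtain ⟨l, hl, τ, hτ, he⟩ := exists_of_normal hb hs.torus hs.norm h3 hNn hUN x
  have hτk : b τ = 1 := by
    have h1 : τ = l⁻¹ * x := by rw [he]; group
    rw [h1, map_mul, map_inv, MonoidHom.mem_ker.1 hl.2, MonoidHom.mem_ker.1 hx, inv_one, one_mul]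
  obtain ⟨k, ζ, hζ, hk⟩ := hgen τ hτ
  rcases Int.even_or_odd k with ⟨j, hj⟩ | ⟨j, hj⟩
  · have h1 : τ ∈ M ⊓ b.ker := by
      rw [hk, hj]
      exact mul_mem (hev j) (hZN hζ)
    rw [he]
    exact (mul_mem hl h1).1
  · exfalso
    have h1 : b g = 1 := by
      have h2 : g = (g ^ (j + j))⁻¹ * τ * ζ⁻¹ := by
        rw [hk, hj, show 2 * j + 1 = (j + j) + 1 by ring, zpow_add_one]; group
      rw [h2, map_mul, map_mul, map_inv, map_inv, MonoidHom.mem_ker.1 (hev j).2, hτk, h.b_Z hζ]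
      simp
    obtain ⟨l', hl', τ', hτ', he'⟩ := exists_of_normal hb hs.torus hs.norm h3 hNn hUN u
    obtain ⟨k', ζ', hζ', hk'⟩ := hgen τ' hτ'
    refine h.b_u_ne ?_
    rw [he', map_mul, MonoidHom.mem_ker.1 hl'.2, one_mul, hk', map_mul, map_zpow, h1, one_zpow,
      one_mul, h.b_Z hζ']

/-- A subgroup containing `ker b` and `u` is `C`. -/
theorem CData.eq_top (h : CData z q ε Z T T' U s s' u b) {H : Subgroup C} (hb : b.ker ≤ H)
    (hu : u ∈ H) : H = ⊤ := by
  rw [eq_top_iff]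
  intro c _
  rcases h.b_cases c with h1 | h1
  · exact hb h1
  · have h2 : c * u ∈ H := hb (by
      rw [MonoidHom.mem_ker, map_mul, h1, h.det.b_u, neg_mul_neg, one_mul])
    have h3 : c = (c * u) * u⁻¹ := by group
    rw [h3]
    exact mul_mem h2 (inv_mem hu)

/-- A subgroup containing `T` and of index prime to `q`... -/
theorem CData.index_five (h : CData z q ε Z T T' U s s' u b) (hq : q = 5) {H : Subgroup C}
    (hT : T ≤ H) (hH : H ≠ ⊤) : 5 ≤ H.index := by
  by_contra hcon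
  push Not at hcon
  refine hH (h.eq_top ?_ (hT h.chyp.u_mem))
  have hUN : U ≤ H.normalCore := by
    intro v hv
    rw [Subgroup.normalCore_eq_ker, MonoidHom.mem_ker]
    have h1 : v ^ 5 = 1 := by
      have := h.chyp.base.pow_card_U hv
      rwa [hq] at this
    have h2 : orderOf (MulAction.toPermHom C (C ⧸ H) v) ∣ 5 := by
      refine orderOf_dvd_of_pow_eq_one ?_
      rw [← map_pow, h1, map_one]
    have h3 : orderOf (MulAction.toPermHom C (C ⧸ H) v) ∣ (Nat.card (C ⧸ H)).factorial := by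
      have := orderOf_dvd_natCard (MulAction.toPermHom C (C ⧸ H) v)
      rwa [Nat.card_perm] at this
    rw [← orderOf_eq_one_iff]
    rcases (Nat.dvd_prime (by norm_num)).1 h2 with h4 | h4
    · exact h4
    · exfalso
      rw [h4] at h3
      have h5 := (Nat.Prime.dvd_factorial (by norm_num : Nat.Prime 5)).1 h3
      change 5 ≤ H.index at h5
      omega
  have hZH : Z ≤ H := h.chyp.Z_le_T.trans hT
  have hZn : Z.Normal := ⟨fun x hx g => by
    rw [h.chyp.Z_central x hx g, mul_inv_cancel_right]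
    exact hx⟩
  have h1 := h.ker_le (M := H.normalCore ⊔ Z) inferInstance le_sup_right (hUN.trans le_sup_left)
  exact h1.trans (sup_le (Subgroup.normalCore_le H) hZH)

theorem CData.index (h : CData z q ε Z T T' U s s' u b) (hq : 5 ≤ q) {H : Subgroup C}
    (hT : T ≤ H) (hH : H ≠ ⊤) : q ≤ H.index ∧ (ε = 1 → q + 1 ≤ H.index) := by
  rcases Nat.lt_or_ge 5 q with h5 | h5
  · have h1 := index_of_cHyp h.chyp h.det h.norm₁ h.norm₂ h5 hT hH
    exact ⟨by omega, fun _ => h1⟩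
  · have hq5 : q = 5 := by omega
    refine ⟨by rw [hq5]; exact h.index_five hq5 hT hH, fun he => ?_⟩
    exfalso
    obtain ⟨m, hm, h2⟩ := h.exists_m
    rw [he, hq5] at h2
    obtain ⟨k, hk⟩ := hm
    omega

/-- `T = ⟨z, u⟩ × T_odd`. -/
theorem CData.decomp (h : CData z q ε Z T T' U s s' u b) {x : C} (hx : x ∈ T) :
    ∃ v y, (v = 1 ∨ v = z ∨ v = u ∨ v = z * u) ∧ y ∈ T ∧ Odd (orderOf y) ∧ x = v * y := by
  obtain ⟨M, hM, hpow⟩ := h.chyp.exists_M h.det
  have h1 : x ^ M * x ^ M = 1 := by rw [← pow_add, ← two_mul, hpow x hx]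
  refine ⟨x ^ M, (x ^ M)⁻¹ * x, h.chyp.invol_T _ (pow_mem hx M) h1,
    mul_mem (inv_mem (pow_mem hx M)) hx, ?_, by group⟩
  have h2 : ((x ^ M)⁻¹ * x) ^ M = 1 := by
    obtain ⟨k, hk⟩ := hM
    have hc : Commute ((x ^ M)⁻¹) x := ((Commute.refl x).pow_left M).inv_left
    rw [hc.mul_pow]
    have h3 : (x ^ M)⁻¹ = x ^ M := inv_eq_of_mul_eq_one_left h1
    have h4 : (x ^ M) ^ M = x ^ M := by
      conv_lhs => rw [hk, pow_succ, pow_mul, sq, ← hk, h1, one_pow, one_mul]
    rw [h3, h4, h1]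
  exact hM.of_dvd_nat (orderOf_dvd_of_pow_eq_one h2)

end CData

end Cfsg.Agent.Classification.QDW.InstC
end

-- part: Classification/QDW/InstModel
section
prune_inst 0x20000000000000000080000000000001c010000
set_option linter.all false
open scoped Cfsg.Agent.FastGrp

-- part: Classification/QDW/CDataInst
section
/-!
# `CData` for `C(t)/O(C(t))` in the quasi-dihedral case without field automorphisms
-/

set_option autoImplicit false

open Matrix

namespace Cfsg.Agent.Classification.QDW.CDataInst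

open Cfsg Cfsg.Agent.Classification.InvCent Cfsg.Agent.Classification.QDW.InstC
  Cfsg.Agent.Classification.QDW.StructQ Cfsg.Agent.Classification.QDW.StructMain

variable {H : Type*} [Group H] [Finite H] {S : Sylow 2 H} {L : Subgroup H} [hLn : L.Normal]
  {F : Type*} [Field F] [Fintype F] {e : L ≃* SpecialLinearGroup (Fin 2) F} {y : H}

theorem card_top_H1 (h : QD S L e y) (hH : H1 L e = ⊤) :
    Nat.card H = 2 * (Nat.card F * (Nat.card F ^ 2 - 1)) := by
  rw [← card_H1 h, hH, Subgroup.card_top]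

/-- `T` normalizes `U` in `GL₂(F)/Z₀` -/
theorem norm_gU {G : Type*} [Group G] {ψ : GL (Fin 2) F →* G} (S : InstGL.Setup ψ) :
    ∀ τ ∈ InstGL.gT ψ, ∀ v ∈ InstGL.gU ψ, τ * v * τ⁻¹ ∈ InstGL.gU ψ := by
  rintro _ ⟨g, hg, rfl⟩ _ ⟨x, ⟨c, rfl⟩, rfl⟩
  obtain ⟨a, b, rfl⟩ := GLTwo.exists_dg S.two_ne_zero hg
  rw [S.conj_eq, GLTwo.dg_conj_up]
  exact ⟨_, ⟨_, rfl⟩, rfl⟩

/-- The model `GL₂(F)/Z₀`. -/
theorem exists_setup_pos (h : QD S L e y) (hH : H1 L e = ⊤) (hq : Fintype.card F % 4 = 3) :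
    ∃ ψ : GL (Fin 2) F →* H, InstGL.Setup ψ ∧ ψ GLTwo.sg = y ∧ z0 e = InstGL.gt ψ := by
  obtain ⟨φ, hφ, hker, hsg, -⟩ := exists_gl h hq
  let ψ : GL (Fin 2) F →* H := (H1 L e).subtype.comp φ
  have hψ : ∀ g, ψ g = (φ g : H) := fun g => rfl
  have hkerψ : ψ.ker = φ.ker := by
    ext g
    rw [MonoidHom.mem_ker, MonoidHom.mem_ker, hψ, OneMemClass.coe_eq_one]
  have hset : InstGL.Setup ψ := by
    refine ⟨by rw [Nat.odd_iff]; omega, ?_, ?_, ?_⟩
    · intro c
      obtain ⟨g, hg⟩ := hφ ⟨c, hH ▸ Subgroup.mem_top c⟩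
      exact ⟨g, by rw [hψ, hg]⟩
    · rw [hkerψ, hker]
      intro g hg
      obtain ⟨c, -, rfl⟩ := StructModel.mem_Zsub.1 hg
      rw [Subgroup.mem_center_iff]
      exact fun g => (StructModel.dg_comm c g).symm
    · rw [hkerψ, hker]
      exact StructModel.odd_card_Zsub (by rw [Nat.odd_iff]; omega)
  exact ⟨ψ, hset, by rw [hψ, hsg], hset.eq_neg_one (orderOf_z0 h.base.two_ne)
    fun c => (z0_central h.base c).symm⟩

theorem exists_cdata_pos (h : QD S L e y) (hH : H1 L e = ⊤) (hq : Fintype.card F % 4 = 3) :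
    ∃ (Z T T' U : Subgroup H) (s : H) (b : H →* ℂˣ),
      CData (z0 e) (Fintype.card F) 1 Z T T' U s y y b ∧
      ∃ j : SpecialLinearGroup (Fin 2) F →* H,
        j (-1) = z0 e ∧ ∀ a, j (Cfsg.Agent.Lib.SL2Hom.up a) ∈ U := by
  obtain ⟨ψ, hset, hy, hz⟩ := exists_setup_pos h hH hq
  obtain ⟨d, hd⟩ := hset.exists_nonsquare
  have hkF : Odd ((Fintype.card F - 1) / 2) := by rw [Nat.odd_iff]; omega
  have hcF := InstGL.card_F_eq (F := F)
  rw [Nat.card_eq_fintype_card (α := F)] at hcF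
  obtain ⟨b, hb⟩ := hset.detHyp hd hkF (by omega) (pow_one 2).symm le_rfl
  have hc := hset.cHyp hd
  rw [hy] at hb hc
  rw [← hz] at hc
  refine ⟨_, _, _, _, _, b, ⟨hc, hb, ?_, fun _ => norm_gU hset, fun h0 => by norm_num at h0⟩,
    ψ.comp SpecialLinearGroup.toGL, ?_, ?_⟩
  · have h1 := hset.card_G
    rw [card_top_H1 h hH, Nat.card_eq_fintype_card (α := F)] at h1
    have h2 : Nat.card Fˣ * (Fintype.card F * (Fintype.card F + 1)) =
        Fintype.card F * (Fintype.card F ^ 2 - 1) := by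
      have h3 : Fintype.card F ^ 2 - 1 = Nat.card Fˣ * (Fintype.card F + 1) := by
        rw [hcF]
        have : (Nat.card Fˣ + 1) ^ 2 = Nat.card Fˣ * (Nat.card Fˣ + 1 + 1) + 1 := by ring
        omega
      rw [h3]
      ring
    rw [h2] at h1
    have h3 : 0 < Fintype.card F * (Fintype.card F ^ 2 - 1) := by
      have h4 : 3 ≤ Fintype.card F := by omega
      have h5 : 9 ≤ Fintype.card F ^ 2 := by nlinarith
      exact Nat.mul_pos (by omega) (by omega)
    exact (Nat.eq_of_mul_eq_mul_right h3 h1).symm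
  · rw [hz, MonoidHom.comp_apply, InstGL.gt]
    congr 1
    apply GLTwo.ext2 <;> simp
  · intro a
    refine ⟨GLTwo.up a, ⟨a, rfl⟩, ?_⟩
    have h1 : SpecialLinearGroup.toGL (Cfsg.Agent.Lib.SL2Hom.up a) = GLTwo.up a := by
      apply GLTwo.ext2 <;> rfl
    change ψ (GLTwo.up a) = ψ (SpecialLinearGroup.toGL (Cfsg.Agent.Lib.SL2Hom.up a))
    rw [h1]

/-- The model `GU₂(q)/Z₀`. -/
theorem exists_setup_neg (h : QD S L e y) (hH : H1 L e = ⊤) (hq : Fintype.card F % 4 = 1) :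
    ∃ (F' : Type) (_ : Field F') (_ : Fintype F') (σ : F' →+* F') (κ : F'ˣ)
      (ψ : Cfsg.GU 2 F' (Fintype.card F) →* H) (hset : InstGU.Setup (Fintype.card F) σ κ ψ),
      Fintype.card F' = Fintype.card F ^ 2 ∧ ψ (InstGU.sgU hset.par) = y ∧
      z0 e = InstGU.gt hset.par ψ := by
  obtain ⟨F', _, _, hF'⟩ := exists_field_sq F
  obtain ⟨φ, hφ, hker, hsg⟩ := exists_gu h hq hF'
  let ψ : Cfsg.GU 2 F' (Fintype.card F) →* H := (H1 L e).subtype.comp φ
  have hψ : ∀ g, ψ g = (φ g : H) := fun g => rfl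
  have hkerψ : ψ.ker = φ.ker := by
    ext g
    rw [MonoidHom.mem_ker, MonoidHom.mem_ker, hψ, OneMemClass.coe_eq_one]
  obtain ⟨σ, κ, P⟩ := GUTwo.exists_par hF' (by rw [Nat.odd_iff]; omega)
  have hset : InstGU.Setup (Fintype.card F) σ κ ψ := by
    refine ⟨P, ?_, ?_, ?_⟩
    · intro c
      obtain ⟨g, hg⟩ := hφ ⟨c, hH ▸ Subgroup.mem_top c⟩
      exact ⟨g, by rw [hψ, hg]⟩
    · rw [hkerψ, hker]
      intro g hg
      rw [Subgroup.mem_subgroupOf] at hg
      obtain ⟨c, -, hc⟩ := StructModel.mem_Zsub.1 hg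
      rw [Subgroup.mem_center_iff]
      intro k
      apply Subtype.ext
      rw [Subgroup.coe_mul, Subgroup.coe_mul, hc, StructModel.dg_comm]
    · rw [hkerψ, hker]
      have h1 : Odd (Nat.card (StructModel.Zsub F' ((Fintype.card F + 1) / 2))) :=
        StructModel.odd_card_Zsub (by rw [Nat.odd_iff]; omega)
      refine Odd.of_dvd_nat h1 ?_
      exact Subgroup.card_comap_dvd_of_injective _ _ (Subgroup.subtype_injective _)
  exact ⟨F', inferInstance, inferInstance, σ, κ, ψ, hset, hF', by rw [hψ, InstGU.sgU, hsg],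
    hset.eq_neg_one (orderOf_z0 h.base.two_ne) fun c => (z0_central h.base c).symm⟩

theorem exists_cdata_neg (h : QD S L e y) (hH : H1 L e = ⊤) (hq : Fintype.card F % 4 = 1) :
    ∃ (Z T T' U : Subgroup H) (s : H) (b : H →* ℂˣ),
      CData (z0 e) (Fintype.card F) (-1) Z T T' U s y y b := by
  obtain ⟨F', _, _, σ, κ, ψ, hset, hF', hy, hz⟩ := exists_setup_neg h hH hq
  have hkF : Odd ((Fintype.card F + 1) / 2) := by rw [Nat.odd_iff]; omega
  obtain ⟨b, hb⟩ := hset.detHyp hkF (by omega) (pow_one 2).symm le_rfl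
  have hc := hset.cHyp
  rw [hy] at hb hc
  rw [← hz] at hc
  refine ⟨_, _, _, _, _, b, ⟨hc, hb, ?_, fun h0 => by norm_num at h0, fun _ => hset.norm_U⟩⟩
  have h1 := hset.card_G
  rw [card_top_H1 h hH, Nat.card_eq_fintype_card (α := F)] at h1
  have h3 : 0 < Fintype.card F * (Fintype.card F ^ 2 - 1) := by
    have h4 : 1 < Fintype.card F := Fintype.one_lt_card
    have h6 : 4 ≤ Fintype.card F ^ 2 := by nlinarith
    exact Nat.mul_pos (by omega) (by omega)
  exact (Nat.eq_of_mul_eq_mul_right h3 h1).symm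

/-- **`CData` in the quasi-dihedral case**: `H = C(t)/O(C(t))`, no field automorphisms. -/
theorem exists_cdata (h : QD S L e y) (hH : H1 L e = ⊤) :
    ∃ (ε : ℤ) (Z T T' U : Subgroup H) (s : H) (b : H →* ℂˣ),
      CData (z0 e) (Fintype.card F) ε Z T T' U s y y b ∧
      (ε = 1 ∧ Fintype.card F % 4 = 3 ∨ ε = -1 ∧ Fintype.card F % 4 = 1) ∧
      (ε = 1 → ∃ j : SpecialLinearGroup (Fin 2) F →* H,
        j (-1) = z0 e ∧ ∀ a, j (Cfsg.Agent.Lib.SL2Hom.up a) ∈ U) := by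
  have hodd : Fintype.card F % 2 = 1 := by
    rw [← Nat.card_eq_fintype_card, ← Nat.odd_iff]; exact odd_card h
  rcases (by omega : Fintype.card F % 4 = 3 ∨ Fintype.card F % 4 = 1) with hq | hq
  · obtain ⟨Z, T, T', U, s, b, h1, h2⟩ := exists_cdata_pos h hH hq
    exact ⟨1, Z, T, T', U, s, b, h1, Or.inl ⟨rfl, hq⟩, fun _ => h2⟩
  · obtain ⟨Z, T, T', U, s, b, h1⟩ := exists_cdata_neg h hH hq
    exact ⟨-1, Z, T, T', U, s, b, h1, Or.inr ⟨rfl, hq⟩, fun h0 => by norm_num at h0⟩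

end Cfsg.Agent.Classification.QDW.CDataInst
end

-- part: Classification/QDW/InstModel
section
/-!
# The quasi-dihedral case: the data of `C(t)` in `G`

`G` simple with quasi-dihedral Sylow 2-subgroups, `t` an involution, `Q = C(t)/O(C(t))` with a normal
subgroup `L ≅ SL₂(F)`. The homomorphism `mk' : C(t) →* Q` satisfies `RTwo.General.Hyp`; if
`H1 L e = ⊤` there are data `CData` for `Q`.
-/

set_option autoImplicit false

open Matrix

namespace Cfsg.Agent.Classification.QDW.InstModel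

open Cfsg Cfsg.Agent.Classification.InvCent Cfsg.Agent.Classification.QDW.InstC
  Cfsg.Agent.Classification.QDW.StructQ Cfsg.Agent.Classification.QDW.StructMain
  Cfsg.Agent.Classification.RTwo

universe u v

variable {G : Type u} [Group G] [Finite G]

/-- `C(t)` -/
abbrev Ct (t : G) : Subgroup G := Subgroup.centralizer ({t} : Set G)

/-- `C(t)/O(C(t))` -/
abbrev Qt (t : G) : Type u := ↥(Ct t) ⧸ Cfsg.oddCore ↥(Ct t)

/-- `C(t) → C(t)/O(C(t))` -/
abbrev pt (t : G) : Ct t →* Qt t := QuotientGroup.mk' (Cfsg.oddCore ↥(Ct t))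

omit [Finite G] in
theorem pt_eq_one_iff {t : G} (x : Ct t) : pt t x = 1 ↔ x ∈ Cfsg.oddCore ↥(Ct t) :=
  QuotientGroup.eq_one_iff x

omit [Finite G] in
theorem pt_eq_one_iff' {t : G} (x : Ct t) :
    pt t x = 1 ↔ (x : G) ∈ Cfsg.centralizerPPrimeCore 2 t := by
  rw [pt_eq_one_iff]
  constructor
  · intro h
    exact ⟨x, h, rfl⟩
  · rintro ⟨x', h, hx⟩
    rwa [← Subtype.ext hx]

theorem odd_ker (t : G) : Odd (Nat.card (pt t).ker) := by
  rw [QuotientGroup.ker_mk']
  exact Nat.coprime_two_right.1 (Cfsg.Agent.Lib.Cores.pPrimeCore_coprime 2)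

/-- `t` is mapped to an involution. -/
theorem orderOf_pt {t : G} (ht : orderOf t = 2) (h : t ∈ Ct t) : orderOf (pt t ⟨t, h⟩) = 2 := by
  refine orderOf_eq_prime_iff.2 ⟨?_, ?_⟩
  · rw [← map_pow]
    have h1 : (⟨t, h⟩ : Ct t) ^ 2 = 1 := Subtype.ext (by
      rw [SubmonoidClass.mk_pow]
      exact ht ▸ pow_orderOf_eq_one t)
    rw [h1, map_one]
  · intro h1
    have h2 : (⟨t, h⟩ : Ct t) ∈ (pt t).ker := MonoidHom.mem_ker.2 h1
    have h3 : orderOf (⟨⟨t, h⟩, h2⟩ : (pt t).ker) = 2 := by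
      rw [← Subgroup.orderOf_coe, ← Subgroup.orderOf_coe]
      exact ht
    have h4 := orderOf_dvd_natCard (⟨⟨t, h⟩, h2⟩ : (pt t).ker)
    rw [h3] at h4
    exact (Nat.not_even_iff_odd.2 (odd_ker t)) (even_iff_two_dvd.2 h4)

/-- `G` simple, quasi-dihedral: `RTwo.General.Hyp`. -/
theorem exists_model [IsSimpleGroup G] (S : Sylow 2 G)
    (hS : Cfsg.IsQuasiDihedral (S : Subgroup G)) {t : G} (ht : orderOf t = 2)
    {L : Subgroup (Qt t)} [hL : L.Normal] {F : Type*} [Field F] [Fintype F]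
    (hF : Odd (Fintype.card F)) (e : L ≃* SpecialLinearGroup (Fin 2) F) :
    ∃ (S' : Sylow 2 (Qt t)) (y : Qt t), QD S' L e y ∧ General.Hyp t (z0 e) (pt t) := by
  have hG := Structure.index_ne_two S (Or.inl hS)
  have hone := Structure.isConj_of_index S (Or.inl hS) hG
  obtain ⟨S', ⟨eS⟩, hO, hQ⟩ := Structure.exists_quotient_data S (Or.inl hS) hG t ht
  have h2 : (2 : F) ≠ 0 := by
    apply Ring.two_ne_zero
    intro h
    have := FiniteField.even_card_iff_char_two.mp h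
    have h2 := Nat.odd_iff.mp hF
    omega
  have hS' : Cfsg.IsQuasiDihedral (S' : Subgroup (Qt t)) := 
    Cfsg.Agent.TwoFusion.SylowTypeTransfer.isQuasiDihedral_of_mulEquiv eS hS
  have hB := exists_base S' (Or.inl hS') hO hQ L h2 e
  obtain ⟨y, hy⟩ := exists_qd hB hS'
  refine ⟨S', y, hy, ht, fun x hx => hone t x ht hx, QuotientGroup.mk'_surjective _, odd_ker t, ?_⟩
  intro h
  have h1 := orderOf_pt ht h
  have h3 : ∀ k, pt t ⟨t, h⟩ * k = k * pt t ⟨t, h⟩ := by
    intro k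
    obtain ⟨c, rfl⟩ := QuotientGroup.mk'_surjective _ k
    rw [← map_mul, ← map_mul]
    congr 1
    exact Subtype.ext (Subgroup.mem_centralizer_singleton_iff.1 c.2).symm
  rcases (hy.center _).1 h3 with h4 | h4
  · rw [h4, orderOf_one] at h1
    omega
  · exact h4

end Cfsg.Agent.Classification.QDW.InstModel
end

private theorem dce_eb9e5eff5e23 : _root_.True := by
  try have : _root_.True := by simp only [_root_.Cfsg.Agent.Classification.InvCent.InstGU.sgU.eq_1]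
  exact _root_.True.intro
end

-- part: Classification/QDW/InstGamma
section
prune_inst 0x20000000000000000080000000000001c010000
set_option linter.all false
open scoped Cfsg.Agent.FastGrp

/-!
# The centralizer of an involution: the instance of `LBHyp`

`GHyp`: `π : Γ →* C` onto with kernel of odd order, `t, u, w` above `z, u₀, s`. `Wg`: the elements of
odd order of `C(⟨t, u⟩)`. `lbHyp`: the hypotheses `LBHyp` of the lower bound.
-/

set_option autoImplicit false
set_option linter.unusedSectionVars false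

namespace Cfsg.Agent.Classification.QDW.InstGamma

open Cfsg Cfsg.Agent.Classification.InvCent Cfsg.Agent.Classification.QDW.LineC
open Cfsg.Agent.Classification.QDW.InstC Cfsg.Agent.Classification.QDW.DegBound
open Cfsg.Agent.Classification.QDW.BigDeg Cfsg.Agent.Classification.QDW.FrobLift
open Cfsg.Agent.Classification.QDW.NormBound

universe u v

section General

variable {Γ : Type*} [Group Γ] {C : Type*} [Group C] {π : Γ →* C}

/-- Involutions with the same image are conjugate. -/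
theorem exists_conj_of_map (hodd : Odd (Nat.card π.ker)) {x y : Γ} (hx : x * x = 1)
    (hy : y * y = 1) (h : π x = π y) : ∃ k ∈ π.ker, k * x * k⁻¹ = y := by
  have ha : x * y ∈ π.ker := by
    rw [MonoidHom.mem_ker, map_mul, ← h, ← map_mul, hx, map_one]
  obtain ⟨n, hn⟩ := hodd
  have hpow : (x * y) ^ (2 * n + 1) = 1 := by
    rw [← hn]
    exact congrArg Subtype.val (pow_card_eq_one' (x := (⟨x * y, ha⟩ : π.ker)))
  refine ⟨(x * y) ^ n, pow_mem ha n, ?_⟩
  have hxi : x⁻¹ = x := inv_eq_of_mul_eq_one_left hx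
  have hyi : y⁻¹ = y := inv_eq_of_mul_eq_one_left hy
  have h1 : x * (x * y) ^ n * x⁻¹ = ((x * y) ^ n)⁻¹ := by
    rw [← conj_pow, ← inv_pow]
    congr 1
    rw [mul_inv_rev, hxi, hyi, ← mul_assoc, hx, one_mul]
  have h2 : x * ((x * y) ^ n)⁻¹ = (x * y) ^ n * x := by
    rw [← h1, hxi]
    rw [← mul_assoc, ← mul_assoc, hx, one_mul]
  rw [mul_assoc, h2, ← mul_assoc, ← pow_add]
  have h3 : (x * y) ^ (n + n) = (x * y)⁻¹ := by
    apply eq_inv_of_mul_eq_one_left
    rw [← pow_succ, show n + n + 1 = 2 * n + 1 by ring, hpow]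
  rw [h3, mul_inv_rev, hxi, hyi, mul_assoc, hx, mul_one]

theorem card_comap [Finite Γ] (hπ : Function.Surjective π) (H : Subgroup C) :
    Nat.card (H.comap π) = Nat.card H * Nat.card π.ker := by
  have : Finite C := Finite.of_surjective π hπ
  have h1 := (H.comap π).card_mul_index
  have h2 := H.card_mul_index
  have h3 := π.ker.card_mul_index
  rw [Subgroup.index_comap_of_surjective _ hπ] at h1
  rw [Subgroup.index_ker, MonoidHom.range_eq_top.2 hπ, Subgroup.card_top] at h3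
  have h4 : H.index ≠ 0 := Subgroup.index_ne_zero_of_finite
  apply Nat.eq_of_mul_eq_mul_right (Nat.pos_of_ne_zero h4)
  rw [h1, ← h3, ← h2]
  ring

/-- Conjugation by `w` on `W`. -/
def conjEquiv (W : Subgroup Γ) (w : Γ) (h1 : ∀ x ∈ W, w * x * w⁻¹ ∈ W)
    (h2 : ∀ x ∈ W, w⁻¹ * x * w ∈ W) : W ≃* W where
  toFun x := ⟨w * x * w⁻¹, h1 x x.2⟩
  invFun x := ⟨w⁻¹ * x * w, h2 x x.2⟩
  left_inv x := Subtype.ext (by
    show w⁻¹ * (w * x * w⁻¹) * w = x
    group)
  right_inv x := Subtype.ext (by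
    show w * (w⁻¹ * x * w) * w⁻¹ = x
    group)
  map_mul' x y := Subtype.ext (by
    show w * (x * y : W) * w⁻¹ = w * x * w⁻¹ * (w * y * w⁻¹)
    rw [Subgroup.coe_mul]; group)

end General

/-- The data of `Γ`. -/
structure GHyp {Γ : Type*} [Group Γ] {C : Type*} [Group C] (π : Γ →* C) (z u₀ s : C)
    (t u w : Γ) : Prop where
  surj : Function.Surjective π
  oddK : Odd (Nat.card π.ker)
  tt : t * t = 1
  t_comm : ∀ x, Commute t x
  map_t : π t = z
  uu : u * u = 1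
  map_u : π u = u₀
  wu : w * u * w⁻¹ = t * u
  map_w : π w = s

section Data

variable {C : Type*} [Group C] {z : C} {q : ℕ} {ε : ℤ} {Z T T' U : Subgroup C}
  {s s' u₀ : C} {b : C →* ℂˣ} {Γ : Type u} [Group Γ] {π : Γ →* C} {t u w : Γ}

/-- The elements of odd order of `C(⟨t, u⟩)`. -/
def Wg (h : CHyp z q ε Z T T' U s s' u₀) (π : Γ →* C) (u : Γ) : Subgroup Γ where
  carrier := {x | π x ∈ T ∧ Odd (orderOf (π x)) ∧ Commute u x}
  one_mem' := ⟨by rw [map_one]; exact one_mem T, by rw [map_one, orderOf_one]; exact odd_one,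
    Commute.one_right u⟩
  mul_mem' := by
    rintro x y ⟨hx, hxo, hxc⟩ ⟨hy, hyo, hyc⟩
    refine ⟨by rw [map_mul]; exact mul_mem hx hy, ?_, hxc.mul_right hyc⟩
    rw [map_mul]
    have h1 : Commute (π x) (π y) := h.T_comm _ hx _ hy
    exact (hxo.mul hyo).of_dvd_nat h1.orderOf_mul_dvd_mul_orderOf
  inv_mem' := by
    rintro x ⟨hx, hxo, hxc⟩
    refine ⟨by rw [map_inv]; exact inv_mem hx, by rw [map_inv, orderOf_inv]; exact hxo,
      hxc.inv_right⟩

theorem mem_Wg {h : CHyp z q ε Z T T' U s s' u₀} {x : Γ} :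
    x ∈ Wg h π u ↔ π x ∈ T ∧ Odd (orderOf (π x)) ∧ Commute u x := Iff.rfl

theorem GHyp.t_ne (hG : GHyp π z u₀ s t u w) (h : CHyp z q ε Z T T' U s s' u₀) : t ≠ 1 := by
  intro h1
  have h2 := h.orderOf_t
  rw [← hG.map_t, h1, map_one, orderOf_one] at h2
  omega

theorem GHyp.conj_mem (hG : GHyp π z u₀ s t u w) (h : CHyp z q ε Z T T' U s s' u₀) {x : Γ}
    (hx : x ∈ Wg h π u) : w * x * w⁻¹ ∈ Wg h π u := by
  obtain ⟨h1, h2, h3⟩ := hx
  have h4 : π (w * x * w⁻¹) = s * π x * s⁻¹ := by rw [map_mul, map_mul, map_inv, hG.map_w]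
  refine ⟨by rw [h4]; exact h.s_conj _ h1, ?_, ?_⟩
  · rw [h4]
    rwa [FusionCore.orderOf_conj]
  · have h5 : Commute (t * u) (w * x * w⁻¹) := by
      rw [← hG.wu]
      exact (Commute.conj_iff w).2 h3
    have h6 : u = t * (t * u) := by rw [← mul_assoc, hG.tt, one_mul]
    rw [h6]
    exact (hG.t_comm _).mul_left h5

theorem GHyp.conj_mem' (hG : GHyp π z u₀ s t u w) (h : CHyp z q ε Z T T' U s s' u₀) {x : Γ}
    (hx : x ∈ Wg h π u) : w⁻¹ * x * w ∈ Wg h π u := by
  obtain ⟨h1, h2, h3⟩ := hx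
  have hs : s⁻¹ = s := inv_eq_of_mul_eq_one_left h.s_sq
  have h4 : π (w⁻¹ * x * w) = s * π x * s⁻¹ := by
    rw [map_mul, map_mul, map_inv, hG.map_w, hs]
  refine ⟨by rw [h4]; exact h.s_conj _ h1, ?_, ?_⟩
  · rw [h4]
    rwa [FusionCore.orderOf_conj]
  · have h5 : w⁻¹ * u * w⁻¹⁻¹ = t * u := by
      have h6 : u = t * (w * u * w⁻¹) := by rw [hG.wu, ← mul_assoc, hG.tt, one_mul]
      calc w⁻¹ * u * w⁻¹⁻¹ = w⁻¹ * (t * (w * u * w⁻¹)) * w := by rw [← h6, inv_inv]
        _ = (w⁻¹ * t * w) * u := by group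
        _ = t * u := by rw [(hG.t_comm w⁻¹).symm.eq]; group
    have h7 : Commute (t * u) (w⁻¹ * x * w) := by
      rw [← h5]
      have := (Commute.conj_iff w⁻¹).2 h3
      rwa [inv_inv] at this ⊢
    have h6 : u = t * (t * u) := by rw [← mul_assoc, hG.tt, one_mul]
    rw [h6]
    exact (hG.t_comm _).mul_left h7

/-- The automorphism of `W` induced by `w`. -/
def aW (hG : GHyp π z u₀ s t u w) (h : CHyp z q ε Z T T' U s s' u₀) : Wg h π u ≃* Wg h π u :=
  conjEquiv _ w (fun _ hx => hG.conj_mem h hx) (fun _ hx => hG.conj_mem' h hx)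

theorem aW_apply (hG : GHyp π z u₀ s t u w) (h : CHyp z q ε Z T T' U s s' u₀) (x : Wg h π u) :
    ((aW hG h x : Wg h π u) : Γ) = w * x * w⁻¹ := rfl

/-- Involutions are not in the odd part. -/
theorem GHyp.odd_W [Finite Γ] (hG : GHyp π z u₀ s t u w) (h : CHyp z q ε Z T T' U s s' u₀) :
    Odd (Nat.card (Wg h π u)) := by
  by_contra hev
  rw [Nat.not_odd_iff_even, even_iff_two_dvd] at hev
  obtain ⟨x, hx⟩ := exists_prime_orderOf_dvd_card' 2 hev
  have hx2 : (x : Γ) * x = 1 := by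
    have h1 := pow_orderOf_eq_one x
    rw [hx, sq] at h1
    exact congrArg Subtype.val h1
  have h4 : π x * π x = 1 := by rw [← map_mul, hx2, map_one]
  have h5 : orderOf (π (x : Γ)) ∣ 2 := orderOf_dvd_of_pow_eq_one (by rw [sq]; exact h4)
  have h6 : orderOf (π (x : Γ)) = 1 := by
    rcases (Nat.dvd_prime Nat.prime_two).1 h5 with h7 | h7
    · exact h7
    · have h3 := x.2.2.1
      rw [h7] at h3
      norm_num at h3
  have h7 : (x : Γ) ∈ π.ker := by
    rw [MonoidHom.mem_ker]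
    exact orderOf_eq_one_iff.1 h6
  have h8 : orderOf (⟨x, h7⟩ : π.ker) = 2 := by
    rw [← hx, Subgroup.orderOf_mk, Subgroup.orderOf_coe]
  have h9 := orderOf_dvd_natCard (⟨x, h7⟩ : π.ker)
  rw [h8] at h9
  exact (Nat.not_even_iff_odd.2 hG.oddK) (even_iff_two_dvd.2 h9)

theorem GHyp.fixK (_ : GHyp π z u₀ s t u w) (h : CHyp z q ε Z T T' U s s' u₀) {k : Γ}
    (hk : k ∈ π.ker) (hc : Commute u k) : k ∈ Wg h π u := by
  rw [MonoidHom.mem_ker] at hk
  exact ⟨by rw [hk]; exact one_mem T, by rw [hk, orderOf_one]; exact odd_one, hc⟩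

/-- The four group. -/
theorem GHyp.exists_decomp [Finite C] (hG : GHyp π z u₀ s t u w) (hD : CData z q ε Z T T' U s s' u₀ b)
    {x : Γ} (hx : Commute u x) :
    ∃ v y, (v = 1 ∨ v = t ∨ v = u ∨ v = t * u) ∧ y ∈ Wg hD.chyp π u ∧ x = v * y := by
  have h := hD.chyp
  have h1 : π x ∈ T := by
    refine h.cent_T u₀ h.u_mem ?_ _ ?_
    · intro h2
      rcases hD.mem_Z.1 h2 with h3 | h3
      · have := h.orderOf_u
        rw [h3, orderOf_one] at this
        omega
      · exact h.u_ne h3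
    · rw [← hG.map_u, ← map_mul, ← map_mul, hx.eq]
  obtain ⟨v, y, hv, hy, hyo, he⟩ := hD.decomp h1
  obtain ⟨v', hv', hvv'⟩ : ∃ v', (v' = 1 ∨ v' = t ∨ v' = u ∨ v' = t * u) ∧ π v' = v := by
    rcases hv with rfl | rfl | rfl | rfl
    · exact ⟨1, Or.inl rfl, map_one π⟩
    · exact ⟨t, Or.inr (Or.inl rfl), hG.map_t⟩
    · exact ⟨u, Or.inr (Or.inr (Or.inl rfl)), hG.map_u⟩
    · exact ⟨t * u, Or.inr (Or.inr (Or.inr rfl)), by rw [map_mul, hG.map_t, hG.map_u]⟩
  have hcv : Commute u v' := by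
    rcases hv' with rfl | rfl | rfl | rfl
    · exact Commute.one_right u
    · exact (hG.t_comm u).symm
    · exact Commute.refl _
    · exact (hG.t_comm u).symm.mul_right (Commute.refl _)
  refine ⟨v', v'⁻¹ * x, hv', ?_, by group⟩
  have h2 : π (v'⁻¹ * x) = y := by
    rw [map_mul, map_inv, hvv', he]; group
  exact ⟨by rw [h2]; exact hy, by rw [h2]; exact hyo, hcv.inv_right.mul_right hx⟩

theorem pow_odd_of_sq {x : Γ} (h2 : x * x = 1) {n : ℕ} (hn : Odd n) : x ^ n = x := by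
  obtain ⟨m, rfl⟩ := hn
  rw [pow_succ, pow_mul, sq, h2, one_pow, one_mul]

theorem GHyp.four [Finite Γ] (hG : GHyp π z u₀ s t u w) (h : CHyp z q ε Z T T' U s s' u₀) {v y : Γ}
    (hv : v * v = 1) (hy : y ∈ Wg h π u) (hc : Commute v y) : (v * y) ^ Nat.card (Wg h π u) = v := by
  have h1 : y ^ Nat.card (Wg h π u) = 1 :=
    congrArg Subtype.val (pow_card_eq_one' (x := (⟨y, hy⟩ : Wg h π u)))
  rw [hc.mul_pow, h1, mul_one, pow_odd_of_sq hv (hG.odd_W h)]

theorem GHyp.card_cent [Finite Γ] [Finite C] (hG : GHyp π z u₀ s t u w)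
    (hD : CData z q ε Z T T' U s s' u₀ b) :
    Nat.card (Subgroup.centralizer ({u} : Set Γ)) = 4 * Nat.card (Wg hD.chyp π u) := by
  classical
  have h := hD.chyp
  have hu1 : u ≠ 1 := by
    intro h1
    have := h.orderOf_u
    rw [← hG.map_u, h1, map_one, orderOf_one] at this
    omega
  have ht1 := hG.t_ne h
  have htu : t ≠ u := by
    intro h1
    refine h.u_ne ?_
    rw [← hG.map_u, ← hG.map_t, h1]
  let V : Finset Γ := {1, t, u, t * u}
  have hVc : V.card = 4 := by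
    rw [Finset.card_insert_of_notMem, Finset.card_insert_of_notMem, Finset.card_insert_of_notMem,
      Finset.card_singleton]
    · simp only [Finset.mem_singleton]
      intro h1
      exact ht1 (mul_eq_right.1 h1.symm)
    · simp only [Finset.mem_insert, Finset.mem_singleton, not_or]
      exact ⟨htu, fun h1 => hu1 (mul_eq_left.1 h1.symm)⟩
    · simp only [Finset.mem_insert, Finset.mem_singleton, not_or]
      refine ⟨fun h1 => ht1 h1.symm, fun h1 => hu1 h1.symm, fun h1 => ?_⟩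
      have h2 : u = t⁻¹ := eq_inv_of_mul_eq_one_right h1.symm
      rw [inv_eq_of_mul_eq_one_left hG.tt] at h2
      exact htu h2.symm
  have hV : ∀ v ∈ V, v * v = 1 ∧ Commute u v ∧ ∀ y ∈ Wg h π u, Commute v y := by
    intro v hv
    simp only [V, Finset.mem_insert, Finset.mem_singleton] at hv
    rcases hv with rfl | rfl | rfl | rfl
    · exact ⟨one_mul 1, Commute.one_right u, fun _ _ => Commute.one_left _⟩
    · exact ⟨hG.tt, (hG.t_comm u).symm, fun y _ => hG.t_comm y⟩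
    · exact ⟨hG.uu, Commute.refl _, fun y hy => hy.2.2⟩
    · refine ⟨?_, (hG.t_comm u).symm.mul_right (Commute.refl _),
        fun y hy => (hG.t_comm y).mul_left hy.2.2⟩
      calc t * u * (t * u) = t * (u * t) * u := by group
        _ = (t * t) * (u * u) := by rw [(hG.t_comm u).symm.eq]; group
        _ = 1 := by rw [hG.tt, hG.uu, one_mul]
  let F : V × Wg h π u → Subgroup.centralizer ({u} : Set Γ) := fun p =>
    ⟨p.1 * p.2, Subgroup.mem_centralizer_singleton_iff.2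
      ((hV p.1 p.1.2).2.1.mul_right p.2.2.2.2).symm.eq⟩
  have hF : Function.Bijective F := by
    constructor
    · rintro ⟨⟨v, hv⟩, ⟨y, hy⟩⟩ ⟨⟨v', hv'⟩, ⟨y', hy'⟩⟩ he
      have h1 : v * y = v' * y' := congrArg Subtype.val he
      have h2 : v = v' := by
        rw [← hG.four h (hV v hv).1 hy ((hV v hv).2.2 y hy), h1,
          hG.four h (hV v' hv').1 hy' ((hV v' hv').2.2 y' hy')]
      subst h2
      have h3 : y = y' := mul_left_cancel h1
      subst h3
      rfl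
    · rintro ⟨x, hx⟩
      obtain ⟨v, y, hv, hy, rfl⟩ := hG.exists_decomp hD
        (show Commute u x from (Subgroup.mem_centralizer_singleton_iff.1 hx).symm)
      refine ⟨(⟨v, ?_⟩, ⟨y, hy⟩), rfl⟩
      simp only [V, Finset.mem_insert, Finset.mem_singleton]
      exact hv
  rw [← Nat.card_congr (Equiv.ofBijective F hF), Nat.card_prod, Nat.card_eq_fintype_card (α := V),
    Fintype.card_coe, hVc]

end Data

section Frob

variable {C : Type*} [Group C] [Finite C] {q : ℕ} {Z T₁ U : Subgroup C} {s₁ : C}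
  {Γ : Type u} [Group Γ] [Finite Γ] {π : Γ →* C}

/-- The Borel subgroup of `Γ`. -/
abbrev Bg (U : Subgroup C) (π : Γ →* C) : Subgroup Γ := (N U).comap π

/-- A subgroup of `C` as a subgroup of the Borel subgroup. -/
abbrev inB (U : Subgroup C) (π : Γ →* C) (H : Subgroup C) : Subgroup (Bg U π) :=
  (H.comap π).subgroupOf (Bg U π)

theorem mem_inB {H : Subgroup C} {x : Bg U π} : x ∈ inB U π H ↔ π x ∈ H := Iff.rfl

theorem card_inB (hπ : Function.Surjective π) {H : Subgroup C} (hH : H ≤ N U) :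
    Nat.card (inB U π H) = Nat.card H * Nat.card π.ker := by
  rw [Nat.card_congr (Subgroup.subgroupOfEquivOfLe (Subgroup.comap_mono hH)).toEquiv,
    card_comap hπ]

theorem frob (hb : Base q Z U) (hs : Split q Z T₁ U s₁) (hπ : Function.Surjective π)
    (hq : 5 ≤ q) : Frob q (inB U π Z) (inB U π hb.ZU) (inB U π T₁) where
  normal := ⟨fun x hx g => by
    rw [mem_inB] at hx ⊢
    rw [Subgroup.coe_mul, Subgroup.coe_mul, Subgroup.coe_inv, map_mul, map_mul, map_inv,
      hb.Z_central _ hx, mul_inv_cancel_right]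
    exact hx⟩
  normal_X := ⟨fun x hx g => by
    rw [mem_inB] at hx ⊢
    rw [Subgroup.coe_mul, Subgroup.coe_mul, Subgroup.coe_inv, map_mul, map_mul, map_inv]
    obtain ⟨z, hz, v, hv, he⟩ := hb.mem_ZU.1 hx
    rw [he]
    have h1 : π (g : Γ) * (z * v) * (π (g : Γ))⁻¹ = z * (π (g : Γ) * v * (π (g : Γ))⁻¹) := by
      rw [← mul_assoc, hb.Z_central z hz]; group
    rw [h1]
    exact hb.mul_mem_ZU hz ((mem_N.1 g.2 v).1 hv)⟩
  K_le_X := fun x hx => by
    rw [mem_inB] at hx ⊢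
    have := hb.mul_mem_ZU hx (one_mem U)
    rwa [mul_one] at this
  K_le_T := fun x hx => hs.torus.Z_le hx
  inf := fun x hx hx' => mem_Z_of_T₁_ZU hb hs.torus hs.norm hx' hx
  card_X := by
    have h1 : hb.ZU ≤ N U := by
      intro x hx
      obtain ⟨z, hz, v, hv, rfl⟩ := hb.mem_ZU.1 hx
      exact mul_mem (T₁_le_N hb hs.torus hs.norm (hs.torus.Z_le hz)) (U_le_N hv)
    have h2 : Z ≤ N U := hs.torus.Z_le.trans (T₁_le_N hb hs.torus hs.norm)
    rw [card_inB hπ h1, card_inB hπ h2, hb.card_ZU]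
    ring
  card_T := by
    have h2 : Z ≤ N U := hs.torus.Z_le.trans (T₁_le_N hb hs.torus hs.norm)
    rw [card_inB hπ (T₁_le_N hb hs.torus hs.norm), card_inB hπ h2,
      card_T₁ hb hs.torus hs.norm]
    ring
  card_B := by
    have h2 : Z ≤ N U := hs.torus.Z_le.trans (T₁_le_N hb hs.torus hs.norm)
    rw [card_inB hπ h2, card_comap hπ, card_N hb hs.torus hs.norm]
    ring
  tI := by
    intro x hx g hg hxg
    rw [mem_inB] at hx hg hxg
    rw [mem_inB, mem_inB]
    rw [Subgroup.coe_mul, Subgroup.coe_mul, Subgroup.coe_inv, map_mul, map_mul, map_inv] at hxg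
    obtain ⟨z, hz, v, hv, he⟩ := hb.mem_ZU.1 hx
    have h1 : v * π (g : Γ) * v⁻¹ ∈ T₁ := by
      have h2 : v * π (g : Γ) * v⁻¹ = z⁻¹ * (π (x : Γ) * π (g : Γ) * (π (x : Γ))⁻¹) * z := by
        rw [he]; group
      rw [h2]
      exact mul_mem (mul_mem (inv_mem (hs.torus.Z_le hz)) hxg) (hs.torus.Z_le hz)
    have h2 : v * π (g : Γ) * v⁻¹ * (π (g : Γ))⁻¹ = 1 := by
      refine eq_one_of_T₁_U hb hs.torus hs.norm (mul_mem h1 (inv_mem hg)) ?_
      have h3 : v * π (g : Γ) * v⁻¹ * (π (g : Γ))⁻¹ = v * (π (g : Γ) * v⁻¹ * (π (g : Γ))⁻¹) := by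
        group
      rw [h3]
      exact mul_mem hv (hs.norm _ hg _ (inv_mem hv))
    have h3 : π (g : Γ) * v = v * π (g : Γ) := by
      calc π (g : Γ) * v = (v * π (g : Γ) * v⁻¹ * (π (g : Γ))⁻¹)⁻¹ * (v * π (g : Γ)) := by group
        _ = v * π (g : Γ) := by rw [h2, inv_one, one_mul]
    by_cases hv1 : v = 1
    · left
      rw [he, hv1, mul_one]
      exact hz
    · right
      exact mem_Z_of_T₁_ZU hb hs.torus hs.norm hg (hb.mem_ZU.2 (hb.cent_U v hv hv1 _ h3))
  cyc := by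
    intro hn
    obtain ⟨g, hg, hgen⟩ := hs.gen
    obtain ⟨g', rfl⟩ := hπ g
    let g₁ : inB U π T₁ := ⟨⟨g', T₁_le_N hb hs.torus hs.norm hg⟩, hg⟩
    refine ⟨QuotientGroup.mk g₁, fun x => ?_⟩
    obtain ⟨y, rfl⟩ := QuotientGroup.mk_surjective x
    obtain ⟨k, ζ, hζ, hk⟩ := hgen (π ((y : Bg U π) : Γ)) y.2
    refine Subgroup.mem_zpowers_iff.2 ⟨k, ?_⟩
    rw [← QuotientGroup.mk_zpow, QuotientGroup.eq, Subgroup.mem_subgroupOf, mem_inB]
    have h1 : π ((((g₁ ^ k)⁻¹ * y : inB U π T₁) : Bg U π) : Γ) = ((π g') ^ k)⁻¹ *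
        π ((y : Bg U π) : Γ) := by
      rw [Subgroup.coe_mul, Subgroup.coe_mul, map_mul, Subgroup.coe_inv, Subgroup.coe_inv, map_inv,
        Subgroup.coe_zpow, Subgroup.coe_zpow, map_zpow]
    rw [h1, hk]
    have h2 : (π g' ^ k)⁻¹ * (π g' ^ k * ζ) = ζ := by group
    rw [h2]
    exact hζ
  q_ge := hq

end Frob

section Main

variable {C : Type*} [Group C] [Finite C] {z : C} {q : ℕ} {ε : ℤ} {Z T T' U : Subgroup C}
  {s s' u₀ : C} {b : C →* ℂˣ} {Γ : Type u} [Group Γ] [Finite Γ] {π : Γ →* C} {t u w : Γ}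

theorem ker_index (hD : CData z q ε Z T T' U s s' u₀ b) (hG : GHyp π z u₀ s t u w) :
    (b.comp π).ker.index = 2 := by
  rw [Subgroup.index_eq_two_iff]
  refine ⟨u, fun x => ?_⟩
  rw [MonoidHom.mem_ker, MonoidHom.mem_ker, MonoidHom.comp_apply, MonoidHom.comp_apply, map_mul,
    map_mul, hG.map_u, hD.det.b_u]
  have h1 : (-1 : ℂˣ) ≠ 1 := by
    intro h2
    exact hD.b_u_ne (by rw [hD.det.b_u, h2])
  rcases hD.b_cases (π x) with h2 | h2
  · rw [h2, one_mul]
    exact Or.inr ⟨rfl, h1⟩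
  · rw [h2, neg_mul_neg, one_mul]
    exact Or.inl ⟨rfl, h1⟩

theorem big (hD : CData z q ε Z T T' U s s' u₀ b) (hG : GHyp π z u₀ s t u w) {T₁ : Subgroup C}
    {s₁ : C} (hs : Split q Z T₁ U s₁) (hq : 5 ≤ q) :
    Big q π.ker (b.comp π).ker (Bg U π) (inB U π Z) (inB U π hD.chyp.base.ZU) (inB U π T₁) t where
  normal := inferInstance
  oddK := hG.oddK
  tt := hG.tt
  t_ne := hG.t_ne hD.chyp
  t_comm := hG.t_comm
  KB := by
    intro x hx
    rw [Subgroup.mem_comap, MonoidHom.mem_ker.1 hx]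
    exact one_mem _
  tB := by
    rw [Subgroup.mem_comap, hG.map_t]
    exact T₁_le_N hD.chyp.base hs.torus hs.norm (hs.torus.Z_le hD.chyp.t_mem)
  mem := by
    intro x
    rw [mem_inB, MonoidHom.mem_ker, MonoidHom.mem_ker, hD.mem_Z, map_mul, hG.map_t]
    have hzz : z * z = 1 := by rw [← hG.map_t, ← map_mul, hG.tt, map_one]
    constructor
    · rintro (h1 | h1)
      · exact Or.inl h1
      · exact Or.inr (by rw [h1, hzz])
    · rintro (h1 | h1)
      · exact Or.inl h1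
      · right
        rw [← inv_eq_of_mul_eq_one_left hzz]
        exact eq_inv_of_mul_eq_one_right h1
  frob := frob hD.chyp.base hs hG.surj hq
  index := ker_index hD hG
  KL := by
    intro x hx
    rw [MonoidHom.mem_ker, MonoidHom.comp_apply, MonoidHom.mem_ker.1 hx, map_one]
  gen := by
    intro M hM hX
    have hb := hD.chyp.base
    have hB : hb.ZU ≤ N U := by
      intro x hx
      obtain ⟨ζ, hζ, v, hv, rfl⟩ := hb.mem_ZU.1 hx
      exact mul_mem (T₁_le_N hb hs.torus hs.norm (hs.torus.Z_le hζ)) (U_le_N hv)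
    have hXM : ∀ x : Γ, π x ∈ hb.ZU → x ∈ M := fun x hx => hX ⟨x, hB hx⟩ hx
    have hMn : (M.map π).Normal := hM.map π hG.surj
    have hZ : Z ≤ M.map π := by
      intro x hx
      obtain ⟨y, rfl⟩ := hG.surj x
      refine ⟨y, hXM y ?_, rfl⟩
      have := hb.mul_mem_ZU hx (one_mem U)
      rwa [mul_one] at this
    have hU : U ≤ M.map π := by
      intro x hx
      obtain ⟨y, rfl⟩ := hG.surj x
      refine ⟨y, hXM y ?_, rfl⟩
      have := hb.mul_mem_ZU (one_mem Z) hx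
      rwa [one_mul] at this
    have h1 := hD.ker_le hMn hZ hU
    intro x hx
    obtain ⟨y, hy, hxy⟩ := h1 (show π x ∈ b.ker from hx)
    have h2 : y⁻¹ * x ∈ M := by
      refine hXM _ ?_
      rw [map_mul, map_inv, hxy, inv_mul_cancel]
      exact one_mem _
    have h3 : x = y * (y⁻¹ * x) := by group
    rw [h3]
    exact mul_mem hy h2

theorem cent (hD : CData z q ε Z T T' U s s' u₀ b) (hG : GHyp π z u₀ s t u w) :
    Cent (b.comp π).ker (Wg hD.chyp π u).subtype u where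
  index := ker_index hD hG
  oddW := hG.odd_W hD.chyp
  inj := Subtype.val_injective
  sq := hG.uu
  not_mem := by
    rw [MonoidHom.mem_ker, MonoidHom.comp_apply, hG.map_u]
    exact hD.b_u_ne
  comm := fun y => y.2.2.2
  card := hG.card_cent hD

/-- The instance of `LBHyp`, explicit form. -/
theorem lbHyp_of (hD : CData z q ε Z T T' U s s' u₀ b) (hG : GHyp π z u₀ s t u w) (hq : 5 ≤ q)
    {T₁ : Subgroup C} {s₁ : C} (hs : Split q Z T₁ U s₁) (hT₁ : ε = 1 → T₁ = T) :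
    LBHyp q ε π.ker (b.comp π).ker (Bg U π) (inB U π Z) (inB U π hD.chyp.base.ZU) (inB U π T₁)
      (Wg hD.chyp π u).subtype (aW hG hD.chyp) t u w := by
  refine ⟨hD.chyp.eps, big hD hG hs hq,
    cent hD hG, ?_, hG.wu, fun y => rfl, ?_, ?_⟩
  · intro k hk hc
    exact ⟨⟨k, hG.fixK hD.chyp hk hc⟩, rfl⟩
  · intro hε
    have hT := hT₁ hε
    subst hT
    have hle := T₁_le_N hD.chyp.base hs.torus hs.norm
    refine ⟨?_, ?_, fun y => ⟨hle y.2.1, y.2.1⟩⟩
    · rw [Subgroup.mem_comap, hG.map_u]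
      exact hle hD.chyp.u_mem
    · rw [mem_inB]
      show π u ∈ T₁
      rw [hG.map_u]
      exact hD.chyp.u_mem
  · intro H hK ht hu hW hH
    have h1 : (H.map π).index = H.index := by
      have h2 := Subgroup.index_comap_of_surjective (H.map π) hG.surj
      rw [Subgroup.comap_map_eq_self hK] at h2
      exact h2.symm
    have h2 : T ≤ H.map π := by
      intro x hx
      obtain ⟨v, y, hv, hy, hyo, rfl⟩ := hD.decomp hx
      have hyH : y ∈ H.map π := by
        obtain ⟨g, rfl⟩ := hG.surj y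
        have hcu : π g * u₀ = u₀ * π g := hD.chyp.T_comm _ hy _ hD.chyp.u_mem
        obtain ⟨k, hk, hku⟩ := exists_conj_of_map hG.oddK (x := g * u * g⁻¹) (y := u)
          (by
            calc g * u * g⁻¹ * (g * u * g⁻¹) = g * (u * u) * g⁻¹ := by group
              _ = 1 := by rw [hG.uu]; group) hG.uu
          (by rw [map_mul, map_mul, map_inv, hG.map_u, hcu]; group)
        have h3 : π (k * g) = π g := by rw [map_mul, MonoidHom.mem_ker.1 hk, one_mul]
        have h4 : k * g ∈ Wg hD.chyp π u := by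
          refine ⟨by rw [h3]; exact hy, by rw [h3]; exact hyo, ?_⟩
          show u * (k * g) = k * g * u
          calc u * (k * g) = (k * (g * u * g⁻¹) * k⁻¹) * (k * g) := by rw [hku]
            _ = k * g * u := by group
        exact ⟨k * g, hW ⟨_, h4⟩, h3⟩
      refine mul_mem ?_ hyH
      have hz : z ∈ H.map π := ⟨t, ht, hG.map_t⟩
      have hu' : u₀ ∈ H.map π := ⟨u, hu, hG.map_u⟩
      rcases hv with rfl | rfl | rfl | rfl
      · exact one_mem _
      · exact hz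
      · exact hu'
      · exact mul_mem hz hu'
    have h3 : H.map π ≠ ⊤ := by
      intro h4
      apply hH
      rw [← Subgroup.comap_map_eq_self hK, h4, Subgroup.comap_top]
    rw [← h1]
    exact hD.index hq h2 h3

/-- **The instance of `LBHyp`.** -/
theorem lbHyp (hD : CData z q ε Z T T' U s s' u₀ b) (hG : GHyp π z u₀ s t u w) (hq : 5 ≤ q) :
    ∃ (B : Subgroup Γ) (K₁ X T₁ : Subgroup B), LBHyp q ε π.ker (b.comp π).ker B K₁ X T₁
      (Wg hD.chyp π u).subtype (aW hG hD.chyp) t u w := by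
  obtain ⟨T₁, s₁, hs, hT₁⟩ := hD.exists_split
  exact ⟨_, _, _, _, lbHyp_of hD hG hq hs hT₁⟩

end Main

end Cfsg.Agent.Classification.QDW.InstGamma
end

-- part: Classification/QDW/WrAssembly
section
prune_inst 0x402002000000000000010000000000000000000000400400048004000002100000000001000008010000000000000000000000000000000000000000000000000000100000400000000000000000400000000000000000000000000000041000000000000
set_option linter.all false
open scoped Cfsg.Agent.FastGrp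

-- part: Classification/QDW/WrInstB
section
/-!
# The wreathed case inside the centralizer of an involution: the Borel subgroups, indices

Continuation of `WrInst`. `K1 = π⁻¹(Z)`, `B₀ = π⁻¹(N(U))`, `B₁ = w B₀ w⁻¹`, `W = Wg hC π u'` (the
elements of odd order of `M = C(u')`).
-/

set_option autoImplicit false
set_option linter.unusedSectionVars false

namespace Cfsg.Agent.Classification.QDW.WrInst

open Cfsg Cfsg.Agent.Classification.InvCent Cfsg.Agent.Classification.QDW.WrDefs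
open Cfsg.Agent.Classification.QDW.LineC Cfsg.Agent.Classification.QDW.WrLine
open Cfsg.Agent.Classification.QDW.InstC Cfsg.Agent.Classification.QDW.InstGamma
open Cfsg.Agent.Classification.QDW.FrobLift

universe v w

/-- The torus acts on the root group (`T` for `ε = 1`, `T'` for `ε = -1`). -/
structure Norm {C : Type w} [Group C] (ε : ℤ) (T T' U : Subgroup C) : Prop where
  pos : ε = 1 → ∀ τ ∈ T, ∀ v ∈ U, τ * v * τ⁻¹ ∈ U
  neg : ε = -1 → ∀ τ ∈ T', ∀ v ∈ U, τ * v * τ⁻¹ ∈ U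

section Base

variable {C : Type w} [Group C] [Finite C] {z : C} {q : ℕ} {ε : ℤ} {Z T T' U : Subgroup C}
  {s s' u : C} {r : ℕ} {b : C →* ℂˣ}

theorem three_le (hC : CHyp z q ε Z T T' U s s' u) : 3 ≤ q := by
  have h1 := hC.one_lt_q
  obtain ⟨k, hk⟩ := hC.odd_q
  omega

theorem exists_split (hC : CHyp z q ε Z T T' U s s' u) (hD : DetHyp q ε T T' U s s' u r b)
    (hN : Norm ε T T' U) :
    ∃ (T₁ : Subgroup C) (s₁ : C), Split q Z T₁ U s₁ ∧ (ε = 1 → T₁ = T ∧ s₁ = s) ∧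
      ∃ x ∈ T₁, orderOf (b x) = r := by
  rcases hC.eps with h1 | h1
  · subst h1
    exact ⟨T, s, ⟨hC.torus, hN.pos rfl, gen_split hC.base hC.torus (hN.pos rfl)⟩,
      fun _ => ⟨rfl, rfl⟩, hD.exists_T⟩
  · subst h1
    have h' : Torus q 1 Z T' s' := by
      have := hC.torus'
      rwa [neg_neg] at this
    exact ⟨T', s', ⟨h', hN.neg rfl, gen_split hC.base h' (hN.neg rfl)⟩,
      fun h2 => by norm_num at h2, hD.exists_T'⟩

theorem r_pos (hD : DetHyp q ε T T' U s s' u r b) : 0 < r := by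
  obtain ⟨m, -, hm⟩ := hD.r_pow
  rw [hm]; positivity

theorem ne_one_of_orderOf (hD : DetHyp q ε T T' U s s' u r b) {c : C} (h : orderOf (b c) = r) :
    b c ^ (r / 2) ≠ 1 := by
  intro h1
  have h2 := orderOf_dvd_of_pow_eq_one h1
  rw [h] at h2
  have h3 := half hD
  have h4 := r_pos hD
  have h5 := Nat.le_of_dvd (by omega) h2
  omega

/-- The quadratic character is trivial on `Z`. -/
theorem b_Z (hC : CHyp z q ε Z T T' U s s' u) (hD : DetHyp q ε T T' U s s' u r b) {x : C}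
    (hx : x ∈ Z) : b x ^ (r / 2) = 1 := by
  classical
  let _ : CommGroup T :=
    { (inferInstance : Group T) with mul_comm := fun a b => Subtype.ext (hC.T_comm a a.2 b b.2) }
  let ν : T →* T := (MonoidHom.id T) * (LinChar.sg hC.torus)
  have hker : (Nat.card ν.ker : ℤ) = q - ε := by
    rw [← WrChar.card_norm hC]
    rfl
  have h1 : ν.range ≤ Z.subgroupOf T := by
    rintro _ ⟨y, rfl⟩
    rw [Subgroup.mem_subgroupOf]
    exact hC.s_norm y y.2
  have h2 : Nat.card (Z.subgroupOf T) = Nat.card Z :=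
    Nat.card_congr (Subgroup.subgroupOfEquivOfLe hC.Z_le_T).toEquiv
  have h3 : Nat.card ν.range = Nat.card (Z.subgroupOf T) := by
    have h4 : Nat.card ν.range * Nat.card ν.ker = Nat.card T := by
      have h5 := ν.ker.card_mul_index
      rw [Subgroup.index_ker] at h5
      rw [mul_comm]
      exact h5
    have h5 : ((Nat.card ν.range * Nat.card ν.ker : ℕ) : ℤ) = Nat.card Z * (q - ε) := by
      rw [h4, hC.card_T]
    rw [Nat.cast_mul, hker] at h5
    have h6 : ((q : ℤ) - ε) ≠ 0 := by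
      have := hC.one_lt_q
      rcases hC.eps with h | h <;> omega
    rw [h2]
    exact_mod_cast mul_right_cancel₀ h6 h5
  have h4 : ν.range = Z.subgroupOf T := Subgroup.eq_of_le_of_card_ge h1 h3.ge
  have h5 : (⟨x, hC.Z_le_T hx⟩ : T) ∈ ν.range := by
    rw [h4, Subgroup.mem_subgroupOf]
    exact hx
  obtain ⟨y, hy⟩ := h5
  have h6 : x = (y : C) * (s * y * s⁻¹) := (congrArg Subtype.val hy).symm
  rw [h6, map_mul, map_mul, map_mul, map_inv]
  have h7 : b (y : C) * (b s * b (y : C) * (b s)⁻¹) = b (y : C) * b (y : C) := by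
    rw [mul_comm (b s), mul_inv_cancel_right]
  rw [h7, mul_pow, b_sq hD]

/-- A normal subgroup containing `Z` and `U` contains the kernel of the quadratic character. -/
theorem ker_le (hC : CHyp z q ε Z T T' U s s' u) (hD : DetHyp q ε T T' U s s' u r b)
    (hN : Norm ε T T' U) {M : Subgroup C} (hM : M.Normal)
    (hZ : Z ≤ M) (hU : U ≤ M) : (b ^ (r / 2)).ker ≤ M := by
  obtain ⟨T₁, s₁, hs, -, x₀, hx₀, hx₀r⟩ := exists_split hC hD hN
  have hb := hC.base
  have h3 := three_le hC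
  have hδU : ∀ v ∈ U, (b ^ (r / 2)) v = 1 := fun v hv => by
    rw [MonoidHom.pow_apply, hD.b_U v hv, one_pow]
  have hδZ : ∀ v ∈ Z, (b ^ (r / 2)) v = 1 := fun v hv => by
    rw [MonoidHom.pow_apply, b_Z hC hD hv]
  have hNn : (M ⊓ (b ^ (r / 2)).ker).Normal := inferInstance
  have hZN : Z ≤ M ⊓ (b ^ (r / 2)).ker := le_inf hZ fun x hx => by
    rw [MonoidHom.mem_ker]; exact hδZ x hx
  have hUN : U ≤ M ⊓ (b ^ (r / 2)).ker := le_inf hU fun x hx => by
    rw [MonoidHom.mem_ker]; exact hδU x hx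
  obtain ⟨g, hg, hgen⟩ := hs.gen
  have hgg : g * g ∈ M ⊓ (b ^ (r / 2)).ker :=
    sq_mem hb hs.torus hs.norm h3 hNn hUN le_rfl hZN hg
  have hev : ∀ j : ℤ, g ^ (j + j) ∈ M ⊓ (b ^ (r / 2)).ker := by
    intro j
    rw [zpow_add, ← (Commute.refl g).mul_zpow]
    exact zpow_mem hgg j
  intro x hx
  obtain ⟨l, hl, τ, hτ, he⟩ := exists_of_normal hb hs.torus hs.norm h3 hNn hUN x
  have hτk : (b ^ (r / 2)) τ = 1 := by
    have h1 : τ = l⁻¹ * x := by rw [he]; group
    rw [h1, map_mul, map_inv, MonoidHom.mem_ker.1 hl.2, MonoidHom.mem_ker.1 hx, inv_one, one_mul]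
  obtain ⟨k, ζ, hζ, hk⟩ := hgen τ hτ
  rcases Int.even_or_odd k with ⟨j, hj⟩ | ⟨j, hj⟩
  · have h1 : τ ∈ M ⊓ (b ^ (r / 2)).ker := by
      rw [hk, hj]
      exact mul_mem (hev j) (hZN hζ)
    rw [he]
    exact (mul_mem hl h1).1
  · exfalso
    have h1 : (b ^ (r / 2)) g = 1 := by
      have h2 : g = (g ^ (j + j))⁻¹ * τ * ζ⁻¹ := by
        rw [hk, hj, show 2 * j + 1 = (j + j) + 1 by ring, zpow_add_one]; group
      rw [h2, map_mul, map_mul, map_inv, map_inv, MonoidHom.mem_ker.1 (hev j).2, hτk, hδZ ζ hζ]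
      simp
    obtain ⟨k', ζ', hζ', hk'⟩ := hgen x₀ hx₀
    refine ne_one_of_orderOf hD hx₀r ?_
    have h5 : (b ^ (r / 2)) x₀ = 1 := by
      rw [hk', map_mul, map_zpow, h1, one_zpow, one_mul, hδZ ζ' hζ']
    exact h5

end Base

section Main

variable {A : Type v} [Group A] {C : Type w} [Group C] [Finite C] {π : A →* C} {τ : A} {z : C}
  {q : ℕ} {ε : ℤ} {Z T T' U : Subgroup C} {s s' u : C} {r : ℕ} {b : C →* ℂˣ} {u' w : A}

theorem gHyp (ho : Over π τ z) (hp : Pair π τ s u u' w) : GHyp π z u s τ u' w where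
  surj := ho.surj
  oddK := ho.odd
  tt := ho.sq
  t_comm x := (ho.central x).symm
  map_t := ho.map
  uu := hp.sq
  map_u := hp.map_u
  wu := hp.conj
  map_w := hp.map_w

/-- The index of `π⁻¹(Z)` in `M`. -/
theorem relIndex_Z (ho : Over π τ z) (hC : CHyp z q ε Z T T' U s s' u)
    (hp : Pair π τ s u u' w) :
    ((Z.comap π).relIndex (Subgroup.centralizer ({u'} : Set A)) : ℤ) = q - ε := by
  rw [Subgroup.relIndex_comap, map_M ho hC hp]
  have h1 : Z.relIndex T * Nat.card Z = Nat.card T := by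
    have h4 := (Z.subgroupOf T).index_mul_card
    rw [Nat.card_congr (Subgroup.subgroupOfEquivOfLe hC.Z_le_T).toEquiv] at h4
    exact h4
  have h2 : ((Z.relIndex T * Nat.card Z : ℕ) : ℤ) = Nat.card Z * (q - ε) := by
    rw [h1, hC.card_T]
  have h3 : (Nat.card Z : ℤ) ≠ 0 := by exact_mod_cast Nat.card_pos.ne'
  rw [Nat.cast_mul, mul_comm] at h2
  exact mul_left_cancel₀ h3 h2

/-- `W` is the set of elements of odd order of `M`. -/
theorem mem_W (ho : Over π τ z) (hC : CHyp z q ε Z T T' U s s' u) (hp : Pair π τ s u u' w)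
    {x : A} : x ∈ Wg hC π u' ↔
      x ∈ Subgroup.centralizer ({u'} : Set A) ∧ Odd (orderOf x) := by
  rw [mem_Wg, mem_cent]
  constructor
  · rintro ⟨-, h2, h3⟩
    refine ⟨h3.symm, ?_⟩
    have h4 : π (x ^ orderOf (π x)) = 1 := by rw [map_pow, pow_orderOf_eq_one]
    have h5 := pow_card_ker π h4
    rw [← pow_mul] at h5
    exact (h2.mul ho.odd).of_dvd_nat (orderOf_dvd_of_pow_eq_one h5)
  · rintro ⟨h1, h2⟩
    refine ⟨map_mem ho hC hp h1, ?_, h1.symm⟩
    exact h2.of_dvd_nat (orderOf_map_dvd π x)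

theorem W_le (ho : Over π τ z) (hC : CHyp z q ε Z T T' U s s' u) (hp : Pair π τ s u u' w) :
    Wg hC π u' ≤ Subgroup.centralizer ({u'} : Set A) := fun _ hx => ((mem_W ho hC hp).1 hx).1

theorem W_odd [Finite A] (ho : Over π τ z) (hC : CHyp z q ε Z T T' U s s' u)
    (hp : Pair π τ s u u' w) : Odd (Nat.card (Wg hC π u')) := (gHyp ho hp).odd_W hC

theorem KM_le (hC : CHyp z q ε Z T T' U s s' u) :
    π.ker ⊓ Subgroup.centralizer ({u'} : Set A) ≤ Wg hC π u' := by
  intro x hx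
  have h1 : π x = 1 := hx.1
  rw [mem_Wg, h1]
  exact ⟨one_mem T, by rw [orderOf_one]; exact odd_one, (mem_cent.1 hx.2).symm⟩

theorem comm_W (ho : Over π τ z) (hC : CHyp z q ε Z T T' U s s' u) (hp : Pair π τ s u u' w)
    {x y : A} (hx : x ∈ Subgroup.centralizer ({u'} : Set A))
    (hy : y ∈ Subgroup.centralizer ({u'} : Set A)) : x * y * x⁻¹ * y⁻¹ ∈ Wg hC π u' := by
  refine KM_le hC (Subgroup.mem_inf.2
    ⟨?_, mul_mem (mul_mem (mul_mem hx hy) (inv_mem hx)) (inv_mem hy)⟩)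
  have h1 := hC.T_comm _ (map_mem ho hC hp (mem_cent.1 hx)) _ (map_mem ho hC hp (mem_cent.1 hy))
  rw [MonoidHom.mem_ker, map_mul, map_mul, map_mul, map_inv, map_inv, h1]
  group

theorem conj_W (ho : Over π τ z) (hC : CHyp z q ε Z T T' U s s' u) (hp : Pair π τ s u u' w)
    {y : A} (hy : y ∈ Wg hC π u') : w⁻¹ * y * w ∈ Wg hC π u' := (gHyp ho hp).conj_mem' hC hy

/-- If the centre of `C` is a `2`-group, `W ∩ π⁻¹(Z) ≤ K`. -/
theorem W_K1 (hC : CHyp z q ε Z T T' U s s' u) (hD : DetHyp q ε T T' U s s' u r b)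
    (hZ : Nat.card Z = r) {y : A} (hy : y ∈ Wg hC π u') (hy1 : π y ∈ Z) : y ∈ π.ker := by
  rw [MonoidHom.mem_ker, ← orderOf_eq_one_iff]
  have h1 : orderOf (π y) ∣ Nat.card Z := by
    rw [← Subgroup.orderOf_mk (H := Z) (π y) hy1]
    exact orderOf_dvd_natCard _
  obtain ⟨m, -, hm⟩ := hD.r_pow
  rw [hZ, hm] at h1
  obtain ⟨k, -, hk⟩ := (Nat.dvd_prime_pow Nat.prime_two).1 h1
  have h2 := ((mem_Wg).1 hy).2.1
  rw [hk] at h2 ⊢
  cases k with
  | zero => rfl
  | succ k =>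
    exfalso
    rw [pow_succ] at h2
    exact (Nat.not_odd_iff_even.2 (even_two.mul_left _)) h2

/-- `K ⊔ M = π⁻¹(T)`. -/
theorem sup_eq (ho : Over π τ z) (hC : CHyp z q ε Z T T' U s s' u) (hp : Pair π τ s u u' w) :
    π.ker ⊔ Subgroup.centralizer ({u'} : Set A) = T.comap π := by
  rw [← map_M ho hC hp, Subgroup.comap_map_eq, sup_comm]

theorem idx_neg [Finite A] (ho : Over π τ z) (hC : CHyp z q ε Z T T' U s s' u)
    (hD : DetHyp q ε T T' U s s' u r b) (h4 : 4 ∣ r) (hN : Norm ε T T' U)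
    (hp : Pair π τ s u u' w) (hε : ε = -1) {H : Subgroup A}
    (hH : π.ker ⊔ Subgroup.centralizer ({u'} : Set A) ≤ H) (hH1 : H ≠ ⊤) : q ≤ H.index := by
  subst hε
  refine pull_eps_neg hC hD (hN.neg rfl) ?_ ho.surj (map_M ho hC hp) (le_sup_left.trans hH)
    (le_sup_right.trans hH) hH1
  rintro rfl
  obtain ⟨k, -, hk⟩ := hD.r_dvd
  obtain ⟨c, rfl⟩ := h4
  push_cast at hk
  have h5 : (6 : ℤ) = 4 * (c * k) := by linear_combination hk
  omega

/-- The Borel subgroup. -/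
abbrev B₀ (π : A →* C) (U : Subgroup C) : Subgroup A := (N U).comap π

/-- The opposite Borel subgroup. -/
abbrev B₁ (π : A →* C) (U : Subgroup C) (w : A) : Subgroup A := cj w ((N U).comap π)

theorem idx_pos [Finite A] (ho : Over π τ z) (hC : CHyp z q ε Z T T' U s s' u)
    (hD : DetHyp q ε T T' U s s' u r b) (hN : Norm ε T T' U)
    (hp : Pair π τ s u u' w) (hε : ε = 1) {H : Subgroup A}
    (hH : π.ker ⊔ Subgroup.centralizer ({u'} : Set A) ≤ H) (hH1 : H ≠ ⊤) :
    (q + 1 ≤ H.index ∧ (H.index = q + 1 → H = B₀ π U ∨ H = B₁ π U w)) ∨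
      (q ≤ H.index ∧ w ∈ H) := by
  subst hε
  have hwr := wrHyp ho hC hD hp
  rcases pull_eps_one hC.base hC.torus (hN.pos rfl) (three_le hC) ho.surj (map_M ho hC hp)
    (fun x hx => hwr.conj_mem' x hx) hwr.w_notMem (le_sup_left.trans hH)
    (le_sup_right.trans hH) hH1 with ⟨-, h2, h3⟩ | ⟨-, h2, h3⟩ | h2
  · exact Or.inl ⟨h2, fun h => Or.inl (h3 h)⟩
  · exact Or.inl ⟨h2, fun h => Or.inr (h3 h)⟩
  · exact Or.inr h2

theorem w_sq (ho : Over π τ z) (hC : CHyp z q ε Z T T' U s s' u) (hp : Pair π τ s u u' w) :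
    π (w * w) = 1 := by
  rw [map_mul, hp.map_w, hC.s_sq]

theorem h01 (ho : Over π τ z) (hC : CHyp z q ε Z T T' U s s' u) (hp : Pair π τ s u u' w)
    {g : A} (hg : g ∈ B₁ π U w) : w⁻¹ * g * w ∈ B₀ π U := mem_cj.1 hg

theorem h10 (ho : Over π τ z) (hC : CHyp z q ε Z T T' U s s' u) (hp : Pair π τ s u u' w)
    {g : A} (hg : g ∈ B₀ π U) : w⁻¹ * g * w ∈ B₁ π U w := by
  rw [mem_cj, Subgroup.mem_comap]
  have h1 : w⁻¹ * (w⁻¹ * g * w) * w = (w * w)⁻¹ * g * (w * w) := by group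
  rw [h1, map_mul, map_mul, map_inv, w_sq ho hC hp, inv_one, one_mul, mul_one]
  exact hg

/-- A noncentral element of `T` fixes two points of the line. -/
theorem fix_C (hb : Base q Z U) (h₁ : Torus q 1 Z T s)
    (hn : ∀ τ ∈ T, ∀ v ∈ U, τ * v * τ⁻¹ ∈ U) (hq : 3 ≤ q) {y : C} (hy : y ∈ T) (hyZ : y ∉ Z)
    {g : C} (hg : g⁻¹ * y * g ∈ N U) : g ∈ N U ∨ s⁻¹ * g ∈ N U := by
  by_contra hcon
  push Not at hcon
  have h1 : y • (((g : C) : C ⧸ N U)) = ((g : C) : C ⧸ N U) := by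
    change ((y * g : C) : C ⧸ N U) = ((g : C) : C ⧸ N U)
    rw [QuotientGroup.eq]
    have h2 : (y * g)⁻¹ * g = (g⁻¹ * y * g)⁻¹ := by group
    rw [h2]
    exact inv_mem hg
  refine hyZ (mem_Z_of_fix hb h₁ hn hy (x := ((g : C) : C ⧸ N U)) hq ?_ ?_ h1)
  · intro h2
    have h3 := QuotientGroup.eq.1 h2
    rw [mul_one] at h3
    exact hcon.1 (by simpa using inv_mem h3)
  · intro h2
    have h3 := QuotientGroup.eq.1 h2
    have h4 := inv_mem h3
    rw [mul_inv_rev, inv_inv] at h4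
    exact hcon.2 h4

theorem fix₀ (ho : Over π τ z) (hC : CHyp z q ε Z T T' U s s' u)
    (hN : Norm ε T T' U) (hp : Pair π τ s u u' w) (hε : ε = 1) {y : A}
    (hy : y ∈ Subgroup.centralizer ({u'} : Set A)) (hyZ : π y ∉ Z) {g : A}
    (hg : g⁻¹ * y * g ∈ B₀ π U) : g ∈ B₀ π U ∨ w⁻¹ * g ∈ B₀ π U := by
  subst hε
  have h1 := fix_C hC.base hC.torus (hN.pos rfl) (three_le hC)
    (map_mem ho hC hp (mem_cent.1 hy)) hyZ (g := π g) (by
      have : π (g⁻¹ * y * g) ∈ N U := hg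
      rwa [map_mul, map_mul, map_inv] at this)
  refine h1.imp id fun h2 => ?_
  rw [Subgroup.mem_comap, map_mul, map_inv, hp.map_w]
  exact h2

theorem fix₁ (ho : Over π τ z) (hC : CHyp z q ε Z T T' U s s' u)
    (hN : Norm ε T T' U) (hp : Pair π τ s u u' w) (hε : ε = 1) {y : A}
    (hy : y ∈ Subgroup.centralizer ({u'} : Set A)) (hyZ : π y ∉ Z) {g : A}
    (hg : g⁻¹ * y * g ∈ B₁ π U w) : g ∈ B₁ π U w ∨ w⁻¹ * g ∈ B₁ π U w := by
  rw [mem_cj] at hg
  have h1 : w⁻¹ * (g⁻¹ * y * g) * w = (g * w)⁻¹ * y * (g * w) := by group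
  rw [h1] at hg
  rcases fix₀ ho hC hN hp hε hy hyZ hg with h2 | h2
  · right
    rw [mem_cj, Subgroup.mem_comap]
    have h3 : w⁻¹ * (w⁻¹ * g) * w = (w * w)⁻¹ * (g * w) := by group
    rw [h3, map_mul, map_inv, w_sq ho hC hp, inv_one, one_mul]
    exact h2
  · left
    rw [mem_cj]
    have h3 : w⁻¹ * g * w = w⁻¹ * (g * w) := by group
    rw [h3]
    exact h2

theorem w_notMem_B₀ (ho : Over π τ z) (hC : CHyp z q ε Z T T' U s s' u)
    (hN : Norm ε T T' U) (hp : Pair π τ s u u' w) (hε : ε = 1) : w ∉ B₀ π U := by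
  subst hε
  intro h1
  have h2 : π w ∈ N U := h1
  rw [hp.map_w] at h2
  exact s₁_notMem hC.base hC.torus (hN.pos rfl) (three_le hC) h2

theorem index_B₀ (ho : Over π τ z) (hC : CHyp z q ε Z T T' U s s' u)
    (hN : Norm ε T T' U) (hε : ε = 1) : (B₀ π U).index = q + 1 := by
  subst hε
  rw [Subgroup.index_comap_of_surjective _ ho.surj]
  exact index_N hC.base hC.torus (hN.pos rfl)

theorem gen [Finite A] (ho : Over π τ z) (hC : CHyp z q ε Z T T' U s s' u)
    (hD : DetHyp q ε T T' U s s' u r b) (hN : Norm ε T T' U)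
    (hp : Pair π τ s u u' w) (hε : ε = 1) : B₀ π U ⊔ B₁ π U w = ⊤ := by
  have hw0 := w_notMem_B₀ ho hC hN hp hε
  have hi0 := index_B₀ ho hC hN hε
  by_contra hcon
  have hle : π.ker ⊔ Subgroup.centralizer ({u'} : Set A) ≤ B₀ π U ⊔ B₁ π U w := by
    rw [sup_eq ho hC hp]
    refine le_trans ?_ le_sup_left
    exact Subgroup.comap_mono (by
      subst hε
      exact T₁_le_N hC.base hC.torus (hN.pos rfl))
  have hdvd : (B₀ π U ⊔ B₁ π U w).index ∣ q + 1 := by
    rw [← hi0]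
    exact Subgroup.index_dvd_of_le le_sup_left
  have key : (B₀ π U ⊔ B₁ π U w).index = q + 1 → False := by
    intro h1
    have h2 : B₀ π U = B₀ π U ⊔ B₁ π U w := by
      refine Subgroup.eq_of_le_of_card_ge le_sup_left ?_
      have h3 := (B₀ π U).card_mul_index
      have h4 := (B₀ π U ⊔ B₁ π U w).card_mul_index
      rw [hi0] at h3
      rw [h1, ← h3] at h4
      exact (Nat.eq_of_mul_eq_mul_right (by omega) h4).le
    have h3 : B₁ π U w ≤ B₀ π U := by
      rw [h2]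
      exact le_sup_right
    -- `w` normalises `B₀`, so it fixes infinity
    obtain ⟨v, hv, hv1⟩ := hC.base.exists_ne_one
    obtain ⟨a, ha⟩ := ho.surj v
    have h4 : w * a * w⁻¹ ∈ B₁ π U w := by
      rw [mem_cj]
      have h5 : w⁻¹ * (w * a * w⁻¹) * w = a := by group
      rw [h5, Subgroup.mem_comap, ha]
      exact U_le_N hv
    have h5 : π (w * a * w⁻¹) ∈ N U := h3 h4
    rw [map_mul, map_mul, map_inv, ha, hp.map_w] at h5
    subst hε
    have h6 : s * v * s⁻¹ ∈ U := mem_U_of_pow hC.base hC.torus (hN.pos rfl) h5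
      (conj_pow_q hC.base hv s)
    exact s₁_notMem hC.base hC.torus (hN.pos rfl) (three_le hC) (ti hC.base hv hv1 h6)
  rcases idx_pos ho hC hD hN hp hε hle hcon with ⟨h1, -⟩ | ⟨h1, -⟩
  · exact key (le_antisymm (Nat.le_of_dvd (by omega) hdvd) h1)
  · refine key (le_antisymm (Nat.le_of_dvd (by omega) hdvd) ?_)
    rcases Nat.lt_or_ge q (B₀ π U ⊔ B₁ π U w).index with h2 | h2
    · exact h2
    · exfalso
      have h3 : (B₀ π U ⊔ B₁ π U w).index = q := le_antisymm h2 h1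
      rw [h3] at hdvd
      have h4 : q ∣ 1 := (Nat.dvd_add_right (dvd_refl q)).1 hdvd
      have h5 := three_le hC
      have h6 := Nat.le_of_dvd one_pos h4
      omega

end Main

end Cfsg.Agent.Classification.QDW.WrInst
end

-- part: Classification/QDW/WrExt
section
/-!
# Extensions of an invariant character by a central cyclic 2-group

* `sum_ne_zero`: an odd number of roots of unity of 2-power order does not have sum zero;
* `apply_ne_zero`: a character of odd degree does not vanish on 2-elements;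
* `inv_of_over`: `K` an odd normal subgroup of `C`, `z` a 2-element central modulo `K`; a character
  of `K ⟨z⟩` whose restriction to `K` is irreducible and `C`-invariant is `C`-invariant.
-/

set_option autoImplicit false
set_option linter.unusedSectionVars false

namespace Cfsg.Agent.Classification.QDW.WrExt

open Cfsg Cfsg.Agent.Characters
open scoped ComplexConjugate

universe u

section Roots

theorem sum_ne_zero {m : ℕ} {s : Multiset ℂ} (hs : ∀ z ∈ s, z ^ 2 ^ m = 1)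
    (hodd : Odd (Multiset.card s)) : s.sum ≠ 0 := by
  classical
  intro h0
  rcases m with _ | m
  · have h1 : s = Multiset.replicate (Multiset.card s) 1 :=
      Multiset.eq_replicate.2 ⟨rfl, fun z hz => by simpa using hs z hz⟩
    rw [h1, Multiset.sum_replicate, nsmul_eq_mul, mul_one, Nat.cast_eq_zero] at h0
    rw [h0] at hodd
    exact absurd hodd (by decide)
  have hpos : 0 < 2 ^ (m + 1) := by positivity
  have hprim := Complex.isPrimitiveRoot_exp (2 ^ (m + 1)) hpos.ne'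
  set ζ := Complex.exp (2 * Real.pi * Complex.I / (2 ^ (m + 1) : ℕ)) with hζ
  have hex : ∀ z : ℂ, ∃ a : ℕ, z ^ 2 ^ (m + 1) = 1 → ζ ^ a = z := by
    intro z
    by_cases hz : z ^ 2 ^ (m + 1) = 1
    · obtain ⟨a, -, ha⟩ := hprim.eq_pow_of_pow_eq_one hz
      exact ⟨a, fun _ => ha⟩
    · exact ⟨0, fun h => absurd h hz⟩
  choose a ha using hex
  set f : Polynomial ℤ := (s.map fun z => (Polynomial.X : Polynomial ℤ) ^ a z).sum with hf
  have h1 : Polynomial.aeval ζ f = 0 := by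
    rw [hf, map_multiset_sum, Multiset.map_map, ← h0]
    congr 1
    conv_rhs => rw [← Multiset.map_id s]
    refine Multiset.map_congr rfl fun z hz => ?_
    simp only [Function.comp_apply, map_pow, Polynomial.aeval_X, id_eq]
    exact ha z (hs z hz)
  have h2 := minpoly.isIntegrallyClosed_dvd (R := ℤ) (hprim.isIntegral hpos) h1
  rw [← Polynomial.cyclotomic_eq_minpoly hprim hpos] at h2
  obtain ⟨g, hg⟩ := h2
  have h3 := congrArg (Polynomial.eval 1) hg
  rw [Polynomial.eval_mul, Polynomial.eval_one_cyclotomic_prime_pow] at h3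
  have h4 : Polynomial.eval 1 f = (Multiset.card s : ℤ) := by
    rw [hf, ← Polynomial.coe_evalRingHom, map_multiset_sum, Multiset.map_map]
    have : (s.map (⇑(Polynomial.evalRingHom (1 : ℤ)) ∘
        fun z => (Polynomial.X : Polynomial ℤ) ^ a z)) = s.map fun _ => (1 : ℤ) := by
      refine Multiset.map_congr rfl fun z _ => ?_
      simp
    rw [this, Multiset.map_const', Multiset.sum_replicate, nsmul_eq_mul, mul_one]
  rw [h4] at h3
  obtain ⟨k, hk⟩ := hodd
  rw [hk] at h3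
  push_cast at h3
  omega

theorem apply_ne_zero {G : Type u} [Group G] {χ : G → ℂ} (hχ : IsCharacter G χ) {n : ℕ}
    (hn : χ 1 = n) (hodd : Odd n) {g : G} {m : ℕ} (hg : g ^ 2 ^ m = 1) : χ g ≠ 0 := by
  obtain ⟨N, ρ, rfl⟩ := hχ
  rw [Values.character_eq_sum_roots]
  refine sum_ne_zero (m := m) (fun z hz => ?_) ?_
  · exact Values.pow_eq_one_of_mem_roots (by rw [← map_pow, hg, map_one]) hz
  · rw [Values.card_roots_charpoly]
    rw [Representation.char_one] at hn
    have : Module.finrank ℂ (Fin N → ℂ) = n := by exact_mod_cast hn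
    rwa [this]

theorem odd_degree {G : Type u} [Group G] [Finite G] (hG : Odd (Nat.card G)) {χ : G → ℂ}
    (hχ : IsIrrCharacter G χ) : ∃ n : ℕ, χ 1 = n ∧ Odd n := by
  obtain ⟨N, ρ, hρ, rfl⟩ := hχ
  refine ⟨Module.finrank ℂ (Fin N → ℂ), Representation.char_one ρ, ?_⟩
  have h1 := DegreeBounds.finrank_dvd_card ρ
  exact Odd.of_dvd_nat hG h1

end Roots

section Inv

variable {C : Type u} [Group C]

/-- `K` is an odd normal subgroup of `C`, `z` a 2-element central modulo `K`, `K₁ = K ⟨z⟩`. -/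
structure Ext (K K₁ : Subgroup C) (z : C) (m : ℕ) : Prop where
  normal : K.Normal
  odd : Odd (Nat.card K)
  pow : z ^ 2 ^ m = 1
  comm : ∀ g : C, g * z * g⁻¹ * z⁻¹ ∈ K
  sup : K ⊔ Subgroup.zpowers z = K₁

variable {K K₁ : Subgroup C} {z : C} {m : ℕ}

theorem Ext.le (h : Ext K K₁ z m) : K ≤ K₁ := h.sup ▸ le_sup_left

theorem Ext.mem (h : Ext K K₁ z m) : z ∈ K₁ :=
  h.sup ▸ (le_sup_right : Subgroup.zpowers z ≤ _) (Subgroup.mem_zpowers z)

theorem Ext.mem_iff (h : Ext K K₁ z m) {x : C} : x ∈ K₁ ↔ ∃ k ∈ K, ∃ i : ℤ, k * z ^ i = x := by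
  have := h.normal
  rw [← h.sup, Subgroup.mem_sup_of_normal_left]
  constructor
  · rintro ⟨k, hk, y, hy, rfl⟩
    obtain ⟨i, rfl⟩ := Subgroup.mem_zpowers_iff.1 hy
    exact ⟨k, hk, i, rfl⟩
  · rintro ⟨k, hk, i, rfl⟩
    exact ⟨k, hk, z ^ i, Subgroup.zpow_mem_zpowers z i, rfl⟩

theorem Ext.comm_mem (h : Ext K K₁ z m) {x : C} (hx : x ∈ K₁) (g : C) :
    g * x * g⁻¹ * x⁻¹ ∈ K := by
  have := h.normal
  obtain ⟨k, hk, i, rfl⟩ := h.mem_iff.1 hx
  rw [← QuotientGroup.eq_one_iff]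
  have h1 : ((g : C) : C ⧸ K) * (z : C ⧸ K) = (z : C ⧸ K) * (g : C ⧸ K) := by
    have h2 := (QuotientGroup.eq_one_iff (N := K) _).2 (h.comm g)
    rw [QuotientGroup.mk_mul, QuotientGroup.mk_mul, QuotientGroup.mk_mul, QuotientGroup.mk_inv,
      QuotientGroup.mk_inv, mul_inv_eq_one, mul_inv_eq_iff_eq_mul] at h2
    exact h2
  have h3 : Commute ((g : C) : C ⧸ K) ((z : C ⧸ K) ^ i) := (show Commute _ _ from h1).zpow_right i
  have h4 : ((k : C) : C ⧸ K) = 1 := (QuotientGroup.eq_one_iff _).2 hk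
  rw [QuotientGroup.mk_mul, QuotientGroup.mk_mul, QuotientGroup.mk_mul, QuotientGroup.mk_inv,
    QuotientGroup.mk_inv, QuotientGroup.mk_mul, QuotientGroup.mk_zpow, h4, one_mul, mul_inv_eq_one,
    mul_inv_eq_iff_eq_mul]
  exact h3

theorem Ext.normal' (h : Ext K K₁ z m) : K₁.Normal := by
  constructor
  intro x hx g
  have h1 := K₁.mul_mem (h.le (h.comm_mem hx g)) hx
  rwa [inv_mul_cancel_right] at h1

theorem Ext.cyclic (h : Ext K K₁ z m) (hN : (K.subgroupOf K₁).Normal) :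
    IsCyclic (K₁ ⧸ K.subgroupOf K₁) := by
  refine ⟨⟨((⟨z, h.mem⟩ : K₁) : K₁ ⧸ K.subgroupOf K₁), ?_⟩⟩
  intro y
  induction y using QuotientGroup.induction_on with
  | H x =>
    obtain ⟨k, hk, i, hi⟩ := h.mem_iff.1 x.2
    refine Subgroup.mem_zpowers_iff.2 ⟨i, ?_⟩
    rw [← QuotientGroup.mk_zpow, QuotientGroup.eq, Subgroup.mem_subgroupOf]
    show (z ^ i)⁻¹ * (x : C) ∈ K
    rw [← hi]
    have h1 := h.normal.conj_mem k hk (z ^ i)⁻¹
    rw [inv_inv] at h1
    simpa [mul_assoc] using h1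

theorem Ext.conj_z [Finite C] (h : Ext K K₁ z m) (g : C) : ∃ k ∈ K, g * z * g⁻¹ = k * z * k⁻¹ := by
  have := h.normal
  have hker : (QuotientGroup.mk' K).ker = K := QuotientGroup.ker_mk' K
  obtain ⟨c, hc, hcz⟩ := CoreConst.exists_conj_ker (QuotientGroup.mk' K)
    (by rw [hker]; exact h.odd) z (g * z * g⁻¹) m h.pow
    (by rw [conj_pow, h.pow, mul_one, mul_inv_cancel]) (by
      show ((z : C) : C ⧸ K) = ((g * z * g⁻¹ : C) : C ⧸ K)
      rw [eq_comm, ← mul_inv_eq_one, ← QuotientGroup.mk_inv, ← QuotientGroup.mk_mul,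
        QuotientGroup.eq_one_iff]
      exact h.comm g)
  refine ⟨c, ?_, hcz.symm⟩
  rw [← hker]
  exact hc

variable [Finite C]

/-- A character of `K₁` whose restriction to `K` is irreducible and `C`-invariant is
`C`-invariant. -/
theorem Ext.inv (h : Ext K K₁ z m) {θ : K₁ → ℂ} (hθ : IsIrrCharacter K₁ θ) {lam : K → ℂ}
    (hlam : IsIrrCharacter K lam)
    (hinv : ∀ (g : C) (k : K), lam ⟨g * k * g⁻¹, h.normal.conj_mem k k.2 g⟩ = lam k)
    (hres : ∀ k : K, θ ⟨k, h.le k.2⟩ = lam k) (g : C) (x : K₁) :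
    θ ⟨g * x * g⁻¹, h.normal'.conj_mem x x.2 g⟩ = θ x := by
  classical
  have hK₁ := h.normal'
  have hKn := h.normal
  let _ : Fintype K₁ := Fintype.ofFinite _
  let _ : Fintype (K.subgroupOf K₁) := Fintype.ofFinite _
  let e : K.subgroupOf K₁ ≃* K := Subgroup.subgroupOfEquivOfLe h.le
  -- the conjugate character
  set θ' : K₁ → ℂ := θ ∘ (MulAut.conjNormal g : MulAut K₁) with hθ'
  have hθ'irr : IsIrrCharacter K₁ θ' := Clifford.isIrr_conjNormal hθ g
  have hθ'val : ∀ y : K₁, θ' y = θ ⟨g * y * g⁻¹, hK₁.conj_mem y y.2 g⟩ := fun y => rfl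
  have h1 : (fun n : K.subgroupOf K₁ => θ n) = fun n => lam (e n) := by
    funext n
    exact hres (e n)
  have h2 : (fun n : K.subgroupOf K₁ => θ' n) = fun n => lam (e n) := by
    funext n
    show θ' (n : K₁) = _
    rw [hθ'val, ← hinv g (e n), ← hres]
    rfl
  have h3 : IsIrrCharacter (K.subgroupOf K₁) (fun n => lam (e n)) :=
    Core.isIrr_comp e.toMonoidHom e.surjective hlam
  obtain ⟨η, hη, hηK, hmul⟩ := CharactersDeep.CosetAverage.exists_irr_mul (K.subgroupOf K₁) θ hθ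
    (by rw [h1]; exact h3) θ' hθ'irr (by
      rw [h1, h2, Core.classInner_irr_self h3]
      exact one_ne_zero)
  obtain ⟨l, hl⟩ := FrobLift.irr_one_of_invariant (K.subgroupOf K₁)
    (FrobLift.comm_mem_of_isCyclic _ (h.cyclic inferInstance)) hη (fun k hk y => hηK ⟨k, hk⟩ y)
  have hlK : ∀ k : K, l ⟨k, h.le k.2⟩ = 1 := by
    intro k
    have h4 := hηK ⟨⟨k, h.le k.2⟩, Subgroup.mem_subgroupOf.2 k.2⟩ 1
    rw [mul_one, hl] at h4
    simp only [map_one, Units.val_one] at h4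
    exact Units.ext h4
  -- the value at `z`
  have hz : θ' ⟨z, h.mem⟩ = θ ⟨z, h.mem⟩ := by
    obtain ⟨k, hk, hkz⟩ := h.conj_z g
    rw [hθ'val]
    have h4 := Core.isIrr_isClassFunction hθ ⟨z, h.mem⟩ ⟨k, h.le hk⟩
    rw [← h4]
    congr 1
    exact Subtype.ext hkz
  have hz0 : θ ⟨z, h.mem⟩ ≠ 0 := by
    obtain ⟨n, hn, hodd⟩ := odd_degree h.odd hlam
    refine apply_ne_zero (Core.isIrr_isCharacter hθ) (n := n) ?_ hodd (m := m)
      (Subtype.ext h.pow)
    rw [← hn, ← hres 1]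
    rfl
  have hlz : l ⟨z, h.mem⟩ = 1 := by
    rw [hmul, Pi.mul_apply, hl] at hz
    exact Units.ext (mul_left_cancel₀ hz0 (by rw [hz, Units.val_one, mul_one]))
  have hl1 : ∀ y : K₁, l y = 1 := by
    intro y
    obtain ⟨k, hk, i, hi⟩ := h.mem_iff.1 y.2
    have h4 : y = ⟨k, h.le hk⟩ * ⟨z, h.mem⟩ ^ i := Subtype.ext hi.symm
    rw [h4, map_mul, map_zpow, hlz, one_zpow, mul_one]
    exact hlK ⟨k, hk⟩
  rw [← hθ'val, hmul, Pi.mul_apply, hl]
  simp only [hl1 x, Units.val_one, mul_one]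

end Inv

end Cfsg.Agent.Classification.QDW.WrExt
end

-- part: Classification/QDW/WrFrob
section
/-!
# The wreathed case: irreducible characters over an invariant character of the core

`FrobData`: `K₁ = K ⟨z⟩` with `z` a 2-element central modulo `K`, `B / K₁` is a Frobenius group of
order `q (q - 1)` with kernel `X / K₁` and complement `T / K₁`, and the normal closure of `X`
contains `ker lam`. If `ψ ∈ Irr C` is `e λ` on `K`, with `λ` irreducible and `e ≥ 2`, then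
`ψ` has on `B` a constituent of degree `(q - 1) λ(1)` vanishing on `T - K₁` (`exists_big`).
-/

set_option autoImplicit false
set_option linter.unusedSectionVars false

namespace Cfsg.Agent.Classification.QDW.WrFrob

open Cfsg Cfsg.Agent.Characters Cfsg.Agent.Classification.QDW.Coef
open Cfsg.Agent.Classification.QDW.Inertia Cfsg.Agent.Classification.QDW.WrExt
open scoped ComplexConjugate

universe u

variable {C : Type u} [Group C]

/-- The hypotheses on `B`, see the module docstring. -/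
structure FrobData (K : Subgroup C) (lam : C →* ℂˣ) (q : ℕ) (B K₁ X T : Subgroup C) (z : C)
    (m : ℕ) : Prop where
  ext : _root_.Cfsg.Agent.Classification.QDW.WrExt.Ext K K₁ z m
  lam_sq : ∀ g : C, lam g * lam g = 1
  lam_K₁ : K₁ ≤ lam.ker
  K₁_le : K₁ ≤ X
  X_le : X ≤ B
  T_le : T ≤ B
  frob : FrobLift.Frob q (K₁.subgroupOf B) (X.subgroupOf B) (T.subgroupOf B)
  gen : ∀ N : Subgroup C, N.Normal → X ≤ N → lam.ker ≤ N

variable {K : Subgroup C} {lam : C →* ℂˣ} {q : ℕ} {B K₁ X T : Subgroup C} {z : C} {m : ℕ}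

theorem FrobData.le (h : FrobData K lam q B K₁ X T z m) : K₁ ≤ B := h.K₁_le.trans h.X_le

theorem card_le_ker [Finite C] (hsq : ∀ g : C, lam g * lam g = 1) :
    Nat.card C ≤ 2 * Nat.card lam.ker := by
  have h1 : Nat.card lam.range ≤ 2 := by
    have h2 : ∀ y : lam.range, (y : ℂˣ) = 1 ∨ (y : ℂˣ) = -1 := by
      rintro ⟨_, g, rfl⟩
      have h3 : ((lam g : ℂˣ) : ℂ) * (lam g : ℂ) = 1 := by
        rw [← Units.val_mul, hsq g, Units.val_one]
      rcases mul_self_eq_one_iff.1 h3 with h4 | h4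
      · exact Or.inl (Units.ext h4)
      · exact Or.inr (Units.ext (by rw [h4, Units.val_neg, Units.val_one]))
    classical
    have h5 : Nat.card lam.range ≤ Nat.card Bool := by
      refine Nat.card_le_card_of_injective (fun y : lam.range => decide ((y : ℂˣ) = 1)) ?_
      intro y y' hyy
      have hyy' : ((y : ℂˣ) = 1) ↔ ((y' : ℂˣ) = 1) := by
        simpa using hyy
      apply Subtype.ext
      rcases h2 y with h6 | h6
      · rw [h6, hyy'.1 h6]
      · rcases h2 y' with h7 | h7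
        · rw [hyy'.2 h7, h7]
        · rw [h6, h7]
    have h6 : Nat.card Bool = 2 := by rw [Nat.card_eq_fintype_card, Fintype.card_bool]
    rwa [h6] at h5
  rw [← lam.ker.card_mul_index, Subgroup.index_ker, mul_comm]
  exact Nat.mul_le_mul_right _ h1

variable [Finite C]

/-- The constituents of the restriction to `B`. -/
theorem FrobData.constituent (h : FrobData K lam q B K₁ X T z m) {ψ : C → ℂ}
    (hψ : IsClassFunction C ψ) {μ : K₁ → ℂ} (hμ : IsIrrCharacter K₁ μ) {d : ℕ} (hd0 : d ≠ 0)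
    (hd : ∀ x : K₁, ψ x = d * μ x) {η χ : B → ℂ} (hη : IsIrrCharacter B η)
    (hχ : IsCharacter B χ) (hadd : ∀ b : B, ψ b = η b + χ b) :
    ∃ n : ℕ, (∀ x : K₁, η ⟨x, h.le x.2⟩ = n * μ x) ∧
      (n = 1 ∨ (n = q - 1 ∧ ∀ g : B, (g : C) ∈ T → (g : C) ∉ K₁ → η g = 0)) := by
  let e : K₁.subgroupOf B ≃* K₁ := Subgroup.subgroupOfEquivOfLe h.le
  have hμ' : IsIrrCharacter (K₁.subgroupOf B) (fun x => μ (e x)) :=
    Core.isIrr_comp e.toMonoidHom e.surjective hμ
  obtain ⟨n, hn⟩ := exists_mult_of_add hμ' (Clifford.isCharacter_restrict (K₁.subgroupOf B)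
    (Core.isIrr_isCharacter hη)) (Clifford.isCharacter_restrict (K₁.subgroupOf B) hχ) (d := d)
    (fun x => by
      rw [← hd (e x)]
      exact (hadd (x : B)).symm)
  refine ⟨n, fun x => hn ⟨⟨x, h.le x.2⟩, Subgroup.mem_subgroupOf.2 x.2⟩, ?_⟩
  have hinv : ∀ (g : B) (x : K₁.subgroupOf B),
      μ (e ⟨g * x * g⁻¹, h.frob.normal.conj_mem x x.2 g⟩) = μ (e x) := by
    intro g x
    have h1 : ψ ((g * x * g⁻¹ : B) : C) = ψ ((x : B) : C) := hψ ((x : B) : C) (g : C)
    have h2 := hd (e ⟨g * x * g⁻¹, h.frob.normal.conj_mem x x.2 g⟩)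
    have h3 := hd (e x)
    have h4 : ψ ((e ⟨g * x * g⁻¹, h.frob.normal.conj_mem x x.2 g⟩ : K₁) : C) =
        ψ ((g * x * g⁻¹ : B) : C) := rfl
    have h5 : ψ ((e x : K₁) : C) = ψ ((x : B) : C) := rfl
    rw [h4, h1, ← h5, h3] at h2
    exact (mul_left_cancel₀ (Nat.cast_ne_zero.2 hd0) h2).symm
  rcases FrobLift.frob_degree h.frob hμ' hinv hη hn with h1 | ⟨h1, h2⟩
  · exact Or.inl h1
  · exact Or.inr ⟨h1, fun g hg hg1 => h2 g (Subgroup.mem_subgroupOf.2 hg)
      (fun h3 => hg1 (Subgroup.mem_subgroupOf.1 h3))⟩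

/-- There is a constituent of degree `(q - 1) μ(1)`. -/
theorem FrobData.exists_big (h : FrobData K lam q B K₁ X T z m) {ψ : C → ℂ}
    (hψ : IsIrrCharacter C ψ) {μ : K₁ → ℂ} (hμ : IsIrrCharacter K₁ μ) {d : ℕ} (hd2 : 2 ≤ d)
    (hd : ∀ x : K₁, ψ x = d * μ x) :
    ∃ η χ : B → ℂ, IsIrrCharacter B η ∧ IsCharacter B χ ∧ (∀ b : B, ψ b = η b + χ b) ∧
      (∀ x : K₁, η ⟨x, h.le x.2⟩ = ((q - 1 : ℕ) : ℂ) * μ x) ∧
      ∀ g : B, (g : C) ∈ T → (g : C) ∉ K₁ → η g = 0 := by
  classical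
  by_contra hcon
  push Not at hcon
  have hcl := Core.isIrr_isClassFunction hψ
  let _ : Fintype C := Fintype.ofFinite _
  let _ : Fintype B := Fintype.ofFinite _
  let _ : Fintype K₁ := Fintype.ofFinite _
  let _ : Fintype X := Fintype.ofFinite _
  let _ : Fintype (K₁.subgroupOf B) := Fintype.ofFinite _
  let _ : Fintype (X.subgroupOf B) := Fintype.ofFinite _
  let _ : Fintype (T.subgroupOf B) := Fintype.ofFinite _
  let _ : Fintype lam.ker := Fintype.ofFinite _
  have := Core.finite_irr (G := B)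
  let _ : Fintype (IrrCharacter B) := Fintype.ofFinite _
  have hq := h.frob.q_ge
  let e : K₁.subgroupOf B ≃* K₁ := Subgroup.subgroupOfEquivOfLe h.le
  have hμ' : IsIrrCharacter (K₁.subgroupOf B) (fun x => μ (e x)) :=
    Core.isIrr_comp e.toMonoidHom e.surjective hμ
  -- all the constituents are extensions of `μ`
  have h1 : ∀ η χ : B → ℂ, IsIrrCharacter B η → IsCharacter B χ → (∀ b : B, ψ b = η b + χ b) →
      ∀ x : K₁, η ⟨x, h.le x.2⟩ = μ x := by
    intro η χ hη hχ hadd x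
    obtain ⟨n, hn, hn2⟩ := h.constituent hcl hμ (by omega) hd hη hχ hadd
    rcases hn2 with h2 | ⟨h2, h3⟩
    · rw [hn, h2, Nat.cast_one, one_mul]
    · exfalso
      subst h2
      obtain ⟨g, hg, hgK, hg0⟩ := hcon η χ hη hχ hadd hn
      exact hg0 (h3 g hg hgK)
  have hψB : IsCharacter B (fun b : B => ψ b) :=
    Clifford.isCharacter_restrict B (Core.isIrr_isCharacter hψ)
  obtain ⟨n, hn⟩ := Core.exists_nat_comb hψB
  have h2 : ∀ η : IrrCharacter B, n η ≠ 0 → ∀ x : K₁, (η : B → ℂ) ⟨x, h.le x.2⟩ = μ x := by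
    intro η hη
    have h3 : classInner (fun b : B => ψ b) (η : B → ℂ) ≠ 0 := by
      rw [hn, Core.classInner_sum_nsmul_irr]
      exact Nat.cast_ne_zero.2 hη
    obtain ⟨χ, hχ, hadd⟩ := exists_add_of_classInner hψB η.2 h3
    exact h1 η χ η.2 hχ fun b => congrFun hadd b
  have hKX : K₁.subgroupOf B ≤ X.subgroupOf B := h.frob.K_le_X
  have hXirr : ∀ η : B → ℂ, IsIrrCharacter B η → (∀ x : K₁, η ⟨x, h.le x.2⟩ = μ x) →
      IsIrrCharacter (X.subgroupOf B) (fun x : X.subgroupOf B => η x) := by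
    intro η hη hημ
    refine irr_of_comp_irr (Subgroup.inclusion hKX)
      (Clifford.isCharacter_restrict (X.subgroupOf B) (Core.isIrr_isCharacter hη)) ?_
    have h3 : (fun x : K₁.subgroupOf B => (fun x : X.subgroupOf B => η x)
        (Subgroup.inclusion hKX x)) = fun x => μ (e x) :=
      funext fun x => hημ (e x)
    rw [h3]
    exact hμ'
  have h3 : ∀ η η' : B → ℂ, IsIrrCharacter B η → IsIrrCharacter B η' →
      (∀ x : K₁, η ⟨x, h.le x.2⟩ = μ x) → (∀ x : K₁, η' ⟨x, h.le x.2⟩ = μ x) →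
      ∀ x : X.subgroupOf B, η x = η' x := by
    intro η η' hη hη' hμη hμη' x
    by_contra hne
    have h4 := Core.classInner_irr_ne (hXirr η hη hμη) (hXirr η' hη' hμη')
      (fun h5 => hne (congrFun h5 x))
    have h5 := FrobLift.norm_identity h.frob (Core.isIrr_isClassFunction hη)
      (Core.isIrr_isClassFunction hη')
    obtain ⟨a, ha⟩ := Core.classInner_isNat (Core.isIrr_isCharacter hη)
      (Core.isIrr_isCharacter hη')
    obtain ⟨b, hb⟩ := Core.classInner_isNat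
      (Clifford.isCharacter_restrict (T.subgroupOf B) (Core.isIrr_isCharacter hη))
      (Clifford.isCharacter_restrict (T.subgroupOf B) (Core.isIrr_isCharacter hη'))
    have h6 : classInner (fun x : K₁.subgroupOf B => η x) (fun x : K₁.subgroupOf B => η' x) = 1 := by
      have e1 : (fun x : K₁.subgroupOf B => η x) = fun x => μ (e x) := funext fun x => hμη (e x)
      have e2 : (fun x : K₁.subgroupOf B => η' x) = fun x => μ (e x) := funext fun x => hμη' (e x)
      rw [e1, e2, Core.classInner_irr_self hμ']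
    rw [h4, ha, hb, h6] at h5
    have h7 : ((q : ℤ) - 1) * (b - a) = 1 := by
      have h8 : ((((q : ℤ) - 1) * (b - a) : ℤ) : ℂ) = ((1 : ℤ) : ℂ) := by
        push_cast
        linear_combination -h5
      exact_mod_cast h8
    have h8 : ((q : ℤ) - 1) ∣ 1 := ⟨_, h7.symm⟩
    have h9 := Int.le_of_dvd one_pos h8
    omega
  -- `ψ` is a multiple of an irreducible character on `X`
  obtain ⟨η₀, χ₀, hη₀, hχ₀, hadd₀, -⟩ := exists_constituent (LinearMap.proj (1 : B)) hψB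
    (Core.isIrr_apply_one_ne_zero hψ)
  have hη₀μ := h1 η₀ χ₀ hη₀ hχ₀ fun b => congrFun hadd₀ b
  have h4 : ∀ x : X.subgroupOf B, ψ ((x : B) : C) = (∑ η : IrrCharacter B, (n η : ℂ)) * η₀ x := by
    intro x
    have h5 := congrFun hn (x : B)
    refine h5.trans ?_
    rw [Finset.sum_apply, Finset.sum_mul]
    refine Finset.sum_congr rfl fun η _ => ?_
    rw [Pi.smul_apply, nsmul_eq_mul]
    by_cases h6 : n η = 0
    · rw [h6, Nat.cast_zero, zero_mul, zero_mul]
    · rw [h3 η η₀ η.2 hη₀ (h2 η h6) hη₀μ x]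
  have hDd : (∑ η : IrrCharacter B, (n η : ℂ)) = d := by
    have h5 := h4 1
    have h6 := hd 1
    have h7 : η₀ (1 : B) = μ 1 := hη₀μ 1
    have h8 : ψ (((1 : X.subgroupOf B) : B) : C) = ψ ((1 : K₁) : C) := rfl
    rw [h8, h6] at h5
    have h9 : η₀ ((1 : X.subgroupOf B) : B) = μ 1 := h7
    rw [h9] at h5
    exact (mul_right_cancel₀ (Core.isIrr_apply_one_ne_zero hμ) h5).symm
  have hX0 : (Nat.card X : ℂ) ≠ 0 := Core.card_ne_zero_complex
  have hX : ∑ x : X, ψ x * conj (ψ x) = Nat.card X * (d : ℂ) ^ 2 := by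
    have h5 : classInner (fun x : X.subgroupOf B => ψ ((x : B) : C))
        (fun x : X.subgroupOf B => ψ ((x : B) : C)) = (d : ℂ) ^ 2 := by
      have h6 : (fun x : X.subgroupOf B => ψ ((x : B) : C)) =
          (d : ℂ) • fun x : X.subgroupOf B => η₀ x := by
        funext x
        rw [h4, hDd]
        rfl
      rw [h6, Core.classInner_smul_left, Core.classInner_smul_right,
        Core.classInner_irr_self (hXirr η₀ hη₀ hη₀μ), map_natCast]
      ring
    have h6 : ∑ x : X, ψ x * conj (ψ x) =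
        ∑ x : X.subgroupOf B, ψ ((x : B) : C) * conj (ψ ((x : B) : C)) :=
      (Fintype.sum_equiv (Subgroup.subgroupOfEquivOfLe h.X_le).toEquiv _ _ fun x => rfl).symm
    rw [Core.classInner_def,
      Nat.card_congr (Subgroup.subgroupOfEquivOfLe h.X_le).toEquiv] at h5
    rw [h6, ← h5, ← mul_assoc, mul_inv_cancel₀ hX0, one_mul]
  -- the average of `|ψ|²` over the cosets of `K₁`
  have hKN := h.ext.normal'
  have hΞ : IsCharacter C (fun x => ψ x * conj (ψ x)) :=
    Core.isCharacter_mul (Core.isIrr_isCharacter hψ)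
      (Core.isCharacter_conj (Core.isIrr_isCharacter hψ))
  obtain ⟨Ξ, Ξ', hΞ0, -, -, havg, -, -⟩ := CoreConst.exists_fixed_moved K₁ hΞ
  have hK0 : (Nat.card K₁ : ℂ) ≠ 0 := Core.card_ne_zero_complex
  have hL0 : (Nat.card lam.ker : ℂ) ≠ 0 := Core.card_ne_zero_complex
  have hΞ1 : Ξ 1 = (d : ℂ) ^ 2 := by
    rw [havg]
    have h5 : (fun k : K₁ => ψ k) = (d : ℂ) • μ := by
      funext k
      exact hd k
    have h6 : classInner (fun k : K₁ => ψ k) (fun k : K₁ => ψ k) = (d : ℂ) ^ 2 := by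
      rw [h5, Core.classInner_smul_left, Core.classInner_smul_right,
        Core.classInner_irr_self hμ, map_natCast]
      ring
    rw [← h6, Core.classInner_def]
    simp only [one_mul]
  -- averages over `X` and `ker lam`
  have hsum : ∀ H : Subgroup C, K₁ ≤ H → ∀ _ : Fintype H,
      ∑ x : H, Ξ (x : C) = ∑ x : H, ψ (x : C) * conj (ψ (x : C)) := by
    intro H hH _
    have h5 : ∑ x : H, Ξ (x : C) =
        (Nat.card K₁ : ℂ)⁻¹ * ∑ k : K₁, ∑ x : H, ψ ((x : C) * k) * conj (ψ ((x : C) * k)) := by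
      simp only [havg]
      rw [← Finset.mul_sum, Finset.sum_comm]
    have h6 : ∀ k : K₁, ∑ x : H, ψ ((x : C) * k) * conj (ψ ((x : C) * k)) =
        ∑ x : H, ψ (x : C) * conj (ψ (x : C)) := by
      intro k
      exact Fintype.sum_equiv (Equiv.mulRight (⟨_, hH k.2⟩ : H)) _ _ fun x => rfl
    rw [h5, Finset.sum_congr rfl fun k _ => h6 k, Finset.sum_const, Finset.card_univ,
      nsmul_eq_mul, ← Nat.card_eq_fintype_card, ← mul_assoc, inv_mul_cancel₀ hK0, one_mul]
  have hsumX : ∑ x : X, Ξ (x : C) = (Fintype.card X : ℂ) * Ξ 1 := by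
    rw [hsum X h.K₁_le, hX, hΞ1, Nat.card_eq_fintype_card]
  have hXker : X ≤ kerSub hΞ0 := fun x hx =>
    eq_of_avg hΞ0 (fun x : X => (x : C)) hsumX ⟨x, hx⟩
  have hLker := h.gen _ (kerSub_normal hΞ0) hXker
  have hsumL : (Nat.card lam.ker : ℂ) * (d : ℂ) ^ 2 =
      ∑ x : lam.ker, ψ x * conj (ψ x) := by
    rw [← hsum lam.ker h.lam_K₁, Finset.sum_congr rfl fun x _ => mem_kerSub.1 (hLker x.2),
      Finset.sum_const, Finset.card_univ, nsmul_eq_mul, hΞ1, ← Nat.card_eq_fintype_card]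
  -- `|L| d² ≤ |C| ≤ 2 |L|`
  have h5 : (Nat.card lam.ker : ℝ) * (d : ℝ) ^ 2 = ∑ x : lam.ker, ‖ψ x‖ ^ 2 := by
    have h6 : (((Nat.card lam.ker : ℝ) * (d : ℝ) ^ 2 : ℝ) : ℂ) =
        ((∑ x : lam.ker, ‖ψ x‖ ^ 2 : ℝ) : ℂ) := by
      push_cast
      rw [hsumL]
      refine Finset.sum_congr rfl fun x _ => ?_
      rw [Complex.mul_conj, Complex.normSq_eq_norm_sq]
      push_cast
      rfl
    exact_mod_cast h6
  have h6 : ∑ x : C, ‖ψ x‖ ^ 2 = Nat.card C := by
    have h7 := Core.classInner_irr_self hψ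
    rw [FrobLift.norm_eq_sum_normSq] at h7
    have h8 : (Nat.card C : ℝ)⁻¹ * ∑ x : C, ‖ψ x‖ ^ 2 = 1 := by exact_mod_cast h7
    have hC1 : (Nat.card C : ℝ) ≠ 0 := by exact_mod_cast Nat.card_pos.ne'
    field_simp at h8
    exact h8
  have h7 : ∑ x : lam.ker, ‖ψ x‖ ^ 2 ≤ ∑ x : C, ‖ψ x‖ ^ 2 := by
    have h8 : ∑ x : lam.ker, ‖ψ x‖ ^ 2 =
        ∑ x ∈ Finset.univ.map ⟨lam.ker.subtype, lam.ker.subtype_injective⟩, ‖ψ x‖ ^ 2 := by
      rw [Finset.sum_map]
      rfl
    rw [h8]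
    exact Finset.sum_le_sum_of_subset_of_nonneg (Finset.subset_univ _)
      fun _ _ _ => by (clear * -; positivity)
  have h8 : (Nat.card C : ℝ) ≤ 2 * Nat.card lam.ker := by
    exact_mod_cast card_le_ker h.lam_sq
  have hL1 : (0 : ℝ) < Nat.card lam.ker := by exact_mod_cast Nat.card_pos
  rw [← h5, h6] at h7
  have h9 : (d : ℝ) ^ 2 ≤ 2 := by
    have h10 : (Nat.card lam.ker : ℝ) * (d : ℝ) ^ 2 ≤ Nat.card lam.ker * 2 := by linarith only [h7, h8]
    exact le_of_mul_le_mul_left h10 hL1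
  have h10 : (2 : ℝ) ≤ d := by exact_mod_cast hd2
  nlinarith only [h9, h10]

end Cfsg.Agent.Classification.QDW.WrFrob
end

-- part: Classification/QDW/WrInstC
section
/-!
# The wreathed case inside the centralizer of an involution: `FrobData`
-/

set_option autoImplicit false
set_option linter.unusedSectionVars false

namespace Cfsg.Agent.Classification.QDW.WrInst

open Cfsg Cfsg.Agent.Classification.InvCent Cfsg.Agent.Classification.QDW.WrDefs
open Cfsg.Agent.Classification.QDW.LineC Cfsg.Agent.Classification.QDW.WrLine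
open Cfsg.Agent.Classification.QDW.InstC Cfsg.Agent.Classification.QDW.InstGamma
open Cfsg.Agent.Classification.QDW.FrobLift Cfsg.Agent.Classification.QDW.WrExt
open Cfsg.Agent.Classification.QDW.WrFrob

universe v w

variable {A : Type v} [Group A] {C : Type w} [Group C] [Finite C] {π : A →* C} {τ : A} {z : C}
  {q : ℕ} {ε : ℤ} {Z T T' U : Subgroup C} {s s' u : C} {r : ℕ} {b : C →* ℂˣ} {u' w : A}

/-- `π⁻¹(Z)` is generated by `K` and a 2-element. -/
theorem exists_ext (ho : Over π τ z) (hC : CHyp z q ε Z T T' U s s' u)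
    (hD : DetHyp q ε T T' U s s' u r b) (hZ : Nat.card Z = r) :
    ∃ (z₀ : A) (m : ℕ), _root_.Cfsg.Agent.Classification.QDW.WrExt.Ext π.ker (Z.comap π) z₀ m := by
  obtain ⟨m, hm1, hm⟩ := hD.r_pow
  have hcyc : IsCyclic Z := by
    have := hC.T'_cyclic
    exact isCyclic_of_injective (Subgroup.inclusion hC.Z_le_T') (Subgroup.inclusion_injective _)
  obtain ⟨c, hc⟩ := hcyc.exists_generator
  obtain ⟨a, ha⟩ := ho.surj (c : C)
  have hcr : (c : C) ^ r = 1 := by
    have h1 : c ^ Nat.card Z = 1 := pow_card_eq_one'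
    rw [hZ] at h1
    exact congrArg Subtype.val h1
  obtain ⟨k, hk⟩ := ho.odd
  have hcop : Nat.Coprime (2 ^ m) (Nat.card π.ker) :=
    Nat.Coprime.pow_left _ (Nat.coprime_two_left.2 ho.odd)
  refine ⟨a ^ Nat.card π.ker, m, inferInstance, ho.odd, ?_, ?_, ?_⟩
  · rw [← pow_mul, mul_comm, pow_mul, ← hm]
    exact pow_card_ker π (by rw [map_pow, ha, hcr])
  · intro g
    rw [MonoidHom.mem_ker, map_mul, map_mul, map_mul, map_inv, map_inv, map_pow, ha,
      hC.Z_central _ (pow_mem c.2 _)]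
    group
  · apply le_antisymm
    · refine sup_le ?_ ?_
      · intro x hx
        rw [Subgroup.mem_comap, MonoidHom.mem_ker.1 hx]
        exact one_mem Z
      · rw [Subgroup.zpowers_le, Subgroup.mem_comap, map_pow, ha]
        exact pow_mem c.2 _
    · intro x hx
      -- `c` is a power of `c ^ |K|`
      obtain ⟨i, hi⟩ := Subgroup.mem_zpowers_iff.1 (hc ⟨π x, hx⟩)
      have hi' : (c : C) ^ i = π x := congrArg Subtype.val hi
      obtain ⟨j, hj⟩ : ∃ j : ℤ, ((c : C) ^ Nat.card π.ker) ^ j = c := by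
        have h1 := Nat.gcd_eq_gcd_ab (2 ^ m) (Nat.card π.ker)
        rw [hcop.gcd_eq_one] at h1
        refine ⟨Nat.gcdB (2 ^ m) (Nat.card π.ker), ?_⟩
        have h2 : (c : C) = (c : C) ^ (((2 ^ m : ℕ) : ℤ) * Nat.gcdA (2 ^ m) (Nat.card π.ker) +
            (Nat.card π.ker : ℤ) * Nat.gcdB (2 ^ m) (Nat.card π.ker)) := by
          rw [← h1, Nat.cast_one, zpow_one]
        conv_rhs => rw [h2]
        rw [zpow_add, zpow_mul, zpow_mul, zpow_natCast, zpow_natCast, ← hm, hcr, one_zpow, one_mul]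
      have h3 : x * ((a ^ Nat.card π.ker) ^ (j * i))⁻¹ ∈ π.ker := by
        rw [MonoidHom.mem_ker, map_mul, map_inv, map_zpow, map_pow, ha, zpow_mul, hj, hi',
          mul_inv_cancel]
      have h4 : x = x * ((a ^ Nat.card π.ker) ^ (j * i))⁻¹ * (a ^ Nat.card π.ker) ^ (j * i) := by
        group
      rw [h4]
      exact Subgroup.mul_mem_sup h3 (Subgroup.zpow_mem_zpowers _ _)

/-- **The instance of `FrobData`**. -/
theorem exists_frobData [Finite A] (ho : Over π τ z) (hC : CHyp z q ε Z T T' U s s' u)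
    (hD : DetHyp q ε T T' U s s' u r b) (hN : Norm ε T T' U) (hZ : Nat.card Z = r)
    (hq : 5 ≤ q) :
    ∃ (T₁ : Subgroup C) (z₀ : A) (m : ℕ), FrobData π.ker (lam π r b) q (B₀ π U) (Z.comap π)
      (hC.base.ZU.comap π) (T₁.comap π) z₀ m ∧ (ε = 1 → T₁ = T) := by
  obtain ⟨z₀, m, hext⟩ := exists_ext ho hC hD hZ
  obtain ⟨T₁, s₁, hs, hT, -⟩ := exists_split hC hD hN
  refine ⟨T₁, z₀, m, ⟨hext, lam_sq hD, ?_, ?_, ?_, ?_, ?_, ?_⟩, fun h => (hT h).1⟩
  · intro x hx
    rw [MonoidHom.mem_ker, lam_apply, b_Z hC hD hx]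
  · refine Subgroup.comap_mono fun x hx => ?_
    rw [hC.base.mem_ZU]
    exact ⟨x, hx, 1, one_mem U, (mul_one x).symm⟩
  · refine Subgroup.comap_mono fun x hx => ?_
    obtain ⟨ζ, hζ, v, hv, rfl⟩ := hC.base.mem_ZU.1 hx
    exact mul_mem (T₁_le_N hC.base hs.torus hs.norm (hs.torus.Z_le hζ)) (U_le_N hv)
  · exact Subgroup.comap_mono (T₁_le_N hC.base hs.torus hs.norm)
  · exact frob hC.base hs ho.surj hq
  · intro N' hN' hX x hx
    have h1 : (N'.map π).Normal := hN'.map π ho.surj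
    have hker : π.ker ≤ N' := by
      refine le_trans ?_ hX
      intro y hy
      rw [Subgroup.mem_comap, MonoidHom.mem_ker.1 hy]
      exact one_mem _
    have hmap : ∀ y : C, y ∈ hC.base.ZU → y ∈ N'.map π := by
      intro y hy
      obtain ⟨a, rfl⟩ := ho.surj y
      exact ⟨a, hX hy, rfl⟩
    have h2 := ker_le hC hD hN h1
      (fun y hy => hmap y (hC.base.mem_ZU.2 ⟨y, hy, 1, one_mem U, (mul_one y).symm⟩))
      (fun y hy => hmap y (hC.base.mem_ZU.2 ⟨1, one_mem Z, y, hy, (one_mul y).symm⟩))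
    have h3 : π x ∈ N'.map π := h2 (by
      rw [MonoidHom.mem_ker]
      exact hx)
    obtain ⟨y, hy, hyx⟩ := h3
    have h4 : x * y⁻¹ ∈ π.ker := by
      rw [MonoidHom.mem_ker, map_mul, map_inv, hyx, mul_inv_cancel]
    have h5 : x = x * y⁻¹ * y := by group
    rw [h5]
    exact mul_mem (hker h4) hy

end Cfsg.Agent.Classification.QDW.WrInst
end

-- part: Classification/QDW/WrLam
section
/-!
# The wreathed case: the constituent of `ψ` on `K M` attached to `ξ`

`exists_zeta`: if `ψ` is attached to the linear character `ξ` of `M`, then `ψ` has on `K M` a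
constituent `ζ` with irreducible restriction to `K` and `ζ s = ± ξ s` for `s ∈ M`, `lam s ≠ 1`.
-/

set_option autoImplicit false
set_option linter.unusedSectionVars false

namespace Cfsg.Agent.Classification.QDW.WrLam

open Cfsg Cfsg.Agent.Characters Cfsg.Agent.CharactersDeep
open Cfsg.Agent.Classification.QDW.WrDefs
open scoped ComplexConjugate

universe u

section General

variable {D : Type u} [Group D]

theorem lam_eq_neg_one {l : D →* ℂˣ} (hl : ∀ g, l g * l g = 1) {g : D} (hg : l g ≠ 1) :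
    (l g : ℂ) = -1 := by
  have h1 : (l g : ℂ) * (l g : ℂ) = 1 := by
    rw [← Units.val_mul, hl g, Units.val_one]
  rcases mul_self_eq_one_iff.1 h1 with h | h
  · exact absurd (Units.ext (by rw [h, Units.val_one])) hg
  · exact h

theorem hom_conj {A : Subgroup D} (ξ : A →* ℂˣ) (a s : A) : ξ (a⁻¹ * s * a) = ξ s := by
  rw [map_mul, map_mul, map_inv, mul_comm, mul_inv_cancel_left]

theorem lam_conj (l : D →* ℂˣ) (a s : D) : l (a⁻¹ * s * a) = l s := by
  rw [map_mul, map_mul, map_inv, mul_comm, mul_inv_cancel_left]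

theorem dif_of_one {A : Subgroup D} {l : D →* ℂˣ} (ξ : A →* ℂˣ) {s : A} (hs : l (s : D) = 1) :
    dif A l ξ s = 0 := by
  rw [dif_apply, hs, Units.val_one, mul_one, sub_self]

theorem dif_of_ne {A : Subgroup D} {l : D →* ℂˣ} (hl : ∀ g, l g * l g = 1) (ξ : A →* ℂˣ) {s : A}
    (hs : l (s : D) ≠ 1) : dif A l ξ s = 2 * (ξ s : ℂ) := by
  rw [dif_apply, lam_eq_neg_one hl hs]
  ring

theorem dif_conj {A : Subgroup D} (l : D →* ℂˣ) (ξ : A →* ℂˣ) (a s : A) :
    dif A l ξ (a⁻¹ * s * a) = dif A l ξ s := by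
  rw [dif_apply, dif_apply, hom_conj]
  congr 2
  show ((l ((a : D)⁻¹ * s * a) : ℂˣ) : ℂ) = _
  rw [lam_conj]

/-- The value of an induced function at an element whose conjugates in `A` are all obtained by
conjugation in `A`. -/
theorem indFun_of_ti [Fintype D] (A : Subgroup D) (θ : A → ℂ) (s : A)
    (hθ : ∀ a : A, θ (a⁻¹ * s * a) = θ s) (hti : ∀ g : D, g⁻¹ * s * g ∈ A → g ∈ A) :
    indFun A θ s = θ s := by
  classical
  rw [IndFun.indFun_def]
  have h1 : ∀ x : D, extendByZero A θ (x⁻¹ * s * x) = if x ∈ A then θ s else 0 := by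
    intro x
    by_cases hx : x ∈ A
    · have hmem : x⁻¹ * s * x ∈ A := A.mul_mem (A.mul_mem (A.inv_mem hx) s.2) hx
      rw [if_pos hx, IndFun.extendByZero_mem A θ hmem, ← hθ ⟨x, hx⟩]
      rfl
    · rw [if_neg hx, IndFun.extendByZero_notMem A θ (fun h => hx (hti x h))]
  rw [Finset.sum_congr rfl fun x _ => h1 x, ← Finset.sum_filter, Finset.sum_const, nsmul_eq_mul]
  have h2 : ((Finset.univ.filter (fun x => x ∈ A)).card : ℂ) = Nat.card A := by
    congr 1
    rw [Nat.card_eq_fintype_card, Fintype.card_subtype]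
  rw [h2, ← mul_assoc, inv_mul_cancel₀ (Nat.cast_ne_zero.2 Nat.card_pos.ne'), one_mul]

/-- The abstract situation in `D = K M`. -/
structure Loc (N A : Subgroup D) (l : D →* ℂˣ) : Prop where
  normal : N.Normal
  sq : ∀ g, l g * l g = 1
  one : ∀ n ∈ N, l n = 1
  ne : ∃ s ∈ A, l s ≠ 1
  comm : ∀ x y : D, x * y * x⁻¹ * y⁻¹ ∈ N
  sup : N ⊔ A = ⊤
  ti : ∀ s ∈ A, l s ≠ 1 → ∀ g : D, g⁻¹ * s * g ∈ A → g ∈ A

variable {N A : Subgroup D} {l : D →* ℂˣ}

theorem Loc.indFun_apply [Fintype D] (h : Loc N A l) (ξ : A →* ℂˣ) {s : A} (hs : l (s : D) ≠ 1) :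
    indFun A (dif A l ξ) s = 2 * (ξ s : ℂ) := by
  rw [indFun_of_ti A _ s (fun a => dif_conj l ξ a s) (fun g hg => h.ti s s.2 hs g hg),
    dif_of_ne h.sq ξ hs]

theorem Loc.sum_eq_zero (h : Loc N A l) [Fintype A] : ∑ s : A, (l (s : D) : ℂ) = 0 := by
  obtain ⟨s, hs, hs1⟩ := h.ne
  have h1 : ∑ x : A, (l (x : D) : ℂ) = ∑ x : A, (l (s : D) : ℂ) * (l (x : D) : ℂ) := by
    refine (Fintype.sum_equiv (Equiv.mulLeft (⟨s, hs⟩ : A)) _ _ fun x => ?_).symm
    show _ = ((l (s * (x : D)) : ℂˣ) : ℂ)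
    rw [map_mul, Units.val_mul]
  rw [← Finset.mul_sum, lam_eq_neg_one h.sq hs1] at h1
  have h2 : (2 : ℂ) * ∑ x : A, (l (x : D) : ℂ) = 0 := by linear_combination h1
  exact (mul_eq_zero.1 h2).resolve_left two_ne_zero

theorem Loc.norm [Fintype D] (h : Loc N A l) (ξ : A →* ℂˣ) :
    classInner (indFun A (dif A l ξ)) (indFun A (dif A l ξ)) = 2 := by
  classical
  let _ : Fintype A := Fintype.ofFinite _
  rw [IndFun.classInner_indFun A _ _ (IndFun.isClassFunction_indFun A _), Core.classInner_def]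
  have h1 : ∀ s : A, dif A l ξ s * conj (indFun A (dif A l ξ) s) = 2 - 2 * (l (s : D) : ℂ) := by
    intro s
    by_cases hs : l (s : D) = 1
    · rw [dif_of_one ξ hs, zero_mul, hs, Units.val_one]
      ring
    · rw [dif_of_ne h.sq ξ hs, h.indFun_apply ξ hs, lam_eq_neg_one h.sq hs, map_mul]
      have h2 := AbelianQuotient.hom_mul_conj ξ s
      have h3 : conj (2 : ℂ) = 2 := Complex.conj_ofNat 2
      rw [h3]
      linear_combination 4 * h2
  rw [Finset.sum_congr rfl fun s _ => h1 s, Finset.sum_sub_distrib, ← Finset.mul_sum,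
    h.sum_eq_zero, mul_zero, sub_zero, Finset.sum_const, Finset.card_univ, nsmul_eq_mul,
    Nat.card_eq_fintype_card]
  have : (Fintype.card A : ℂ) ≠ 0 := Nat.cast_ne_zero.2 Fintype.card_ne_zero
  field_simp

theorem isGen_indFun [Fintype D] (A : Subgroup D) (l : D →* ℂˣ) (ξ : A →* ℂˣ) :
    IsGeneralizedCharacter D (indFun A (dif A l ξ)) := by
  refine ⟨indFun A (fun s => (ξ s : ℂ)), indFun A (fun s => ((ξ * l.comp A.subtype) s : ℂ)),
    IndFun.isCharacter_indFun A (Linear.isCharacter_hom ξ),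
    IndFun.isCharacter_indFun A (Linear.isCharacter_hom _), ?_⟩
  rw [← IndFun.indFun_sub]
  rfl

theorem indFun_dif_one [Fintype D] (A : Subgroup D) (l : D →* ℂˣ) (ξ : A →* ℂˣ) :
    indFun A (dif A l ξ) 1 = 0 := by
  rw [IndFun.indFun_def]
  have : ∀ x : D, extendByZero A (dif A l ξ) (x⁻¹ * 1 * x) = 0 := by
    intro x
    have h1 : x⁻¹ * 1 * x = 1 := by group
    rw [h1, IndFun.extendByZero_mem _ _ A.one_mem]
    exact dif_of_one ξ (map_one l)
  rw [Finset.sum_congr rfl fun x _ => this x, Finset.sum_const_zero, mul_zero]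

theorem isClassFunction_lam (l : D →* ℂˣ) : IsClassFunction D (fun g => (l g : ℂ)) := by
  intro g x
  show ((l (x * g * x⁻¹) : ℂˣ) : ℂ) = _
  rw [map_mul, map_mul, map_inv, mul_comm, inv_mul_cancel_left]

theorem indFun_mul_lam [Fintype D] (A : Subgroup D) {l : D →* ℂˣ} (hl : ∀ g, l g * l g = 1)
    (ξ : A →* ℂˣ) (g : D) :
    indFun A (dif A l ξ) g * (l g : ℂ) = -indFun A (dif A l ξ) g := by
  have h1 := IndFun.indFun_mul A (dif A l ξ) (fun g => (l g : ℂ)) (isClassFunction_lam l)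
  have h2 : (fun s : A => dif A l ξ s * ((l (s : D) : ℂˣ) : ℂ)) = -dif A l ξ := by
    funext s
    rw [Pi.neg_apply]
    by_cases hs : l (s : D) = 1
    · rw [dif_of_one ξ hs, zero_mul, neg_zero]
    · rw [lam_eq_neg_one hl hs, mul_neg_one]
  rw [h2, IndFun.indFun_neg] at h1
  exact congrFun h1 g

/-- `Ind (ξ - ξ l) = μ - μ l` with `μ` irreducible. -/
theorem Loc.exists_mu [Fintype D] (h : Loc N A l) (ξ : A →* ℂˣ) :
    ∃ μ : D → ℂ, IsIrrCharacter D μ ∧ indFun A (dif A l ξ) = fun g => μ g - μ g * (l g : ℂ) := by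
  obtain ⟨μ, ν, hμ, hν, hne, hF⟩ := OddOrderCharacters.NormTwo.exists_sub_of_norm_two
    (isGen_indFun A l ξ) (h.norm ξ) (indFun_dif_one A l ξ)
  refine ⟨μ, hμ, ?_⟩
  have hlμ : IsIrrCharacter D ((fun g => (l g : ℂ)) * μ) := AbelianQuotient.isIrr_linear_mul l hμ
  have hlν : IsIrrCharacter D ((fun g => (l g : ℂ)) * ν) := AbelianQuotient.isIrr_linear_mul l hν
  have h1 : (fun g => (l g : ℂ)) * μ - (fun g => (l g : ℂ)) * ν = ν - μ := by
    funext g
    have h2 := indFun_mul_lam A h.sq ξ g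
    rw [hF] at h2
    simp only [Pi.sub_apply, Pi.mul_apply] at h2 ⊢
    linear_combination h2
  have h2 : (fun g => (l g : ℂ)) * μ = ν := by
    by_contra hcon
    have h3 := congrArg (fun f => classInner f ν) h1
    simp only [Core.classInner_sub_left] at h3
    rw [Core.classInner_irr_ne hlμ hν hcon, Core.classInner_irr_self hν,
      Core.classInner_irr_ne hμ hν hne, zero_sub, sub_zero] at h3
    obtain ⟨n, hn⟩ := Core.classInner_isNat (Core.isIrr_isCharacter hlν)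
      (Core.isIrr_isCharacter hν)
    rw [hn] at h3
    have h4 : ((n + 1 : ℕ) : ℂ) = 0 := by
      push_cast
      linear_combination -h3
    exact Nat.succ_ne_zero n (Nat.cast_eq_zero.1 h4)
  rw [hF]
  funext g
  rw [Pi.sub_apply, ← h2, Pi.mul_apply]
  ring

theorem Loc.hom_eq_one (h : Loc N A l) {κ : D →* ℂˣ} (hN : ∀ n ∈ N, κ n = 1)
    (hA : ∀ s ∈ A, l s ≠ 1 → κ s = 1) : κ = 1 := by
  have hNk : N ≤ κ.ker := fun n hn => hN n hn
  have hAk : A ≤ κ.ker := by
    intro s hs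
    by_cases h1 : l s = 1
    · obtain ⟨s0, hs0, h0⟩ := h.ne
      have h2 : κ (s * s0) = 1 := hA _ (A.mul_mem hs hs0) (by
        rw [map_mul, h1, one_mul]
        exact h0)
      rw [map_mul, hA s0 hs0 h0, mul_one] at h2
      exact h2
    · exact hA s hs h1
  have h3 : (⊤ : Subgroup D) ≤ κ.ker := h.sup ▸ sup_le hNk hAk
  ext g
  have := h3 (Subgroup.mem_top g)
  rw [MonoidHom.mem_ker] at this
  rw [this]
  rfl

/-- The restriction to `N` of an irreducible `μ` with `Ind (ξ - ξ l) = μ - μ l` is irreducible. -/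
theorem Loc.isIrr_restrict [Fintype D] [Finite N] (h : Loc N A l) (ξ : A →* ℂˣ) {μ : D → ℂ}
    (hμ : IsIrrCharacter D μ) (hF : indFun A (dif A l ξ) = fun g => μ g - μ g * (l g : ℂ)) :
    IsIrrCharacter N (fun n : N => μ n) := by
  classical
  have := h.normal
  let _ : Fintype N := Fintype.ofFinite _
  obtain ⟨Λ, hΛ, -, h1, h2⟩ := AbelianQuotient.exists_linear_dual N h.comm
  have h3 := AbelianQuotient.classInner_restrict_self N hμ Λ h1 h2
  have h4 : Λ.filter (fun κ => (fun g => (κ g : ℂ)) * μ = μ) = {1} := by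
    ext κ
    rw [Finset.mem_filter, Finset.mem_singleton]
    constructor
    · rintro ⟨hκ, hκμ⟩
      refine h.hom_eq_one ((hΛ κ).1 hκ) fun s hs hs1 => ?_
      have h5 : (κ s : ℂ) * indFun A (dif A l ξ) s = indFun A (dif A l ξ) s := by
        rw [hF]
        have h6 := congrFun hκμ s
        rw [Pi.mul_apply] at h6
        linear_combination (1 - (l s : ℂ)) * h6
      have h7 := h.indFun_apply ξ (s := ⟨s, hs⟩) hs1
      change indFun A (dif A l ξ) s = _ at h7
      rw [h7] at h5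
      have h8 : (2 : ℂ) * (ξ ⟨s, hs⟩ : ℂ) ≠ 0 := mul_ne_zero two_ne_zero (Units.ne_zero _)
      have h9 : (κ s : ℂ) = 1 := mul_right_cancel₀ h8 (by rw [h5, one_mul])
      exact Units.ext (by rw [h9, Units.val_one])
    · rintro rfl
      refine ⟨(hΛ 1).2 fun n _ => rfl, ?_⟩
      funext g
      simp
  rw [h4, Finset.card_singleton, Nat.cast_one] at h3
  exact (Core.isIrr_iff_classInner_self (Core.isCharacter_comp N.subtype
    (Core.isIrr_isCharacter hμ))).2 h3

end General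

section Main

variable {C : Type u} [Group C] {K M : Subgroup C} {lam : C →* ℂˣ} {w : C}

theorem loc (h : WrHyp K M lam w) :
    Loc (K.subgroupOf (K ⊔ M)) (M.subgroupOf (K ⊔ M)) (lam.comp (K ⊔ M).subtype) where
  normal := by
    have := h.normal
    infer_instance
  sq g := h.lam_sq g
  one n hn := h.lam_K n (Subgroup.mem_subgroupOf.1 hn)
  ne := by
    obtain ⟨s, hs, hs1⟩ := h.lam_ne
    exact ⟨⟨s, (le_sup_right : M ≤ K ⊔ M) hs⟩, Subgroup.mem_subgroupOf.2 hs, hs1⟩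
  comm x y := by
    have := h.normal
    rw [Subgroup.mem_subgroupOf]
    show (x : C) * y * (x : C)⁻¹ * (y : C)⁻¹ ∈ K
    obtain ⟨k, hk, m, hm, hx⟩ := Subgroup.mem_sup_of_normal_left.1 x.2
    obtain ⟨k', hk', m', hm', hy⟩ := Subgroup.mem_sup_of_normal_left.1 y.2
    rw [← hx, ← hy]
    rw [← QuotientGroup.eq_one_iff]
    have h1 : ((m * m' * m⁻¹ * m'⁻¹ : C) : C ⧸ K) = 1 :=
      (QuotientGroup.eq_one_iff _).2 (h.comm m hm m' hm')
    have h2 : ((k : C) : C ⧸ K) = 1 := (QuotientGroup.eq_one_iff _).2 hk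
    have h3 : ((k' : C) : C ⧸ K) = 1 := (QuotientGroup.eq_one_iff _).2 hk'
    rw [QuotientGroup.mk_mul, QuotientGroup.mk_mul, QuotientGroup.mk_mul, QuotientGroup.mk_inv,
      QuotientGroup.mk_inv, QuotientGroup.mk_mul, QuotientGroup.mk_mul, h2, h3, one_mul, one_mul,
      ← QuotientGroup.mk_inv, ← QuotientGroup.mk_inv, ← QuotientGroup.mk_mul,
      ← QuotientGroup.mk_mul, ← QuotientGroup.mk_mul]
    exact h1
  sup := by
    rw [← Subgroup.subgroupOf_sup (le_sup_left) (le_sup_right), Subgroup.subgroupOf_self]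
  ti s hs hs1 g hg := by
    rw [Subgroup.mem_subgroupOf] at hs hg ⊢
    rcases h.ti s hs hs1 g hg with h1 | h1
    · exact h1
    · exfalso
      apply h.w_notMem
      have h2 : (g : C) * ((w⁻¹ * (g : C))⁻¹) ∈ K ⊔ M :=
        (K ⊔ M).mul_mem g.2 ((K ⊔ M).inv_mem ((le_sup_right : M ≤ K ⊔ M) h1))
      have h3 : (g : C) * ((w⁻¹ * (g : C))⁻¹) = w := by group
      rwa [h3] at h2

/-- A linear character of `M` as a linear character of the subgroup `M` of `K M`. -/
def up (K : Subgroup C) (ξ : M →* ℂˣ) : ↥(M.subgroupOf (K ⊔ M)) →* ℂˣ :=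
  ξ.comp (Subgroup.subgroupOfEquivOfLe (le_sup_right : M ≤ K ⊔ M)).toMonoidHom

theorem up_apply (ξ : M →* ℂˣ) (s : M) :
    up K ξ ⟨⟨s, (le_sup_right : M ≤ K ⊔ M) s.2⟩, Subgroup.mem_subgroupOf.2 s.2⟩ = ξ s := rfl

/-- The value of `Ind (ξ - ξ lam)` on `M - ker lam`. -/
theorem indFun_apply [Fintype C] (h : WrHyp K M lam w) (ξ : M →* ℂˣ) {s : M}
    (hs : lam (s : C) ≠ 1) :
    indFun M (dif M lam ξ) s = 2 * ((ξ s : ℂ) + (conjHom h.conj_mem ξ s : ℂ)) := by
  classical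
  have hwM : w ∉ M := fun hw => h.w_notMem ((le_sup_right : M ≤ K ⊔ M) hw)
  have hsw : lam (w⁻¹ * s * w) ≠ 1 := by rwa [lam_conj]
  have h0 : ∀ (c : ℂ), ∑ x : C, (if x ∈ M then c else 0) = Nat.card M * c := by
    intro c
    rw [← Finset.sum_filter, Finset.sum_const, nsmul_eq_mul]
    congr 2
    rw [Nat.card_eq_fintype_card, Fintype.card_subtype]
  have h1 : ∀ x : C, extendByZero M (dif M lam ξ) (x⁻¹ * s * x) =
      (if x ∈ M then 2 * (ξ s : ℂ) else 0) +
        (if w⁻¹ * x ∈ M then 2 * (conjHom h.conj_mem ξ s : ℂ) else 0) := by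
    intro x
    by_cases hx : x ∈ M
    · have hx' : w⁻¹ * x ∉ M := fun hx' => hwM (by
        have := M.mul_mem hx (M.inv_mem hx')
        rwa [mul_inv_rev, inv_inv, mul_inv_cancel_left] at this)
      have hmem : x⁻¹ * s * x ∈ M := M.mul_mem (M.mul_mem (M.inv_mem hx) s.2) hx
      rw [if_pos hx, if_neg hx', add_zero, IndFun.extendByZero_mem M _ hmem,
        ← dif_of_ne h.lam_sq ξ hs, ← dif_conj lam ξ ⟨x, hx⟩ s]
      rfl
    · rw [if_neg hx, zero_add]
      by_cases hx' : w⁻¹ * x ∈ M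
      · have e : x⁻¹ * s * x = (w⁻¹ * x)⁻¹ * (w⁻¹ * s * w) * (w⁻¹ * x) := by group
        have hmem : x⁻¹ * s * x ∈ M := by
          rw [e]
          exact M.mul_mem (M.mul_mem (M.inv_mem hx') (h.conj_mem s s.2)) hx'
        rw [if_pos hx', IndFun.extendByZero_mem M _ hmem, conjHom_apply,
          ← dif_of_ne h.lam_sq ξ (s := ⟨w⁻¹ * s * w, h.conj_mem s s.2⟩) hsw,
          ← dif_conj lam ξ ⟨w⁻¹ * x, hx'⟩ ⟨w⁻¹ * s * w, h.conj_mem s s.2⟩]
        congr 1
        exact Subtype.ext e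
      · rw [if_neg hx', IndFun.extendByZero_notMem M _ (fun hm => by
          rcases h.ti s s.2 hs x hm with h2 | h2
          · exact hx h2
          · exact hx' h2)]
  have h2 : ∑ x : C, (if w⁻¹ * x ∈ M then 2 * (conjHom h.conj_mem ξ s : ℂ) else 0) =
      Nat.card M * (2 * (conjHom h.conj_mem ξ s : ℂ)) := by
    rw [← h0]
    exact Fintype.sum_equiv (Equiv.mulLeft w⁻¹) _ _ (fun x => rfl)
  rw [IndFun.indFun_def, Finset.sum_congr rfl fun x _ => h1 x, Finset.sum_add_distrib, h0, h2]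
  have : (Nat.card M : ℂ) ≠ 0 := Nat.cast_ne_zero.2 Nat.card_pos.ne'
  field_simp

/-- A character attached to a free `ξ` is not invariant under multiplication by `lam`. -/
theorem ne_mul_lam [Fintype C] (h : WrHyp K M lam w) {ξ : M →* ℂˣ} (hfree : Free h ξ)
    {ψ : C → ℂ} (ha : Att M lam ξ ψ) : (fun g => (lam g : ℂ)) * ψ ≠ ψ := by
  intro hcon
  obtain ⟨-, σ, -, hF⟩ := ha
  have h1 : ∀ s : M, lam (s : C) ≠ 1 → (conjHom h.conj_mem ξ s : ℂ) = -(ξ s : ℂ) := by
    intro s hs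
    have h2 := indFun_apply h ξ hs
    rw [hF] at h2
    have h3 := congrFun hcon s
    rw [Pi.mul_apply] at h3
    have h4 : (2 : ℂ) * ((ξ s : ℂ) + (conjHom h.conj_mem ξ s : ℂ)) = 0 := by
      rw [← h2]
      linear_combination -σ * h3
    have h5 := (mul_eq_zero.1 h4).resolve_left two_ne_zero
    linear_combination h5
  obtain ⟨s0, hs0, h0⟩ := h.lam_ne
  apply hfree.2
  ext s
  rw [MonoidHom.mul_apply, Units.val_mul, lamM_apply]
  by_cases hs : lam (s : C) = 1
  · rw [hs, Units.val_one, mul_one]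
    have h2 := h1 (s * ⟨s0, hs0⟩) (by
      show lam ((s : C) * s0) ≠ 1
      rw [map_mul, hs, one_mul]
      exact h0)
    rw [map_mul, map_mul, Units.val_mul, Units.val_mul, h1 ⟨s0, hs0⟩ h0] at h2
    have h3 : (ξ ⟨s0, hs0⟩ : ℂ) ≠ 0 := Units.ne_zero _
    refine mul_right_cancel₀ h3 ?_
    linear_combination -h2
  · rw [h1 s hs, lam_eq_neg_one h.lam_sq hs, mul_neg_one]

theorem exists_zeta [Fintype C] [Fintype ↥(K ⊔ M)] (h : WrHyp K M lam w) {ξ : M →* ℂˣ}
    (hfree : Free h ξ) {ψ : C → ℂ} (ha : Att M lam ξ ψ) :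
    ∃ (ζ : ↥(K ⊔ M) → ℂ) (σ : ℂ), (σ = 1 ∨ σ = -1) ∧ IsIrrCharacter ↥(K ⊔ M) ζ ∧
      classInner (fun g : ↥(K ⊔ M) => ψ g) ζ ≠ 0 ∧
      IsIrrCharacter K (fun k : K => ζ ⟨k, (le_sup_left : K ≤ K ⊔ M) k.2⟩) ∧
      ∀ s : M, lam (s : C) ≠ 1 → ζ ⟨s, (le_sup_right : M ≤ K ⊔ M) s.2⟩ = σ * (ξ s : ℂ) := by
  classical
  have hne := ne_mul_lam h hfree ha
  obtain ⟨hψ, σ, hσ, hF⟩ := ha
  let _ : Fintype M := Fintype.ofFinite _
  set A := M.subgroupOf (K ⊔ M) with hA
  let _ : Fintype A := Fintype.ofFinite _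
  set l : ↥(K ⊔ M) →* ℂˣ := lam.comp (K ⊔ M).subtype with hl
  have hloc : Loc (K.subgroupOf (K ⊔ M)) A l := loc h
  obtain ⟨μ, hμ, hFD⟩ := hloc.exists_mu (up K ξ)
  have hKir := hloc.isIrr_restrict (up K ξ) hμ hFD
  have hψc : IsClassFunction C ψ := Core.isIrr_isClassFunction hψ
  have hψD : IsClassFunction ↥(K ⊔ M) (fun g : ↥(K ⊔ M) => ψ g) := fun g x => hψc g x
  -- the two inner products agree
  have h1 : classInner (indFun A (dif A l (up K ξ))) (fun g : ↥(K ⊔ M) => ψ g) = σ := by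
    have e1 := IndFun.classInner_indFun A (dif A l (up K ξ)) _ hψD
    have e2 := IndFun.classInner_indFun M (dif M lam ξ) _ hψc
    have e3 : classInner (dif A l (up K ξ)) (fun a : A => ψ ((a : ↥(K ⊔ M)) : C)) =
        classInner (dif M lam ξ) (fun m : M => ψ m) := by
      rw [Core.classInner_def, Core.classInner_def,
        Nat.card_congr (Subgroup.subgroupOfEquivOfLe (le_sup_right : M ≤ K ⊔ M)).toEquiv]
      congr 1
      exact Fintype.sum_equiv (Subgroup.subgroupOfEquivOfLe (le_sup_right : M ≤ K ⊔ M)).toEquiv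
        _ _ (fun a => rfl)
    rw [e1, e3, ← e2, hF]
    have e4 : (fun g => σ * (ψ g - ψ g * (lam g : ℂ))) = σ • (ψ - (fun g => (lam g : ℂ)) * ψ) := by
      funext g
      simp only [Pi.smul_apply, Pi.sub_apply, Pi.mul_apply, smul_eq_mul]
      ring
    rw [e4, Core.classInner_smul_left, Core.classInner_sub_left, Core.classInner_irr_self hψ,
      Core.classInner_irr_ne (AbelianQuotient.isIrr_linear_mul lam hψ) hψ hne, sub_zero, mul_one]
  have hσ0 : σ ≠ 0 := by rcases hσ with rfl | rfl <;> norm_num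
  have h2 : classInner μ (fun g : ↥(K ⊔ M) => ψ g) -
      classInner ((fun g => (l g : ℂ)) * μ) (fun g : ↥(K ⊔ M) => ψ g) = σ := by
    rw [← h1, hFD, ← Core.classInner_sub_left]
    congr 1
    funext g
    simp only [Pi.sub_apply, Pi.mul_apply]
    ring
  have hval : ∀ s : M, lam (s : C) ≠ 1 →
      μ ⟨s, (le_sup_right : M ≤ K ⊔ M) s.2⟩ = (ξ s : ℂ) := by
    intro s hs
    have h3 := hloc.indFun_apply (up K ξ)
      (s := ⟨⟨s, (le_sup_right : M ≤ K ⊔ M) s.2⟩, Subgroup.mem_subgroupOf.2 s.2⟩) hs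
    rw [up_apply, hFD] at h3
    have h4 : (l ⟨s, (le_sup_right : M ≤ K ⊔ M) s.2⟩ : ℂ) = -1 := lam_eq_neg_one h.lam_sq hs
    simp only [h4] at h3
    have h5 : (2 : ℂ) * μ ⟨s, (le_sup_right : M ≤ K ⊔ M) s.2⟩ = 2 * (ξ s : ℂ) := by
      rw [← h3]
      ring
    exact mul_left_cancel₀ two_ne_zero h5
  have hirrK : IsIrrCharacter K (fun k : K => μ ⟨k, (le_sup_left : K ≤ K ⊔ M) k.2⟩) := by
    have := Core.isIrr_comp
      (Subgroup.subgroupOfEquivOfLe (le_sup_left : K ≤ K ⊔ M)).symm.toMonoidHom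
      (Subgroup.subgroupOfEquivOfLe (le_sup_left : K ≤ K ⊔ M)).symm.surjective hKir
    exact this
  by_cases h3 : classInner μ (fun g : ↥(K ⊔ M) => ψ g) = 0
  · refine ⟨(fun g => (l g : ℂ)) * μ, -1, Or.inr rfl, AbelianQuotient.isIrr_linear_mul l hμ,
      ?_, ?_, ?_⟩
    · intro h4
      rw [← Core.classInner_conj_symm, map_eq_zero] at h4
      rw [h3, h4, sub_zero] at h2
      exact hσ0 h2.symm
    · have h4 : (fun k : K => ((fun g => (l g : ℂ)) * μ) ⟨k, (le_sup_left : K ≤ K ⊔ M) k.2⟩) =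
          (fun k : K => μ ⟨k, (le_sup_left : K ≤ K ⊔ M) k.2⟩) := by
        funext k
        rw [Pi.mul_apply]
        have h5 : l ⟨k, (le_sup_left : K ≤ K ⊔ M) k.2⟩ = 1 := h.lam_K k k.2
        rw [h5, Units.val_one, one_mul]
      rw [h4]
      exact hirrK
    · intro s hs
      rw [Pi.mul_apply, hval s hs]
      have h4 : (l ⟨s, (le_sup_right : M ≤ K ⊔ M) s.2⟩ : ℂ) = -1 := lam_eq_neg_one h.lam_sq hs
      rw [h4]
  · refine ⟨μ, 1, Or.inl rfl, hμ, ?_, hirrK, ?_⟩
    · intro h4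
      rw [← Core.classInner_conj_symm, map_eq_zero] at h4
      exact h3 h4
    · intro s hs
      rw [one_mul, hval s hs]

end Main

end Cfsg.Agent.Classification.QDW.WrLam
end

-- part: Classification/QDW/WrInv
section
/-!
# The wreathed case: attached characters over an invariant character of the core

`ψ ∈ Irr C` attached to a free linear character `ξ` of `M`, `ψ = e λ` on `K`, `λ` irreducible.
* `two_le`: `e ≥ 2`;
* `le_of_inv`: `e ≥ q - 1`;
* `le_of_inv_one`: if `K M ≤ T` then `e ≥ q + 1`;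
* `apply_of_eq`: if moreover `e = q + 1` and `λ(1) = 1`, then `ψ y = ξ y + ξ^w y` for
  `y ∈ M ∩ ker lam - K₁`.
-/

set_option autoImplicit false
set_option linter.unusedSectionVars false

namespace Cfsg.Agent.Classification.QDW.WrInv

open Cfsg Cfsg.Agent.Characters Cfsg.Agent.CharactersDeep
open Cfsg.Agent.Classification.QDW.WrDefs Cfsg.Agent.Classification.QDW.WrLam
open Cfsg.Agent.Classification.QDW.Coef Cfsg.Agent.Classification.QDW.WrFrob
open scoped ComplexConjugate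

universe u

variable {C : Type u} [Group C] {K M : Subgroup C} {lam : C →* ℂˣ} {w : C}

/-- The inclusion of `M` in `K M`. -/
def inM (K : Subgroup C) {M : Subgroup C} (s : M) : ↥(K ⊔ M) :=
  ⟨s, (le_sup_right : M ≤ K ⊔ M) s.2⟩

/-- The inclusion of `K` in `K M`. -/
def inK {K : Subgroup C} (M : Subgroup C) (k : K) : ↥(K ⊔ M) :=
  ⟨k, (le_sup_left : K ≤ K ⊔ M) k.2⟩

/-- The irreducible character of `K M` attached to `ξ`. -/
theorem exists_mu [Fintype C] [Fintype ↥(K ⊔ M)] [Fintype M] (h : WrHyp K M lam w)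
    (ξ : M →* ℂˣ) :
    ∃ μ : ↥(K ⊔ M) → ℂ, IsIrrCharacter ↥(K ⊔ M) μ ∧
      (∀ s : M, lam (s : C) ≠ 1 → μ (inM K s) = (ξ s : ℂ)) ∧
      IsIrrCharacter K (fun k : K => μ (inK M k)) ∧
      ∀ f : ↥(K ⊔ M) → ℂ, IsClassFunction ↥(K ⊔ M) f →
        classInner (dif M lam ξ) (fun s : M => f (inM K s)) =
          classInner μ f - classInner ((fun g : ↥(K ⊔ M) => (lam (g : C) : ℂ)) * μ) f := by
  classical
  set A := M.subgroupOf (K ⊔ M) with hA
  let _ : Fintype A := Fintype.ofFinite _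
  set l : ↥(K ⊔ M) →* ℂˣ := lam.comp (K ⊔ M).subtype with hl
  have hloc : _root_.Cfsg.Agent.Classification.QDW.WrLam.Loc (K.subgroupOf (K ⊔ M)) A l := loc h
  obtain ⟨μ, hμ, hFD⟩ := hloc.exists_mu (up K ξ)
  have hKir := hloc.isIrr_restrict (up K ξ) hμ hFD
  refine ⟨μ, hμ, ?_, ?_, ?_⟩
  · intro s hs
    have h3 := hloc.indFun_apply (up K ξ)
      (s := ⟨⟨s, (le_sup_right : M ≤ K ⊔ M) s.2⟩, Subgroup.mem_subgroupOf.2 s.2⟩) hs
    rw [up_apply, hFD] at h3
    have h4 : (l ⟨s, (le_sup_right : M ≤ K ⊔ M) s.2⟩ : ℂ) = -1 := lam_eq_neg_one h.lam_sq hs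
    simp only [h4] at h3
    have h5 : (2 : ℂ) * μ ⟨s, (le_sup_right : M ≤ K ⊔ M) s.2⟩ = 2 * (ξ s : ℂ) := by
      rw [← h3]
      ring
    exact mul_left_cancel₀ two_ne_zero h5
  · exact Core.isIrr_comp
      (Subgroup.subgroupOfEquivOfLe (le_sup_left : K ≤ K ⊔ M)).symm.toMonoidHom
      (Subgroup.subgroupOfEquivOfLe (le_sup_left : K ≤ K ⊔ M)).symm.surjective hKir
  · intro f hf
    have e1 := IndFun.classInner_indFun A (dif A l (up K ξ)) f hf
    have e3 : classInner (dif A l (up K ξ)) (fun a : A => f (a : ↥(K ⊔ M))) =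
        classInner (dif M lam ξ) (fun s : M => f (inM K s)) := by
      rw [Core.classInner_def, Core.classInner_def,
        Nat.card_congr (Subgroup.subgroupOfEquivOfLe (le_sup_right : M ≤ K ⊔ M)).toEquiv]
      congr 1
      exact Fintype.sum_equiv (Subgroup.subgroupOfEquivOfLe (le_sup_right : M ≤ K ⊔ M)).toEquiv
        _ _ (fun a => rfl)
    rw [← e3, ← e1, hFD, ← Core.classInner_sub_left]
    congr 1
    funext g
    simp only [Pi.sub_apply, Pi.mul_apply]
    rw [hl]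
    show μ g - μ g * ((lam (g : C) : ℂˣ) : ℂ) = _
    ring

/-- An irreducible character of `K M` not orthogonal to `ξ - ξ lam` is `± ξ` on `M - ker lam`. -/
theorem eq_of_inner [Fintype C] [Fintype M] (h : WrHyp K M lam w) {ξ : M →* ℂˣ}
    {χ : ↥(K ⊔ M) → ℂ} (hχ : IsIrrCharacter ↥(K ⊔ M) χ)
    (hne : classInner (dif M lam ξ) (fun s : M => χ (inM K s)) ≠ 0) :
    ∃ τ : ℂ, (τ = 1 ∨ τ = -1) ∧ ∀ s : M, lam (s : C) ≠ 1 → χ (inM K s) = τ * (ξ s : ℂ) := by
  classical
  let _ : Fintype ↥(K ⊔ M) := Fintype.ofFinite _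
  obtain ⟨μ, hμ, hval, -, hin⟩ := exists_mu h ξ
  rw [hin χ (Core.isIrr_isClassFunction hχ)] at hne
  have hl := AbelianQuotient.isIrr_linear_mul (lam.comp (K ⊔ M).subtype) hμ
  by_cases h1 : μ = χ
  · refine ⟨1, Or.inl rfl, fun s hs => ?_⟩
    rw [← h1, hval s hs, one_mul]
  · by_cases h2 : (fun g : ↥(K ⊔ M) => (lam (g : C) : ℂ)) * μ = χ
    · refine ⟨-1, Or.inr rfl, fun s hs => ?_⟩
      rw [← h2, Pi.mul_apply, hval s hs]
      show (lam (s : C) : ℂ) * _ = _
      rw [lam_eq_neg_one h.lam_sq hs]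
    · exfalso
      apply hne
      rw [Core.classInner_irr_ne hμ hχ h1, zero_sub, neg_eq_zero]
      exact Core.classInner_irr_ne hl hχ h2

theorem inner_sum [Fintype M] (h : WrHyp K M lam w) {ξ : M →* ℂˣ} (hfree : Free h ξ)
    {f : M → ℂ} {σ : ℂ} (hσ : σ = 1 ∨ σ = -1)
    (hf : ∀ s : M, lam (s : C) ≠ 1 → f s = σ * ((ξ s : ℂ) + (conjHom h.conj_mem ξ s : ℂ))) :
    classInner (dif M lam ξ) f = σ := by
  classical
  have h1 : classInner (dif M lam ξ) f = classInner (dif M lam ξ)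
      ((σ / 2) • (dif M lam ξ + dif M lam (conjHom h.conj_mem ξ))) := by
    refine WrTI.classInner_dif_congr ξ fun s hs => ?_
    rw [hf s hs, Pi.smul_apply, Pi.add_apply, WrTI.dif_eq h.lam_sq hs, WrTI.dif_eq h.lam_sq hs,
      smul_eq_mul]
    ring
  have hl : ξ ≠ ξ * lamM M lam := by
    intro h1
    obtain ⟨s, hs, hs1⟩ := h.lam_ne
    apply hs1
    have h3 := DFunLike.congr_fun h1 ⟨s, hs⟩
    rw [MonoidHom.mul_apply, lamM_apply] at h3
    exact (left_eq_mul.1 h3)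
  have hl2 : ξ ≠ conjHom h.conj_mem ξ * lamM M lam := by
    intro h1
    apply hfree.2
    rw [← WrTI.mul_lamM_lamM h.lam_sq (conjHom h.conj_mem ξ), ← h1]
  rw [h1, Core.classInner_smul_right, Core.classInner_add_right, WrTI.classInner_dif h.lam_sq,
    WrTI.classInner_dif h.lam_sq, if_pos rfl, if_neg hl, if_neg (Ne.symm hfree.1), if_neg hl2]
  have h2 : conj (2 : ℂ) = 2 := Complex.conj_ofNat 2
  rcases hσ with rfl | rfl
  · rw [map_div₀, map_one, h2]
    norm_num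
  · rw [map_div₀, map_neg, map_one, h2]
    norm_num

theorem norm_hom (ξ : M →* ℂˣ) [Finite M] (s : M) : ‖(ξ s : ℂ)‖ = 1 := Linear.norm_hom_apply ξ s

theorem false_of_sum [Finite M] (h : WrHyp K M lam w) {ξ : M →* ℂˣ} {σ τ : ℂ}
    (hσ : σ = 1 ∨ σ = -1) (hτ : τ = 1 ∨ τ = -1)
    (hval : ∀ s : M, lam (s : C) ≠ 1 →
      τ * (ξ s : ℂ) = σ * ((ξ s : ℂ) + (conjHom h.conj_mem ξ s : ℂ))) : False := by
  obtain ⟨s, hs, hs1⟩ := h.lam_ne
  have h1 := hval ⟨s, hs⟩ hs1
  have h2 := norm_hom ξ ⟨s, hs⟩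
  have h3 := norm_hom (conjHom h.conj_mem ξ) ⟨s, hs⟩
  have h4 : (conjHom h.conj_mem ξ ⟨s, hs⟩ : ℂ) = 0 ∨
      (conjHom h.conj_mem ξ ⟨s, hs⟩ : ℂ) = -2 * (ξ ⟨s, hs⟩ : ℂ) := by
    rcases hσ with rfl | rfl <;> rcases hτ with rfl | rfl
    · left
      linear_combination -h1
    · right
      linear_combination -h1
    · right
      linear_combination h1
    · left
      linear_combination h1
  rcases h4 with h4 | h4
  · rw [h4, norm_zero] at h3
    norm_num at h3
  · rw [h4, norm_mul, h2] at h3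
    norm_num at h3

/-- No character of `K M` with irreducible restriction to `K` is `± (ξ + ξ^w)` on `M - ker lam`. -/
theorem not_irr [Finite C] (h : WrHyp K M lam w) {ξ : M →* ℂˣ} (hfree : Free h ξ)
    {χ : ↥(K ⊔ M) → ℂ} (hχ : IsCharacter ↥(K ⊔ M) χ)
    (hK : IsIrrCharacter K (fun k : K => χ (inK M k))) {σ : ℂ} (hσ : σ = 1 ∨ σ = -1)
    (hval : ∀ s : M, lam (s : C) ≠ 1 →
      χ (inM K s) = σ * ((ξ s : ℂ) + (conjHom h.conj_mem ξ s : ℂ))) : False := by
  classical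
  let _ : Fintype C := Fintype.ofFinite _
  let _ : Fintype M := Fintype.ofFinite _
  have hirr : IsIrrCharacter ↥(K ⊔ M) χ :=
    Inertia.irr_of_comp_irr (Subgroup.inclusion (le_sup_left : K ≤ K ⊔ M)) hχ hK
  have h1 := inner_sum h hfree hσ hval
  have hσ0 : σ ≠ 0 := by rcases hσ with rfl | rfl <;> norm_num
  obtain ⟨τ, hτ, h2⟩ := eq_of_inner h (ξ := ξ) hirr (by rw [h1]; exact hσ0)
  exact false_of_sum h hσ hτ fun s hs => by rw [← h2 s hs, hval s hs]

/-- The values on `M - ker lam` of an attached character. -/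
theorem att_apply [Fintype C] (h : WrHyp K M lam w) {ξ : M →* ℂˣ} {ψ : C → ℂ}
    (ha : Att M lam ξ ψ) : ∃ σ : ℂ, (σ = 1 ∨ σ = -1) ∧ ∀ s : M, lam (s : C) ≠ 1 →
      ψ s = σ * ((ξ s : ℂ) + (conjHom h.conj_mem ξ s : ℂ)) := by
  obtain ⟨-, σ, hσ, hF⟩ := ha
  refine ⟨σ, hσ, fun s hs => ?_⟩
  have h1 := WrLam.indFun_apply h ξ hs
  rw [hF] at h1
  simp only [lam_eq_neg_one h.lam_sq hs] at h1
  have h2 : σ * σ = 1 := by rcases hσ with rfl | rfl <;> norm_num
  have h3 : (2 : ℂ) * ψ s = 2 * (σ * ((ξ s : ℂ) + (conjHom h.conj_mem ξ s : ℂ))) := by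
    linear_combination σ * h1 - 2 * ψ s * h2
  exact mul_left_cancel₀ two_ne_zero h3

/-- The multiplicity is at least two. -/
theorem two_le [Fintype C] (h : WrHyp K M lam w) {ξ : M →* ℂˣ} (hfree : Free h ξ) {ψ : C → ℂ}
    (ha : Att M lam ξ ψ) {la : K → ℂ} (hla : IsIrrCharacter K la) {e : ℕ}
    (he : ∀ k : K, ψ k = e * la k) : 2 ≤ e := by
  by_contra hcon
  have hψ := ha.1
  rcases Nat.lt_or_ge e 1 with h1 | h1
  · have h2 : e = 0 := by omega
    have h3 := he 1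
    rw [h2, Nat.cast_zero, zero_mul] at h3
    exact Core.isIrr_apply_one_ne_zero hψ h3
  · have h2 : e = 1 := by omega
    subst h2
    obtain ⟨σ, hσ, hval⟩ := att_apply h ha
    refine not_irr h hfree (χ := fun g : ↥(K ⊔ M) => ψ g)
      (Core.isCharacter_comp (K ⊔ M).subtype (Core.isIrr_isCharacter hψ)) ?_ hσ hval
    have h3 : (fun k : K => ψ ((inK M k : ↥(K ⊔ M)) : C)) = la := by
      funext k
      show ψ (k : C) = _
      rw [he k, Nat.cast_one, one_mul]
    rw [h3]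
    exact hla

section Frob

variable {q : ℕ} {B K₁ X T : Subgroup C} {z : C} {m : ℕ}

/-- The character of `K₁`. -/
theorem exists_ext [Finite C] (hd : FrobData K lam q B K₁ X T z m) {ψ : C → ℂ}
    (hψ : IsIrrCharacter C ψ) {la : K → ℂ} (hla : IsIrrCharacter K la) {e : ℕ}
    (he : ∀ k : K, ψ k = e * la k) :
    ∃ μ : K₁ → ℂ, IsIrrCharacter K₁ μ ∧ (∀ x : K₁, ψ x = e * μ x) ∧
      ∀ k : K, μ ⟨k, hd.ext.le k.2⟩ = la k := by
  classical
  have hK₁ := hd.ext.normal'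
  have hKn := hd.ext.normal
  let _ : Fintype C := Fintype.ofFinite _
  let _ : Fintype K₁ := Fintype.ofFinite _
  let _ : Fintype (K.subgroupOf K₁) := Fintype.ofFinite _
  have he0 : e ≠ 0 := by
    rintro rfl
    have h1 := he 1
    rw [Nat.cast_zero, zero_mul] at h1
    exact Core.isIrr_apply_one_ne_zero hψ h1
  have hcl := Core.isIrr_isClassFunction hψ
  -- `la` is invariant
  have hinv : ∀ (g : C) (k : K), la ⟨g * k * g⁻¹, hd.ext.normal.conj_mem k k.2 g⟩ = la k := by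
    intro g k
    have h1 := he ⟨g * k * g⁻¹, hd.ext.normal.conj_mem k k.2 g⟩
    have h2 := he k
    have h3 : ψ (g * k * g⁻¹) = ψ k := hcl k g
    change ψ (g * k * g⁻¹) = _ at h1
    rw [h3, h2] at h1
    exact (mul_left_cancel₀ (Nat.cast_ne_zero.2 he0) h1).symm
  have hψ₁ : IsCharacter K₁ (fun x : K₁ => ψ x) :=
    Clifford.isCharacter_restrict K₁ (Core.isIrr_isCharacter hψ)
  obtain ⟨μ, χ, hμ, hχ, hadd, -⟩ := exists_constituent (LinearMap.proj (1 : K₁)) hψ₁
    (Core.isIrr_apply_one_ne_zero hψ)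
  -- the restriction of `μ` to `K` is a multiple of `la`
  let i : K →* K₁ := Subgroup.inclusion hd.ext.le
  obtain ⟨n, hn⟩ := Inertia.exists_mult_of_add hla (Core.isCharacter_comp i
    (Core.isIrr_isCharacter hμ)) (Core.isCharacter_comp i hχ) (d := e) (fun k => by
      rw [← he k]
      exact (congrFun hadd (i k)).symm)
  have hn0 : n ≠ 0 := by
    rintro rfl
    have h1 := hn 1
    rw [Nat.cast_zero, zero_mul] at h1
    have h2 : (μ ∘ i) 1 = μ 1 := congrArg μ (map_one i)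
    rw [h2] at h1
    exact Core.isIrr_apply_one_ne_zero hμ h1
  -- it is equal to `la`
  let e₁ : K.subgroupOf K₁ ≃* K := Subgroup.subgroupOfEquivOfLe hd.ext.le
  have hla' : IsIrrCharacter (K.subgroupOf K₁) (fun k => la (e₁ k)) :=
    Core.isIrr_comp e₁.toMonoidHom e₁.surjective hla
  have hres' : (fun k : K.subgroupOf K₁ => μ k) = (n : ℂ) • fun k => la (e₁ k) := by
    funext k
    exact hn (e₁ k)
  have hres : ∀ k : K, μ ⟨k, hd.ext.le k.2⟩ = la k := by
    intro k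
    have h1 := FrobLift.restrict_eq (K.subgroupOf K₁) (hd.ext.cyclic inferInstance) hla'
      (fun g x => hinv (g : C) (e₁ x)) hμ (by
        rw [hres', Core.classInner_smul_left, Core.classInner_irr_self hla', mul_one]
        exact Nat.cast_ne_zero.2 hn0) ⟨⟨k, hd.ext.le k.2⟩, Subgroup.mem_subgroupOf.2 k.2⟩
    exact h1
  have hinvμ := hd.ext.inv hμ hla hinv hres
  have hstab : Inertia.stab K₁ μ = ⊤ := by
    rw [eq_top_iff]
    intro g _
    exact Inertia.mem_stab.2 fun k => hinvμ g k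
  obtain ⟨d, -, hdψ⟩ := Inertia.exists_mult hμ hstab hψ hχ (fun k => congrFun hadd k)
  have hde : (d : ℂ) = e := by
    have h1 := hdψ 1
    have h2 := he 1
    have h3 : ψ ((1 : K₁) : C) = ψ ((1 : K) : C) := rfl
    have h4 : μ 1 = la 1 := hres 1
    rw [h3, h2, h4] at h1
    exact (mul_right_cancel₀ (Core.isIrr_apply_one_ne_zero hla) h1).symm
  refine ⟨μ, hμ, fun x => ?_, hres⟩
  rw [hdψ x, hde]

/-- The decomposition of `ψ` on `B`. -/
theorem exists_split [Fintype C] (h : WrHyp K M lam w) (hd : FrobData K lam q B K₁ X T z m)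
    {ξ : M →* ℂˣ} (hfree : Free h ξ) {ψ : C → ℂ} (ha : Att M lam ξ ψ) {la : K → ℂ}
    (hla : IsIrrCharacter K la) {e : ℕ} (he : ∀ k : K, ψ k = e * la k) :
    q - 1 ≤ e ∧ ∃ (μ : K₁ → ℂ) (η χ : B → ℂ), IsIrrCharacter K₁ μ ∧ IsIrrCharacter B η ∧
      IsCharacter B χ ∧ (∀ x : K₁, ψ x = e * μ x) ∧ (∀ k : K, μ ⟨k, hd.ext.le k.2⟩ = la k) ∧
      (∀ b : B, ψ b = η b + χ b) ∧
      (∀ x : K₁, χ ⟨x, hd.le x.2⟩ = ((e - (q - 1) : ℕ) : ℂ) * μ x) ∧
      ∀ g : B, (g : C) ∈ T → (g : C) ∉ K₁ → η g = 0 := by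
  have hψ := ha.1
  obtain ⟨μ, hμ, heμ, hres⟩ := exists_ext hd hψ hla he
  obtain ⟨η, χ, hη, hχ, hadd, hηd, hηT⟩ := hd.exists_big hψ hμ (two_le h hfree ha hla he) heμ
  have hle : q - 1 ≤ e := by
    obtain ⟨a, ha0, ha1⟩ := Core.isIrr_apply_one hμ
    obtain ⟨b, hb⟩ := Core.isCharacter_apply_one hχ
    have h1 := hadd 1
    have h2 := heμ 1
    have h3 := hηd 1
    have h4 : ψ ((1 : B) : C) = ψ ((1 : K₁) : C) := rfl
    have h5 : η ⟨((1 : K₁) : C), hd.le (1 : K₁).2⟩ = η 1 := rfl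
    rw [h5] at h3
    rw [h4, h2, h3, ha1, hb] at h1
    have h6 : e * a = (q - 1) * a + b := by exact_mod_cast h1
    by_contra hcon
    push Not at hcon
    have h7 : e * a < (q - 1) * a := Nat.mul_lt_mul_of_pos_right hcon ha0
    omega
  refine ⟨hle, μ, η, χ, hμ, hη, hχ, heμ, hres, hadd, fun x => ?_, hηT⟩
  have h1 := hadd ⟨x, hd.le x.2⟩
  have h2 := heμ x
  have h3 := hηd x
  have h4 : ψ ((⟨x, hd.le x.2⟩ : B) : C) = ψ x := rfl
  rw [h4, h2, h3] at h1
  rw [Nat.cast_sub hle]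
  linear_combination -h1

/-- `e ≥ q - 1`. -/
theorem le_of_inv [Fintype C] (h : WrHyp K M lam w) (hd : FrobData K lam q B K₁ X T z m)
    {ξ : M →* ℂˣ} (hfree : Free h ξ) {ψ : C → ℂ} (ha : Att M lam ξ ψ) {la : K → ℂ}
    (hla : IsIrrCharacter K la) {e : ℕ} (he : ∀ k : K, ψ k = e * la k) : q - 1 ≤ e :=
  (exists_split h hd hfree ha hla he).1

/-- On `M - ker lam`, the character `χ` has the values of `ψ`. -/
theorem chi_apply (hd : FrobData K lam q B K₁ X T z m)
    (hT : K ⊔ M ≤ T) {ψ : C → ℂ} {η χ : B → ℂ} (hadd : ∀ b : B, ψ b = η b + χ b)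
    (hηT : ∀ g : B, (g : C) ∈ T → (g : C) ∉ K₁ → η g = 0) {s : M} (hs : (s : C) ∉ K₁) :
    χ ⟨s, hd.T_le (hT ((le_sup_right : M ≤ K ⊔ M) s.2))⟩ = ψ s := by
  have h1 := hadd ⟨s, hd.T_le (hT ((le_sup_right : M ≤ K ⊔ M) s.2))⟩
  rw [hηT _ (hT ((le_sup_right : M ≤ K ⊔ M) s.2)) hs, zero_add] at h1
  exact h1.symm

theorem notMem_of_ne (hd : FrobData K lam q B K₁ X T z m) {s : C} (hs : lam s ≠ 1) : s ∉ K₁ :=
  fun h1 => hs (hd.lam_K₁ h1)

/-- If `K M ≤ T` then `e ≥ q + 1`. -/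
theorem le_of_inv_one [Fintype C] (h : WrHyp K M lam w) (hd : FrobData K lam q B K₁ X T z m)
    (hT : K ⊔ M ≤ T) {ξ : M →* ℂˣ} (hfree : Free h ξ) {ψ : C → ℂ} (ha : Att M lam ξ ψ)
    {la : K → ℂ} (hla : IsIrrCharacter K la) {e : ℕ} (he : ∀ k : K, ψ k = e * la k) :
    q + 1 ≤ e := by
  classical
  let _ : Fintype M := Fintype.ofFinite _
  obtain ⟨hle, μ, η, χ, hμ, hη, hχ, heμ, hres, hadd, hχd, hηT⟩ := exists_split h hd hfree ha hla he
  obtain ⟨σ, hσ, hval⟩ := att_apply h ha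
  have hDB : K ⊔ M ≤ B := hT.trans hd.T_le
  have hσ0 : σ ≠ 0 := by rcases hσ with rfl | rfl <;> norm_num
  have hχval : ∀ s : M, lam (s : C) ≠ 1 →
      χ ⟨s, hDB ((le_sup_right : M ≤ K ⊔ M) s.2)⟩ =
        σ * ((ξ s : ℂ) + (conjHom h.conj_mem ξ s : ℂ)) := by
    intro s hs
    rw [← hval s hs]
    exact chi_apply hd hT hadd hηT (notMem_of_ne hd hs)
  have hχK : ∀ k : K, χ ⟨k, hDB ((le_sup_left : K ≤ K ⊔ M) k.2)⟩ =
      ((e - (q - 1) : ℕ) : ℂ) * la k := by
    intro k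
    rw [← hres k]
    exact hχd ⟨k, hd.ext.le k.2⟩
  have hq := hd.frob.q_ge
  by_contra hcon
  have h1 : e - (q - 1) = 0 ∨ e - (q - 1) = 1 := by omega
  rcases h1 with h1 | h1
  · -- `χ = 0`
    have h2 : χ = 0 := by
      obtain ⟨N, ρ, rfl⟩ := hχ
      have h3 := hχK 1
      rw [h1, Nat.cast_zero, zero_mul] at h3
      have h4 : ρ.character 1 = 0 := h3
      rw [Representation.char_one] at h4
      have h5 : N = 0 := by simpa only [_root_.Module.finrank_fintype_fun_eq_card, _root_.Fintype.card_fin, _root_.Nat.cast_eq_zero] using h4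
      subst h5
      funext g
      show LinearMap.trace ℂ _ (ρ g) = 0
      rw [Subsingleton.elim (ρ g) 0, map_zero]
    have h3 := inner_sum h hfree hσ (f := fun s : M => 0) (fun s hs => by
      rw [← hχval s hs, h2]
      rfl)
    have h4 : (fun s : M => (0 : ℂ)) = 0 := rfl
    rw [h4, Core.classInner_zero_right] at h3
    exact hσ0 h3.symm
  · refine not_irr h hfree (χ := fun g : ↥(K ⊔ M) => χ ⟨g, hDB g.2⟩)
      (Core.isCharacter_comp (Subgroup.inclusion hDB) hχ) ?_ hσ hχval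
    have h3 : (fun k : K => χ ⟨((inK M k : ↥(K ⊔ M)) : C), hDB (inK M k).2⟩) = la := by
      funext k
      have h4 := hχK k
      rw [h1, Nat.cast_one, one_mul] at h4
      exact h4
    rw [h3]
    exact hla

theorem lin_cases [Fintype M] (h : WrHyp K M lam w) (ξ a : M →* ℂˣ) :
    classInner (dif M lam ξ) (fun s => (a s : ℂ)) = 0 ∨
      (classInner (dif M lam ξ) (fun s => (a s : ℂ)) = 1 ∧ a = ξ) ∨
      (classInner (dif M lam ξ) (fun s => (a s : ℂ)) = -1 ∧ a = ξ * lamM M lam) := by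
  classical
  have hl : ξ ≠ ξ * lamM M lam := by
    intro h1
    obtain ⟨s, hs, hs1⟩ := h.lam_ne
    apply hs1
    have h3 := DFunLike.congr_fun h1 ⟨s, hs⟩
    rw [MonoidHom.mul_apply, lamM_apply] at h3
    exact (left_eq_mul.1 h3)
  rw [WrTI.dif_eq_sub, Core.classInner_sub_left, WrTI.classInner_hom, WrTI.classInner_hom]
  by_cases h1 : ξ = a
  · right
    left
    rw [if_pos h1, if_neg (fun h2 => hl (h1.trans h2.symm)), sub_zero]
    exact ⟨rfl, h1.symm⟩
  · by_cases h2 : ξ * lamM M lam = a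
    · right
      right
      rw [if_neg h1, if_pos h2, zero_sub]
      exact ⟨rfl, h2.symm⟩
    · left
      rw [if_neg h1, if_neg h2, sub_zero]

theorem lin_apply [Fintype M] (h : WrHyp K M lam w) {ξ a : M →* ℂˣ} {σ : ℂ}
    (hσ : σ = 1 ∨ σ = -1) (ha : classInner (dif M lam ξ) (fun s => (a s : ℂ)) = σ) :
    (∀ s : M, lam (s : C) ≠ 1 → (a s : ℂ) = σ * (ξ s : ℂ)) ∧
      ∀ s : M, lam (s : C) = 1 → (a s : ℂ) = (ξ s : ℂ) := by
  have hσ0 : σ ≠ 0 := by rcases hσ with rfl | rfl <;> norm_num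
  rcases lin_cases h ξ a with h1 | ⟨h1, h2⟩ | ⟨h1, h2⟩
  · exact absurd (ha.symm.trans h1) hσ0
  · have h3 : σ = 1 := ha.symm.trans h1
    subst h3
    subst h2
    exact ⟨fun s _ => (one_mul _).symm, fun s _ => rfl⟩
  · have h3 : σ = -1 := ha.symm.trans h1
    subst h3
    subst h2
    refine ⟨fun s hs => ?_, fun s hs => ?_⟩
    · rw [MonoidHom.mul_apply, Units.val_mul, lamM_apply, lam_eq_neg_one h.lam_sq hs]
      ring
    · rw [MonoidHom.mul_apply, Units.val_mul, lamM_apply, hs, Units.val_one, mul_one]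

/-- Two linear characters of `M` with sum `± (ξ + ξ^w)` on `M - ker lam`. -/
theorem sum_apply [Fintype M] (h : WrHyp K M lam w) {ξ : M →* ℂˣ} (hfree : Free h ξ)
    {a b : M →* ℂˣ} {σ : ℂ} (hσ : σ = 1 ∨ σ = -1)
    (hab : ∀ s : M, lam (s : C) ≠ 1 →
      (a s : ℂ) + (b s : ℂ) = σ * ((ξ s : ℂ) + (conjHom h.conj_mem ξ s : ℂ)))
    {y : M} (hy : lam (y : C) = 1) :
    (a y : ℂ) + (b y : ℂ) = (ξ y : ℂ) + (conjHom h.conj_mem ξ y : ℂ) := by
  have hσ0 : σ ≠ 0 := by rcases hσ with rfl | rfl <;> norm_num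
  -- one of the two
  have key : ∀ a b : M →* ℂˣ, (∀ s : M, lam (s : C) ≠ 1 →
      (a s : ℂ) + (b s : ℂ) = σ * ((ξ s : ℂ) + (conjHom h.conj_mem ξ s : ℂ))) →
      classInner (dif M lam ξ) (fun s => (a s : ℂ)) = σ →
      (a y : ℂ) + (b y : ℂ) = (ξ y : ℂ) + (conjHom h.conj_mem ξ y : ℂ) := by
    intro a b hab ha
    obtain ⟨h1, h2⟩ := lin_apply h hσ ha
    have h3 : ∀ s : M, lam (s : C) ≠ 1 → (b s : ℂ) = σ * (conjHom h.conj_mem ξ s : ℂ) := by
      intro s hs
      have h4 := hab s hs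
      rw [h1 s hs] at h4
      linear_combination h4
    obtain ⟨s0, hs0, hs1⟩ := h.lam_ne
    have h4 := h3 (y * ⟨s0, hs0⟩) (by
      show lam ((y : C) * s0) ≠ 1
      rw [map_mul, hy, one_mul]
      exact hs1)
    rw [map_mul, map_mul, Units.val_mul, Units.val_mul, h3 ⟨s0, hs0⟩ hs1] at h4
    have h5 : (conjHom h.conj_mem ξ ⟨s0, hs0⟩ : ℂ) ≠ 0 := Units.ne_zero _
    have h6 : (b y : ℂ) = (conjHom h.conj_mem ξ y : ℂ) := by
      refine mul_right_cancel₀ (mul_ne_zero hσ0 h5) ?_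
      linear_combination h4
    rw [h2 y hy, h6]
  have h1 := inner_sum h hfree hσ (f := fun s : M => (a s : ℂ) + (b s : ℂ)) hab
  have h2 : (fun s : M => (a s : ℂ) + (b s : ℂ)) =
      (fun s : M => (a s : ℂ)) + fun s : M => (b s : ℂ) := rfl
  rw [h2, Core.classInner_add_right] at h1
  have hab' : ∀ s : M, lam (s : C) ≠ 1 →
      (b s : ℂ) + (a s : ℂ) = σ * ((ξ s : ℂ) + (conjHom h.conj_mem ξ s : ℂ)) := by
    intro s hs
    rw [add_comm]
    exact hab s hs
  rcases lin_cases h ξ a with h3 | ⟨h3, -⟩ | ⟨h3, -⟩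
  · rw [h3, zero_add] at h1
    rw [add_comm (a y : ℂ)]
    exact key b a hab' h1
  · rcases lin_cases h ξ b with h4 | ⟨h4, -⟩ | ⟨h4, -⟩
    · rw [h4, add_zero] at h1
      exact key a b hab h1
    · exfalso
      rw [h3, h4] at h1
      rcases hσ with rfl | rfl <;> norm_num at h1
    · exfalso
      rw [h3, h4] at h1
      rcases hσ with rfl | rfl <;> norm_num at h1
  · rcases lin_cases h ξ b with h4 | ⟨h4, -⟩ | ⟨h4, -⟩
    · rw [h4, add_zero] at h1
      exact key a b hab h1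
    · exfalso
      rw [h3, h4] at h1
      rcases hσ with rfl | rfl <;> norm_num at h1
    · exfalso
      rw [h3, h4] at h1
      rcases hσ with rfl | rfl <;> norm_num at h1

/-- The values on `M ∩ ker lam - K₁` in the case of equality. -/
theorem apply_of_eq [Fintype C] (h : WrHyp K M lam w) (hd : FrobData K lam q B K₁ X T z m)
    (hT : K ⊔ M ≤ T) {ξ : M →* ℂˣ} (hfree : Free h ξ) {ψ : C → ℂ} (ha : Att M lam ξ ψ)
    {la : K → ℂ} (hla : IsIrrCharacter K la) (hla1 : la 1 = 1)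
    (he : ∀ k : K, ψ k = ((q + 1 : ℕ) : ℂ) * la k) {y : M} (hy : lam (y : C) = 1)
    (hyK : (y : C) ∉ K₁) : ψ y = (ξ y : ℂ) + (conjHom h.conj_mem ξ y : ℂ) := by
  classical
  let _ : Fintype M := Fintype.ofFinite _
  obtain ⟨hle, μ, η, χ, hμ, hη, hχ, heμ, hres, hadd, hχd, hηT⟩ := exists_split h hd hfree ha hla he
  obtain ⟨σ, hσ, hval⟩ := att_apply h ha
  have hDB : K ⊔ M ≤ B := hT.trans hd.T_le
  have hq := hd.frob.q_ge
  have hcl := Core.isIrr_isClassFunction ha.1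
  have e1 : q + 1 - (q - 1) = 2 := by omega
  rw [e1] at hχd
  have hμ1 : μ 1 = 1 := by rw [← hla1]; exact hres 1
  have hχ1 : χ 1 = 2 := by
    have h1 := hχd 1
    rw [hμ1] at h1
    push_cast at h1
    rw [mul_one] at h1
    exact h1
  -- a constituent of `χ`
  obtain ⟨α, β, hα, hβ, hαβ, -⟩ := exists_constituent (LinearMap.proj (1 : B)) hχ (by
    show χ 1 ≠ 0
    rw [hχ1]
    norm_num)
  have hηβ : IsCharacter B (fun b => η b + β b) :=
    Core.isCharacter_add (Core.isIrr_isCharacter hη) hβ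
  obtain ⟨n, hn, hn2⟩ := hd.constituent hcl hμ (d := q + 1) (by omega) heμ hα hηβ (fun b => by
    rw [hadd b, hαβ, Pi.add_apply]
    ring)
  have hα1 : α 1 = n := by
    have h1 := hn 1
    rw [hμ1, mul_one] at h1
    exact h1
  obtain ⟨b, hb⟩ := Core.isCharacter_apply_one hβ
  have hnb : n + b = 2 := by
    have h1 := congrFun hαβ 1
    rw [Pi.add_apply, hχ1, hα1, hb] at h1
    exact_mod_cast h1.symm
  have hn1 : n = 1 := by
    rcases hn2 with h1 | ⟨h1, -⟩
    · exact h1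
    · omega
  have hb1 : b = 1 := by omega
  subst hn1
  subst hb1
  obtain ⟨a', ha'⟩ := Linear.exists_hom_of_isCharacter (Core.isIrr_isCharacter hα)
    (by rw [hα1, Nat.cast_one])
  obtain ⟨b', hb'⟩ := Linear.exists_hom_of_isCharacter hβ (by rw [hb, Nat.cast_one])
  let i : M →* B := Subgroup.inclusion ((le_sup_right : M ≤ K ⊔ M).trans hDB)
  have hsum : ∀ s : M, (s : C) ∉ K₁ → ((a'.comp i) s : ℂ) + ((b'.comp i) s : ℂ) = ψ s := by
    intro s hs
    rw [← chi_apply hd hT hadd hηT hs, hαβ, Pi.add_apply, ha', hb']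
    rfl
  rw [← hsum y hyK]
  refine sum_apply h hfree hσ (fun s hs => ?_) hy
  rw [hsum s (notMem_of_ne hd hs), hval s hs]

end Frob

end Cfsg.Agent.Classification.QDW.WrInv
end

-- part: Classification/QDW/WrX
section
/-!
# The wreathed case: the set `X` of linear characters of `M` and the inner products with `χ`

* `exists_X`: the linear characters of `M` trivial on `Hu` with value `-1` at `t`;
* `XHyp`: the hypotheses on `M`, `Hu`, `Hv`, `t`, `u`;
* `free`, `ineq`: the members of `X` are free and pairwise inequivalent;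
* `inner_eq`: `⟨Ind (ξ - ξ lam), χ⟩ = ε`.
-/

set_option autoImplicit false
set_option linter.unusedSectionVars false

namespace Cfsg.Agent.Classification.QDW.WrX

open Cfsg Cfsg.Agent.Characters WrDefs
open Cfsg.Agent.CharactersDeep
open scoped ComplexConjugate

universe u

variable {C : Type u} [Group C]

/-- The hypotheses on the torus `M` and its subgroups `Hu`, `Hv`. -/
structure XHyp (M Hu Hv : Subgroup C) (lam : C →* ℂˣ) (t u w : C) : Prop where
  t_mem : t ∈ M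
  t_sq : t * t = 1
  t_lam : lam t = 1
  t_notMem : t ∉ Hu
  Hu_le : Hu ≤ M
  comm : ∀ x ∈ M, ∀ y ∈ M, x * y * x⁻¹ * y⁻¹ ∈ Hu
  u_mem : u ∈ Hu
  u_lam : lam u = 1
  tu_mem : t * u ∈ Hv
  mem_Hv : ∀ y, y ∈ Hv ↔ w⁻¹ * y * w ∈ Hu
  lam_Hu : ∃ s ∈ Hu, lam s ≠ 1
  disj : ∀ s ∈ Hu, s ∈ Hv → lam s = 1

section XSet

variable {M Hu : Subgroup C} {t : C}

theorem normal_of_comm (hcomm : ∀ x ∈ M, ∀ y ∈ M, x * y * x⁻¹ * y⁻¹ ∈ Hu) :
    (Hu.subgroupOf M).Normal := by
  constructor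
  intro n hn g
  rw [Subgroup.mem_subgroupOf] at hn ⊢
  have h1 := hcomm g g.2 n n.2
  have h2 := Hu.mul_mem h1 hn
  have h3 : (g : C) * n * (g : C)⁻¹ * (n : C)⁻¹ * n = g * n * (g : C)⁻¹ := by group
  rw [h3] at h2
  exact h2

open scoped Classical in
/-- The set `X`. -/
theorem exists_X [Finite C] (hle : Hu ≤ M) (hcomm : ∀ x ∈ M, ∀ y ∈ M, x * y * x⁻¹ * y⁻¹ ∈ Hu)
    (ht : t ∈ M) (ht2 : t * t = 1) (htu : t ∉ Hu) :
    ∃ X : Finset (M →* ℂˣ), (∀ ξ, ξ ∈ X ↔ (∀ y (hy : y ∈ Hu), ξ ⟨y, hle hy⟩ = 1) ∧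
      (ξ ⟨t, ht⟩ : ℂ) = -1) ∧ 2 * X.card = Hu.relIndex M ∧
      ∀ y (hy : y ∈ M), 2 * ∑ ξ ∈ X, (ξ ⟨y, hy⟩ : ℂ) =
        Hu.relIndex M * ((if y ∈ Hu then 1 else 0) - (if y * t ∈ Hu then 1 else 0)) := by
  have hN := normal_of_comm hcomm
  obtain ⟨Λ, hΛ, hcard, h1, h2⟩ := AbelianQuotient.exists_linear_dual (Hu.subgroupOf M) (by
    intro x y
    rw [Subgroup.mem_subgroupOf]
    exact hcomm x x.2 y y.2)
  have hidx : (Hu.subgroupOf M).index = Hu.relIndex M := rfl
  have hval : ∀ y : M, ∑ l ∈ Λ, (l y : ℂ) = Hu.relIndex M * (if (y : C) ∈ Hu then 1 else 0) := by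
    intro y
    by_cases hy : (y : C) ∈ Hu
    · rw [h1 y (Subgroup.mem_subgroupOf.2 hy), if_pos hy, mul_one, hidx]
    · rw [h2 y (fun h => hy (Subgroup.mem_subgroupOf.1 h)), if_neg hy, mul_zero]
  have hsgn : ∀ l : M →* ℂˣ, (l ⟨t, ht⟩ : ℂ) = 1 ∨ (l ⟨t, ht⟩ : ℂ) = -1 := by
    intro l
    rw [← mul_self_eq_one_iff, ← Units.val_mul, ← map_mul]
    have h3 : (⟨t, ht⟩ * ⟨t, ht⟩ : M) = 1 := Subtype.ext ht2
    rw [h3, map_one, Units.val_one]
  have hsum : ∀ y (hy : y ∈ M), 2 * ∑ ξ ∈ Λ.filter (fun l => (l ⟨t, ht⟩ : ℂ) = -1),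
      (ξ ⟨y, hy⟩ : ℂ) =
        Hu.relIndex M * ((if y ∈ Hu then 1 else 0) - (if y * t ∈ Hu then 1 else 0)) := by
    intro y hy
    have h3 := hval ⟨y, hy⟩
    have h4 := hval ⟨y * t, M.mul_mem hy ht⟩
    rw [mul_sub, ← h3, ← h4, ← Finset.sum_sub_distrib, Finset.sum_filter, Finset.mul_sum]
    refine Finset.sum_congr rfl fun l _ => ?_
    have h5 : (⟨y * t, M.mul_mem hy ht⟩ : M) = ⟨y, hy⟩ * ⟨t, ht⟩ := rfl
    rw [h5, map_mul, Units.val_mul]
    rcases hsgn l with h6 | h6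
    · rw [h6, if_neg (by norm_num)]
      ring
    · rw [h6, if_pos rfl]
      ring
  refine ⟨Λ.filter (fun l => (l ⟨t, ht⟩ : ℂ) = -1), fun ξ => ?_, ?_, hsum⟩
  · rw [Finset.mem_filter, hΛ]
    constructor
    · rintro ⟨h3, h4⟩
      exact ⟨fun y hy => h3 ⟨y, hle hy⟩ (Subgroup.mem_subgroupOf.2 hy), h4⟩
    · rintro ⟨h3, h4⟩
      exact ⟨fun n hn => h3 n (Subgroup.mem_subgroupOf.1 hn), h4⟩
  · have h3 := hsum 1 M.one_mem
    rw [if_pos Hu.one_mem, one_mul, if_neg htu, sub_zero, mul_one] at h3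
    have h4 : ((2 * (Λ.filter (fun l => (l ⟨t, ht⟩ : ℂ) = -1)).card : ℕ) : ℂ) =
        (Hu.relIndex M : ℕ) := by
      push_cast
      rw [← h3]
      congr 1
      rw [Finset.cast_card]
      refine Finset.sum_congr rfl fun l _ => ?_
      have h5 : (⟨1, M.one_mem⟩ : M) = 1 := rfl
      rw [h5, map_one, Units.val_one]
    exact_mod_cast h4

end XSet

section Free

variable {K M Hu Hv : Subgroup C} {lam : C →* ℂˣ} {t u w : C}

/-- Membership in `X`. -/
def InX (h : XHyp M Hu Hv lam t u w) (ξ : M →* ℂˣ) : Prop :=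
  (∀ y (hy : y ∈ Hu), ξ ⟨y, h.Hu_le hy⟩ = 1) ∧ (ξ ⟨t, h.t_mem⟩ : ℂ) = -1

theorem tu_mem_M (_ : WrHyp K M lam w) (h : XHyp M Hu Hv lam t u w) : t * u ∈ M :=
  M.mul_mem h.t_mem (h.Hu_le h.u_mem)

theorem val_tu (h : XHyp M Hu Hv lam t u w) {ξ : M →* ℂˣ} (hξ : InX h ξ) (htu : t * u ∈ M) :
    (ξ ⟨t * u, htu⟩ : ℂ) = -1 := by
  have h1 : (⟨t * u, htu⟩ : M) = ⟨t, h.t_mem⟩ * ⟨u, h.Hu_le h.u_mem⟩ := rfl
  rw [h1, map_mul, Units.val_mul, hξ.2, hξ.1 u h.u_mem, Units.val_one, mul_one]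

theorem lam_tu (h : XHyp M Hu Hv lam t u w) : lam (t * u) = 1 := by
  rw [map_mul, h.t_lam, h.u_lam, one_mul]

theorem conj_val (hw : WrHyp K M lam w) (h : XHyp M Hu Hv lam t u w) {ξ : M →* ℂˣ}
    (hξ : InX h ξ) {y : C} (hy : y ∈ Hv) (hyM : y ∈ M) :
    conjHom hw.conj_mem ξ ⟨y, hyM⟩ = 1 := by
  rw [conjHom_apply]
  exact hξ.1 _ ((h.mem_Hv y).1 hy)

theorem free (hw : WrHyp K M lam w) (h : XHyp M Hu Hv lam t u w) {ξ : M →* ℂˣ}
    (hξ : InX h ξ) : Free hw ξ := by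
  have htu := tu_mem_M hw h
  have h1 := conj_val hw h hξ h.tu_mem htu
  have h2 := val_tu h hξ htu
  constructor
  · intro h3
    rw [h3] at h1
    rw [h1, Units.val_one] at h2
    norm_num at h2
  · intro h3
    rw [h3, MonoidHom.mul_apply, lamM_apply, lam_tu h, mul_one] at h1
    rw [h1, Units.val_one] at h2
    norm_num at h2

theorem ineq (hw : WrHyp K M lam w) (h : XHyp M Hu Hv lam t u w) {ξ ξ' : M →* ℂˣ}
    (hξ : InX h ξ) (hξ' : InX h ξ') (hne : ξ ≠ ξ') : WrTI.Ineq hw ξ ξ' := by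
  have htu := tu_mem_M hw h
  have h1 := conj_val hw h hξ' h.tu_mem htu
  have h2 := val_tu h hξ htu
  refine ⟨hne, ?_, ?_, ?_⟩
  · intro h3
    obtain ⟨s, hs, hs1⟩ := h.lam_Hu
    apply hs1
    have h4 := hξ.1 s hs
    rw [h3, MonoidHom.mul_apply, hξ'.1 s hs, one_mul, lamM_apply] at h4
    exact h4
  · intro h3
    rw [h3, h1, Units.val_one] at h2
    norm_num at h2
  · intro h3
    rw [h3, MonoidHom.mul_apply, h1, one_mul, lamM_apply] at h2
    rw [show lam ((⟨t * u, htu⟩ : M) : C) = 1 from lam_tu h, Units.val_one] at h2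
    norm_num at h2

end Free

section Inner

variable {K M Hu Hv : Subgroup C} {lam : C →* ℂˣ} {t u w : C}

theorem sum_hom {A : Type*} [Group A] [Fintype A] {f : A →* ℂˣ} (hf : ∃ a, f a ≠ 1) :
    ∑ a : A, (f a : ℂ) = 0 := by
  have h1 := sum_hom_units_eq_zero ((Units.coeHom ℂ).comp f) (by
    intro h2
    obtain ⟨a, ha⟩ := hf
    apply ha
    have := DFunLike.congr_fun h2 a
    exact Units.ext (by simpa using this))
  exact h1

open scoped Classical in
/-- The inner product of `Ind (ξ - ξ lam)` with `χ`. -/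
theorem inner_eq [Fintype C] [Fintype M] (hw : WrHyp K M lam w) (h : XHyp M Hu Hv lam t u w)
    {ξ : M →* ℂˣ} (hξ : InX h ξ) {χ : C → ℂ} (hχ : IsClassFunction C χ) {c : ℤ}
    (hval : ∀ s ∈ M, lam s ≠ 1 →
      χ s = 2 + (c : ℂ) * ((if s ∈ Hu then 1 else 0) + (if s ∈ Hv then 1 else 0))) :
    classInner (indFun M (dif M lam ξ)) χ * Hu.relIndex M = c := by
  have hHvM : ∀ s, s ∈ Hv → s ∈ M := by
    intro s hs
    have h1 := hw.conj_mem' _ (h.Hu_le ((h.mem_Hv s).1 hs))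
    have h2 : w * (w⁻¹ * s * w) * w⁻¹ = s := by group
    rwa [h2] at h1
  have htu := tu_mem_M hw h
  rw [IndFun.classInner_indFun M _ _ hχ,
    WrTI.classInner_dif_congr (g := fun s : M => 2 + (c : ℂ) *
      ((if (s : C) ∈ Hu then 1 else 0) + (if (s : C) ∈ Hv then 1 else 0))) ξ
    (fun s hs => hval s s.2 hs), Core.classInner_def]
  have hconj : ∀ s : M, conj (2 + (c : ℂ) *
      ((if (s : C) ∈ Hu then 1 else 0) + (if (s : C) ∈ Hv then 1 else 0))) =
      2 + (c : ℂ) * ((if (s : C) ∈ Hu then 1 else 0) + (if (s : C) ∈ Hv then 1 else 0)) := by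
    intro s
    split_ifs <;> simp only [map_add, map_mul, map_ofNat, map_intCast, map_one, map_zero]
  have e0 : ∑ s : M, dif M lam ξ s = 0 := by
    have h1 : ∑ s : M, (ξ s : ℂ) = 0 := sum_hom ⟨⟨t, h.t_mem⟩, fun h2 => by
      have h3 := hξ.2
      rw [h2, Units.val_one] at h3
      norm_num at h3⟩
    have h2 : ∑ s : M, ((ξ * lamM M lam) s : ℂ) = 0 := sum_hom ⟨⟨t, h.t_mem⟩, fun h2 => by
      rw [MonoidHom.mul_apply, lamM_apply, h.t_lam, mul_one] at h2
      have h3 := hξ.2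
      rw [h2, Units.val_one] at h3
      norm_num at h3⟩
    rw [WrTI.dif_eq_sub]
    simp only [Pi.sub_apply]
    rw [Finset.sum_sub_distrib, h1, h2, sub_zero]
  have eu : ∑ s : M, (if (s : C) ∈ Hu then dif M lam ξ s else 0) = Nat.card Hu := by
    let _ : Fintype (Hu.subgroupOf M) := Fintype.ofFinite _
    have h1 := FrobLift.sum_ite_mem (Hu.subgroupOf M) (fun s : M => dif M lam ξ s)
    simp only [Subgroup.mem_subgroupOf] at h1
    rw [h1]
    have h2 : ∀ s : Hu.subgroupOf M, dif M lam ξ s =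
        1 - ((lam.comp (M.subtype.comp (Hu.subgroupOf M).subtype)) s : ℂ) := by
      intro s
      rw [dif_apply, hξ.1 _ (Subgroup.mem_subgroupOf.1 s.2), Units.val_one, one_mul]
      rfl
    rw [Finset.sum_congr rfl fun s _ => h2 s, Finset.sum_sub_distrib, sum_hom, sub_zero]
    · rw [Finset.sum_const, nsmul_eq_mul, mul_one, Finset.card_univ, ← Nat.card_eq_fintype_card]
      exact_mod_cast Nat.card_congr (Subgroup.subgroupOfEquivOfLe h.Hu_le).toEquiv
    · obtain ⟨s, hs, hs1⟩ := h.lam_Hu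
      exact ⟨⟨⟨s, h.Hu_le hs⟩, Subgroup.mem_subgroupOf.2 hs⟩, hs1⟩
  have ev : ∑ s : M, (if (s : C) ∈ Hv then dif M lam ξ s else 0) = 0 := by
    let _ : Fintype (Hv.subgroupOf M) := Fintype.ofFinite _
    have h1 := FrobLift.sum_ite_mem (Hv.subgroupOf M) (fun s : M => dif M lam ξ s)
    simp only [Subgroup.mem_subgroupOf] at h1
    rw [h1, WrTI.dif_eq_sub]
    simp only [Pi.sub_apply]
    have hin : (⟨t * u, htu⟩ : M) ∈ Hv.subgroupOf M := Subgroup.mem_subgroupOf.2 h.tu_mem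
    have h2 := val_tu h hξ htu
    rw [Finset.sum_sub_distrib]
    have h3 : ∑ s : Hv.subgroupOf M, (ξ s : ℂ) = 0 :=
      sum_hom (f := ξ.comp (Hv.subgroupOf M).subtype) ⟨⟨_, hin⟩, fun h3 => by
        have h4 : ξ ⟨t * u, htu⟩ = 1 := h3
        rw [h4, Units.val_one] at h2
        norm_num at h2⟩
    have h4 : ∑ s : Hv.subgroupOf M, ((ξ * lamM M lam) s : ℂ) = 0 :=
      sum_hom (f := (ξ * lamM M lam).comp (Hv.subgroupOf M).subtype) ⟨⟨_, hin⟩, fun h3 => by
        have h4 : (ξ * lamM M lam) ⟨t * u, htu⟩ = 1 := h3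
        rw [MonoidHom.mul_apply, lamM_apply] at h4
        rw [show lam ((⟨t * u, htu⟩ : M) : C) = 1 from lam_tu h, mul_one] at h4
        rw [h4, Units.val_one] at h2
        norm_num at h2⟩
    rw [h3, h4, sub_zero]
  have hsum : ∑ s : M, dif M lam ξ s * conj (2 + (c : ℂ) *
      ((if (s : C) ∈ Hu then 1 else 0) + (if (s : C) ∈ Hv then 1 else 0))) =
      c * Nat.card Hu := by
    have h1 : ∀ s : M, dif M lam ξ s * conj (2 + (c : ℂ) *
      ((if (s : C) ∈ Hu then 1 else 0) + (if (s : C) ∈ Hv then 1 else 0))) =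
      2 * dif M lam ξ s + c * (if (s : C) ∈ Hu then dif M lam ξ s else 0) +
        c * (if (s : C) ∈ Hv then dif M lam ξ s else 0) := by
      intro s
      rw [hconj]
      split_ifs <;> ring
    rw [Finset.sum_congr rfl fun s _ => h1 s, Finset.sum_add_distrib, Finset.sum_add_distrib,
      ← Finset.mul_sum, ← Finset.mul_sum, ← Finset.mul_sum, e0, eu, ev]
    ring
  rw [hsum]
  have hM0 : (Nat.card M : ℂ) ≠ 0 := Core.card_ne_zero_complex
  have hcard : (Nat.card M : ℂ) = Nat.card Hu * Hu.relIndex M := by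
    have h1 := Subgroup.relIndex_mul_relIndex (⊥ : Subgroup C) Hu M bot_le h.Hu_le
    rw [Subgroup.relIndex_bot_left, Subgroup.relIndex_bot_left] at h1
    rw [← h1]
    push_cast
    rfl
  rw [inv_mul_eq_div, div_mul_eq_mul_div, div_eq_iff hM0, hcard]
  ring

end Inner

end Cfsg.Agent.Classification.QDW.WrX
end

-- part: Classification/QDW/BorelOrb
section
/-!
# The end of the tight case: no Borel orbits

* `inf_le_of_count`: the counting lemma on `W`, giving `A₁ ∩ A₂ ≤ A₃` and that `A₁ ∩ A₂` is in the kernel;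
* `inv_top`: if every `T`-invariant linear character of `K` is invariant under one of two subgroups `B₀`, `B₁`
  swapped by `w` and generating the group, then all of them are invariant under the whole group;
* `occurs_of_sum_ne_zero`: a `u`-invariant linear character of the abelian group `K` of odd order with nonzero
  trace on `u C_K(u)` occurs;
* `le_center`: `K` is central.
-/

set_option autoImplicit false
set_option linter.unusedSectionVars false

namespace Cfsg.Agent.Classification.QDW.BorelOrb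

open Cfsg Cfsg.Agent.Characters
open scoped ComplexConjugate

universe u

section Count

variable {G : Type u} [Group G] [Finite G]

open scoped Classical in
/-- The counting lemma. -/
theorem inf_le_of_count (A₁ A₂ A₃ : Subgroup G) [Fintype A₁] {R : G → ℝ} {q j : ℝ} (hq : 1 < q)
    (hj : 0 < j) (hRle : ∀ y ∈ A₁, R y ≤ q ^ 2 + q)
    (hR : ∀ y ∈ A₁, ¬ (y ∈ A₂ ∧ y ∈ A₃) →
      R y = 2 + (q - 1) * (1 + (if y ∈ A₂ then 1 else 0) + (if y ∈ A₃ then 1 else 0)))
    (h12 : (Nat.card A₁ : ℝ) = j * Nat.card (A₁ ⊓ A₂ : Subgroup G))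
    (h13 : (Nat.card A₁ : ℝ) = j * Nat.card (A₁ ⊓ A₃ : Subgroup G))
    (hcount : (Nat.card A₁ : ℝ) * ((q + 1) * (q - 1 + j)) ≤ j * ∑ y : A₁, R y) :
    A₁ ⊓ A₂ ≤ A₃ ∧ ∀ y ∈ A₁ ⊓ A₂, R y = q ^ 2 + q := by
  -- the sum
  have hsum2 : ∑ y : A₁, (if (y : G) ∈ A₂ then (1 : ℝ) else 0) =
      Nat.card (A₁ ⊓ A₂ : Subgroup G) := by
    rw [← Finset.sum_filter, Finset.sum_const, nsmul_eq_mul, mul_one]
    congr 1
    rw [← Fintype.card_subtype, ← Nat.card_eq_fintype_card]
    exact Nat.card_congr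
      { toFun := fun x => ⟨x.1.1, x.1.2, x.2⟩
        invFun := fun x => ⟨⟨x.1, x.2.1⟩, x.2.2⟩
        left_inv := fun _ => rfl
        right_inv := fun _ => rfl }
  have hsum3 : ∑ y : A₁, (if (y : G) ∈ A₃ then (1 : ℝ) else 0) =
      Nat.card (A₁ ⊓ A₃ : Subgroup G) := by
    rw [← Finset.sum_filter, Finset.sum_const, nsmul_eq_mul, mul_one]
    congr 1
    rw [← Fintype.card_subtype, ← Nat.card_eq_fintype_card]
    exact Nat.card_congr
      { toFun := fun x => ⟨x.1.1, x.1.2, x.2⟩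
        invFun := fun x => ⟨⟨x.1, x.2.1⟩, x.2.2⟩
        left_inv := fun _ => rfl
        right_inv := fun _ => rfl }
  have hsumD : ∑ y : A₁, (if (y : G) ∈ A₂ ∧ (y : G) ∈ A₃ then (1 : ℝ) else 0) =
      Nat.card (A₁ ⊓ A₂ ⊓ A₃ : Subgroup G) := by
    rw [← Finset.sum_filter, Finset.sum_const, nsmul_eq_mul, mul_one]
    congr 1
    rw [← Fintype.card_subtype, ← Nat.card_eq_fintype_card]
    exact Nat.card_congr
      { toFun := fun x => ⟨x.1.1, ⟨x.1.2, x.2.1⟩, x.2.2⟩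
        invFun := fun x => ⟨⟨x.1, x.2.1.1⟩, x.2.1.2, x.2.2⟩
        left_inv := fun _ => rfl
        right_inv := fun _ => rfl }
  have hsum1 : ∑ _y : A₁, (1 : ℝ) = Nat.card A₁ := by
    rw [Finset.sum_const, nsmul_eq_mul, mul_one, Finset.card_univ, Nat.card_eq_fintype_card]
  -- the defect on `D`
  set δ : A₁ → ℝ := fun y => if (y : G) ∈ A₂ ∧ (y : G) ∈ A₃ then q ^ 2 + q - R y else 0 with hδ
  have hδnn : ∀ y, 0 ≤ δ y := by
    intro y
    simp only [hδ]
    split_ifs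
    · linarith [hRle y y.2]
    · exact le_refl 0
  have hpt : ∀ y : A₁, R y = (q + 1) + (q - 1) * (if (y : G) ∈ A₂ then (1 : ℝ) else 0) +
      (q - 1) * (if (y : G) ∈ A₃ then (1 : ℝ) else 0) +
      (q - 1) ^ 2 * (if (y : G) ∈ A₂ ∧ (y : G) ∈ A₃ then (1 : ℝ) else 0) - δ y := by
    intro y
    by_cases h : (y : G) ∈ A₂ ∧ (y : G) ∈ A₃
    · simp only [hδ, if_pos h, if_pos h.1, if_pos h.2]
      ring
    · rw [hR y y.2 h]
      simp only [hδ, if_neg h]
      ring
  have hS : ∑ y : A₁, R y = (q + 1) * Nat.card A₁ +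
      (q - 1) * Nat.card (A₁ ⊓ A₂ : Subgroup G) + (q - 1) * Nat.card (A₁ ⊓ A₃ : Subgroup G) +
      (q - 1) ^ 2 * Nat.card (A₁ ⊓ A₂ ⊓ A₃ : Subgroup G) - ∑ y : A₁, δ y := by
    rw [Finset.sum_congr rfl fun y _ => hpt y, Finset.sum_sub_distrib, Finset.sum_add_distrib,
      Finset.sum_add_distrib, Finset.sum_add_distrib, ← Finset.mul_sum, ← Finset.mul_sum,
      ← Finset.mul_sum, hsum2, hsum3, hsumD, ← hsum1, Finset.mul_sum]
    simp only [_root_.Finset.sum_const, _root_.Finset.card_univ, _root_.smul_add, _root_.nsmul_eq_mul, _root_.mul_one, _root_.Subgroup.mem_inf]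
  have hDle : (A₁ ⊓ A₂ ⊓ A₃ : Subgroup G) ≤ A₁ ⊓ A₂ := inf_le_left
  have hcD : (Nat.card (A₁ ⊓ A₂ ⊓ A₃ : Subgroup G) : ℝ) ≤ Nat.card (A₁ ⊓ A₂ : Subgroup G) := by
    exact_mod_cast Nat.card_le_card_of_injective _ (Subgroup.inclusion_injective hDle)
  have hΔ : 0 ≤ ∑ y : A₁, δ y := Finset.sum_nonneg fun y _ => hδnn y
  rw [hS] at hcount
  -- `j Σδ + (q - 1)² (|A₁| - j |D|) ≤ 0`
  have hkey : j * ∑ y : A₁, δ y + (q - 1) ^ 2 * (j * Nat.card (A₁ ⊓ A₂ : Subgroup G) -
      j * Nat.card (A₁ ⊓ A₂ ⊓ A₃ : Subgroup G)) ≤ 0 := by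
    have e1 : (Nat.card A₁ : ℝ) * ((q + 1) * (q - 1 + j)) =
        Nat.card A₁ * ((q + 1) * j) + (q + 1) * (q - 1) * (j * Nat.card (A₁ ⊓ A₂ : Subgroup G)) := by
      rw [← h12]; ring
    have e2 : j * Nat.card (A₁ ⊓ A₃ : Subgroup G) = j * Nat.card (A₁ ⊓ A₂ : Subgroup G) := by
      rw [← h12, ← h13]
    rw [e1] at hcount
    nlinarith only [hq, h13, hcount, e1]
  have hq1 : 0 < (q - 1) ^ 2 := by
    have : 0 < q - 1 := by linarith only [hq]
    positivity
  have h1 : 0 ≤ (q - 1) ^ 2 * (j * Nat.card (A₁ ⊓ A₂ : Subgroup G) -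
      j * Nat.card (A₁ ⊓ A₂ ⊓ A₃ : Subgroup G)) := by
    refine mul_nonneg hq1.le ?_
    rw [← mul_sub]
    exact mul_nonneg hj.le (by linarith only [hcD])
  have h2 : ∑ y : A₁, δ y = 0 := by
    have : j * ∑ y : A₁, δ y ≤ 0 := by linarith only [hkey, h1]
    have h3 : ∑ y : A₁, δ y ≤ 0 := by
      by_contra hc
      push Not at hc
      exact absurd (mul_pos hj hc) (not_lt.2 this)
    linarith only [hΔ, h3]
  have h3 : (Nat.card (A₁ ⊓ A₂ ⊓ A₃ : Subgroup G) : ℝ) = Nat.card (A₁ ⊓ A₂ : Subgroup G) := by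
    refine le_antisymm hcD ?_
    rw [h2, mul_zero, zero_add, ← mul_sub] at hkey
    by_contra hc
    push Not at hc
    have : 0 < (q - 1) ^ 2 * (j * ((Nat.card (A₁ ⊓ A₂ : Subgroup G) : ℝ) -
        Nat.card (A₁ ⊓ A₂ ⊓ A₃ : Subgroup G))) :=
      mul_pos hq1 (mul_pos hj (by linarith only [hc]))
    linarith only [hkey, this]
  have h4 : (A₁ ⊓ A₂ ⊓ A₃ : Subgroup G) = A₁ ⊓ A₂ :=
    Subgroup.eq_of_le_of_card_ge hDle (by exact_mod_cast h3.ge)
  have h5 : A₁ ⊓ A₂ ≤ A₃ := by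
    rw [← h4]
    exact inf_le_right
  refine ⟨h5, fun y hy => ?_⟩
  have h6 := (Finset.sum_eq_zero_iff_of_nonneg (fun y _ => hδnn y)).1 h2 ⟨y, hy.1⟩
    (Finset.mem_univ _)
  simp only [hδ] at h6
  rw [if_pos ⟨hy.2, h5 hy⟩] at h6
  linarith only [h6]

end Count

section Inv

variable {C : Type u} [Group C] (K : Subgroup C) [K.Normal]

/-- The linear characters of `K` invariant under `H`. -/
def Inv (H : Subgroup C) : Subgroup (K →* ℂˣ) where
  carrier := {l | ∀ g ∈ H, ∀ k : K, l (MulAut.conjNormal g k) = l k}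
  one_mem' := fun _ _ _ => rfl
  mul_mem' := by
    intro a b ha hb g hg k
    rw [MonoidHom.mul_apply, MonoidHom.mul_apply, ha g hg k, hb g hg k]
  inv_mem' := by
    intro a ha g hg k
    rw [MonoidHom.inv_apply, MonoidHom.inv_apply, ha g hg k]

/-- The stabiliser of a linear character. -/
def stab (l : K →* ℂˣ) : Subgroup C where
  carrier := {g | ∀ k : K, l (MulAut.conjNormal g k) = l k}
  one_mem' := fun k => by simp
  mul_mem' := by
    intro a b ha hb k
    rw [map_mul, MulAut.mul_apply, ha, hb]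
  inv_mem' := by
    intro a ha k
    have h1 := ha ((MulAut.conjNormal a⁻¹ : MulAut K) k)
    rw [← MulAut.mul_apply, ← map_mul, mul_inv_cancel, map_one, MulAut.one_apply] at h1
    exact h1.symm

theorem mem_stab {l : K →* ℂˣ} {g : C} :
    g ∈ stab K l ↔ ∀ k : K, l (MulAut.conjNormal g k) = l k := Iff.rfl

theorem mem_inv_iff {H : Subgroup C} {l : K →* ℂˣ} : l ∈ Inv K H ↔ H ≤ stab K l := Iff.rfl

/-- The conjugate of a linear character. -/
def cj (g : C) (l : K →* ℂˣ) : K →* ℂˣ := l.comp ((MulAut.conjNormal g : MulAut K) : K →* K)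

theorem cj_apply (g : C) (l : K →* ℂˣ) (k : K) : cj K g l k = l (MulAut.conjNormal g k) := rfl

theorem cj_mem_inv {H H' : Subgroup C} {l : K →* ℂˣ} {w : C} (hl : l ∈ Inv K H)
    (hw : ∀ g ∈ H', w * g * w⁻¹ ∈ H) : cj K w l ∈ Inv K H' := by
  intro g hg k
  rw [cj_apply, cj_apply, ← hl _ (hw g hg) (MulAut.conjNormal w k), ← MulAut.mul_apply,
    ← MulAut.mul_apply, ← map_mul, ← map_mul]
  congr 3
  group

theorem cj_mem_inv' {H H' : Subgroup C} {l : K →* ℂˣ} {w : C} (hl : cj K w l ∈ Inv K H)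
    (hw : ∀ g ∈ H', w⁻¹ * g * w ∈ H) : l ∈ Inv K H' := by
  have h1 : l = cj K w⁻¹ (cj K w l) := by
    ext k
    rw [cj_apply, cj_apply, ← MulAut.mul_apply, ← map_mul, mul_inv_cancel, map_one,
      MulAut.one_apply]
  rw [h1]
  refine cj_mem_inv K hl fun g hg => ?_
  rw [inv_inv]
  exact hw g hg

/-- A group is not the union of two proper subgroups. -/
theorem le_or_le_of_forall {A : Type*} [Group A] {M P Q : Subgroup A}
    (h : ∀ x ∈ M, x ∈ P ∨ x ∈ Q) : M ≤ P ∨ M ≤ Q := by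
  by_contra hc
  rw [not_or, SetLike.not_le_iff_exists, SetLike.not_le_iff_exists] at hc
  obtain ⟨⟨x, hxM, hxP⟩, y, hyM, hyQ⟩ := hc
  have hxQ : x ∈ Q := (h x hxM).resolve_left hxP
  have hyP : y ∈ P := (h y hyM).resolve_right hyQ
  rcases h (x * y) (M.mul_mem hxM hyM) with h1 | h1
  · exact hxP (by simpa using P.mul_mem h1 (P.inv_mem hyP))
  · exact hyQ (by simpa using Q.mul_mem (Q.inv_mem hxQ) h1)

/-- No Borel orbits. -/
theorem inv_top {T B₀ B₁ : Subgroup C} {w : C} (hwT : ∀ g ∈ T, w * g * w⁻¹ ∈ T)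
    (h01 : ∀ g ∈ B₁, w⁻¹ * g * w ∈ B₀) (h10 : ∀ g ∈ B₀, w⁻¹ * g * w ∈ B₁)
    (hgen : B₀ ⊔ B₁ = ⊤) (h : ∀ l ∈ Inv K T, l ∈ Inv K B₀ ∨ l ∈ Inv K B₁) :
    Inv K T ≤ Inv K ⊤ := by
  have key : ∀ l ∈ Inv K T, l ∈ Inv K B₀ ∧ l ∈ Inv K B₁ := by
    intro l hl
    have hl' : cj K w l ∈ Inv K T := cj_mem_inv K hl hwT
    rcases le_or_le_of_forall h with h1 | h1
    · exact ⟨h1 hl, cj_mem_inv' K (h1 hl') h01⟩
    · exact ⟨cj_mem_inv' K (h1 hl') h10, h1 hl⟩
  intro l hl
  obtain ⟨h1, h2⟩ := key l hl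
  rw [mem_inv_iff] at h1 h2 ⊢
  rw [← hgen]
  exact sup_le h1 h2

end Inv

section Abelian

variable {C : Type u} [Group C] [Finite C] (K : Subgroup C) [K.Normal]

/-- An `u`-invariant linear character of an abelian group of odd order which is trivial on the fixed
points of the involution `u` is trivial. -/
theorem eq_one_of_fix (hab : ∀ x ∈ K, ∀ y ∈ K, x * y = y * x) (hodd : Odd (Nat.card K)) {u : C}
    (hu : u * u = 1) {l : K →* ℂˣ} (hl : u ∈ stab K l)
    (h1 : ∀ k : K, u * k = k * u → l k = 1) : l = 1 := by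
  have hu' : u⁻¹ = u := inv_eq_of_mul_eq_one_left hu
  ext k
  have h2 : l k * l k = 1 := by
    have h3 : l (k * (MulAut.conjNormal u k)) = 1 := by
      apply h1
      rw [Subgroup.coe_mul, MulAut.conjNormal_apply, hu']
      have h4 : u * ((k : C) * (u * k * u)) = (u * k * u) * (k * u) := by
        have : u * ((k : C) * (u * k * u)) = u * k * (u * (k * u)) := by group
        rw [this]
        simp only [mul_assoc]
      rw [h4]
      have h5 : (u * (k : C) * u) * k = k * (u * k * u) := by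
        apply hab
        · have := ‹K.Normal›.conj_mem k k.2 u
          rwa [hu'] at this
        · exact k.2
      rw [← mul_assoc, h5]
    rw [map_mul, hl k] at h3
    exact h3
  have h3 : l k ^ 2 = 1 := by rw [sq, h2]
  have h4 : l k ^ Nat.card K = 1 := by rw [← map_pow, pow_card_eq_one', map_one]
  have h5 : l k = 1 := by
    have h6 : orderOf (l k) ∣ 2 := orderOf_dvd_of_pow_eq_one h3
    have h7 : orderOf (l k) ∣ Nat.card K := orderOf_dvd_of_pow_eq_one h4
    have h8 : orderOf (l k) ∣ 1 := by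
      rw [← hodd.coprime_two_left]
      exact Nat.dvd_gcd h6 h7
    rw [← orderOf_eq_one_iff]
    exact Nat.dvd_one.1 h8
  rw [h5, MonoidHom.one_apply]

/-- An `u`-invariant linear character is invariant under the elements centralising the fixed points of `u`
and commuting with `u` modulo `K`. -/
theorem mem_stab_of_fix (hab : ∀ x ∈ K, ∀ y ∈ K, x * y = y * x) (hodd : Odd (Nat.card K)) {u : C}
    (hu : u * u = 1) {l : K →* ℂˣ} (hl : u ∈ stab K l) {g : C}
    (hg : g * u * g⁻¹ * u⁻¹ ∈ K) (hgf : ∀ k ∈ K, u * k = k * u → g * k = k * g) :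
    g ∈ stab K l := by
  have hKs : ∀ c ∈ K, ∀ k : K, l (MulAut.conjNormal c k) = l k := by
    intro c hc k
    congr 1
    apply Subtype.ext
    rw [MulAut.conjNormal_apply, hab c hc k k.2]
    group
  have h1 : cj K g l * l⁻¹ = 1 := by
    refine eq_one_of_fix K hab hodd hu ?_ ?_
    · intro k
      rw [MonoidHom.mul_apply, MonoidHom.mul_apply, MonoidHom.inv_apply, MonoidHom.inv_apply, hl k,
        cj_apply, cj_apply]
      congr 1
      have h2 : (MulAut.conjNormal g : MulAut K) (MulAut.conjNormal u k) =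
          MulAut.conjNormal (g * u * g⁻¹ * u⁻¹) (MulAut.conjNormal u (MulAut.conjNormal g k)) := by
        rw [← MulAut.mul_apply, ← MulAut.mul_apply, ← MulAut.mul_apply, ← map_mul, ← map_mul,
          ← map_mul]
        congr 2
        group
      rw [h2, hKs _ hg, hl]
    · intro k hk
      rw [MonoidHom.mul_apply, MonoidHom.inv_apply, cj_apply]
      have h3 : (MulAut.conjNormal g k : K) = k := by
        apply Subtype.ext
        rw [MulAut.conjNormal_apply, hgf k k.2 hk]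
        group
      rw [h3, mul_inv_cancel]
  intro k
  have h2 := congrArg (fun f : K →* ℂˣ => f k) h1
  simp only [MonoidHom.mul_apply, MonoidHom.inv_apply, MonoidHom.one_apply, cj_apply] at h2
  exact mul_inv_eq_one.1 h2

end Abelian

section Occurs

variable {C : Type u} [Group C] [Finite C]

theorem conj_hom {A : Type*} [Group A] [Finite A] (l : A →* ℂˣ) (a : A) :
    conj (l a : ℂ) = ((l a)⁻¹ : ℂˣ) := by
  have h1 := Linear.norm_hom_apply l a
  rw [Units.val_inv_eq_inv_val, Complex.inv_def, Complex.normSq_eq_norm_sq, h1]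
  simp

/-- If the linear character `l` of `K` does not occur in `χ`, the sums over the cosets of `K`
vanish. -/
theorem sum_mul_eq_zero (K : Subgroup C) [Fintype K] {χ : C → ℂ} (hχ : IsCharacter C χ)
    (l : K →* ℂˣ) (h : classInner (fun k : K => χ k) (fun k => (l k : ℂ)) = 0) (g : C) :
    ∑ k : K, χ (g * k) * conj (l k : ℂ) = 0 := by
  obtain ⟨n, ρ, rfl⟩ := hχ
  have hcard : (Fintype.card K : ℂ) ≠ 0 := by exact_mod_cast Fintype.card_ne_zero
  let _ : Invertible (Fintype.card K : ℂ) := invertibleOfNonzero hcard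
  let σ : Representation ℂ K (Fin n → ℂ) :=
    { toFun := fun k => conj (l k : ℂ) • ρ (k : C)
      map_one' := by simp only [_root_.map_one, _root_.Units.val_one, _root_.OneMemClass.coe_one, _root_.one_smul]
      map_mul' := by
        intro a b
        rw [map_mul, Units.val_mul, map_mul, Subgroup.coe_mul, map_mul, smul_mul_smul_comm] }
  have hσ : ∀ k : K, σ k = conj (l k : ℂ) • ρ (k : C) := fun _ => rfl
  have h4 : σ.averageMap = (Fintype.card K : ℂ)⁻¹ • ∑ k : K, conj (l k : ℂ) • ρ (k : C) := by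
    unfold Representation.averageMap GroupAlgebra.average
    rw [map_smul, map_sum, invOf_eq_inv]
    congr 1
    refine Finset.sum_congr rfl fun n _ => ?_
    rw [MonoidAlgebra.of_apply, Representation.asAlgebraHom_single_one]
    exact hσ n
  have htr : LinearMap.trace ℂ (Fin n → ℂ) σ.averageMap = 0 := by
    rw [h4, map_smul, map_sum, ← h, Core.classInner_def, Nat.card_eq_fintype_card, smul_eq_mul]
    congr 1
    refine Finset.sum_congr rfl fun k _ => ?_
    rw [map_smul, smul_eq_mul, mul_comm]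
    rfl
  have hz : σ.averageMap = 0 := by
    have h5 := (σ.isProj_averageMap).trace
    rw [htr] at h5
    have h6 : Module.finrank ℂ σ.invariants = 0 := by exact_mod_cast h5.symm
    have h7 : σ.invariants = ⊥ := Submodule.finrank_eq_zero.1 h6
    refine LinearMap.ext fun x => ?_
    have h8 := σ.averageMap_invariant x
    rw [h7, Submodule.mem_bot] at h8
    rw [h8, LinearMap.zero_apply]
  have h5 : ∑ k : K, conj (l k : ℂ) • ρ (k : C) = 0 := by
    rw [h4] at hz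
    exact (smul_eq_zero.1 hz).resolve_left (inv_ne_zero hcard)
  have h6 := congrArg (fun f => LinearMap.trace ℂ (Fin n → ℂ) (ρ g * f)) h5
  simp only [mul_zero, map_zero] at h6
  rw [← h6, Finset.mul_sum, map_sum]
  refine Finset.sum_congr rfl fun k _ => ?_
  rw [mul_smul_comm, map_smul, smul_eq_mul, mul_comm, ← map_mul]
  rfl

variable (K : Subgroup C) [hN : K.Normal]

/-- The `u`-symmetric part of an element of an abelian group of odd order, as a homomorphism. -/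
theorem exists_sym (hab : ∀ x ∈ K, ∀ y ∈ K, x * y = y * x) (hodd : Odd (Nat.card K)) {u : C}
    (hu : u * u = 1) :
    ∃ p : K →* K, (∀ k, u * p k = p k * u) ∧ (∀ k : K, u * k = k * u → p k = k) ∧
      (∀ k : K, ∃ d : K, u * k = d * (u * p k) * (d : C)⁻¹) ∧
      (∀ l : K →* ℂˣ, u ∈ stab K l → ∀ k, l (p k) = l k) := by
  have hu' : u⁻¹ = u := inv_eq_of_mul_eq_one_left hu
  obtain ⟨m, hm⟩ := hodd
  let _ : CommGroup K :=
    { (inferInstance : Group K) with mul_comm := fun a b => Subtype.ext (hab a a.2 b b.2) }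
  set σ : K →* K := ((MulAut.conjNormal u : MulAut K) : K →* K) with hσ
  have hσ' : ∀ k : K, ((σ k : K) : C) = u * k * u := by
    intro k
    change ((MulAut.conjNormal u k : K) : C) = _
    rw [MulAut.conjNormal_apply, hu']
  have hσσ : ∀ k : K, σ (σ k) = k := by
    intro k
    apply Subtype.ext
    rw [hσ', hσ']
    have h1 : u * (u * (k : C) * u) * u = (u * u) * k * (u * u) := by group
    rw [h1, hu, one_mul, mul_one]
  have hpow : ∀ k : K, k ^ (m + 1) * k ^ (m + 1) = k := by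
    intro k
    rw [← pow_add]
    have h1 : m + 1 + (m + 1) = Nat.card K + 1 := by omega
    rw [h1, pow_succ, pow_card_eq_one', one_mul]
  have hcomm : ∀ {x : K}, σ x = x ↔ u * (x : C) = x * u := by
    intro x
    rw [Subtype.ext_iff, hσ']
    constructor
    · intro h1
      calc u * (x : C) = (u * x * u) * u := by
            have : u * (x : C) * u * u = u * x * (u * u) := by group
            rw [this, hu, mul_one]
        _ = x * u := by rw [h1]
    · intro h1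
      rw [h1, mul_assoc, hu, mul_one]
  let p : K →* K :=
    { toFun := fun k => (k * σ k) ^ (m + 1)
      map_one' := by simp only [_root_.map_one, _root_.mul_one, _root_.one_pow]
      map_mul' := by
        intro a b
        rw [map_mul, ← mul_pow]
        congr 1
        rw [mul_mul_mul_comm] }
  have hp : ∀ k, p k = (k * σ k) ^ (m + 1) := fun _ => rfl
  have hpσ : ∀ k, σ (p k) = p k := by
    intro k
    rw [hp, map_pow, map_mul, hσσ, mul_comm]
  refine ⟨p, fun k => hcomm.1 (hpσ k), fun k hk => ?_, fun k => ?_, fun l hl k => ?_⟩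
  · rw [hp, hcomm.2 hk, mul_pow, hpow]
  · -- `d = ((σ k)⁻¹ k)^{(m+1)²}`: `σ d⁻¹ d = k (p k)⁻¹`
    set e : K := k * (p k)⁻¹ with he
    have he' : e * e = k * (σ k)⁻¹ := by
      have h1 : p k * p k = k * σ k := by
        rw [hp]
        exact hpow _
      rw [he, mul_mul_mul_comm, ← mul_inv, h1, mul_inv, mul_comm k⁻¹, ← mul_assoc, mul_assoc k k,
        mul_comm k (_ * _)]
      simp only [mul_assoc, _root_.mul_inv_cancel, _root_.mul_one]
    have hσe : σ e = e⁻¹ := by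
      have h1 : (σ e * e) * (σ e * e) = 1 := by
        rw [mul_mul_mul_comm, ← map_mul, he', map_mul, map_inv, hσσ]
        simp [mul_comm, mul_left_comm]
      have h2 : σ e * e = 1 := by
        have h3 : (σ e * e) ^ Nat.card K = 1 := pow_card_eq_one'
        rw [hm, pow_succ, pow_mul, sq, h1, one_pow, one_mul] at h3
        exact h3
      exact eq_inv_of_mul_eq_one_left h2
    refine ⟨e⁻¹ ^ (m + 1), ?_⟩
    set d : K := e⁻¹ ^ (m + 1) with hd
    have hσd : σ d = d⁻¹ := by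
      rw [hd, map_pow, map_inv, hσe, ← inv_pow]
    have hdd : d⁻¹ * d⁻¹ = e := by
      rw [hd, ← inv_pow, inv_inv, hpow]
    -- `d u p d⁻¹ = u (σ d) p d⁻¹ = u d⁻¹ d⁻¹ p = u e p = u k`
    have h1 : (d : C) * u = u * (σ d : K) := by
      rw [hσ']
      have h2 : u * (u * (d : C) * u) = (u * u) * d * u := by group
      rw [h2, hu, one_mul]
    have h2 : (d : C) * (u * p k) * (d : C)⁻¹ = u * ((σ d * p k * d⁻¹ : K) : C) := by
      rw [← mul_assoc, h1]
      push_cast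
      group
    rw [h2, hσd, mul_right_comm, hdd, he, inv_mul_cancel_right]
  · have h1 : l (p k) * l (p k) = l k * l k := by
      rw [← map_mul]
      have h2 : p k * p k = k * σ k := hpow _
      rw [h2, map_mul]
      congr 1
      exact hl k
    have h2 : (l (p k) * (l k)⁻¹) ^ 2 = 1 := by
      rw [sq, mul_mul_mul_comm, h1, ← mul_inv, mul_inv_cancel]
    have h3 : (l (p k) * (l k)⁻¹) ^ Nat.card K = 1 := by
      rw [← map_inv, ← map_mul, ← map_pow, pow_card_eq_one', map_one]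
    rw [hm, pow_succ, pow_mul, h2, one_pow, one_mul] at h3
    exact mul_inv_eq_one.1 h3

open scoped Classical in
/-- A `u`-invariant linear character of `K` with nonzero trace on `u C_K(u)` occurs. -/
theorem occurs_of_sum_ne_zero [Fintype K] (hab : ∀ x ∈ K, ∀ y ∈ K, x * y = y * x)
    (hodd : Odd (Nat.card K)) {u : C} (hu : u * u = 1) {χ : C → ℂ} (hχ : IsCharacter C χ)
    {l : K →* ℂˣ} (hl : u ∈ stab K l)
    (h : ∑ k : K, (if u * (k : C) = k * u then χ (u * k) * conj (l k : ℂ) else 0) ≠ 0) :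
    classInner (fun k : K => χ k) (fun k => (l k : ℂ)) ≠ 0 := by
  intro h0
  obtain ⟨p, hp1, hp2, hp3, hp4⟩ := exists_sym K hab hodd hu
  have hcl := Core.isCharacter_isClassFunction hχ
  have h1 := sum_mul_eq_zero K hχ l h0 u
  have h2 : ∑ k : K, χ (u * k) * conj (l k : ℂ) =
      ∑ k : K, χ (u * p k) * conj (l (p k) : ℂ) := by
    refine Finset.sum_congr rfl fun k _ => ?_
    obtain ⟨d, hd⟩ := hp3 k
    rw [hp4 l hl, hd, hcl]
  rw [h2] at h1
  -- fibres of `p`
  have h3 : ∑ k : K, χ (u * p k) * conj (l (p k) : ℂ) =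
      ∑ b : K, ∑ k : K, if p k = b then χ (u * b) * conj (l b : ℂ) else 0 := by
    rw [Finset.sum_comm]
    refine Finset.sum_congr rfl fun k _ => ?_
    rw [Finset.sum_ite_eq, if_pos (Finset.mem_univ _)]
  have hfib : ∀ b : K, (∑ k : K, if p k = b then χ (u * b) * conj (l b : ℂ) else 0) =
      Nat.card p.ker * (if u * (b : C) = b * u then χ (u * b) * conj (l b : ℂ) else 0) := by
    intro b
    by_cases hb : u * (b : C) = b * u
    · rw [if_pos hb, ← Finset.sum_filter, Finset.sum_const, nsmul_eq_mul]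
      congr 2
      rw [← Fintype.card_subtype, ← Nat.card_eq_fintype_card]
      refine Nat.card_congr
        { toFun := fun x => ⟨b⁻¹ * x.1, ?_⟩
          invFun := fun x => ⟨b * x.1, ?_⟩
          left_inv := ?_
          right_inv := ?_ }
      · rw [MonoidHom.mem_ker, map_mul, map_inv, x.2, hp2 b hb, inv_mul_cancel]
      · rw [map_mul, MonoidHom.mem_ker.1 x.2, mul_one, hp2 b hb]
      · intro x
        simp
      · intro x
        simp
    · rw [if_neg hb, mul_zero]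
      refine Finset.sum_eq_zero fun k _ => if_neg ?_
      rintro rfl
      exact hb (hp1 k)
  rw [h3, Finset.sum_congr rfl fun b _ => hfib b, ← Finset.mul_sum] at h1
  rcases mul_eq_zero.1 h1 with h4 | h4
  · exact (Core.card_ne_zero_complex (G := p.ker)) h4
  · exact h h4

/-- An irreducible character of an abelian group is linear. -/
theorem irr_hom_of_comm {A : Type u} [Group A] [Finite A] (hab : ∀ x y : A, x * y = y * x)
    {η : A → ℂ} (hη : IsIrrCharacter A η) : ∃ l : A →* ℂˣ, η = fun g => (l g : ℂ) := by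
  refine FrobLift.irr_one_of_invariant (⊥ : Subgroup A) (fun x y => ?_) hη ?_
  · rw [Subgroup.mem_bot, hab x y]
    group
  · intro k hk g
    rw [Subgroup.mem_bot.1 hk, one_mul]

/-- A character of an abelian group takes the value `χ(1)` at `x` if all linear characters occurring in
it are trivial at `x`. -/
theorem apply_eq_of_forall {A : Type u} [Group A] [Fintype A] (hab : ∀ x y : A, x * y = y * x)
    {χ : A → ℂ} (hχ : IsCharacter A χ) {x : A}
    (h : ∀ l : A →* ℂˣ, classInner χ (fun a => (l a : ℂ)) ≠ 0 → l x = 1) : χ x = χ 1 := by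
  classical
  let _ : Finite (IrrCharacter A) := Core.finite_irr
  let _ : Fintype (IrrCharacter A) := Fintype.ofFinite _
  have h1 := Core.classFunction_eq_sum (Core.isCharacter_isClassFunction hχ)
  have h2 : ∀ y, χ y = ∑ ψ : IrrCharacter A, classInner χ ψ.1 * ψ.1 y := by
    intro y
    have := congrFun h1 y
    simpa only [Finset.sum_apply, _root_.Pi.smul_apply, _root_.smul_eq_mul] using this
  rw [h2 x, h2 1]
  refine Finset.sum_congr rfl fun ψ _ => ?_
  by_cases h0 : classInner χ ψ.1 = 0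
  · rw [h0, zero_mul, zero_mul]
  · obtain ⟨l, hl⟩ := irr_hom_of_comm hab ψ.2
    rw [hl] at h0 ⊢
    simp only [h l h0, map_one]

/-- If an element of `K` is trivial under all conjugates of the linear character `l` of `K`, and `l` lies under the
irreducible character `ψ`, then the element is in the kernel of `ψ`. -/
theorem apply_eq_of_conj [Fintype K] {ψ : C → ℂ} (hψ : IsIrrCharacter C ψ) {l : K →* ℂˣ}
    (hl : classInner (fun k : K => ψ k) (fun k => (l k : ℂ)) ≠ 0) {x : K}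
    (hx : ∀ g : C, l (MulAut.conjNormal g x) = 1) : ψ x = ψ 1 := by
  classical
  let _ : Fintype C := Fintype.ofFinite _
  let _ : Finite (IrrCharacter K) := Core.finite_irr
  let _ : Fintype (IrrCharacter K) := Fintype.ofFinite _
  have hχ : IsCharacter K (fun k : K => ψ k) := Core.isCharacter_comp K.subtype (Core.isIrr_isCharacter hψ)
  have h1 := Core.classFunction_eq_sum (Core.isCharacter_isClassFunction hχ)
  have h2 : ∀ y : K, ψ y = ∑ θ : IrrCharacter K, classInner (fun k : K => ψ k) θ.1 * θ.1 y := by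
    intro y
    have := congrFun h1 y
    simpa only [Finset.sum_apply, _root_.Pi.smul_apply, _root_.smul_eq_mul] using this
  have h20 := h2 1
  rw [Subgroup.coe_one] at h20
  rw [h2 x, h20]
  refine Finset.sum_congr rfl fun θ _ => ?_
  by_cases h0 : classInner (fun k : K => ψ k) θ.1 = 0
  · rw [h0, zero_mul, zero_mul]
  · obtain ⟨g, hg⟩ := Clifford.exists_conj_of_constituents K hψ (Linear.isIrrCharacter_hom l) θ.2 hl h0
    rw [hg, Function.comp_apply, Function.comp_apply, hx g]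
    simp only [_root_.Units.val_one, _root_.mul_one, _root_.map_one]

/-- **The end of the tight case**, first form. -/
theorem le_center_of_stab [Fintype K] (hab : ∀ x ∈ K, ∀ y ∈ K, x * y = y * x)
    (hodd : Odd (Nat.card K)) {u w : C} (hu : u * u = 1) {χ : C → ℂ} (hχ : IsCharacter C χ)
    (hfaith : ∀ k ∈ K, χ k = χ 1 → k = 1) {T B₀ B₁ : Subgroup C}
    (hTu : ∀ g ∈ T, g * u * g⁻¹ * u⁻¹ ∈ K)
    (hTfix : ∀ g ∈ T, ∀ k ∈ K, u * k = k * u → g * k = k * g)
    (hwT : ∀ g ∈ T, w * g * w⁻¹ ∈ T)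
    (h01 : ∀ g ∈ B₁, w⁻¹ * g * w ∈ B₀) (h10 : ∀ g ∈ B₀, w⁻¹ * g * w ∈ B₁) (hgen : B₀ ⊔ B₁ = ⊤)
    (hstab : ∀ l : K →* ℂˣ, T ≤ stab K l → l ≠ 1 → B₀ ≤ stab K l ∨ B₁ ≤ stab K l)
    (hconj : ∀ l : K →* ℂˣ, classInner (fun k : K => χ k) (fun k => (l k : ℂ)) ≠ 0 →
      ∃ g, u ∈ stab K (cj K g l)) :
    K ≤ Subgroup.center C := by
  -- `u`-invariant characters are `T`-invariant
  have h1 : ∀ l : K →* ℂˣ, u ∈ stab K l → l ∈ Inv K T := by
    intro l hl g hg
    exact mem_stab_of_fix K hab hodd hu hl (hTu g hg) (hTfix g hg)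
  have h2 : Inv K T ≤ Inv K ⊤ := by
    refine inv_top K hwT h01 h10 hgen fun l hl => ?_
    by_cases hl1 : l = 1
    · left
      rw [hl1]
      exact one_mem _
    · exact hstab l hl hl1
  have h3 : ∀ l : K →* ℂˣ, classInner (fun k : K => χ k) (fun k => (l k : ℂ)) ≠ 0 →
      l ∈ Inv K ⊤ := by
    intro l hl
    obtain ⟨g, hg⟩ := hconj l hl
    exact cj_mem_inv' K (h2 (h1 _ hg)) fun _ _ => Subgroup.mem_top _
  intro k hk
  rw [Subgroup.mem_center_iff]
  intro c
  have h4 : c * k * c⁻¹ ∈ K := hN.conj_mem k hk c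
  have h5 : χ ((⟨c * k * c⁻¹, h4⟩ * ⟨k, hk⟩⁻¹ : K) : C) = χ 1 := by
    refine apply_eq_of_forall (χ := fun k : K => χ k)
      (fun x y => Subtype.ext (hab x x.2 y y.2)) (Core.isCharacter_comp K.subtype hχ)
      (x := (⟨c * k * c⁻¹, h4⟩ * ⟨k, hk⟩⁻¹ : K)) fun l hl => ?_
    rw [map_mul, map_inv]
    have h6 := h3 l hl c (Subgroup.mem_top _) ⟨k, hk⟩
    have h7 : (MulAut.conjNormal c ⟨k, hk⟩ : K) = ⟨c * k * c⁻¹, h4⟩ :=
      Subtype.ext (by rw [MulAut.conjNormal_apply])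
    rw [h7] at h6
    rw [h6, mul_inv_cancel]
  have h6 := hfaith _ (⟨c * k * c⁻¹, h4⟩ * ⟨k, hk⟩⁻¹ : K).2 h5
  have h7 : c * k * c⁻¹ * k⁻¹ = 1 := h6
  have h8 : c * k * c⁻¹ = k := mul_inv_eq_one.1 h7
  exact mul_inv_eq_iff_eq_mul.1 h8

/-- **The end of the tight case.** -/
theorem le_center [Fintype K] (hab : ∀ x ∈ K, ∀ y ∈ K, x * y = y * x)
    (hodd : Odd (Nat.card K)) {u w : C} (hu : u * u = 1) {χ : C → ℂ} (hχ : IsCharacter C χ)
    (hfaith : ∀ k ∈ K, χ k = χ 1 → k = 1) {T B₀ B₁ : Subgroup C} (huT : u ∈ T)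
    (hTu : ∀ g ∈ T, g * u * g⁻¹ * u⁻¹ ∈ K)
    (hTfix : ∀ g ∈ T, ∀ k ∈ K, u * k = k * u → g * k = k * g)
    (hwT : ∀ g ∈ T, w * g * w⁻¹ ∈ T)
    (h01 : ∀ g ∈ B₁, w⁻¹ * g * w ∈ B₀) (h10 : ∀ g ∈ B₀, w⁻¹ * g * w ∈ B₁) (hgen : B₀ ⊔ B₁ = ⊤)
    (hocc : ∀ l : K →* ℂˣ, u ∈ stab K l → l ≠ 1 →
      classInner (fun k : K => χ k) (fun k => (l k : ℂ)) ≠ 0)
    (hstab : ∀ l : K →* ℂˣ, classInner (fun k : K => χ k) (fun k => (l k : ℂ)) ≠ 0 →
      T ≤ stab K l → B₀ ≤ stab K l ∨ B₁ ≤ stab K l)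
    (hconj : ∀ l : K →* ℂˣ, classInner (fun k : K => χ k) (fun k => (l k : ℂ)) ≠ 0 →
      ∃ g, u ∈ stab K (cj K g l)) :
    K ≤ Subgroup.center C :=
  le_center_of_stab K hab hodd hu hχ hfaith hTu hTfix hwT h01 h10 hgen
    (fun l hl hl1 => hstab l (hocc l (hl huT) hl1) hl) hconj

end Occurs

end Cfsg.Agent.Classification.QDW.BorelOrb
end

-- part: Classification/QDW/WrEnd
section
/-!
# The end of the wreathed core-killing

Abstract setting inside `C = C(t)`: `K = O(C)`, `M = C_C(u)`, `W` (the odd part of `M`), `A_t = K ∩ M`, `Au`, `Av`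
(`v = t u`), `χ` the restriction of the character of degree `q² + ε q`, whose odd part for `t` is a sum of
irreducible characters `ψ ξ` over the linear characters `ξ ∈ X` of `M`, lying over linear characters `l ξ` of `K`.

* `neg`: if all `l ξ` are invariant in `C`, then `K` is central and `K ∩ Au = 1`;
* `pos`: if every `l ξ` is invariant under one of two subgroups `B₀`, `B₁`, the degrees are `q + 1` and the values on
  `W - K` are `ξ + ξ^w`, then `K` is central and `K ∩ Au = 1`.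
-/

set_option autoImplicit false
set_option linter.unusedSectionVars false

namespace Cfsg.Agent.Classification.QDW.WrEnd

open Cfsg Cfsg.Agent.Characters Cfsg.Agent.Classification.QDW.BorelOrb
open scoped ComplexConjugate

universe u

variable {C : Type u} [Group C] [Finite C]

/-- The abstract setting. -/
structure EndHyp (K M W Au Av : Subgroup C) [K.Normal] [Fintype K] (t u w : C) (χ : C → ℂ)
    (X : Finset (M →* ℂˣ)) (ψ : (M →* ℂˣ) → C → ℂ) (l : (M →* ℂˣ) → (K →* ℂˣ)) : Prop where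
  odd : Odd (Nat.card K)
  uu : u * u = 1
  mem_M : ∀ g, g ∈ M ↔ u * g = g * u
  W_le : W ≤ M
  KM_le : K ⊓ M ≤ W
  Au_le : Au ≤ W
  comm : ∀ x ∈ M, ∀ y ∈ M, x * y * x⁻¹ * y⁻¹ ∈ K
  commU : ∀ x ∈ M, ∀ y ∈ M, x * y * x⁻¹ * y⁻¹ ∈ Au
  conj_M : ∀ x ∈ M, w⁻¹ * x * w ∈ M
  mem_Av : ∀ y, y ∈ Av ↔ w⁻¹ * y * w ∈ Au
  isChar : IsCharacter C χ
  faith : ∀ k ∈ K, χ k = χ 1 → k = 1
  chi_t : ∀ k ∈ K, χ (t * k) = χ t
  irr : ∀ ξ ∈ X, IsIrrCharacter C (ψ ξ)
  sum : ∀ g, χ g - χ (t * g) = 2 * ∑ ξ ∈ X, ψ ξ g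
  occ : ∀ ξ ∈ X, classInner (fun k : K => ψ ξ k) (fun k => (l ξ k : ℂ)) ≠ 0
  l_eq : ∀ ξ ∈ X, ∀ (k : C) (hK : k ∈ K) (hM : k ∈ M), l ξ ⟨k, hK⟩ = ξ ⟨k, hM⟩
  l_u : ∀ ξ ∈ X, u ∈ stab K (l ξ)
  X_u : ∀ ξ ∈ X, ∀ y (hy : y ∈ Au), ξ ⟨y, W_le (Au_le hy)⟩ = 1

variable {K M W Au Av : Subgroup C} [hN : K.Normal] [Fintype K] {t u w : C} {χ : C → ℂ}
  {X : Finset (M →* ℂˣ)} {ψ : (M →* ℂˣ) → C → ℂ} {l : (M →* ℂˣ) → (K →* ℂˣ)}

/-- An element of `K` whose conjugates are in the kernels of all `l ξ` is trivial. -/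
theorem eq_one_of_conj (h : EndHyp K M W Au Av t u w χ X ψ l) {x : K}
    (hx : ∀ ξ ∈ X, ∀ g : C, l ξ (MulAut.conjNormal g x) = 1) : x = 1 := by
  have h1 : χ x = χ 1 := by
    have h2 := h.sum x
    have h3 := h.sum 1
    rw [h.chi_t x x.2] at h2
    rw [mul_one] at h3
    have h4 : ∑ ξ ∈ X, ψ ξ x = ∑ ξ ∈ X, ψ ξ 1 :=
      Finset.sum_congr rfl fun ξ hξ => apply_eq_of_conj K (h.irr ξ hξ) (h.occ ξ hξ) (hx ξ hξ)
    rw [h4, ← h3] at h2
    linear_combination h2
  exact Subtype.ext (h.faith x x.2 h1)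

/-- `K` is abelian. -/
theorem comm_K (h : EndHyp K M W Au Av t u w χ X ψ l) : ∀ x ∈ K, ∀ y ∈ K, x * y = y * x := by
  intro x hx y hy
  have h1 : (⟨x, hx⟩ * ⟨y, hy⟩ * ⟨x, hx⟩⁻¹ * ⟨y, hy⟩⁻¹ : K) = 1 := by
    refine eq_one_of_conj h fun ξ _ g => ?_
    simp only [map_mul, map_inv]
    rw [mul_right_comm (l ξ _) (l ξ _) (l ξ _)⁻¹, mul_inv_cancel, one_mul, mul_inv_cancel]
  have h2 : x * y * x⁻¹ * y⁻¹ = 1 := congrArg Subtype.val h1
  rw [mul_inv_eq_one, mul_inv_eq_iff_eq_mul] at h2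
  exact h2

/-- The constituents of the restriction of `χ` to `K`. -/
theorem exists_conj_of_occ (h : EndHyp K M W Au Av t u w χ X ψ l) {ν : K →* ℂˣ}
    (hν : classInner (fun k : K => χ k) (fun k => (ν k : ℂ)) ≠ 0) (hν1 : ν ≠ 1) :
    ∃ ξ ∈ X, ∃ g : C, ν = cj K g (l ξ) := by
  classical
  let _ : Fintype C := Fintype.ofFinite _
  have h1 : (fun k : K => χ k) = (fun _ : K => χ t) + (2 : ℂ) • ∑ ξ ∈ X, fun k : K => ψ ξ k := by
    funext k
    have h2 := h.sum k
    rw [h.chi_t k k.2] at h2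
    rw [Pi.add_apply, Pi.smul_apply, Finset.sum_apply, smul_eq_mul]
    linear_combination h2
  have h3 : classInner (fun _ : K => χ t) (fun k => (ν k : ℂ)) = 0 := by
    have h4 : (fun _ : K => χ t) = χ t • (fun k : K => ((1 : K →* ℂˣ) k : ℂ)) := by
      funext k
      simp
    rw [h4, Core.classInner_smul_left, Core.classInner_irr_ne (Linear.isIrrCharacter_hom _)
      (Linear.isIrrCharacter_hom _), mul_zero]
    intro h5
    apply hν1
    ext k
    exact (congrFun h5 k).symm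
  rw [h1, Core.classInner_add_left, h3, zero_add, Core.classInner_smul_left,
    Core.classInner_sum_left] at hν
  have h5 : ∃ ξ ∈ X, classInner (fun k : K => ψ ξ k) (fun k => (ν k : ℂ)) ≠ 0 := by
    by_contra hc
    push Not at hc
    rw [Finset.sum_eq_zero hc, mul_zero] at hν
    exact hν rfl
  obtain ⟨ξ, hξ, h6⟩ := h5
  obtain ⟨g, hg⟩ := Clifford.exists_conj_of_constituents K (h.irr ξ hξ)
    (Linear.isIrrCharacter_hom (l ξ)) (Linear.isIrrCharacter_hom ν) (h.occ ξ hξ) h6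
  refine ⟨ξ, hξ, g, ?_⟩
  ext k
  exact congrFun hg k

/-- `ε = -1`. -/
theorem neg (h : EndHyp K M W Au Av t u w χ X ψ l) (hst : ∀ ξ ∈ X, stab K (l ξ) = ⊤) :
    K ≤ Subgroup.center C ∧ K ⊓ Au = ⊥ := by
  have hcen : K ≤ Subgroup.center C := by
    intro k hk
    rw [Subgroup.mem_center_iff]
    intro c
    have h4 : c * k * c⁻¹ ∈ K := hN.conj_mem k hk c
    have h1 : (⟨c * k * c⁻¹, h4⟩ * ⟨k, hk⟩⁻¹ : K) = 1 := by
      refine eq_one_of_conj h fun ξ hξ g => ?_
      have h2 : ∀ (g : C) (y : K), l ξ (MulAut.conjNormal g y) = l ξ y := by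
        intro g y
        have h3 : g ∈ stab K (l ξ) := by rw [hst ξ hξ]; exact Subgroup.mem_top _
        exact h3 y
      rw [h2, map_mul, map_inv]
      have h7 : (MulAut.conjNormal c ⟨k, hk⟩ : K) = ⟨c * k * c⁻¹, h4⟩ :=
        Subtype.ext (by rw [MulAut.conjNormal_apply])
      rw [← h7, h2, mul_inv_cancel]
    have h7 : c * k * c⁻¹ * k⁻¹ = 1 := congrArg Subtype.val h1
    have h8 : c * k * c⁻¹ = k := mul_inv_eq_one.1 h7
    exact mul_inv_eq_iff_eq_mul.1 h8
  refine ⟨hcen, (Subgroup.eq_bot_iff_forall _).2 fun y hy => ?_⟩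
  have hyM : y ∈ M := h.W_le (h.Au_le hy.2)
  have h1 : (⟨y, hy.1⟩ : K) = 1 := by
    refine eq_one_of_conj h fun ξ hξ g => ?_
    have h2 : (MulAut.conjNormal g ⟨y, hy.1⟩ : K) = ⟨y, hy.1⟩ := by
      apply Subtype.ext
      rw [MulAut.conjNormal_apply]
      change g * y * g⁻¹ = y
      rw [mul_inv_eq_iff_eq_mul]
      exact (Subgroup.mem_center_iff.1 (hcen hy.1) g)
    rw [h2, h.l_eq ξ hξ y hy.1 hyM]
    exact h.X_u ξ hξ y hy.2
  exact congrArg Subtype.val h1

/-- The additional hypotheses for `ε = 1`. -/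
structure PosHyp (q : ℕ) (K M W Au Av : Subgroup C) [K.Normal] (hW : W ≤ M) (t w : C) (χ : C → ℂ)
    (X : Finset (M →* ℂˣ)) (ψ : (M →* ℂˣ) → C → ℂ) (l : (M →* ℂˣ) → (K →* ℂˣ))
    (B₀ B₁ : Subgroup C) : Prop where
  one_lt_q : 1 < q
  chi_one : χ 1 = (q : ℂ) ^ 2 + q
  chi_t_eq : χ t = q + 1
  chi_tW : ∀ y ∈ W, y ∉ K → χ (t * y) = 2
  deg : ∀ ξ ∈ X, ψ ξ 1 = q + 1
  conj_W : ∀ y ∈ W, w⁻¹ * y * w ∈ W
  Av_le : Av ≤ W
  conj_M' : ∀ x ∈ M, w * x * w⁻¹ ∈ M
  val : ∀ ξ ∈ X, ∀ y (hy : y ∈ W), y ∉ K →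
    ψ ξ y = (ξ ⟨y, hW hy⟩ : ℂ) + (ξ ⟨w⁻¹ * y * w, hW (conj_W y hy)⟩ : ℂ)
  Xsum : ∀ y (hy : y ∈ W), y ∈ Au → 2 * ∑ ξ ∈ X, (ξ ⟨y, hW hy⟩ : ℂ) = q - 1
  Xsum' : ∀ y (hy : y ∈ W), y ∉ Au → ∑ ξ ∈ X, (ξ ⟨y, hW hy⟩ : ℂ) = 0
  swap : ∀ y ∈ W, ∃ y' ∈ W, χ y' = χ y ∧ (y' ∈ K ↔ y ∈ Au) ∧ (y' ∈ Au ↔ y ∈ K) ∧
    (y' ∈ Av ↔ y ∈ Av)
  swap' : ∀ y ∈ W, ∃ y' ∈ W, χ y' = χ y ∧ (y' ∈ K ↔ y ∈ Av) ∧ (y' ∈ Av ↔ y ∈ K) ∧
    (y' ∈ Au ↔ y ∈ Au)
  h01 : ∀ g ∈ B₁, w⁻¹ * g * w ∈ B₀
  h10 : ∀ g ∈ B₀, w⁻¹ * g * w ∈ B₁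
  gen : B₀ ⊔ B₁ = ⊤
  stab : ∀ ξ ∈ X, B₀ ≤ stab K (l ξ) ∨ B₁ ≤ stab K (l ξ)

variable {q : ℕ} {B₀ B₁ : Subgroup C}

open scoped Classical in
/-- The values of `χ` on `K ∩ M`. -/
theorem chi_eq (h : EndHyp K M W Au Av t u w χ X ψ l)
    (h' : PosHyp q K M W Au Av h.W_le t w χ X ψ l B₀ B₁) {y : C} (hy : y ∈ K ⊓ M)
    (hn : ¬ (y ∈ Au ∧ y ∈ Av)) :
    χ y = 2 + ((q : ℂ) - 1) * (1 + (if y ∈ Au then 1 else 0) + (if y ∈ Av then 1 else 0)) := by
  have step1 : ∀ z ∈ W, z ∉ K →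
      χ z = 2 + ((q : ℂ) - 1) * ((if z ∈ Au then 1 else 0) + (if z ∈ Av then 1 else 0)) := by
    intro z hz hzK
    have h1 := h.sum z
    rw [h'.chi_tW z hz hzK, Finset.sum_congr rfl fun ξ hξ => h'.val ξ hξ z hz hzK,
      Finset.sum_add_distrib] at h1
    have h2 : 2 * ∑ ξ ∈ X, (ξ ⟨z, h.W_le hz⟩ : ℂ) = ((q : ℂ) - 1) * (if z ∈ Au then 1 else 0) := by
      by_cases h3 : z ∈ Au
      · rw [if_pos h3, mul_one]
        exact h'.Xsum z hz h3
      · rw [if_neg h3, mul_zero, h'.Xsum' z hz h3, mul_zero]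
    have h4 : 2 * ∑ ξ ∈ X, (ξ ⟨w⁻¹ * z * w, h.W_le (h'.conj_W z hz)⟩ : ℂ) =
        ((q : ℂ) - 1) * (if z ∈ Av then 1 else 0) := by
      by_cases h3 : z ∈ Av
      · rw [if_pos h3, mul_one]
        exact h'.Xsum _ (h'.conj_W z hz) ((h.mem_Av z).1 h3)
      · rw [if_neg h3, mul_zero, h'.Xsum' _ (h'.conj_W z hz) (fun h5 => h3 ((h.mem_Av z).2 h5)),
          mul_zero]
    rw [mul_add, h2, h4] at h1
    linear_combination h1
  have hyW : y ∈ W := h.KM_le hy
  by_cases hu : y ∈ Au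
  · have hv : y ∉ Av := fun hv => hn ⟨hu, hv⟩
    obtain ⟨y', hy'W, h1, h2, h3, h4⟩ := h'.swap' y hyW
    rw [← h1, step1 y' hy'W (fun h5 => hv (h2.1 h5)), if_pos (h4.2 hu), if_pos (h3.2 hy.1), if_pos hu,
      if_neg hv]
    ring
  · obtain ⟨y', hy'W, h1, h2, h3, h4⟩ := h'.swap y hyW
    rw [← h1, step1 y' hy'W (fun h5 => hu (h2.1 h5)), if_pos (h3.2 hy.1), if_neg hu]
    by_cases hv : y ∈ Av
    · rw [if_pos hv, if_pos (h4.2 hv)]
      ring
    · rw [if_neg hv, if_neg (fun h5 => hv (h4.1 h5))]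
      ring

/-- The sum of a linear character over a subgroup. -/
theorem sum_hom_eq_zero {A : Type*} [Group A] [Fintype A] (f : A →* ℂˣ) (hf : f ≠ 1) :
    ∑ a : A, (f a : ℂ) = 0 := by
  have h1 := sum_hom_units_eq_zero ((Units.coeHom ℂ).comp f) (by
    intro h2
    apply hf
    ext a
    have := DFunLike.congr_fun h2 a
    simpa using this)
  simpa only [_root_.MonoidHom.coe_comp, _root_.Function.comp_apply, _root_.Units.coeHom_apply] using h1

/-- The linear characters of `M` trivial on `K ∩ M` belong to irreducible characters trivial on `K`. -/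
theorem psi_eq (h : EndHyp K M W Au Av t u w χ X ψ l) {ξ : M →* ℂˣ} (hξ : ξ ∈ X)
    (h1 : ∀ y (hy : y ∈ K ⊓ M), ξ ⟨y, hy.2⟩ = 1) {k : C} (hk : k ∈ K) : ψ ξ k = ψ ξ 1 := by
  have h2 : l ξ = 1 := by
    refine eq_one_of_fix K (comm_K h) h.odd h.uu (h.l_u ξ hξ) fun k hk => ?_
    have hkM : (k : C) ∈ M := (h.mem_M k).2 hk
    have h3 := h.l_eq ξ hξ k k.2 hkM
    rw [h1 k ⟨k.2, hkM⟩] at h3
    exact h3
  refine apply_eq_of_conj K (h.irr ξ hξ) (h.occ ξ hξ) (x := ⟨k, hk⟩) fun g => ?_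
  rw [h2, MonoidHom.one_apply]

open scoped Classical in
/-- The count. -/
theorem count (h : EndHyp K M W Au Av t u w χ X ψ l)
    (h' : PosHyp q K M W Au Av h.W_le t w χ X ψ l B₀ B₁) (A : Subgroup C) [Fintype A]
    (hA : A = K ⊓ M) :
    (q + 1 : ℝ) * (Nat.card A + (q - 1) * Nat.card (A ⊓ Au : Subgroup C)) ≤
      ∑ y : A, (χ y).re := by
  have hAM : A ≤ M := hA ▸ inf_le_right
  have hAK : A ≤ K := hA ▸ inf_le_left
  have hAW : A ≤ W := hA ▸ h.KM_le
  -- the restriction to `A`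
  set res : (M →* ℂˣ) → (A →* ℂˣ) := fun ξ => ξ.comp (Subgroup.inclusion hAM) with hres
  have hres_apply : ∀ (ξ : M →* ℂˣ) (y : A), res ξ y = ξ ⟨y, hAM y.2⟩ := fun _ _ => rfl
  set N : ℕ := (X.filter fun ξ => res ξ = 1).card with hNdef
  have hcard : (Fintype.card A : ℂ) = Nat.card A := by rw [Nat.card_eq_fintype_card]
  -- the number `N`
  have hN2 : (2 : ℂ) * (Nat.card A * N) = (q - 1) * Nat.card (A ⊓ Au : Subgroup C) := by
    have e1 : ∑ y : A, ∑ ξ ∈ X, (res ξ y : ℂ) = Nat.card A * N := by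
      rw [Finset.sum_comm, ← Finset.sum_filter_add_sum_filter_not X (fun ξ => res ξ = 1)]
      rw [Finset.sum_congr rfl (g := fun _ => (Nat.card A : ℂ)) (fun ξ hξ => by
        rw [(Finset.mem_filter.1 hξ).2]
        simp only [hcard, _root_.MonoidHom.one_apply, _root_.Units.val_one, _root_.Finset.sum_const, _root_.Finset.card_univ, _root_.nsmul_eq_mul, _root_.Nat.card_eq_fintype_card, _root_.mul_one])]
      rw [Finset.sum_congr rfl (g := fun _ => (0 : ℂ)) (s₁ := X.filter fun ξ => ¬ res ξ = 1)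
        (fun ξ hξ => sum_hom_eq_zero (res ξ) (Finset.mem_filter.1 hξ).2)]
      rw [Finset.sum_const, Finset.sum_const_zero, add_zero, nsmul_eq_mul, mul_comm]
    have e2 : ∀ y : A, 2 * ∑ ξ ∈ X, (res ξ y : ℂ) = (q - 1) * (if (y : C) ∈ Au then 1 else 0) := by
      intro y
      by_cases hy : (y : C) ∈ Au
      · rw [if_pos hy, mul_one]
        exact h'.Xsum y (hAW y.2) hy
      · rw [if_neg hy, mul_zero]
        have := h'.Xsum' y (hAW y.2) hy
        change 2 * ∑ ξ ∈ X, (ξ ⟨y, hAM y.2⟩ : ℂ) = 0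
        rw [this, mul_zero]
    rw [← e1, Finset.mul_sum, Finset.sum_congr rfl fun y _ => e2 y, ← Finset.mul_sum]
    congr 1
    rw [← Finset.sum_filter, Finset.sum_const, nsmul_eq_mul, mul_one]
    congr 1
    rw [← Fintype.card_subtype, ← Nat.card_eq_fintype_card]
    exact Nat.card_congr
      { toFun := fun x => ⟨x.1.1, x.1.2, x.2⟩
        invFun := fun x => ⟨⟨x.1, x.2.1⟩, x.2.2⟩
        left_inv := fun _ => rfl
        right_inv := fun _ => rfl }
  have hN3 : (2 : ℝ) * (Nat.card A * N) = (q - 1) * Nat.card (A ⊓ Au : Subgroup C) := by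
    exact_mod_cast hN2
  -- the sum of one `ψ ξ`
  have hpos : ∀ ξ ∈ X, 0 ≤ ∑ y : A, (ψ ξ y).re := by
    intro ξ hξ
    have hc : IsCharacter A (fun y : A => ψ ξ y) :=
      Core.isCharacter_comp A.subtype (Core.isIrr_isCharacter (h.irr ξ hξ))
    obtain ⟨n, hn⟩ := Core.classInner_isNat hc Core.isCharacter_one
    rw [Core.classInner_def] at hn
    have h1 : ∑ y : A, ψ ξ y = Nat.card A * n := by
      have h0 : (Nat.card A : ℂ) ≠ 0 := Core.card_ne_zero_complex
      rw [← hn, ← mul_assoc, mul_inv_cancel₀ h0, one_mul]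
      refine Finset.sum_congr rfl fun y _ => ?_
      simp
    have h2 := congrArg Complex.re h1
    rw [Complex.re_sum] at h2
    rw [h2]
    have h3 : ((Nat.card A : ℂ) * n).re = (Nat.card A * n : ℕ) := by
      rw [← Nat.cast_mul]
      exact Complex.natCast_re _
    rw [h3]
    exact Nat.cast_nonneg _
  have htriv : ∀ ξ ∈ X, res ξ = 1 → ∑ y : A, (ψ ξ y).re = (q + 1) * Nat.card A := by
    intro ξ hξ h1
    have h2 : ∀ y : A, (ψ ξ y).re = q + 1 := by
      intro y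
      rw [psi_eq h hξ (fun z hz => ?_) (hAK y.2), h'.deg ξ hξ]
      · simp
      · have := DFunLike.congr_fun h1 (⟨z, hA ▸ hz⟩ : A)
        exact this
    rw [Finset.sum_congr rfl fun y _ => h2 y, Finset.sum_const, nsmul_eq_mul, Finset.card_univ,
      Nat.card_eq_fintype_card]
    ring
  have hsumψ : (N : ℝ) * ((q + 1) * Nat.card A) ≤ ∑ ξ ∈ X, ∑ y : A, (ψ ξ y).re := by
    rw [← Finset.sum_filter_add_sum_filter_not X (fun ξ => res ξ = 1)]
    have e1 : ∑ ξ ∈ X.filter (fun ξ => res ξ = 1), ∑ y : A, (ψ ξ y).re =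
        N * ((q + 1) * Nat.card A) := by
      rw [Finset.sum_congr rfl fun ξ hξ => htriv ξ (Finset.mem_filter.1 hξ).1
        (Finset.mem_filter.1 hξ).2, Finset.sum_const, nsmul_eq_mul]
    rw [e1]
    have e2 : 0 ≤ ∑ ξ ∈ X.filter (fun ξ => ¬ res ξ = 1), ∑ y : A, (ψ ξ y).re :=
      Finset.sum_nonneg fun ξ hξ => hpos ξ (Finset.mem_filter.1 hξ).1
    linarith only [e2]
  -- the sum of `χ`
  have hχ : ∀ y : A, (χ y).re = (q + 1) + 2 * ∑ ξ ∈ X, (ψ ξ y).re := by
    intro y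
    have h1 := h.sum y
    rw [h.chi_t y (hAK y.2), h'.chi_t_eq] at h1
    have h2 : χ y = (q + 1) + 2 * ∑ ξ ∈ X, ψ ξ y := by linear_combination h1
    rw [h2]
    simp [Complex.re_sum]
  rw [Finset.sum_congr rfl fun y _ => hχ y, Finset.sum_add_distrib, ← Finset.mul_sum,
    Finset.sum_comm, Finset.sum_const, nsmul_eq_mul, Finset.card_univ]
  have h0 : (Fintype.card A : ℝ) = Nat.card A := by rw [Nat.card_eq_fintype_card]
  rw [h0]
  nlinarith only [hN3, hsumψ]

/-- `K ∩ Au = 1`. -/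
theorem inf_eq_bot (h : EndHyp K M W Au Av t u w χ X ψ l)
    (h' : PosHyp q K M W Au Av h.W_le t w χ X ψ l B₀ B₁) : K ⊓ Au = ⊥ := by
  classical
  set A : Subgroup C := K ⊓ M with hA
  let _ : Fintype A := Fintype.ofFinite _
  have hq1 : (1 : ℝ) < q := by exact_mod_cast h'.one_lt_q
  -- `|A ∩ Av| = |A ∩ Au|`
  have hcardA : Nat.card (A ⊓ Av : Subgroup C) = Nat.card (A ⊓ Au : Subgroup C) := by
    refine Nat.card_congr
      { toFun := fun x => ⟨w⁻¹ * x.1 * w, ⟨?_, ?_⟩, ?_⟩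
        invFun := fun x => ⟨w * x.1 * w⁻¹, ⟨?_, ?_⟩, ?_⟩
        left_inv := ?_
        right_inv := ?_ }
    · have := hN.conj_mem x.1 x.2.1.1 w⁻¹
      rwa [inv_inv] at this
    · exact h.conj_M _ x.2.1.2
    · exact (h.mem_Av _).1 x.2.2
    · exact hN.conj_mem x.1 x.2.1.1 w
    · exact h'.conj_M' _ x.2.1.2
    · change w * x.1 * w⁻¹ ∈ Av
      rw [h.mem_Av]
      have h1 : w⁻¹ * (w * x.1 * w⁻¹) * w = x.1 := by group
      rw [h1]
      exact x.2.2
    · intro x
      apply Subtype.ext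
      change w * (w⁻¹ * x.1 * w) * w⁻¹ = x.1
      group
    · intro x
      apply Subtype.ext
      change w⁻¹ * (w * x.1 * w⁻¹) * w = x.1
      group
  have hc0 : (0 : ℝ) < Nat.card (A ⊓ Au : Subgroup C) := by exact_mod_cast Nat.card_pos
  have hcA0 : (0 : ℝ) < Nat.card A := by exact_mod_cast Nat.card_pos
  set j : ℝ := Nat.card A / Nat.card (A ⊓ Au : Subgroup C) with hj
  have hj0 : 0 < j := div_pos hcA0 hc0
  have h12 : (Nat.card A : ℝ) = j * Nat.card (A ⊓ Au : Subgroup C) := by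
    rw [hj]
    field_simp
  have h13 : (Nat.card A : ℝ) = j * Nat.card (A ⊓ Av : Subgroup C) := by
    rw [hcardA]
    exact h12
  have hone : (χ 1).re = (q : ℝ) ^ 2 + q := by
    rw [h'.chi_one]
    have : ((q : ℂ) ^ 2 + q) = ((q ^ 2 + q : ℕ) : ℂ) := by push_cast; rfl
    rw [this, Complex.natCast_re]
    push_cast
    rfl
  have hnorm : ∀ y, ‖χ y‖ ≤ (q : ℝ) ^ 2 + q := by
    intro y
    have h1 := SchurBound.norm_le h.isChar (n := q ^ 2 + q) (by rw [h'.chi_one]; push_cast; rfl) y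
    push_cast at h1
    exact h1
  have hcount := count h h' A hA
  have key := inf_le_of_count A Au Av (R := fun y => (χ y).re) (q := q) (j := j) hq1 hj0
    (fun y _ => (Complex.re_le_norm _).trans (hnorm y))
    (fun y hy hn => by
      have h1 := chi_eq h h' hy hn
      have h2 : χ y = ((2 + ((q : ℝ) - 1) * (1 + (if y ∈ Au then 1 else 0) +
          (if y ∈ Av then 1 else 0)) : ℝ) : ℂ) := by
        rw [h1]
        push_cast
        split_ifs <;> simp
      change (χ y).re = _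
      rw [h2, Complex.ofReal_re]) h12 h13 (by
      have e1 : (Nat.card A : ℝ) * ((q + 1) * (q - 1 + j)) =
          j * ((q + 1) * (Nat.card A + (q - 1) * Nat.card (A ⊓ Au : Subgroup C))) := by
        have : j * ((q + 1) * (Nat.card A + (q - 1) * Nat.card (A ⊓ Au : Subgroup C))) =
            (q + 1) * (j * Nat.card A + (q - 1) * (j * Nat.card (A ⊓ Au : Subgroup C))) := by ring
        rw [this, ← h12]
        ring
      rw [e1]
      exact mul_le_mul_of_nonneg_left hcount hj0.le)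
  refine (Subgroup.eq_bot_iff_forall _).2 fun y hy => ?_
  have hyA : y ∈ A ⊓ Au := ⟨⟨hy.1, h.W_le (h.Au_le hy.2)⟩, hy.2⟩
  have h1 : (χ y).re = (q : ℝ) ^ 2 + q := key.2 y hyA
  apply h.faith y hy.1
  have h2 : ‖χ y‖ = (χ y).re := le_antisymm (by rw [h1]; exact hnorm y) (Complex.re_le_norm _)
  apply Complex.ext
  · rw [h1, hone]
  · have h3 : (χ y).im = 0 := by
      have h4 := Complex.sq_norm (χ y)
      rw [h2, Complex.normSq_apply] at h4
      nlinarith only [h4]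
    rw [h3, h'.chi_one]
    have : ((q : ℂ) ^ 2 + q) = ((q ^ 2 + q : ℕ) : ℂ) := by push_cast; rfl
    rw [this, Complex.natCast_im]

/-- `ε = 1`. -/
theorem pos (h : EndHyp K M W Au Av t u w χ X ψ l)
    (h' : PosHyp q K M W Au Av h.W_le t w χ X ψ l B₀ B₁) :
    K ≤ Subgroup.center C ∧ K ⊓ Au = ⊥ := by
  classical
  have hbot := inf_eq_bot h h'
  refine ⟨?_, hbot⟩
  have hab := comm_K h
  have hMab : ∀ x ∈ M, ∀ y ∈ M, x * y = y * x := by
    intro x hx y hy
    have h1 : x * y * x⁻¹ * y⁻¹ ∈ K ⊓ Au := ⟨h.comm x hx y hy, h.commU x hx y hy⟩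
    rw [hbot, Subgroup.mem_bot, mul_inv_eq_one, mul_inv_eq_iff_eq_mul] at h1
    exact h1
  have hT : ∀ g ∈ K ⊔ M, ∃ k ∈ K, ∃ m ∈ M, g = k * m := by
    intro g hg
    rw [← SetLike.mem_coe, Subgroup.normal_mul] at hg
    obtain ⟨k, hk, m, hm, rfl⟩ := hg
    exact ⟨k, hk, m, hm, rfl⟩
  refine le_center_of_stab K hab h.odd h.uu h.isChar h.faith (T := K ⊔ M) (B₀ := B₀) (B₁ := B₁)
    (w := w) ?_ ?_ ?_ h'.h01 h'.h10 h'.gen ?_ ?_
  · intro g hg
    obtain ⟨k, hk, m, hm, rfl⟩ := hT g hg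
    have h1 : k * m * u * (k * m)⁻¹ * u⁻¹ = k * (u * k⁻¹ * u⁻¹) := by
      have h2 : k * m * u = k * (u * m) := by rw [mul_assoc, ← (h.mem_M m).1 hm]
      rw [h2]
      group
    rw [h1]
    exact K.mul_mem hk (hN.conj_mem _ (K.inv_mem hk) u)
  · intro g hg k hk huk
    obtain ⟨k', hk', m, hm, rfl⟩ := hT g hg
    have hkM : k ∈ M := (h.mem_M k).2 huk
    rw [mul_assoc, hMab m hm k hkM, ← mul_assoc, hab k' hk' k hk, mul_assoc]
  · intro g hg
    obtain ⟨k, hk, m, hm, rfl⟩ := hT g hg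
    have h1 : w * (k * m) * w⁻¹ = (w * k * w⁻¹) * (w * m * w⁻¹) := by group
    rw [h1]
    exact Subgroup.mul_mem_sup (hN.conj_mem k hk w) (h'.conj_M' m hm)
  · intro ν hν hν1
    -- `ν = l ξ` for some `ξ ∈ X`
    have huν : u ∈ stab K ν := hν ((le_sup_right : M ≤ K ⊔ M) ((h.mem_M u).2 rfl))
    let _ : Fintype (K ⊓ M : Subgroup C) := Fintype.ofFinite _
    have hex : ∃ ξ ∈ X, ∑ y : (K ⊓ M : Subgroup C),
        (ξ ⟨y, y.2.2⟩ : ℂ) * ((ν ⟨y, y.2.1⟩)⁻¹ : ℂˣ) ≠ 0 := by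
      by_contra hc
      push Not at hc
      have h1 : ∑ y : (K ⊓ M : Subgroup C), ∑ ξ ∈ X,
          (ξ ⟨y, y.2.2⟩ : ℂ) * ((ν ⟨y, y.2.1⟩)⁻¹ : ℂˣ) = 0 := by
        rw [Finset.sum_comm]
        exact Finset.sum_eq_zero hc
      have h2 : ∀ y : (K ⊓ M : Subgroup C), 2 * ∑ ξ ∈ X,
          (ξ ⟨y, y.2.2⟩ : ℂ) * ((ν ⟨y, y.2.1⟩)⁻¹ : ℂˣ) = if y = 1 then (q : ℂ) - 1 else 0 := by
        intro y
        rw [← Finset.sum_mul]
        by_cases hy : (y : C) ∈ Au
        · have hy1 : y = 1 := by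
            apply Subtype.ext
            have : (y : C) ∈ K ⊓ Au := ⟨y.2.1, hy⟩
            rw [hbot, Subgroup.mem_bot] at this
            exact this
          rw [if_pos hy1, ← mul_assoc, h'.Xsum y (h.KM_le y.2) hy]
          subst hy1
          have h3 : ν ⟨((1 : (K ⊓ M : Subgroup C)) : C), (1 : (K ⊓ M : Subgroup C)).2.1⟩ = 1 :=
            map_one ν
          rw [h3, inv_one, Units.val_one, mul_one]
        · rw [if_neg (fun h3 => hy (by rw [h3]; exact Au.one_mem)),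
            h'.Xsum' y (h.KM_le y.2) hy, zero_mul, mul_zero]
      have h3 : 2 * ∑ y : (K ⊓ M : Subgroup C), ∑ ξ ∈ X,
          (ξ ⟨y, y.2.2⟩ : ℂ) * ((ν ⟨y, y.2.1⟩)⁻¹ : ℂˣ) = (q : ℂ) - 1 := by
        rw [Finset.mul_sum, Finset.sum_congr rfl fun y _ => h2 y, Finset.sum_ite_eq',
          if_pos (Finset.mem_univ _)]
      rw [h1, mul_zero] at h3
      have h4 : (q : ℂ) = 1 := by linear_combination -h3
      have h5 : q = 1 := by exact_mod_cast h4
      exact absurd h'.one_lt_q (by omega)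
    obtain ⟨ξ, hξ, h1⟩ := hex
    have h2 : ∀ y (hy : y ∈ K ⊓ M), ξ ⟨y, hy.2⟩ = ν ⟨y, hy.1⟩ := by
      by_contra hc
      push Not at hc
      obtain ⟨y, hy, hne⟩ := hc
      apply h1
      set f : (K ⊓ M : Subgroup C) →* ℂˣ :=
        (ξ.comp (Subgroup.inclusion inf_le_right)) * (ν.comp (Subgroup.inclusion inf_le_left))⁻¹
        with hf
      refine (Finset.sum_congr rfl fun y _ => ?_).trans (sum_hom_eq_zero f ?_)
      · rw [hf, MonoidHom.mul_apply, MonoidHom.inv_apply, Units.val_mul]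
        rfl
      · intro h3
        apply hne
        have h4 := DFunLike.congr_fun h3 ⟨y, hy⟩
        rw [hf, MonoidHom.mul_apply, MonoidHom.inv_apply, MonoidHom.one_apply] at h4
        exact mul_inv_eq_one.1 h4
    have h3 : ν = l ξ := by
      have h4 : ν * (l ξ)⁻¹ = 1 := by
        refine eq_one_of_fix K hab h.odd h.uu ?_ fun k hk => ?_
        · intro k
          rw [MonoidHom.mul_apply, MonoidHom.mul_apply, MonoidHom.inv_apply, MonoidHom.inv_apply,
            huν k, h.l_u ξ hξ k]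
        · have hkM : (k : C) ∈ M := (h.mem_M k).2 hk
          rw [MonoidHom.mul_apply, MonoidHom.inv_apply]
          have h5 := h.l_eq ξ hξ k k.2 hkM
          rw [h2 k ⟨k.2, hkM⟩] at h5
          have h6 : l ξ k = ν k := h5
          rw [h6, mul_inv_cancel]
      exact mul_inv_eq_one.1 h4
    rw [h3]
    exact h'.stab ξ hξ
  · intro ν hν
    by_cases hν1 : ν = 1
    · refine ⟨1, ?_⟩
      rw [hν1]
      intro k
      rfl
    · obtain ⟨ξ, hξ, g, hg⟩ := exists_conj_of_occ h hν hν1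
      refine ⟨g⁻¹, ?_⟩
      have h1 : cj K g⁻¹ ν = l ξ := by
        rw [hg]
        ext k
        rw [cj_apply, cj_apply, ← MulAut.mul_apply, ← map_mul, mul_inv_cancel, map_one,
          MulAut.one_apply]
      rw [h1]
      exact h.l_u ξ hξ

end Cfsg.Agent.Classification.QDW.WrEnd
end

-- part: Classification/QDW/WrCore
section
/-!
# The wreathed case: the core is central

`CoreHyp`: the hypotheses inside `C = C(t)`; `core_central`: `K ≤ Z(C)` and `K ∩ Hu = 1`.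
-/

set_option autoImplicit false
set_option linter.unusedSectionVars false

namespace Cfsg.Agent.Classification.QDW.WrCore

open Cfsg Cfsg.Agent.Characters WrDefs WrX WrDeg

universe u

variable {C : Type u} [Group C]

/-- What the Frobenius group in `C / K` gives for the characters over invariant characters
of `K`. -/
structure FrobOut [Fintype C] (N : ℕ) {K M : Subgroup C} {lam : C →* ℂˣ} {w : C}
    (wr : WrHyp K M lam w) (K1 : Subgroup C) [K.Normal] : Prop where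
  le : ∀ (φ : K → ℂ), IsIrrCharacter K φ → stab K φ = ⊤ → ∀ ψ : C → ℂ, IsIrrCharacter C ψ →
    ∀ ξ : M →* ℂˣ, Free wr ξ → Att M lam ξ ψ → ∀ e : ℕ, 2 ≤ e → (∀ k : K, ψ k = e * φ k) → N ≤ e
  val : ∀ (φ : K → ℂ), IsIrrCharacter K φ → stab K φ = ⊤ → φ 1 = 1 → ∀ ψ : C → ℂ,
    IsIrrCharacter C ψ → ∀ ξ : M →* ℂˣ, Free wr ξ → Att M lam ξ ψ → (∀ k : K, ψ k = N * φ k) →
    ∀ y (hy : y ∈ M), lam y = 1 → y ∉ K1 →
      ψ y = (ξ ⟨y, hy⟩ : ℂ) + (ξ ⟨w⁻¹ * y * w, wr.conj_mem y hy⟩ : ℂ)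

open scoped Classical in
/-- The hypotheses inside `C`. -/
structure CoreHyp (q : ℕ) (ε : ℤ) (K M W Hu Hv : Subgroup C) (lam : C →* ℂˣ)
    (t u w : C) (χ : C → ℂ) : Prop where
  wr : WrHyp K M lam w
  xh : XHyp M Hu Hv lam t u w
  q_ge : 3 ≤ q
  eps : ε = 1 ∨ ε = -1
  t_comm : ∀ g, t * g = g * t
  uu : u * u = 1
  mem_M : ∀ g, g ∈ M ↔ u * g = g * u
  index : (Hu.relIndex M : ℤ) = q - ε
  isChar : IsCharacter C χ
  chi_one : χ 1 = (q : ℂ) ^ 2 + ε * q
  chi_t : χ t = 1 + ε * q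
  chi_K : ∀ k ∈ K, χ (t * k) = χ t
  faith : ∀ k ∈ K, χ k = χ 1 → k = 1
  chi_M : ∀ s ∈ M, lam s ≠ 1 →
    χ s = 2 + (((ε * q - 1 : ℤ)) : ℂ) * ((if s ∈ Hu then 1 else 0) + (if s ∈ Hv then 1 else 0))
  W_le : W ≤ M
  W_odd : Odd (Nat.card W)
  KM_le : K ⊓ M ≤ W
  conj_W : ∀ y ∈ W, w⁻¹ * y * w ∈ W
  comm_W : ∀ x ∈ M, ∀ y ∈ M, x * y * x⁻¹ * y⁻¹ ∈ W

/-- The additional hypotheses for `ε = 1`. -/
structure PosCore (q : ℕ) (K M W Hu Hv B₀ B₁ K1 : Subgroup C) (lam : C →* ℂˣ)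
    (t w : C) (χ : C → ℂ) : Prop where
  idx : ∀ H : Subgroup C, K ⊔ M ≤ H → H ≠ ⊤ →
    (q + 1 ≤ H.index ∧ (H.index = q + 1 → H = B₀ ∨ H = B₁)) ∨ (q ≤ H.index ∧ w ∈ H)
  W_K1 : ∀ y ∈ W, y ∈ K1 → y ∈ K
  chi_W : ∀ y ∈ W, y ∉ K → χ (t * y) = 2
  fix₀ : ∀ y ∈ M, y ∉ K1 → ∀ g, g⁻¹ * y * g ∈ B₀ → g ∈ B₀ ∨ w⁻¹ * g ∈ B₀
  fix₁ : ∀ y ∈ M, y ∉ K1 → ∀ g, g⁻¹ * y * g ∈ B₁ → g ∈ B₁ ∨ w⁻¹ * g ∈ B₁
  swap : ∀ y ∈ W, ∃ y' ∈ W, χ y' = χ y ∧ (y' ∈ K ↔ y ∈ Hu) ∧ (y' ∈ Hu ↔ y ∈ K) ∧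
    (y' ∈ Hv ↔ y ∈ Hv)
  swap' : ∀ y ∈ W, ∃ y' ∈ W, χ y' = χ y ∧ (y' ∈ K ↔ y ∈ Hv) ∧ (y' ∈ Hv ↔ y ∈ K) ∧
    (y' ∈ Hu ↔ y ∈ Hu)
  h01 : ∀ g ∈ B₁, w⁻¹ * g * w ∈ B₀
  h10 : ∀ g ∈ B₀, w⁻¹ * g * w ∈ B₁
  gen : B₀ ⊔ B₁ = ⊤

variable {q : ℕ} {ε : ℤ} {K M W Hu Hv B₀ B₁ K1 : Subgroup C} {lam : C →* ℂˣ} {t u w : C}
  {χ : C → ℂ}

theorem lam_W (h : CoreHyp q ε K M W Hu Hv lam t u w χ) [Finite C] {y : C} (hy : y ∈ W) :
    lam y = 1 := by
  obtain ⟨n, hn⟩ := h.W_odd
  have h1 : y ^ Nat.card W = 1 := by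
    have := pow_card_eq_one' (x := (⟨y, hy⟩ : W))
    exact congrArg Subtype.val this
  have h2 : lam y ^ Nat.card W = 1 := by rw [← map_pow, h1, map_one]
  rw [hn, pow_succ, pow_mul, sq, h.wr.lam_sq, one_pow, one_mul] at h2
  exact h2

theorem notMem_mul_t (h : CoreHyp q ε K M W Hu Hv lam t u w χ) [Finite C] {y : C} (hy : y ∈ W) :
    y * t ∉ Hu := by
  intro h0
  obtain ⟨n, hn⟩ := h.W_odd
  have h1 : y ^ Nat.card W = 1 := by
    have := pow_card_eq_one' (x := (⟨y, hy⟩ : W))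
    exact congrArg Subtype.val this
  have hc : Commute y t := (h.t_comm y).symm
  have h2 : (y * t) ^ Nat.card W = t := by
    rw [hc.mul_pow, h1, one_mul, hn, pow_succ, pow_mul, sq, h.xh.t_sq, one_pow, one_mul]
  apply h.xh.t_notMem
  rw [← h2]
  exact Hu.pow_mem h0 _

theorem conj_W_iff (h : CoreHyp q ε K M W Hu Hv lam t u w χ) [Finite C] {y : C} :
    y ∈ W ↔ w⁻¹ * y * w ∈ W := by
  refine ⟨h.conj_W y, fun hy => ?_⟩
  let f : W → W := fun z => ⟨w⁻¹ * z * w, h.conj_W z z.2⟩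
  have hinj : Function.Injective f := by
    intro a b hab
    have h1 : w⁻¹ * (a : C) * w = w⁻¹ * b * w := congrArg Subtype.val hab
    exact Subtype.ext (mul_left_cancel (mul_right_cancel h1))
  obtain ⟨z, hz⟩ := Finite.injective_iff_surjective.1 hinj ⟨_, hy⟩
  have h1 : w⁻¹ * (z : C) * w = w⁻¹ * y * w := congrArg Subtype.val hz
  have h2 : (z : C) = y := mul_left_cancel (mul_right_cancel h1)
  rw [← h2]
  exact z.2

open scoped Classical in
/-- The characters attached to the members of `X`, with everything known about them. -/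
theorem exists_family [Fintype C] [Fintype K] [hKn : K.Normal]
    (h : CoreHyp q ε K M W Hu Hv lam t u w χ) {N : ℕ} (hN : (N : ℤ) = q + ε) {K1 : Subgroup C}
    (hF : FrobOut N h.wr K1)
    (h1 : ∀ H : Subgroup C, K ⊔ M ≤ H → H ≠ ⊤ → w ∈ H → N < 2 * H.index)
    (h2 : ∀ H : Subgroup C, K ⊔ M ≤ H → w ∉ H → N ≤ H.index) :
    ∃ (X : Finset (M →* ℂˣ)) (ψ : (M →* ℂˣ) → C → ℂ) (l : (M →* ℂˣ) → (K →* ℂˣ)),
      (∀ ξ, ξ ∈ X ↔ InX h.xh ξ) ∧ 2 * X.card = Hu.relIndex M ∧
      (∀ y (hy : y ∈ M), 2 * ∑ ξ ∈ X, (ξ ⟨y, hy⟩ : ℂ) =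
        Hu.relIndex M * ((if y ∈ Hu then 1 else 0) - (if y * t ∈ Hu then 1 else 0))) ∧
      (∀ g, χ g - χ (t * g) = 2 * ∑ ξ ∈ X, ψ ξ g) ∧
      ∀ ξ ∈ X, IsIrrCharacter C (ψ ξ) ∧ ψ ξ 1 = N ∧
        classInner (fun k : K => ψ ξ k) (fun k => (l ξ k : ℂ)) ≠ 0 ∧
        (∀ (k : C) (hK : k ∈ K) (hM : k ∈ M), l ξ ⟨k, hK⟩ = ξ ⟨k, hM⟩) ∧
        K ⊔ M ≤ BorelOrb.stab K (l ξ) ∧
        ((BorelOrb.stab K (l ξ) = ⊤ ∧ ∀ y (hy : y ∈ M), lam y = 1 → y ∉ K1 →
            ψ ξ y = (ξ ⟨y, hy⟩ : ℂ) + (ξ ⟨w⁻¹ * y * w, h.wr.conj_mem y hy⟩ : ℂ)) ∨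
          (w ∉ BorelOrb.stab K (l ξ) ∧ (BorelOrb.stab K (l ξ)).index = N ∧
            ∀ y (hy : y ∈ M), lam y = 1 → (∀ g : C, g⁻¹ * y * g ∈ BorelOrb.stab K (l ξ) →
              g ∈ BorelOrb.stab K (l ξ) ∨ w⁻¹ * g ∈ BorelOrb.stab K (l ξ)) →
            ψ ξ y = (ξ ⟨y, hy⟩ : ℂ) + (ξ ⟨w⁻¹ * y * w, h.wr.conj_mem y hy⟩ : ℂ))) := by
  let _ : Fintype M := Fintype.ofFinite _
  let _ : Fintype ↥(K ⊔ M) := Fintype.ofFinite _
  have hN0 : 0 < N := by
    have := h.q_ge
    rcases h.eps with he | he <;> rw [he] at hN <;> omega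
  obtain ⟨X, hX, hcard, hsum⟩ := exists_X h.xh.Hu_le h.xh.comm h.xh.t_mem h.xh.t_sq
    h.xh.t_notMem
  have hcl := Core.isCharacter_isClassFunction h.isChar
  -- the degree bound
  have hζex : ∀ ξ ∈ X, ∀ ψ : C → ℂ, Att M lam ξ ψ → ∃ (ζ : ↥(K ⊔ M) → ℂ) (σ : ℂ), σ ≠ 0 ∧
      IsIrrCharacter ↥(K ⊔ M) ζ ∧ classInner (fun g : ↥(K ⊔ M) => ψ g) ζ ≠ 0 ∧
      IsIrrCharacter K (resK K M ζ) ∧
      (∀ s : M, lam (s : C) ≠ 1 → ζ ⟨s, Subgroup.mem_sup_right s.2⟩ = σ * (ξ s : ℂ)) ∧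
      ∀ n : ℕ, ψ 1 = n → N ≤ n ∧ (n = N → resK K M ζ 1 = 1 ∧
      ((stab K (resK K M ζ) = ⊤ ∧ ∀ k : K, ψ k = N * resK K M ζ k) ∨
        (w ∉ stab K (resK K M ζ) ∧ (stab K (resK K M ζ)).index = N ∧
          classInner (fun k : K => ψ k) (resK K M ζ) = 1))) := by
    intro ξ hξ ψ hψ
    have hfree := free h.wr h.xh ((hX ξ).1 hξ)
    obtain ⟨ζ, σ, hσ, hζ, hζψ, hζK, hζs⟩ := WrLam.exists_zeta h.wr hfree hψ
    have hσ0 : σ ≠ 0 := by
      rcases hσ with rfl | rfl
      · exact one_ne_zero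
      · norm_num
    refine ⟨ζ, σ, hσ0, hζ, hζψ, hζK, hζs, fun n hn => ?_⟩
    exact degree_bound h.wr h1 h2 hfree hψ.1 hζ hζψ hσ0 hζs hζK
      (fun htop e he2 hres => hF.le _ hζK htop ψ hψ.1 ξ hfree hψ e he2 hres) hn
  -- the counting theorem
  have hrel : ((Hu.relIndex M : ℕ) : ℂ) = (q : ℂ) - ε := by
    have := congrArg (Int.cast : ℤ → ℂ) h.index
    push_cast at this
    exact this
  have hNC : (N : ℂ) = (q : ℂ) + ε := by
    have := congrArg (Int.cast : ℤ → ℂ) hN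
    push_cast at this
    exact this
  have hee : (ε : ℂ) * ε = 1 := by
    rcases h.eps with he | he <;> rw [he] <;> norm_num
  have hrel0 : ((Hu.relIndex M : ℕ) : ℂ) ≠ 0 := by
    have hq := h.q_ge
    have h3 : Hu.relIndex M ≠ 0 := by
      intro h4
      have h5 := h.index
      rw [h4] at h5
      rcases h.eps with he | he <;> rw [he] at h5 <;> push_cast at h5 <;> omega
    exact_mod_cast h3
  have ha : ∀ ξ ∈ X, classInner χ (indFun M (dif M lam ξ)) ≠ 0 := by
    intro ξ hξ h0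
    have h3 := inner_eq h.wr h.xh ((hX ξ).1 hξ) hcl h.chi_M
    rw [← Core.classInner_conj_symm, h0, map_zero, zero_mul] at h3
    have h4 : (ε * q - 1 : ℤ) = 0 := by exact_mod_cast h3.symm
    have hq := h.q_ge
    rcases h.eps with he | he <;> rw [he] at h4 <;> omega
  obtain ⟨ψ, hψ, hE⟩ := WrTI.count h.wr h.t_comm h.xh.t_sq h.xh.t_mem h.xh.t_lam h.isChar X
    (fun ξ hξ => free h.wr h.xh ((hX ξ).1 hξ))
    (fun ξ hξ ξ' hξ' hne => ineq h.wr h.xh ((hX ξ).1 hξ) ((hX ξ').1 hξ') hne)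
    (fun ξ hξ => ((hX ξ).1 hξ).2) ha hN0
    (fun ξ hξ ψ hψ n hn => by
      obtain ⟨ζ, σ, -, -, -, -, -, h3⟩ := hζex ξ hξ ψ hψ
      exact (h3 n hn).1)
    (by
      rw [h.chi_one, h.chi_t]
      have h3 : (2 : ℂ) * N * X.card = N * ((Hu.relIndex M : ℕ) : ℂ) := by
        rw [← hcard]
        push_cast
        ring
      rw [h3, hrel, hNC]
      linear_combination hee)
  -- the linear characters of `K`
  have hl : ∀ ξ : M →* ℂˣ, ∃ l : K →* ℂˣ, ξ ∈ X →
      (classInner (fun k : K => ψ ξ k) (fun k => (l k : ℂ)) ≠ 0 ∧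
        (∀ (k : C) (hK : k ∈ K) (hM : k ∈ M), l ⟨k, hK⟩ = ξ ⟨k, hM⟩) ∧
        K ⊔ M ≤ BorelOrb.stab K l ∧
        ((BorelOrb.stab K l = ⊤ ∧ ∀ y (hy : y ∈ M), lam y = 1 → y ∉ K1 →
            ψ ξ y = (ξ ⟨y, hy⟩ : ℂ) + (ξ ⟨w⁻¹ * y * w, h.wr.conj_mem y hy⟩ : ℂ)) ∨
          (w ∉ BorelOrb.stab K l ∧ (BorelOrb.stab K l).index = N ∧
            ∀ y (hy : y ∈ M), lam y = 1 → (∀ g : C, g⁻¹ * y * g ∈ BorelOrb.stab K l →
              g ∈ BorelOrb.stab K l ∨ w⁻¹ * g ∈ BorelOrb.stab K l) →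
            ψ ξ y = (ξ ⟨y, hy⟩ : ℂ) + (ξ ⟨w⁻¹ * y * w, h.wr.conj_mem y hy⟩ : ℂ)))) := by
    intro ξ
    by_cases hξ : ξ ∈ X
    · obtain ⟨ζ, σ, hσ, hζ, hζψ, hζK, hζs, h3⟩ := hζex ξ hξ (ψ ξ) (hψ ξ hξ).1
      obtain ⟨-, h4⟩ := h3 N (hψ ξ hξ).2.1
      obtain ⟨h5, h6⟩ := h4 rfl
      obtain ⟨l, hl⟩ := Linear.exists_hom_of_isIrrCharacter hζK h5
      have hζ1 : ζ 1 = 1 := h5
      have hst : BorelOrb.stab K l = stab K (resK K M ζ) := by
        ext g
        rw [BorelOrb.mem_stab, mem_stab, hl]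
        constructor
        · intro h7
          funext k
          show ((l ((MulAut.conjNormal g : MulAut K) k) : ℂˣ) : ℂ) = l k
          rw [h7]
        · intro h7 k
          exact Units.ext (congrFun h7 k)
      refine ⟨l, fun _ => ⟨?_, ?_, ?_, ?_⟩⟩
      · have h7 : (fun k : K => (l k : ℂ)) = resK K M ζ := hl.symm
        rw [h7]
        obtain ⟨e, he0, he⟩ := exists_mult (hψ ξ hξ).1.1 hζ hζψ hζK
        rw [he]
        exact_mod_cast he0
      · intro k hK hM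
        have h7 := zeta_eq h.wr hζ hσ hζs hζ1 ⟨k, hM⟩ (h.wr.lam_K k hK)
        have h8 := congrFun hl ⟨k, hK⟩
        exact Units.ext (h8.symm.trans h7)
      · rw [hst]
        exact sup_le_stab hζ
      · rw [hst]
        refine h6.imp (fun h7 => ⟨h7.1, fun y hy hly hyK => ?_⟩)
          (fun h7 => ⟨h7.1, h7.2.1, fun y hy hly hfix => ?_⟩)
        · exact hF.val _ hζK h7.1 h5 _ (hψ ξ hξ).1.1 ξ (free h.wr h.xh ((hX ξ).1 hξ))
            (hψ ξ hξ).1 h7.2 y hy hly hyK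
        · exact values_borel h.wr (hψ ξ hξ).1.1 hζ hζψ hσ hζs hζK (hψ ξ hξ).2.1 h5 h7.1 h7.2.1
            h7.2.2 hy hly hfix
    · exact ⟨1, fun h3 => absurd h3 hξ⟩
  choose l hl using hl
  refine ⟨X, ψ, l, hX, hcard, hsum, fun g => ?_, fun ξ hξ => ?_⟩
  · rw [h.t_comm g]
    exact hE g
  · obtain ⟨h3, h4, h5, h6⟩ := hl ξ hξ
    exact ⟨(hψ ξ hξ).1.1, (hψ ξ hξ).2.1, h3, h4, h5, h6⟩

/-- The hypotheses of `WrEnd`. -/
theorem endHyp [Fintype C] [Fintype K] [hKn : K.Normal]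
    (h : CoreHyp q ε K M W Hu Hv lam t u w χ) {X : Finset (M →* ℂˣ)}
    {ψ : (M →* ℂˣ) → C → ℂ} {l : (M →* ℂˣ) → (K →* ℂˣ)}
    (hX : ∀ ξ, ξ ∈ X ↔ InX h.xh ξ) (hE : ∀ g, χ g - χ (t * g) = 2 * ∑ ξ ∈ X, ψ ξ g)
    (hl : ∀ ξ ∈ X, IsIrrCharacter C (ψ ξ) ∧
      classInner (fun k : K => ψ ξ k) (fun k => (l ξ k : ℂ)) ≠ 0 ∧
        (∀ (k : C) (hK : k ∈ K) (hM : k ∈ M), l ξ ⟨k, hK⟩ = ξ ⟨k, hM⟩) ∧
        K ⊔ M ≤ BorelOrb.stab K (l ξ)) :
    WrEnd.EndHyp K M W (Hu ⊓ W) (Hv ⊓ W) t u w χ X ψ l where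
  odd := h.wr.odd
  uu := h.uu
  mem_M := h.mem_M
  W_le := h.W_le
  KM_le := h.KM_le
  Au_le := inf_le_right
  comm := h.wr.comm
  commU := fun x hx y hy => ⟨h.xh.comm x hx y hy, h.comm_W x hx y hy⟩
  conj_M := fun x hx => h.wr.conj_mem x hx
  mem_Av := fun y => by
    rw [Subgroup.mem_inf, Subgroup.mem_inf, h.xh.mem_Hv, conj_W_iff h]
  isChar := h.isChar
  faith := h.faith
  chi_t := h.chi_K
  irr := fun ξ hξ => (hl ξ hξ).1
  sum := hE
  occ := fun ξ hξ => (hl ξ hξ).2.1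
  l_eq := fun ξ hξ => (hl ξ hξ).2.2.1
  l_u := fun ξ hξ => (hl ξ hξ).2.2.2 (Subgroup.mem_sup_right (h.xh.Hu_le h.xh.u_mem))
  X_u := fun ξ hξ y hy => ((hX ξ).1 hξ).1 y hy.1

theorem inf_Hu (h : CoreHyp q ε K M W Hu Hv lam t u w χ) (hb : K ⊓ (Hu ⊓ W) = ⊥) :
    K ⊓ Hu = ⊥ := by
  rw [eq_bot_iff, ← hb]
  intro x hx
  exact ⟨hx.1, hx.2, h.KM_le ⟨hx.1, h.xh.Hu_le hx.2⟩⟩

/-- A nontrivial element of `K` is not in the kernel of all members of the family. -/
theorem exists_irr_of_family (h : CoreHyp q ε K M W Hu Hv lam t u w χ) {N : ℕ}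
    {X : Finset (M →* ℂˣ)} {ψ : (M →* ℂˣ) → C → ℂ}
    (hE : ∀ g, χ g - χ (t * g) = 2 * ∑ ξ ∈ X, ψ ξ g)
    (hall : ∀ ξ ∈ X, IsIrrCharacter C (ψ ξ) ∧ ψ ξ 1 = N) (z : C) (hz : z ∈ K) (hz1 : z ≠ 1) :
    ∃ ψ' : C → ℂ, IsIrrCharacter C ψ' ∧ ψ' 1 = N ∧ ψ' z ≠ ψ' 1 := by
  by_contra hcon
  push Not at hcon
  apply hz1
  refine h.faith z hz ?_
  have h1 := hE z
  have h2 := hE 1
  rw [h.chi_K z hz, Finset.sum_congr rfl fun ξ hξ => hcon (ψ ξ) (hall ξ hξ).1 (hall ξ hξ).2] at h1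
  rw [mul_one, ← h1] at h2
  linear_combination -h2

/-- **The wreathed case, `ε = -1`.** -/
theorem core_neg [Fintype C] [hKn : K.Normal]
    (h : CoreHyp q (-1) K M W Hu Hv lam t u w χ) {N : ℕ} (hN : N + 1 = q) {K1 : Subgroup C}
    (hF : FrobOut N h.wr K1)
    (hidx : ∀ H : Subgroup C, K ⊔ M ≤ H → H ≠ ⊤ → q ≤ H.index) :
    K ≤ Subgroup.center C ∧ K ⊓ Hu = ⊥ ∧ ∀ z ∈ K, z ≠ 1 →
      ∃ ψ' : C → ℂ, IsIrrCharacter C ψ' ∧ ψ' 1 = N ∧ ψ' z ≠ ψ' 1 := by
  classical
  let _ : Fintype K := Fintype.ofFinite _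
  obtain ⟨X, ψ, l, hX, -, -, hE, hall⟩ := exists_family h (N := N) (by omega) hF
    (fun H hH hne _ => by have := hidx H hH hne; omega)
    (fun H hH hw => by
      have := hidx H hH (by rintro rfl; exact hw (Subgroup.mem_top w))
      omega)
  have hend := endHyp h hX hE (fun ξ hξ => by
    obtain ⟨h1, -, h2, h3, h4, -⟩ := hall ξ hξ
    exact ⟨h1, h2, h3, h4⟩)
  obtain ⟨h1, h2⟩ := WrEnd.neg hend (fun ξ hξ => by
    obtain ⟨-, -, -, -, h4, h5⟩ := hall ξ hξ
    rcases h5 with h6 | h6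
    · exact h6.1
    · exfalso
      have h7 := hidx _ h4 (by
        intro h8
        apply h6.1
        rw [h8]
        exact Subgroup.mem_top w)
      omega)
  exact ⟨h1, inf_Hu h h2, exists_irr_of_family h hE fun ξ hξ =>
    ⟨(hall ξ hξ).1, (hall ξ hξ).2.1⟩⟩

/-- **The wreathed case, `ε = 1`.** -/
theorem core_pos [Fintype C] [hKn : K.Normal]
    (h : CoreHyp q 1 K M W Hu Hv lam t u w χ)
    (hp : PosCore q K M W Hu Hv B₀ B₁ K1 lam t w χ)
    (hF : FrobOut (q + 1) h.wr K1) :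
    K ≤ Subgroup.center C ∧ K ⊓ Hu = ⊥ ∧ ∀ z ∈ K, z ≠ 1 →
      ∃ ψ' : C → ℂ, IsIrrCharacter C ψ' ∧ ψ' 1 = ((q + 1 : ℕ) : ℂ) ∧ ψ' z ≠ ψ' 1 := by
  classical
  let _ : Fintype K := Fintype.ofFinite _
  have hq := h.q_ge
  obtain ⟨X, ψ, l, hX, hcard, hsum, hE, hall⟩ := exists_family h (N := q + 1) (by push_cast; rfl) hF
    (fun H hH hne _ => by
      rcases hp.idx H hH hne with h1 | h1 <;> omega)
    (fun H hH hw => by
      rcases hp.idx H hH (by rintro rfl; exact hw (Subgroup.mem_top w)) with h1 | h1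
      · exact h1.1
      · exact absurd h1.2 hw)
  have hend := endHyp h hX hE (fun ξ hξ => by
    obtain ⟨h1, -, h2, h3, h4, -⟩ := hall ξ hξ
    exact ⟨h1, h2, h3, h4⟩)
  have hstab : ∀ ξ ∈ X, w ∉ BorelOrb.stab K (l ξ) → (BorelOrb.stab K (l ξ)).index = q + 1 →
      BorelOrb.stab K (l ξ) = B₀ ∨ BorelOrb.stab K (l ξ) = B₁ := by
    intro ξ hξ hw hi
    obtain ⟨-, -, -, -, h4, -⟩ := hall ξ hξ
    rcases hp.idx _ h4 (by
        intro h8
        apply hw
        rw [h8]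
        exact Subgroup.mem_top w) with h1 | h1
    · exact h1.2 hi
    · exact absurd h1.2 hw
  have hrel : ((Hu.relIndex M : ℕ) : ℂ) = (q : ℂ) - 1 := by
    have := congrArg (Int.cast : ℤ → ℂ) h.index
    push_cast at this
    exact this
  have hconjW : ∀ y ∈ W, w⁻¹ * y * w ∈ W := h.conj_W
  have hpos : WrEnd.PosHyp q K M W (Hu ⊓ W) (Hv ⊓ W) hend.W_le t w χ X ψ l B₀ B₁ :=
    { one_lt_q := by omega
      chi_one := by rw [h.chi_one]; push_cast; ring
      chi_t_eq := by rw [h.chi_t]; push_cast; ring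
      chi_tW := hp.chi_W
      deg := fun ξ hξ => by
        rw [(hall ξ hξ).2.1]
        push_cast
        rfl
      conj_W := hconjW
      Av_le := inf_le_right
      conj_M' := h.wr.conj_mem'
      val := fun ξ hξ y hy hyK => by
        have hly := lam_W h hy
        have hy1 : y ∉ K1 := fun h1 => hyK (hp.W_K1 y hy h1)
        obtain ⟨-, -, -, -, h4, h5⟩ := hall ξ hξ
        rcases h5 with h6 | h6
        · exact h6.2 y (h.W_le hy) hly hy1
        · refine h6.2.2 y (h.W_le hy) hly ?_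
          rcases hstab ξ hξ h6.1 h6.2.1 with h7 | h7
          · rw [h7]
            exact hp.fix₀ y (h.W_le hy) hy1
          · rw [h7]
            exact hp.fix₁ y (h.W_le hy) hy1
      Xsum := fun y hy hyA => by
        rw [hsum y (h.W_le hy), if_pos (show y ∈ Hu from hyA.1), if_neg (notMem_mul_t h hy), hrel]
        ring
      Xsum' := fun y hy hyA => by
        have h1 := hsum y (h.W_le hy)
        rw [if_neg (show y ∉ Hu from fun h2 => hyA ⟨h2, hy⟩), if_neg (notMem_mul_t h hy), sub_zero, mul_zero] at h1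
        simpa using h1
      swap := fun y hy => by
        obtain ⟨y', hy', h1, h2, h3, h4⟩ := hp.swap y hy
        refine ⟨y', hy', h1, ?_, ?_, ?_⟩
        · rw [h2, Subgroup.mem_inf]
          exact ⟨fun h5 => ⟨h5, hy⟩, fun h5 => h5.1⟩
        · rw [Subgroup.mem_inf, h3]
          exact ⟨fun h5 => h5.1, fun h5 => ⟨h5, hy'⟩⟩
        · rw [Subgroup.mem_inf, Subgroup.mem_inf, h4]
          exact ⟨fun h5 => ⟨h5.1, hy⟩, fun h5 => ⟨h5.1, hy'⟩⟩
      swap' := fun y hy => by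
        obtain ⟨y', hy', h1, h2, h3, h4⟩ := hp.swap' y hy
        refine ⟨y', hy', h1, ?_, ?_, ?_⟩
        · rw [h2, Subgroup.mem_inf]
          exact ⟨fun h5 => ⟨h5, hy⟩, fun h5 => h5.1⟩
        · rw [Subgroup.mem_inf, h3]
          exact ⟨fun h5 => h5.1, fun h5 => ⟨h5, hy'⟩⟩
        · rw [Subgroup.mem_inf, Subgroup.mem_inf, h4]
          exact ⟨fun h5 => ⟨h5.1, hy⟩, fun h5 => ⟨h5.1, hy'⟩⟩
      h01 := hp.h01
      h10 := hp.h10
      gen := hp.gen
      stab := fun ξ hξ => by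
        obtain ⟨-, -, -, -, h4, h5⟩ := hall ξ hξ
        rcases h5 with h6 | h6
        · exact Or.inl (by rw [h6.1]; exact le_top)
        · rcases hstab ξ hξ h6.1 h6.2.1 with h7 | h7
          · exact Or.inl h7.ge
          · exact Or.inr h7.ge }
  obtain ⟨h1, h2⟩ := WrEnd.pos hend hpos
  exact ⟨h1, inf_Hu h h2, exists_irr_of_family h hE fun ξ hξ =>
    ⟨(hall ξ hξ).1, (hall ξ hξ).2.1⟩⟩

end Cfsg.Agent.Classification.QDW.WrCore
end

-- part: Classification/QDW/WrFrobOut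
section
/-!
# The wreathed case: `FrobOut` from `FrobData`

* `frobOut_one`: `ε = 1`, `N = q + 1`;
* `frobOut_neg`: `ε = -1`, `N = q - 1`, `q ≥ 5`;
* `frobOut_two`: `N = 2` (for `q = 3`).
-/

set_option autoImplicit false
set_option linter.unusedSectionVars false

namespace Cfsg.Agent.Classification.QDW.WrFrobOut

open Cfsg Cfsg.Agent.Classification.QDW.WrDefs Cfsg.Agent.Classification.QDW.WrCore
open Cfsg.Agent.Classification.QDW.WrFrob Cfsg.Agent.Classification.QDW.WrInv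

universe u

variable {C : Type u} [Group C] {K M : Subgroup C} {lam : C →* ℂˣ} {w : C}
  {q : ℕ} {B K₁ X T : Subgroup C} {z : C} {m : ℕ}

theorem frobOut_one [Fintype C] [K.Normal] (h : WrHyp K M lam w)
    (hd : FrobData K lam q B K₁ X T z m) (hT : K ⊔ M ≤ T) : FrobOut (q + 1) h K₁ where
  le := fun _ hφ _ _ _ _ hfree ha _ _ he => le_of_inv_one h hd hT hfree ha hφ he
  val := fun _ hφ _ hφ1 _ _ _ hfree ha he y hy hly hyK =>
    apply_of_eq h hd hT hfree ha hφ hφ1 he (y := ⟨y, hy⟩) hly hyK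

theorem frobOut_neg [Fintype C] [K.Normal] (h : WrHyp K M lam w)
    (hd : FrobData K lam q B K₁ X T z m) : FrobOut (q - 1) h ⊤ where
  le := fun _ hφ _ _ _ _ hfree ha _ _ he => le_of_inv h hd hfree ha hφ he
  val := fun _ _ _ _ _ _ _ _ _ _ y _ _ hyK => absurd (Subgroup.mem_top y) hyK

theorem frobOut_two [Fintype C] [K.Normal] (h : WrHyp K M lam w) :
    FrobOut 2 h ⊤ where
  le := fun _ _ _ _ _ _ _ _ _ he _ => he
  val := fun _ _ _ _ _ _ _ _ _ _ y _ _ hyK => absurd (Subgroup.mem_top y) hyK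

end Cfsg.Agent.Classification.QDW.WrFrobOut
end

-- part: Classification/QDW/WrAssembly
section
/-!
# The wreathed case: from the group `G` to the hypotheses of `WrCore`

`G` is a finite simple group with one class of involutions, `t` an involution, `π : C(t) →* C` onto
with odd kernel, `C` of type `GL₂(q)/Z₀` (`ε = 1`) or `GU₂(q)/Z₀` (`ε = -1`), `4 ∣ r = (q - ε)_2`,
`|Z| = r`.

* `exists_frame`: there is `g : G` with `g t g⁻¹ = u'`, `g u' g⁻¹ = t`;
* `coreHyp`: `WrCore.CoreHyp`;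
* `posCore`: `WrCore.PosCore`.
-/

set_option autoImplicit false
set_option linter.unusedSectionVars false

namespace Cfsg.Agent.Classification.QDW.WrAssembly

open Cfsg Cfsg.Agent.Characters Cfsg.Agent.Classification.InvCent
open Cfsg.Agent.Classification.RTwo.General Cfsg.Agent.Classification.QDW.WrDefs
open Cfsg.Agent.Classification.QDW.WrInst Cfsg.Agent.Classification.QDW.InstGamma
open Cfsg.Agent.Classification.QDW.WrThree Cfsg.Agent.Classification.QDW.WrCore

universe v w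

section Faith

variable {G : Type v} [Group G] [Finite G]

/-- In a simple group, a character nontrivial at some element is faithful. -/
theorem eq_one_of_apply [hs : IsSimpleGroup G] {χ : G → ℂ} (hχ : IsCharacter G χ) {t : G}
    (ht : χ t ≠ χ 1) {x : G} (hx : χ x = χ 1) : x = 1 := by
  obtain ⟨n, ρ, rfl⟩ := hχ
  have h1 : ρ.character 1 = (Module.finrank ℂ (Fin n → ℂ) : ℂ) := by
    rw [Values.character_eq_finrank_iff, map_one]
    rfl
  have key : ∀ g : G, ρ.character g = ρ.character 1 ↔ g ∈ MonoidHom.ker ρ := by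
    intro g
    rw [h1, Values.character_eq_finrank_iff, MonoidHom.mem_ker]
    rfl
  rcases (inferInstance : (MonoidHom.ker ρ).Normal).eq_bot_or_eq_top with h2 | h2
  · have h3 := (key x).1 hx
    rw [h2, Subgroup.mem_bot] at h3
    exact h3
  · exact absurd ((key t).2 (by rw [h2]; exact Subgroup.mem_top t)) ht

end Faith

section Base

variable {G : Type v} [Group G] {C : Type w} [Group C] {t : G} {z : C}
  {π : (Subgroup.centralizer ({t} : Set G)) →* C} {q : ℕ} {ε : ℤ} {Z T T' U : Subgroup C}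
  {s s' u : C} {r : ℕ} {b : C →* ℂˣ} {u' w : Subgroup.centralizer ({t} : Set G)}

theorem isOver (h : Hyp t z π) : Over π (tt t) z where
  surj := h.surj
  odd := h.odd_ker
  central x := ((tt_comm x).eq).symm
  sq := tt_mul_tt h
  map := map_tt h

theorem mem_centralizer {x : G} : x ∈ Subgroup.centralizer ({t} : Set G) ↔ x * t = t * x := by
  rw [Subgroup.mem_centralizer_singleton_iff]

/-- The noncentral involutions of `C(t)` are conjugate. -/
theorem exists_conj_A [Finite C] (h : Hyp t z π) (hC : CHyp z q ε Z T T' U s s' u)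
    (hp : Pair π (tt t) s u u' w) {y : Subgroup.centralizer ({t} : Set G)} (hy : y * y = 1)
    (h1 : y ≠ 1) (ht : y ≠ tt t) : ∃ a, a * y * a⁻¹ = u' := by
  classical
  let _ : Fintype C := Fintype.ofFinite C
  have ho := isOver h
  have hπ1 : π y ≠ 1 := fun h2 => h1 (eq_one_of_sq ho.odd h2 hy)
  have hπz : π y ≠ z := by
    intro h2
    obtain ⟨k, -, hk⟩ := exists_conj ho.odd ho.sq hy (by rw [ho.map, h2])
    apply ht
    rw [← hk, ho.central k, mul_inv_cancel_right]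
  have hmem : π y ∈ nInv z := by
    rw [mem_nInv]
    refine ⟨orderOf_eq_prime ?_ hπ1, hπz⟩
    rw [sq, ← map_mul, hy, map_one]
  obtain ⟨c, hc⟩ := hC.nInv_isConj hmem
  obtain ⟨κ, hκ⟩ := ho.surj c
  have h2 : π (κ * y * κ⁻¹) = π u' := by
    rw [map_mul, map_mul, map_inv, hκ, ← hc, hp.map_u]
    group
  have h3 : κ * y * κ⁻¹ * (κ * y * κ⁻¹) = 1 := by
    have h4 : κ * y * κ⁻¹ * (κ * y * κ⁻¹) = κ * (y * y) * κ⁻¹ := by group
    rw [h4, hy]; group
  obtain ⟨k, -, hk⟩ := exists_conj ho.odd h3 hp.sq h2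
  exact ⟨k * κ, by rw [← hk]; group⟩

theorem u'_ne_one [Finite C] (hC : CHyp z q ε Z T T' U s s' u) (hp : Pair π (tt t) s u u' w) : u' ≠ 1 := by
  rintro rfl
  have h5 := hp.map_u
  rw [map_one] at h5
  exact WrChar.u_ne_one hC h5.symm

theorem u'_ne_t (h : Hyp t z π) (hC : CHyp z q ε Z T T' U s s' u)
    (hp : Pair π (tt t) s u u' w) : u' ≠ tt t := by
  rintro rfl
  have h5 := hp.map_u
  rw [map_tt h] at h5
  exact hC.u_ne h5.symm

/-- There is an element of `G` interchanging `t` and `u'`. -/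
theorem exists_frame [Finite C] (h : Hyp t z π) (hC : CHyp z q ε Z T T' U s s' u)
    (hp : Pair π (tt t) s u u' w) : ∃ g : G, Fr t (u' : G) g (w : G) := by
  have ho := isOver h
  have hu2 : (u' : G) * u' = 1 := congrArg Subtype.val hp.sq
  have hu1 : (u' : G) ≠ 1 := fun h1 => u'_ne_one hC hp (Subtype.ext h1)
  have hut : (u' : G) ≠ t := fun h1 => u'_ne_t h hC hp (Subtype.ext h1)
  have hcomm : (u' : G) * t = t * u' := mem_centralizer.1 u'.2
  obtain ⟨c, hc⟩ := isConj_iff.1 (h.one_class (u' : G) (orderOf_eq_prime (by rw [sq]; exact hu2) hu1))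
  have e1 : c⁻¹ * (u' : G) * c = t := by rw [← hc]; group
  have hy : c⁻¹ * t * c ∈ Subgroup.centralizer ({t} : Set G) := by
    rw [mem_centralizer]
    calc c⁻¹ * t * c * t = c⁻¹ * t * c * (c⁻¹ * (u' : G) * c) := by rw [e1]
      _ = c⁻¹ * (t * (u' : G)) * c := by group
      _ = c⁻¹ * ((u' : G) * t) * c := by rw [hcomm]
      _ = (c⁻¹ * (u' : G) * c) * (c⁻¹ * t * c) := by group
      _ = t * (c⁻¹ * t * c) := by rw [e1]
  obtain ⟨a, ha⟩ := exists_conj_A h hC hp (y := ⟨c⁻¹ * t * c, hy⟩)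
    (Subtype.ext (by
      change c⁻¹ * t * c * (c⁻¹ * t * c) = 1
      have h4 : c⁻¹ * t * c * (c⁻¹ * t * c) = c⁻¹ * (t * t) * c := by group
      rw [h4, t_mul_t h]; group))
    (fun h1 => by
      have h2 : c⁻¹ * t * c = 1 := congrArg Subtype.val h1
      apply t_ne_one h
      have h3 : t = c * (c⁻¹ * t * c) * c⁻¹ := by group
      rw [h3, h2]; group)
    (fun h1 => by
      have h2 : c⁻¹ * t * c = t := congrArg Subtype.val h1
      apply hut
      rw [← hc]
      have h3 : c * t = t * c := by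
        calc c * t = c * (c⁻¹ * t * c) := by rw [h2]
          _ = t * c := by group
      rw [h3]; group)
  have ha' : (a : G) * (c⁻¹ * t * c) * (a : G)⁻¹ = u' := congrArg Subtype.val ha
  refine ⟨a * c⁻¹, ?_⟩
  exact
    { tt := t_mul_t h
      aa := hu2
      comm := hcomm
      gt := by rw [← ha']; group
      ga := by
        have h4 : (a : G) * c⁻¹ * u' * ((a : G) * c⁻¹)⁻¹ = (a : G) * (c⁻¹ * u' * c) * (a : G)⁻¹ := by
          group
        rw [h4, e1, mem_centralizer.1 a.2, mul_inv_cancel_right]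
      wt := by rw [mem_centralizer.1 w.2, mul_inv_cancel_right]
      wa := congrArg Subtype.val hp.conj
      t_ne := t_ne_one h }

/-- A subgroup of `C(t)` as a subgroup of `G`. -/
def up (S : Subgroup (Subgroup.centralizer ({t} : Set G))) : Subgroup G :=
  S.map (Subgroup.centralizer ({t} : Set G)).subtype

theorem mem_up {S : Subgroup (Subgroup.centralizer ({t} : Set G))}
    {x : Subgroup.centralizer ({t} : Set G)} : (x : G) ∈ up S ↔ x ∈ S := by
  unfold up
  rw [Subgroup.mem_map]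
  constructor
  · rintro ⟨y, hy, hyx⟩
    have h1 : y = x := Subtype.ext hyx
    rwa [← h1]
  · intro hx
    exact ⟨x, hx, rfl⟩

theorem inv_up {S : Subgroup (Subgroup.centralizer ({t} : Set G))} (hS : S.Normal) :
    WrThree.Inv t (up S) := by
  rintro a ha x hx
  obtain ⟨y, hy, rfl⟩ := Subgroup.mem_map.1 hx
  have h1 := hS.conj_mem y hy ⟨a, mem_centralizer.2 ha⟩
  exact mem_up.2 h1

theorem up_mono {S S' : Subgroup (Subgroup.centralizer ({t} : Set G))} (h : S ≤ S') :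
    up S ≤ up S' := Subgroup.map_mono h

theorem normal_Z [Finite C] (hC : CHyp z q ε Z T T' U s s' u) : Z.Normal := by
  constructor
  intro n hn g
  rw [hC.Z_central n hn g, mul_inv_cancel_right]
  exact hn

/-- `x ∈ M` as a statement on `G`. -/
theorem inM_iff {x : Subgroup.centralizer ({t} : Set G)} :
    InM t (u' : G) (x : G) ↔ x ∈ Subgroup.centralizer ({u'} : Set _) := by
  rw [mem_cent]
  exact ⟨fun hx => Subtype.ext hx.2, fun hx => ⟨mem_centralizer.1 x.2, congrArg Subtype.val hx⟩⟩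

/-- The subgroup of `M` attached to the involution `v`. -/
def Hs (P : Subgroup G) (u' : Subgroup.centralizer ({t} : Set G)) (v : G) :
    Subgroup (Subgroup.centralizer ({t} : Set G)) where
  carrier := {x | x ∈ Subgroup.centralizer ({u'} : Set _) ∧ At t P v (x : G)}
  one_mem' := ⟨one_mem _, fun n _ => by
    have h1 : n⁻¹ * ((1 : Subgroup.centralizer ({t} : Set G)) : G) * n = 1 := by
      rw [Subgroup.coe_one, mul_one, inv_mul_cancel]
    rw [h1]; exact one_mem P⟩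
  mul_mem' hx hy := ⟨mul_mem hx.1 hy.1, at_mul hx.2 hy.2⟩
  inv_mem' hx := ⟨inv_mem hx.1, at_inv hx.2⟩

theorem mem_Hs {P : Subgroup G} {v : G} {x : Subgroup.centralizer ({t} : Set G)} :
    x ∈ Hs P u' v ↔ x ∈ Subgroup.centralizer ({u'} : Set _) ∧ At t P v (x : G) := Iff.rfl

/-- The powers `x ^ (r / 2)` of the elements of `T` with `b x ^ (r / 2) ≠ 1`. -/
theorem exists_pow_half [Finite C] (hC : CHyp z q ε Z T T' U s s' u)
    (hD : DetHyp q ε T T' U s s' u r b) {x : C} (hx : x ∈ T) (hb : b x ^ (r / 2) ≠ 1) :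
    ∃ n : ℕ, x ^ (r / 2 * n) = u ∨ x ^ (r / 2 * n) = z * u := by
  obtain ⟨n, hn, h1⟩ := exists_odd hC hD
  refine ⟨n, ?_⟩
  have h2 : x ^ (r / 2 * n) * x ^ (r / 2 * n) = 1 := by
    rw [← pow_add]
    have h3 : r / 2 * n + r / 2 * n = r * n := by
      conv_rhs => rw [half hD]
      ring
    rw [h3, h1 x hx]
  have h3 : b (x ^ (r / 2 * n)) ≠ 1 := by
    intro h4
    apply hb
    obtain ⟨m, hm⟩ := hn
    rw [map_pow, pow_mul, hm, pow_succ, pow_mul, sq, b_sq hD, one_pow, one_mul] at h4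
    exact h4
  rcases hC.invol_T _ (pow_mem hx _) h2 with h | h | h | h
  · exact absurd (by rw [h, map_one]) h3
  · exact absurd (by rw [h, WrChar.b_z hC hD]) h3
  · exact Or.inl h
  · exact Or.inr h

/-- (INV) For `x ∈ M` with `lam x ≠ 1`, one of `u'`, `t u'` is a power of `x ^ (r / 2)`. -/
theorem mem_zpowers [Finite C] (h : Hyp t z π) (hC : CHyp z q ε Z T T' U s s' u)
    (hD : DetHyp q ε T T' U s s' u r b) (hp : Pair π (tt t) s u u' w)
    {x : Subgroup.centralizer ({t} : Set G)} (hx : x * u' = u' * x) (hl : lam π r b x ≠ 1) :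
    u' ∈ Subgroup.zpowers (x ^ (r / 2)) ∨ tt t * u' ∈ Subgroup.zpowers (x ^ (r / 2)) := by
  have ho := isOver h
  have key : ∀ v : Subgroup.centralizer ({t} : Set G), v * v = 1 → Commute x v →
      ∀ n : ℕ, π (x ^ (r / 2 * n)) = π v → v ∈ Subgroup.zpowers (x ^ (r / 2)) := by
    intro v hv hxv n hn
    have hvi : v⁻¹ = v := inv_eq_of_mul_eq_one_left hv
    have h1 : π (v * x ^ (r / 2 * n)) = 1 := by
      rw [map_mul, hn, ← map_mul, hv, map_one]
    have h2 := pow_card_ker π h1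
    have h3 : Commute v (x ^ (r / 2 * n)) := hxv.symm.pow_right _
    rw [h3.mul_pow] at h2
    obtain ⟨m, hm⟩ := ho.odd
    have h4 : v ^ Nat.card π.ker = v := by
      rw [hm, pow_succ, pow_mul, sq, hv, one_pow, one_mul]
    rw [h4] at h2
    have h5 : (x ^ (r / 2)) ^ (n * Nat.card π.ker) = v := by
      rw [pow_mul, ← pow_mul x, ← hvi]
      exact eq_inv_of_mul_eq_one_right h2
    rw [← h5]
    exact pow_mem (Subgroup.mem_zpowers _) _
  obtain ⟨n, hn⟩ := exists_pow_half hC hD (map_mem ho hC hp hx) hl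
  rcases hn with hn | hn
  · left
    exact key u' hp.sq hx n (by rw [map_pow, hn, hp.map_u])
  · right
    refine key (tt t * u') ?_ ?_ n (by rw [map_pow, hn, map_mul, map_tt h, hp.map_u])
    · have h5 : tt t * u' * (tt t * u') = (tt t * (u' * tt t)) * u' := by group
      rw [h5, ho.central u', ← mul_assoc, ho.sq, one_mul, hp.sq]
    · have h6 : Commute x (tt t) := ho.central x
      exact h6.mul_right hx

theorem val_zpowers {A : Subgroup G} {x y : A} :
    (y : G) ∈ Subgroup.zpowers (x : G) ↔ y ∈ Subgroup.zpowers x := by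
  rw [Subgroup.mem_zpowers_iff, Subgroup.mem_zpowers_iff]
  refine exists_congr fun k => ?_
  rw [← Subgroup.coe_zpow]
  exact ⟨fun h => Subtype.ext h, fun h => congrArg Subtype.val h⟩

/-- The hypotheses of `WrThree` on the kernel of the quadratic character. -/
theorem lHyp [Finite C] (h : Hyp t z π) (hC : CHyp z q ε Z T T' U s s' u)
    (hD : DetHyp q ε T T' U s s' u r b) (hp : Pair π (tt t) s u u' w) :
    LHyp t (u' : G) (up (lam π r b).ker) (r / 2) where
  ne := by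
    obtain ⟨x, hx, hl⟩ := (wrHyp (isOver h) hC hD hp).lam_ne
    refine ⟨x, inM_iff.2 hx, fun h1 => hl ?_⟩
    rw [at_self (inv_up inferInstance), mem_up] at h1
    exact h1
  inv x hx hn := by
    have h1 : x ∈ Subgroup.centralizer ({t} : Set G) := mem_centralizer.2 hx.1
    have h2 : lam π r b ⟨x, h1⟩ ≠ 1 := by
      intro h3
      apply hn
      rw [at_self (inv_up inferInstance)]
      exact (mem_up (x := ⟨x, h1⟩)).2 h3
    have h3 : (⟨x, h1⟩ : Subgroup.centralizer ({t} : Set G)) * u' = u' * ⟨x, h1⟩ :=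
      Subtype.ext hx.2
    rcases mem_zpowers h hC hD hp h3 h2 with h4 | h4
    · left
      have h5 := val_zpowers.2 h4
      rwa [Subgroup.coe_pow] at h5
    · right
      have h5 := val_zpowers.2 h4
      rwa [Subgroup.coe_pow] at h5

theorem comap_Z_le [Finite C] (hC : CHyp z q ε Z T T' U s s' u)
    (hD : DetHyp q ε T T' U s s' u r b) : Z.comap π ≤ (lam π r b).ker := fun x hx => by
  rw [MonoidHom.mem_ker, lam_apply]
  exact b_Z hC hD hx

end Base

section Core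

variable {G : Type v} [Group G] [Finite G] {C : Type w} [Group C] [Finite C] {t : G} {z : C}
  {π : (Subgroup.centralizer ({t} : Set G)) →* C} {q : ℕ} {ε : ℤ} {Z T T' U : Subgroup C}
  {s s' u : C} {r : ℕ} {b : C →* ℂˣ} {u' w : Subgroup.centralizer ({t} : Set G)} {g : G}

/-- Conjugation by `g⁻¹` on `M`. -/
theorem exists_gconj (hf : Fr t (u' : G) g (w : G))
    {x : Subgroup.centralizer ({t} : Set G)} (hx : x ∈ Subgroup.centralizer ({u'} : Set _)) :
    ∃ y : Subgroup.centralizer ({t} : Set G), y ∈ Subgroup.centralizer ({u'} : Set _) ∧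
      (y : G) = g⁻¹ * x * g := by
  have h1 := hf.symm.inM_g (inM_iff.2 hx)
  rw [inv_inv] at h1
  exact ⟨⟨g⁻¹ * x * g, mem_centralizer.2 h1.1⟩,
    (inM_iff (x := ⟨g⁻¹ * x * g, mem_centralizer.2 h1.1⟩)).1 h1, rfl⟩

theorem Hs_le {P : Subgroup G} {v : G} : Hs P u' v ≤ Subgroup.centralizer ({u'} : Set _) :=
  fun _ hx => hx.1

/-- `|H_u| = |H_t|`. -/
theorem card_Hs {P : Subgroup G} (hf : Fr t (u' : G) g (w : G)) :
    Nat.card (Hs P u' (u' : G)) = Nat.card (Hs P u' t) := by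
  have hf' := hf.symm
  refine Nat.card_congr
    { toFun := fun x => ⟨⟨g⁻¹ * (x : Subgroup.centralizer ({t} : Set G)) * g, ?_⟩, ?_, ?_⟩
      invFun := fun x => ⟨⟨g * (x : Subgroup.centralizer ({t} : Set G)) * g⁻¹, ?_⟩, ?_, ?_⟩
      left_inv := ?_
      right_inv := ?_ }
  · have h1 := hf'.inM_g (inM_iff.2 x.2.1)
    rw [inv_inv] at h1
    exact mem_centralizer.2 h1.1
  · have h1 := hf'.inM_g (inM_iff.2 x.2.1)
    rw [inv_inv] at h1
    exact inM_iff.1 h1
  · have h1 := (at_conj (t := t) (P := P) g⁻¹).2 x.2.2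
    rw [hf'.ga, inv_inv] at h1
    exact h1
  · exact mem_centralizer.2 (hf.inM_g (inM_iff.2 x.2.1)).1
  · exact inM_iff.1 (hf.inM_g (inM_iff.2 x.2.1))
  · have h1 := (at_conj (t := t) (P := P) g).2 x.2.2
    rw [hf.gt] at h1
    exact h1
  · intro x
    apply Subtype.ext
    apply Subtype.ext
    change g * (g⁻¹ * (x : Subgroup.centralizer ({t} : Set G)) * g) * g⁻¹ = _
    group
  · intro x
    apply Subtype.ext
    apply Subtype.ext
    change g⁻¹ * (g * (x : Subgroup.centralizer ({t} : Set G)) * g⁻¹) * g = _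
    group

theorem mem_Hs_t {S : Subgroup (Subgroup.centralizer ({t} : Set G))} (hS : S.Normal)
    {x : Subgroup.centralizer ({t} : Set G)} :
    x ∈ Hs (up S) u' t ↔ x ∈ Subgroup.centralizer ({u'} : Set _) ∧ x ∈ S := by
  rw [mem_Hs, at_self (inv_up hS), mem_up]

/-- The index of `H_u` in `M`. -/
theorem index_Hs (h : Hyp t z π) (hC : CHyp z q ε Z T T' U s s' u)
    (hp : Pair π (tt t) s u u' w) (hf : Fr t (u' : G) g (w : G)) :
    ((Hs (up (Z.comap π)) u' (u' : G)).relIndex (Subgroup.centralizer ({u'} : Set _)) : ℤ) =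
      q - ε := by
  rw [← relIndex_Z (isOver h) hC hp]
  congr 1
  have hZ : (Z.comap π).Normal := (normal_Z hC).comap π
  have h1 : Hs (up (Z.comap π)) u' t = Z.comap π ⊓ Subgroup.centralizer ({u'} : Set _) := by
    ext x
    rw [mem_Hs_t hZ, Subgroup.mem_inf, and_comm]
  rw [← Subgroup.inf_relIndex_right (Z.comap π), ← h1]
  have key : ∀ H : Subgroup (Subgroup.centralizer ({t} : Set G)),
      H ≤ Subgroup.centralizer ({u'} : Set _) →
      Nat.card H * H.relIndex (Subgroup.centralizer ({u'} : Set _)) =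
        Nat.card (Subgroup.centralizer ({u'} : Set (Subgroup.centralizer ({t} : Set G)))) := by
    intro H hH
    have h2 := Subgroup.relIndex_mul_relIndex ⊥ H _ bot_le hH
    rwa [Subgroup.relIndex_bot_left, Subgroup.relIndex_bot_left] at h2
  have h2 := key _ (Hs_le (P := up (Z.comap π)) (u' := u') (v := (u' : G)))
  have h3 := key _ (Hs_le (P := up (Z.comap π)) (u' := u') (v := t))
  rw [card_Hs hf, ← h3] at h2
  exact Nat.eq_of_mul_eq_mul_left Nat.card_pos h2

theorem comm_ker (h : Hyp t z π) (hC : CHyp z q ε Z T T' U s s' u)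
    (hp : Pair π (tt t) s u u' w) {x y : Subgroup.centralizer ({t} : Set G)}
    (hx : x ∈ Subgroup.centralizer ({u'} : Set _))
    (hy : y ∈ Subgroup.centralizer ({u'} : Set _)) : x * y * x⁻¹ * y⁻¹ ∈ π.ker := by
  have h1 := hC.T_comm _ (map_mem (isOver h) hC hp (mem_cent.1 hx)) _
    (map_mem (isOver h) hC hp (mem_cent.1 hy))
  rw [MonoidHom.mem_ker, map_mul, map_mul, map_mul, map_inv, map_inv, h1]
  group

/-- **The hypotheses `XHyp`.** -/
theorem xHyp (h : Hyp t z π) (hC : CHyp z q ε Z T T' U s s' u)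
    (hD : DetHyp q ε T T' U s s' u r b) (h4 : 4 ∣ r) (hp : Pair π (tt t) s u u' w)
    (hf : Fr t (u' : G) g (w : G)) :
    WrX.XHyp (Subgroup.centralizer ({u'} : Set _)) (Hs (up (Z.comap π)) u' (u' : G))
      (Hs (up (Z.comap π)) u' (t * (u' : G))) (lam π r b) (tt t) u' w := by
  have ho := isOver h
  have hZ : (Z.comap π).Normal := (normal_Z hC).comap π
  have hwr := wrHyp ho hC hD hp
  have hinv := inv_up hZ
  have hL := lHyp h hC hD hp
  have hinvL := inv_up (t := t) (S := (lam π r b).ker) inferInstance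
  have hle : up (Z.comap π) ≤ up (lam π r b).ker := up_mono (comap_Z_le hC hD)
  have hu' : u' ∈ Subgroup.centralizer ({u'} : Set (Subgroup.centralizer ({t} : Set G))) :=
    mem_cent.2 rfl
  have hat : ∀ {x : Subgroup.centralizer ({t} : Set G)}, At t (up (lam π r b).ker) t (x : G) ↔
      lam π r b x = 1 := by
    intro x
    rw [at_self hinvL, mem_up, MonoidHom.mem_ker]
  have humem : u' ∈ Hs (up (Z.comap π)) u' (u' : G) := by
    refine ⟨hu', ?_⟩
    rw [at_iff hinv hf.gt]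
    have h1 : g⁻¹ * (u' : G) * g = t := by rw [← hf.gt]; group
    rw [h1]
    refine (mem_up (x := tt t)).2 ?_
    rw [Subgroup.mem_comap, map_tt h]
    exact hC.t_mem
  have hmemHv : ∀ y, y ∈ Hs (up (Z.comap π)) u' (t * (u' : G)) ↔
      w⁻¹ * y * w ∈ Hs (up (Z.comap π)) u' (u' : G) := by
    intro y
    rw [mem_Hs, mem_Hs]
    have h1 : At t (up (Z.comap π)) (u' : G)
        ((w⁻¹ * y * w : Subgroup.centralizer ({t} : Set G)) : G) ↔
        At t (up (Z.comap π)) (t * (u' : G)) (y : G) := by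
      rw [← at_conj (w : G), hf.wa]
      have h2 : (w : G) * ((w⁻¹ * y * w : Subgroup.centralizer ({t} : Set G)) : G) * (w : G)⁻¹ =
          y := by
        simp only [Subgroup.coe_mul, Subgroup.coe_inv]
        group
      rw [h2]
    rw [h1]
    refine and_congr_left fun _ => ⟨hwr.conj_mem y, fun h2 => ?_⟩
    have h3 := hwr.conj_mem' _ h2
    have h4 : w * (w⁻¹ * y * w) * w⁻¹ = y := by group
    rwa [h4] at h3
  exact
    { t_mem := mem_cent.2 ((ho.central u').symm)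
      t_sq := ho.sq
      t_lam := lam_tau ho hC hD
      t_notMem := by
        rintro ⟨-, h1⟩
        have h1 : At t (up (Z.comap π)) (u' : G) t := h1
        rw [at_iff hinv hf.gt] at h1
        have h2 : g⁻¹ * t * g = u' := by
          have h3 := hf.symm.gt
          rwa [inv_inv] at h3
        rw [h2, mem_up, Subgroup.mem_comap, hp.map_u] at h1
        exact u_notMem hC h1
      Hu_le := Hs_le
      comm := by
        intro x hx y hy
        refine ⟨mul_mem (mul_mem (mul_mem hx hy) (inv_mem hx)) (inv_mem hy), ?_⟩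
        obtain ⟨x', hx', ex⟩ := exists_gconj hf hx
        obtain ⟨y', hy', ey⟩ := exists_gconj hf hy
        rw [at_iff hinv hf.gt]
        have h1 : g⁻¹ * ((x * y * x⁻¹ * y⁻¹ : Subgroup.centralizer ({t} : Set G)) : G) * g =
            ((x' * y' * x'⁻¹ * y'⁻¹ : Subgroup.centralizer ({t} : Set G)) : G) := by
          simp only [Subgroup.coe_mul, Subgroup.coe_inv, ex, ey]
          group
        rw [h1, mem_up, Subgroup.mem_comap, MonoidHom.mem_ker.1 (comm_ker h hC hp hx' hy')]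
        exact one_mem Z
      u_mem := humem
      u_lam := lam_u hD h4 hp
      tu_mem := by
        rw [hmemHv]
        have h1 : w⁻¹ * (tt t * u') * w = u' := by
          rw [← hp.conj]; group
        rw [h1]
        exact humem
      mem_Hv := hmemHv
      lam_Hu := by
        obtain ⟨x, hx, hxP, hxL⟩ := exists_notMem (P := up (Z.comap π)) hf hL (by
          intro x hx
          have hxA : x ∈ Subgroup.centralizer ({t} : Set G) := mem_centralizer.2 hx.1
          have hxM : (⟨x, hxA⟩ : Subgroup.centralizer ({t} : Set G)) ∈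
              Subgroup.centralizer ({u'} : Set _) :=
            inM_iff.1 (show InM t (u' : G) ((⟨x, hxA⟩ : Subgroup.centralizer ({t} : Set G)) : G)
              from hx)
          have h1 : x * ((w : G) * x * (w : G)⁻¹) =
              ((⟨x, hxA⟩ * (w * ⟨x, hxA⟩ * w⁻¹) : Subgroup.centralizer ({t} : Set G)) : G) := rfl
          rw [at_self hinv, h1, mem_up, Subgroup.mem_comap, map_mul, map_mul, map_mul, map_inv,
            hp.map_w]
          exact hC.s_norm _ (map_mem ho hC hp (mem_cent.1 hxM)))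
        have hxA : x ∈ Subgroup.centralizer ({t} : Set G) := mem_centralizer.2 hx.1
        refine ⟨⟨x, hxA⟩, ⟨inM_iff.1 hx, hxP⟩, fun h1 => hxL ?_⟩
        exact (hat (x := ⟨x, hxA⟩)).2 h1
      disj := by
        intro x hx hx'
        rw [← hat]
        exact at_of_two hf hL (inM_iff.2 hx.1) (at_mono hle hx.2) (at_mono hle hx'.2) }

/-- The values of `χ` used for the wreathed case. -/
structure Chi (π : (Subgroup.centralizer ({t} : Set G)) →* C) (z : C) (q : ℕ) (ε : ℤ)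
    (Z T : Subgroup C) (r : ℕ) (χ : G → ℂ) : Prop where
  isChar : IsCharacter G χ
  one : χ 1 = (q : ℂ) ^ 2 + ε * q
  at_t : χ t = 1 + ε * q
  at_K : ∀ x : Subgroup.centralizer ({t} : Set G), π x = z → χ x = 1 + ε * q
  at_T : ∀ x : Subgroup.centralizer ({t} : Set G), ∀ y ∈ T, Odd (orderOf y) → y ∉ Z →
    π x = z * y → χ x = 2
  at_lev : ∀ x : Subgroup.centralizer ({t} : Set G), z ∈ Subgroup.zpowers ((π x) ^ (r / 2)) →
    π x ∈ T → π x ∉ Z → χ x = 2
  at_lev' : ∀ x : Subgroup.centralizer ({t} : Set G), z ∈ Subgroup.zpowers ((π x) ^ (r / 2)) →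
    π x ∈ Z → χ x = 1 + ε * q

theorem exists_chi [Fintype G] (h : Hyp t z π) (hC : CHyp z q ε Z T T' U s s' u)
    (hD : DetHyp q ε T T' U s s' u r b) (hr : 4 ∣ r) : ∃ χ : G → ℂ, Chi π z q ε Z T r χ := by
  let _ : Fintype C := Fintype.ofFinite C
  obtain ⟨μ, hμ⟩ := hC.base.exists_mu
  obtain ⟨M, hM⟩ := Cfsg.Agent.Blocks.ExistsModular.exists_isPModular Nat.prime_two
  obtain ⟨χ, -, h1, ht, hodd, hlev⟩ := WrChiVal.exists_chi_QS h hC hD hr (three_le hC) hμ hM
  refine ⟨χ, Core.isIrr_isCharacter χ.2, h1, ht, ?_, ?_, ?_, ?_⟩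
  · intro x hx
    rw [hodd x 1 (by rw [hx, mul_one]) (by rw [orderOf_one]; exact odd_one),
      hC.torus.R_Z hC.base _ (one_mem Z), mul_one]
  · intro x y hy ho hyZ hx
    rw [hodd x y hx ho, hC.torus.R_T hC.base _ hy hyZ]
    norm_num
  · intro x hx hxT h2
    rw [hlev x hx, hC.torus.R_T hC.base _ hxT h2]
    norm_num
  · intro x hx h2
    rw [hlev x hx, hC.torus.R_Z hC.base _ h2, mul_one]

/-- The value of `χ` at an element of `M` having `v = n t n⁻¹` as a power. -/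
theorem chi_at (hC : CHyp z q ε Z T T' U s s' u) (h : Hyp t z π)
    (hp : Pair π (tt t) s u u' w) {χ : G → ℂ} (hχ : Chi π z q ε Z T r χ) {n : G} {v : G}
    (hn : n * t * n⁻¹ = v) {x : G} (hx : InM t (u' : G) (n⁻¹ * x * n))
    (hv : v ∈ Subgroup.zpowers (x ^ (r / 2))) :
    (At t (up (Z.comap π)) v x → χ x = 1 + ε * q) ∧
      (¬ At t (up (Z.comap π)) v x → χ x = 2) := by
  have hcl := Core.isCharacter_isClassFunction hχ.isChar
  have hZ : (Z.comap π).Normal := (normal_Z hC).comap π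
  have hxA : n⁻¹ * x * n ∈ Subgroup.centralizer ({t} : Set G) := mem_centralizer.2 hx.1
  have e1 : χ (n⁻¹ * x * n) = χ x := by
    have := hcl x n⁻¹
    rwa [inv_inv] at this
  have hv' : z ∈ Subgroup.zpowers ((π ⟨n⁻¹ * x * n, hxA⟩) ^ (r / 2)) := by
    have h1 := zpowers_conj (m := n⁻¹) hv
    have h2 : n⁻¹ * v * n⁻¹⁻¹ = t := by rw [← hn]; group
    rw [h2, inv_inv] at h1
    have h3 : tt t ∈ Subgroup.zpowers ((⟨n⁻¹ * x * n, hxA⟩ :
        Subgroup.centralizer ({t} : Set G)) ^ (r / 2)) := val_zpowers.1 h1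
    obtain ⟨k, hk⟩ := Subgroup.mem_zpowers_iff.1 h3
    rw [← map_tt h, ← hk, map_zpow, map_pow]
    exact Subgroup.zpow_mem_zpowers _ _
  have hT : π ⟨n⁻¹ * x * n, hxA⟩ ∈ T :=
    map_mem (isOver h) hC hp (mem_cent.1 (inM_iff.1
      (show InM t (u' : G) ((⟨n⁻¹ * x * n, hxA⟩ : Subgroup.centralizer ({t} : Set G)) : G)
        from hx)))
  have hat : At t (up (Z.comap π)) v x ↔ π ⟨n⁻¹ * x * n, hxA⟩ ∈ Z := by
    rw [at_iff (inv_up hZ) hn]
    exact mem_up (x := ⟨n⁻¹ * x * n, hxA⟩)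
  rw [hat, ← e1]
  exact ⟨fun h1 => hχ.at_lev' ⟨n⁻¹ * x * n, hxA⟩ hv' h1,
    fun h1 => hχ.at_lev ⟨n⁻¹ * x * n, hxA⟩ hv' hT h1⟩

open scoped Classical in
theorem chi_M (h : Hyp t z π) (hC : CHyp z q ε Z T T' U s s' u)
    (hD : DetHyp q ε T T' U s s' u r b) (hp : Pair π (tt t) s u u' w)
    (hf : Fr t (u' : G) g (w : G)) {χ : G → ℂ} (hχ : Chi π z q ε Z T r χ)
    {x : Subgroup.centralizer ({t} : Set G)} (hx : x ∈ Subgroup.centralizer ({u'} : Set _))
    (hl : lam π r b x ≠ 1) :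
    χ x = 2 + (((ε * q - 1 : ℤ)) : ℂ) *
      ((if x ∈ Hs (up (Z.comap π)) u' (u' : G) then 1 else 0) +
        (if x ∈ Hs (up (Z.comap π)) u' (t * (u' : G)) then 1 else 0)) := by
  have hL := lHyp h hC hD hp
  have hinvL := inv_up (t := t) (S := (lam π r b).ker) inferInstance
  have hle : up (Z.comap π) ≤ up (lam π r b).ker := up_mono (comap_Z_le hC hD)
  have hxM : InM t (u' : G) (x : G) := inM_iff.2 hx
  have hn : ¬ At t (up (lam π r b).ker) t (x : G) := by
    rw [at_self hinvL, mem_up, MonoidHom.mem_ker]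
    exact hl
  -- transport
  have hMg : InM t (u' : G) (g⁻¹ * (x : G) * g) := by
    have := hf.symm.inM_g hxM
    rwa [inv_inv] at this
  have hMw : InM t (u' : G) (((w : G) * g)⁻¹ * (x : G) * ((w : G) * g)) := by
    have h1 := hf.symm.inM_w hxM
    rw [inv_inv] at h1
    have h2 := hf.symm.inM_g h1
    rw [inv_inv] at h2
    have h3 : ((w : G) * g)⁻¹ * (x : G) * ((w : G) * g) =
        g⁻¹ * ((w : G)⁻¹ * (x : G) * (w : G)) * g := by group
    rwa [h3]
  have hwg : (w : G) * g * t * ((w : G) * g)⁻¹ = t * (u' : G) := by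
    have h3 : (w : G) * g * t * ((w : G) * g)⁻¹ = (w : G) * (g * t * g⁻¹) * (w : G)⁻¹ := by group
    rw [h3, hf.gt, hf.wa]
  by_cases hu : At t (up (lam π r b).ker) (u' : G) (x : G)
  · have hv : ¬ At t (up (lam π r b).ker) (t * (u' : G)) (x : G) := fun h1 =>
      hn (at_of_two hf hL hxM hu h1)
    have hHv : x ∉ Hs (up (Z.comap π)) u' (t * (u' : G)) := fun h1 => hv (at_mono hle h1.2)
    have hz := mem_a hf hL hxM hn hv
    obtain ⟨c1, c2⟩ := chi_at hC h hp hχ hf.gt hMg hz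
    rw [if_neg hHv]
    by_cases hHu : x ∈ Hs (up (Z.comap π)) u' (u' : G)
    · rw [if_pos hHu, c1 hHu.2]
      push_cast
      ring
    · rw [if_neg hHu, c2 (fun h1 => hHu ⟨hx, h1⟩)]
      ring
  · have hHu : x ∉ Hs (up (Z.comap π)) u' (u' : G) := fun h1 => hu (at_mono hle h1.2)
    have hz := mem_ta hf hL hxM hn hu
    obtain ⟨c1, c2⟩ := chi_at hC h hp hχ hwg hMw hz
    rw [if_neg hHu]
    by_cases hHv : x ∈ Hs (up (Z.comap π)) u' (t * (u' : G))
    · rw [if_pos hHv, c1 hHv.2]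
      push_cast
      ring
    · rw [if_neg hHv, c2 (fun h1 => hHv ⟨hx, h1⟩)]
      ring

/-- **The hypotheses `CoreHyp`.** -/
theorem coreHyp [IsSimpleGroup G] (h : Hyp t z π) (hC : CHyp z q ε Z T T' U s s' u)
    (hD : DetHyp q ε T T' U s s' u r b) (h4 : 4 ∣ r) (hp : Pair π (tt t) s u u' w)
    (hf : Fr t (u' : G) g (w : G)) {χ : G → ℂ} (hχ : Chi π z q ε Z T r χ) :
    CoreHyp q ε π.ker (Subgroup.centralizer ({u'} : Set _)) (Wg hC π u')
      (Hs (up (Z.comap π)) u' (u' : G)) (Hs (up (Z.comap π)) u' (t * (u' : G))) (lam π r b)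
      (tt t) u' w (fun x => χ (x : G)) where
  wr := wrHyp (isOver h) hC hD hp
  xh := xHyp h hC hD h4 hp hf
  q_ge := three_le hC
  eps := hC.eps
  t_comm x := ((isOver h).central x).symm
  uu := hp.sq
  mem_M x := by rw [mem_cent]; exact eq_comm
  index := index_Hs h hC hp hf
  isChar := Core.isCharacter_comp (Subgroup.centralizer ({t} : Set G)).subtype hχ.isChar
  chi_one := hχ.one
  chi_t := hχ.at_t
  chi_K k hk := by
    have h1 : χ ((tt t * k : Subgroup.centralizer ({t} : Set G)) : G) = χ t := by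
      rw [hχ.at_K _ (by rw [map_mul, map_tt h, MonoidHom.mem_ker.1 hk, mul_one]), hχ.at_t]
    exact h1
  faith k hk h1 := by
    refine Subtype.ext (eq_one_of_apply hχ.isChar (t := t) ?_ h1)
    rw [hχ.at_t, hχ.one]
    intro h2
    have hq := three_le hC
    have h3 : (1 : ℤ) + ε * q = (q : ℤ) ^ 2 + ε * q := by exact_mod_cast h2
    nlinarith
  chi_M x hx hl := chi_M h hC hD hp hf hχ hx hl
  W_le := W_le (isOver h) hC hp
  W_odd := W_odd (isOver h) hC hp
  KM_le := KM_le hC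
  conj_W y hy := conj_W (isOver h) hC hp hy
  comm_W x hx y hy := comm_W (isOver h) hC hp hx hy

theorem exists_conj_W (h : Hyp t z π) (hC : CHyp z q ε Z T T' U s s' u)
    (hp : Pair π (tt t) s u u' w) {n : G}
    (hn : ∀ x, InM t (u' : G) x → InM t (u' : G) (n⁻¹ * x * n))
    {y : Subgroup.centralizer ({t} : Set G)} (hy : y ∈ Wg hC π u') :
    ∃ y' ∈ Wg hC π u', (y' : G) = n⁻¹ * y * n := by
  obtain ⟨hyM, hyo⟩ := (mem_W (isOver h) hC hp).1 hy
  have h1 := hn _ (inM_iff.2 hyM)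
  have hA : n⁻¹ * (y : G) * n ∈ Subgroup.centralizer ({t} : Set G) := mem_centralizer.2 h1.1
  refine ⟨⟨n⁻¹ * (y : G) * n, hA⟩, (mem_W (isOver h) hC hp).2 ⟨?_, ?_⟩, rfl⟩
  · exact inM_iff.1 (show InM t (u' : G) ((⟨n⁻¹ * (y : G) * n, hA⟩ :
      Subgroup.centralizer ({t} : Set G)) : G) from h1)
  · have h2 : orderOf (⟨n⁻¹ * (y : G) * n, hA⟩ : Subgroup.centralizer ({t} : Set G)) =
        orderOf (y : G) := by
      rw [← Subgroup.orderOf_coe]
      have h3 : n⁻¹ * (y : G) * n = MulAut.conj n⁻¹ (y : G) := by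
        rw [MulAut.conj_apply, inv_inv]
      change orderOf (n⁻¹ * (y : G) * n) = _
      rw [h3]
      exact MulEquiv.orderOf_eq _ _
    rw [h2, Subgroup.orderOf_coe]
    exact hyo

theorem mem_K_iff (_h : Hyp t z π) (hC : CHyp z q ε Z T T' U s s' u)
    (hD : DetHyp q ε T T' U s s' u r b) (hZ : Nat.card Z = r)
    {y : Subgroup.centralizer ({t} : Set G)} (hy : y ∈ Wg hC π u') :
    y ∈ π.ker ↔ At t (up (Z.comap π)) t (y : G) := by
  have hZn : (Z.comap π).Normal := (normal_Z hC).comap π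
  rw [at_self (inv_up hZn), mem_up]
  constructor
  · intro h1
    rw [Subgroup.mem_comap, MonoidHom.mem_ker.1 h1]
    exact one_mem Z
  · intro h1
    exact W_K1 hC hD hZ hy h1

/-- **The hypotheses `PosCore`.** -/
theorem posCore (h : Hyp t z π) (hC : CHyp z q 1 Z T T' U s s' u)
    (hD : DetHyp q 1 T T' U s s' u r b) (hN : _root_.Cfsg.Agent.Classification.QDW.WrInst.Norm 1 T T' U) (hZ : Nat.card Z = r)
    (hp : Pair π (tt t) s u u' w)
    (hf : Fr t (u' : G) g (w : G)) {χ : G → ℂ} (hχ : Chi π z q 1 Z T r χ) :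
    PosCore q π.ker (Subgroup.centralizer ({u'} : Set _)) (Wg hC π u')
      (Hs (up (Z.comap π)) u' (u' : G)) (Hs (up (Z.comap π)) u' (t * (u' : G)))
      (B₀ π U) (B₁ π U w) (Z.comap π) (lam π r b) (tt t) w (fun x => χ (x : G)) := by
  have ho := isOver h
  have hcl := Core.isCharacter_isClassFunction hχ.isChar
  have hM : ∀ {y : Subgroup.centralizer ({t} : Set G)}, y ∈ Wg hC π u' →
      y ∈ Subgroup.centralizer ({u'} : Set _) := fun hy => W_le ho hC hp hy
  have hHs : ∀ {v : G} {y : Subgroup.centralizer ({t} : Set G)}, y ∈ Wg hC π u' →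
      (y ∈ Hs (up (Z.comap π)) u' v ↔ At t (up (Z.comap π)) v (y : G)) := fun hy =>
    ⟨fun h1 => h1.2, fun h1 => ⟨hM hy, h1⟩⟩
  have hval : ∀ n x : G, χ (n⁻¹ * x * n) = χ x := by
    intro n x
    have := hcl x n⁻¹
    rwa [inv_inv] at this
  have hcj : ∀ n v x : G, At t (up (Z.comap π)) v (n⁻¹ * x * n) ↔
      At t (up (Z.comap π)) (n * v * n⁻¹) x := by
    intro n v x
    rw [← at_conj n (x := n⁻¹ * x * n)]
    have h1 : n * (n⁻¹ * x * n) * n⁻¹ = x := by group
    rw [h1]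
  have hg : ∀ x, InM t (u' : G) x → InM t (u' : G) (g⁻¹ * x * g) := by
    intro x hx
    have := hf.symm.inM_g hx
    rwa [inv_inv] at this
  have hw : ∀ x, InM t (u' : G) x → InM t (u' : G) ((w : G)⁻¹ * x * w) := by
    intro x hx
    have := hf.symm.inM_w hx
    rwa [inv_inv] at this
  have hw' : ∀ x, InM t (u' : G) x → InM t (u' : G) ((w : G) * x * (w : G)⁻¹) :=
    fun x hx => hf.inM_w hx
  -- the element interchanging `t` and `t u'`
  set n : G := (w : G) * g * (w : G)⁻¹ with hn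
  have hnM : ∀ x, InM t (u' : G) x → InM t (u' : G) (n⁻¹ * x * n) := by
    intro x hx
    have h1 := hw' _ (hg _ (hw _ hx))
    have h2 : n⁻¹ * x * n = (w : G) * (g⁻¹ * ((w : G)⁻¹ * x * w) * g) * (w : G)⁻¹ := by
      rw [hn]; group
    rwa [h2]
  have hwt' : (w : G)⁻¹ * t * w = t := by
    have := hf.symm.wt
    rwa [inv_inv] at this
  have hwa' : (w : G)⁻¹ * (u' : G) * w = t * u' := by
    have := hf.symm.wa
    rwa [inv_inv] at this
  have hwta' : (w : G)⁻¹ * (t * (u' : G)) * w = u' := by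
    have := hf.symm.wta
    rwa [inv_inv] at this
  have hnt : n * t * n⁻¹ = t * u' := by
    have h1 : n * t * n⁻¹ = (w : G) * (g * ((w : G)⁻¹ * t * w) * g⁻¹) * (w : G)⁻¹ := by
      rw [hn]; group
    rw [h1, hwt', hf.gt, hf.wa]
  have hna : n * (u' : G) * n⁻¹ = u' := by
    have h1 : n * (u' : G) * n⁻¹ = (w : G) * (g * ((w : G)⁻¹ * (u' : G) * w) * g⁻¹) * (w : G)⁻¹ := by
      rw [hn]; group
    rw [h1, hwa', hf.gta, hf.wta]
  have hnta : n * (t * (u' : G)) * n⁻¹ = t := by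
    have h1 : n * (t * (u' : G)) * n⁻¹ =
        (w : G) * (g * ((w : G)⁻¹ * (t * (u' : G)) * w) * g⁻¹) * (w : G)⁻¹ := by
      rw [hn]; group
    rw [h1, hwta', hf.ga, hf.wt]
  exact
    { idx := fun H hH hH1 => idx_pos ho hC hD hN hp rfl hH hH1
      W_K1 := fun y hy hy1 => W_K1 hC hD hZ hy hy1
      chi_W := fun y hy hyK => by
        obtain ⟨-, hyo, -⟩ := mem_Wg.1 hy
        exact hχ.at_T (tt t * y) (π y) (map_mem ho hC hp (mem_cent.1 (hM hy))) hyo
          (fun h1 => hyK (W_K1 hC hD hZ hy h1)) (by rw [map_mul, map_tt h])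
      fix₀ := fun y hy hyK x hx => fix₀ ho hC hN hp rfl hy hyK hx
      fix₁ := fun y hy hyK x hx => fix₁ ho hC hN hp rfl hy hyK hx
      swap := fun y hy => by
        obtain ⟨y', hy', e⟩ := exists_conj_W h hC hp hg hy
        refine ⟨y', hy', ?_, ?_, ?_, ?_⟩
        · rw [e, hval]
        · rw [mem_K_iff h hC hD hZ hy', e, hcj, hf.gt, hHs hy]
        · rw [mem_K_iff h hC hD hZ hy, hHs hy', e, hcj, hf.ga]
        · rw [hHs hy', hHs hy, e, hcj, hf.gta]
      swap' := fun y hy => by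
        obtain ⟨y', hy', e⟩ := exists_conj_W h hC hp hnM hy
        refine ⟨y', hy', ?_, ?_, ?_, ?_⟩
        · rw [e, hval]
        · rw [mem_K_iff h hC hD hZ hy', e, hcj, hnt, hHs hy]
        · rw [mem_K_iff h hC hD hZ hy, hHs hy', e, hcj, hnta]
        · rw [hHs hy', hHs hy, e, hcj, hna]
      h01 := fun x hx => h01 ho hC hp hx
      h10 := fun x hx => h10 ho hC hp hx
      gen := gen ho hC hD hN hp rfl }

open scoped Classical in
/-- **The wreathed case: the core is central.** -/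
theorem core_central [IsSimpleGroup G] (h : Hyp t z π) (hC : CHyp z q ε Z T T' U s s' u)
    (hD : DetHyp q ε T T' U s s' u r b) (hN : _root_.Cfsg.Agent.Classification.QDW.WrInst.Norm ε T T' U) (h4 : 4 ∣ r)
    (hZ : Nat.card Z = r) (hp : Pair π (tt t) s u u' w) (hf : Fr t (u' : G) g (w : G)) {N : ℕ}
    (hNq : (N : ℤ) = q + ε) :
    π.ker ≤ Subgroup.center (Subgroup.centralizer ({t} : Set G)) ∧
      π.ker ⊓ Hs (up (Z.comap π)) u' (u' : G) = ⊥ ∧
      ∀ x ∈ π.ker, x ≠ 1 → ∃ ψ : Subgroup.centralizer ({t} : Set G) → ℂ,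
        IsIrrCharacter (Subgroup.centralizer ({t} : Set G)) ψ ∧ ψ 1 = N ∧ ψ x ≠ ψ 1 := by
  let _ : Fintype G := Fintype.ofFinite G
  let _ : Fintype (Subgroup.centralizer ({t} : Set G)) := Fintype.ofFinite _
  obtain ⟨χ, hχ⟩ := exists_chi h hC hD h4
  have ho := isOver h
  have h3 := three_le hC
  rcases hC.eps with he | he
  · subst he
    obtain rfl : N = q + 1 := by omega
    have h5 : 5 ≤ q := by
      obtain ⟨k, -, hk⟩ := hD.r_dvd
      obtain ⟨c, rfl⟩ := h4
      have h6 : (q : ℤ) = 1 + 4 * (c * k) := by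
        push_cast at hk
        linarith only [hk]
      omega
    have hcore := coreHyp h hC hD h4 hp hf hχ
    obtain ⟨T₁, z₀, m, hd, hT₁⟩ := exists_frobData ho hC hD hN hZ h5
    have hT : π.ker ⊔ Subgroup.centralizer ({u'} : Set _) ≤ T₁.comap π := by
      rw [hT₁ rfl, sup_eq ho hC hp]
    exact core_pos hcore (posCore h hC hD hN hZ hp hf hχ) (WrFrobOut.frobOut_one hcore.wr hd hT)
  · subst he
    have hcore := coreHyp h hC hD h4 hp hf hχ
    have hidx : ∀ H : Subgroup (Subgroup.centralizer ({t} : Set G)),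
        π.ker ⊔ Subgroup.centralizer ({u'} : Set _) ≤ H → H ≠ ⊤ → q ≤ H.index :=
      fun H hH hH1 => idx_neg ho hC hD h4 hN hp rfl hH hH1
    have hNq' : N + 1 = q := by omega
    obtain ⟨K1, hF⟩ : ∃ K1, FrobOut N hcore.wr K1 := by
      rcases Nat.lt_or_ge q 5 with h6 | h6
      · obtain ⟨k, hk⟩ := hC.odd_q
        obtain rfl : N = 2 := by omega
        exact ⟨_, WrFrobOut.frobOut_two hcore.wr⟩
      · obtain ⟨T₁, z₀, m, hd, -⟩ := exists_frobData ho hC hD hN hZ h6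
        obtain rfl : N = q - 1 := by omega
        exact ⟨_, WrFrobOut.frobOut_neg hcore.wr hd⟩
    exact core_neg hcore hNq' hF hidx

/-- **The wreathed case: the core is central**, short form. -/
theorem central [IsSimpleGroup G] (h : Hyp t z π) (hC : CHyp z q ε Z T T' U s s' u)
    (hD : DetHyp q ε T T' U s s' u r b) (hN : _root_.Cfsg.Agent.Classification.QDW.WrInst.Norm ε T T' U) (h4 : 4 ∣ r)
    (hZ : Nat.card Z = r) : ∀ k, π k = 1 → ∀ c : Subgroup.centralizer ({t} : Set G),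
      c * k = k * c := by
  obtain ⟨u', w, hp⟩ := exists_pair (isOver h) hC
  obtain ⟨g, hf⟩ := exists_frame h hC hp
  have h3 := three_le hC
  obtain ⟨N, hN'⟩ : ∃ N : ℕ, (N : ℤ) = q + ε := by
    rcases hC.eps with he | he
    · exact ⟨q + 1, by rw [he]; push_cast; rfl⟩
    · exact ⟨q - 1, by rw [he]; omega⟩
  obtain ⟨h1, -, -⟩ := core_central h hC hD hN h4 hZ hp hf hN'
  intro k hk c
  exact Subgroup.mem_center_iff.1 (h1 (MonoidHom.mem_ker.2 hk)) c

end Core

end Cfsg.Agent.Classification.QDW.WrAssembly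
end

private theorem dce_37ae298b1da4 : _root_.True := by
  try have : _root_.True := by simp only [_root_.Cfsg.Agent.Classification.QDW.BorelOrb.cj.congr_simp]
  exact _root_.True.intro
end

-- part: Classification/QDW/WrFinal
section
set_option linter.all false
open scoped Cfsg.Agent.FastGrp

/-!
# The wreathed case: `C(t) ≅ GL₂(q)/Z₀` or `GU₂(q)/Z₀`

`G` is a finite simple group with one class of involutions, `π : C(t) →* Q` onto with odd kernel, `Q`
the quotient of `GL₂(F)` (`4 ∣ |F| - 1`) or `GU₂(q)` (`4 ∣ q + 1`) by the odd part of the centre.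

* `central_GL`, `central_GU`: the kernel of `π` is central;
* `exists_GL`, `exists_GU`: `C(t) ≅ GL₂(F)/Z₀`, `GU₂(q)/Z₀`, with `Z₀` central of odd order.
-/

set_option autoImplicit false
set_option linter.unusedSectionVars false

open Matrix

namespace Cfsg.Agent.Classification.QDW.WrFinal

open Cfsg Cfsg.Agent.Classification.RTwo.General Cfsg.Agent.Classification.InvCent
  Cfsg.Agent.Classification.QDW.EndMain Cfsg.Agent.Classification.QDW.WrInst

universe v w

/-- If `|Z|` is a power of `2`, it is the `2`-part of `q - ε`. -/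
theorem card_Z {C : Type w} [Group C] [Finite C] {z : C} {q : ℕ} {ε : ℤ} {Z T T' U : Subgroup C}
    {s s' u : C} {r : ℕ} {b : C →* ℂˣ} (hC : CHyp z q ε Z T T' U s s' u)
    (hD : DetHyp q ε T T' U s s' u r b) {m : ℕ} (hm : Nat.card Z = 2 ^ m) : Nat.card Z = r := by
  obtain ⟨k, hk, hc⟩ := WrChar.card_Z hC hD
  have h1 : k ∣ 2 ^ m := by rw [← hm, hc]; exact dvd_mul_left _ _
  have h2 : k = 1 := Nat.Coprime.eq_one_of_dvd
    ((Nat.coprime_two_right.2 hk).pow_right m) h1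
  rw [hc, h2, mul_one]

theorem four_dvd {m k N : ℕ} (hk : Odd k) (h : 2 ^ m * k = N) (h4 : 4 ∣ N) : 4 ∣ 2 ^ m := by
  rw [← h] at h4
  have h1 : Nat.Coprime 4 k := by
    have : (4 : ℕ) = 2 ^ 2 := by norm_num
    rw [this]
    exact (Nat.coprime_two_left.2 hk).pow_left 2
  exact h1.dvd_of_dvd_mul_right h4

section Lin

variable {F : Type*} [Field F] [Fintype F] {G : Type v} {Q : Type w} [Group G] [Group Q]
  {ψ : GL (Fin 2) F →* Q}

open Cfsg.Agent.Classification.InvCent.InstGL Cfsg.Agent.Classification.InvCent.GLTwo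

/-- The diagonal matrices normalise the root group. -/
theorem norm_gU (S : InstGL.Setup ψ) :
    ∀ τ ∈ gT ψ, ∀ v ∈ gU ψ, τ * v * τ⁻¹ ∈ gU ψ := by
  rintro _ ⟨g, hg, rfl⟩ _ ⟨_, ⟨x, rfl⟩, rfl⟩
  obtain ⟨a, b, rfl⟩ := exists_dg S.two_ne_zero hg
  rw [S.conj_eq]
  refine ⟨up ((a : F) * (b : F)⁻¹ * x), ⟨_, rfl⟩, ?_⟩
  congr 1
  rw [eq_mul_inv_iff_mul_eq]
  apply ext2
  · simp [m00]
  · have hb : (b : F) ≠ 0 := b.ne_zero
    simp only [m01, up00, up01, dg11, dg00]
    simp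
    field_simp
  · simp [m10]
  · simp [m11]

/-- **The kernel is central, linear case.** -/
theorem central_GL [Finite G] [IsSimpleGroup G] {t : G} (ht : orderOf t = 2)
    (hone : ∀ x : G, orderOf x = 2 → IsConj t x)
    (π : (Subgroup.centralizer ({t} : Set G)) →* Q) (hπ : Function.Surjective π)
    (hodd : Odd (Nat.card π.ker)) (S : InstGL.Setup ψ)
    (hmax : ∀ z ∈ Subgroup.center (GL (Fin 2) F), Odd (orderOf z) → ψ z = 1)
    (h4 : Fintype.card F % 4 = 1) :
    ∀ k, π k = 1 → ∀ c : Subgroup.centralizer ({t} : Set G), c * k = k * c := by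
  have : Finite Q := Finite.of_surjective π hπ
  have hH₀ : Hyp t (π (tt t)) π := ⟨ht, hone, hπ, hodd, fun _ => rfl⟩
  have hz : orderOf (π (tt t)) = 2 := orderOf_of_mul_self (z_mul_z hH₀) (z_ne_one hH₀)
  have hzt : π (tt t) = InstGL.gt ψ := S.eq_neg_one hz (fun c => ((z_comm hH₀ c).eq).symm)
  have hH : Hyp t (InstGL.gt ψ) π := hzt ▸ hH₀
  obtain ⟨d, hd⟩ := S.exists_nonsquare
  obtain ⟨m, k, hk, hmk⟩ := Nat.exists_eq_two_pow_mul_odd (n := Nat.card Fˣ) Nat.card_pos.ne'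
  have h2 := card_F_eq (F := F)
  rw [Nat.card_eq_fintype_card (α := F)] at h2
  have h5 : 4 ∣ 2 ^ m := four_dvd hk hmk.symm (by omega)
  have hm : 1 ≤ m := by
    rcases Nat.eq_zero_or_pos m with h | h
    · rw [h, pow_zero] at h5
      omega
    · exact h
  obtain ⟨b, hb⟩ := S.detHyp hd hk hmk rfl hm
  obtain ⟨m', hm'⟩ := two_pow_gZ S hmax
  exact WrAssembly.central hH (S.cHyp hd) hb
    ⟨fun _ => norm_gU S, fun h => absurd h (by norm_num)⟩ h5 (card_Z (S.cHyp hd) hb hm')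

end Lin

section Uni

variable {F : Type*} [Field F] [Fintype F] {q : ℕ} {σ : F →+* F} {κ : Fˣ} {G : Type v}
  {Q : Type w} [Group G] [Group Q] {ψ : Cfsg.GU 2 F q →* Q}

open Cfsg.Agent.Classification.InvCent.InstGU Cfsg.Agent.Classification.InvCent.GLTwo
  Cfsg.Agent.Classification.InvCent.GUTwo

/-- **The kernel is central, unitary case.** -/
theorem central_GU [Finite G] [IsSimpleGroup G] {t : G} (ht : orderOf t = 2)
    (hone : ∀ x : G, orderOf x = 2 → IsConj t x)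
    (π : (Subgroup.centralizer ({t} : Set G)) →* Q) (hπ : Function.Surjective π)
    (hodd : Odd (Nat.card π.ker)) (S : InstGU.Setup q σ κ ψ)
    (hmax : ∀ z ∈ Subgroup.center (Cfsg.GU 2 F q), Odd (orderOf z) → ψ z = 1)
    (h4 : q % 4 = 3) :
    ∀ k, π k = 1 → ∀ c : Subgroup.centralizer ({t} : Set G), c * k = k * c := by
  have : Finite Q := Finite.of_surjective π hπ
  have hH₀ : Hyp t (π (tt t)) π := ⟨ht, hone, hπ, hodd, fun _ => rfl⟩
  have hz : orderOf (π (tt t)) = 2 := orderOf_of_mul_self (z_mul_z hH₀) (z_ne_one hH₀)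
  have hzt : π (tt t) = InstGU.gt S.par ψ := S.eq_neg_one hz (fun c => ((z_comm hH₀ c).eq).symm)
  have hH : Hyp t (InstGU.gt S.par ψ) π := hzt ▸ hH₀
  obtain ⟨m, k, hk, hmk⟩ := Nat.exists_eq_two_pow_mul_odd (n := q + 1) (by omega)
  have h5 : 4 ∣ 2 ^ m := four_dvd hk hmk.symm (by omega)
  have hm : 1 ≤ m := by
    rcases Nat.eq_zero_or_pos m with h | h
    · rw [h, pow_zero] at h5
      omega
    · exact h
  obtain ⟨b, hb⟩ := S.detHyp hk hmk rfl hm
  obtain ⟨m', hm'⟩ := two_pow_gZ' S hmax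
  exact WrAssembly.central hH S.cHyp hb
    ⟨fun h => absurd h (by norm_num), fun _ => S.norm_U⟩ h5 (card_Z S.cHyp hb hm')

end Uni

section Struct

open Cfsg.Agent.Classification.QDW.StructModel Cfsg.Agent.Classification.InvCent.GLTwo
  Cfsg.Agent.Classification.InvCent.GUTwo Cfsg.Agent.Classification.InvCent.InstGL
  Cfsg.Agent.Classification.InvCent.InstGU

/-- A scalar matrix of odd order, a root of unity of order dividing `2 ^ n k`, is in `Zsub F k`. -/
theorem mem_Zsub_of_odd {F : Type*} [Field F] {g : GL (Fin 2) F}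
    (hg : g ∈ Subgroup.center (GL (Fin 2) F)) (ho : Odd (orderOf g)) {n k : ℕ}
    (h1 : g ^ (2 ^ n * k) = 1) : g ∈ Zsub F k := by
  rw [GeneralLinearGroup.center_eq_range_scalar] at hg
  obtain ⟨c, rfl⟩ := hg
  have h2 := orderOf_dvd_of_pow_eq_one h1
  have h3 : orderOf (GeneralLinearGroup.scalar (Fin 2) c) ∣ k :=
    ((Nat.coprime_two_right.2 ho).pow_right n).dvd_of_dvd_mul_left h2
  have h4 := orderOf_dvd_iff_pow_eq_one.1 h3
  rw [scalar_eq_dg, dg_pow, ← dg_one] at h4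
  exact mem_Zsub.2 ⟨c, (dg_injective h4).1, scalar_eq_dg c⟩

theorem Zsub_le_center {F : Type*} [Field F] {k : ℕ} :
    Zsub F k ≤ Subgroup.center (GL (Fin 2) F) := by
  intro g hg
  obtain ⟨c, -, rfl⟩ := mem_Zsub.1 hg
  rw [Subgroup.mem_center_iff]
  exact fun g => (dg_comm c g).symm

/-- **The core of the centralizer of an involution is central**, wreathed case, `F' = 1`. -/
theorem wr_central {G : Type v} [Group G] [Finite G] [IsSimpleGroup G] (S0 : Sylow 2 G)
    (hS : Cfsg.IsWreathed (S0 : Subgroup G)) (t : G) (ht : orderOf t = 2)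
    (S : Sylow 2 (Subgroup.centralizer ({t} : Set G) ⧸
      oddCore (Subgroup.centralizer ({t} : Set G))))
    (L : Subgroup (Subgroup.centralizer ({t} : Set G) ⧸
      oddCore (Subgroup.centralizer ({t} : Set G)))) [L.Normal] (F : Type*) [Field F] [Fintype F]
    (e : L ≃* SpecialLinearGroup (Fin 2) F) (n : ℕ)
    (u : ZMod (2 ^ n) → ZMod (2 ^ n) → (S : Subgroup (Subgroup.centralizer ({t} : Set G) ⧸
      oddCore (Subgroup.centralizer ({t} : Set G)))))
    (s : (S : Subgroup (Subgroup.centralizer ({t} : Set G) ⧸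
      oddCore (Subgroup.centralizer ({t} : Set G)))))
    (h : StructW.WR S L e n u s) (hH1 : StructQ.H1 L e = ⊤) :
    oddCore (Subgroup.centralizer ({t} : Set G)) ≤
      Subgroup.center (Subgroup.centralizer ({t} : Set G)) := by
  classical
  set π : Subgroup.centralizer ({t} : Set G) →* Subgroup.centralizer ({t} : Set G) ⧸
      oddCore (Subgroup.centralizer ({t} : Set G)) :=
    QuotientGroup.mk' (oddCore (Subgroup.centralizer ({t} : Set G))) with hπ
  have hker : π.ker = oddCore (Subgroup.centralizer ({t} : Set G)) := QuotientGroup.ker_mk' _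
  have hodd : Odd (Nat.card π.ker) := by
    rw [hker]
    exact Cfsg.Agent.Classification.DihMinimal.odd_card_oddCore _
  have hsurj : Function.Surjective π := QuotientGroup.mk'_surjective _
  have hone : ∀ x : G, orderOf x = 2 → IsConj t x := fun x hx =>
    RTwo.Structure.isConj_of_index S0 (Or.inr hS) (RTwo.Structure.index_ne_two S0 (Or.inr hS)) t x
      ht hx
  have hcentral : ∀ k, π k = 1 → ∀ c : Subgroup.centralizer ({t} : Set G), c * k = k * c := by
    have hqo : Fintype.card F % 2 = 1 := by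
      rw [← Nat.card_eq_fintype_card, ← Nat.odd_iff]
      exact StructMainW.odd_card h
    rcases (by omega : Fintype.card F % 4 = 1 ∨ Fintype.card F % 4 = 3) with hq | hq
    · obtain ⟨k, φ, hk, hqk, hφ, hφk⟩ := StructMainW.exists_gl h hq
      set ψ : GL (Fin 2) F →* Subgroup.centralizer ({t} : Set G) ⧸
        oddCore (Subgroup.centralizer ({t} : Set G)) := (StructQ.H1 L e).subtype.comp φ with hψ
      have hψk : ψ.ker = Zsub F k := by
        rw [← hφk]
        ext g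
        rw [MonoidHom.mem_ker, MonoidHom.mem_ker, hψ, MonoidHom.comp_apply]
        exact ⟨fun h1 => Subtype.ext h1, fun h1 => congrArg Subtype.val h1⟩
      have hS' : InstGL.Setup ψ :=
        { odd := by rw [Nat.odd_iff]; exact hqo
          surj := by
            intro y
            obtain ⟨g, hg⟩ := hφ ⟨y, by rw [hH1]; exact Subgroup.mem_top y⟩
            exact ⟨g, congrArg Subtype.val hg⟩
          ker_le := by rw [hψk]; exact Zsub_le_center
          odd_ker := by rw [hψk]; exact odd_card_Zsub hk }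
      refine central_GL ht hone π hsurj hodd hS' (fun g hg ho => ?_) hq
      rw [← MonoidHom.mem_ker, hψk]
      refine mem_Zsub_of_odd hg ho (n := n) ?_
      rw [← hqk]
      obtain ⟨a, b, rfl⟩ := exists_dg hS'.two_ne_zero (center_le_Tor hg)
      have h1 : Fintype.card F - 1 = Nat.card Fˣ := by
        rw [Nat.card_eq_fintype_card, Fintype.card_units]
      rw [h1, dg_pow, pow_card_eq_one', pow_card_eq_one', dg_one]
    · obtain ⟨F', _, _, hF'⟩ := StructMain.exists_field_sq F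
      obtain ⟨k, φ, hk, hqk, hφ, hφk⟩ := StructMainW.exists_gu h hq hF'
      have hqo' : Odd (Fintype.card F) := by rw [Nat.odd_iff]; exact hqo
      obtain ⟨σ, κ, P⟩ := exists_par hF' hqo'
      set ψ : Cfsg.GU 2 F' (Fintype.card F) →* Subgroup.centralizer ({t} : Set G) ⧸
        oddCore (Subgroup.centralizer ({t} : Set G)) := (StructQ.H1 L e).subtype.comp φ with hψ
      have hψk : ψ.ker = (Zsub F' k).subgroupOf (Cfsg.GU 2 F' (Fintype.card F)) := by
        rw [← hφk]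
        ext g
        rw [MonoidHom.mem_ker, MonoidHom.mem_ker, hψ, MonoidHom.comp_apply]
        exact ⟨fun h1 => Subtype.ext h1, fun h1 => congrArg Subtype.val h1⟩
      have hS' : InstGU.Setup (Fintype.card F) σ κ ψ :=
        { par := P
          surj := by
            intro y
            obtain ⟨g, hg⟩ := hφ ⟨y, by rw [hH1]; exact Subgroup.mem_top y⟩
            exact ⟨g, congrArg Subtype.val hg⟩
          ker_le := by
            rw [hψk]
            intro g hg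
            rw [CentralEnd.gu_center hF' hqo']
            exact Zsub_le_center (Subgroup.mem_subgroupOf.1 hg)
          odd_ker := by
            rw [hψk]
            refine Odd.of_dvd_nat (odd_card_Zsub (F := F') hk) ?_
            exact Subgroup.card_comap_dvd_of_injective _ _ (Subgroup.subtype_injective _) }
      refine central_GU ht hone π hsurj hodd hS' (fun g hg ho => ?_) hq
      rw [← MonoidHom.mem_ker, hψk, Subgroup.mem_subgroupOf]
      refine mem_Zsub_of_odd ((CentralEnd.gu_center hF' hqo' g).1 hg)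
        (by rw [Subgroup.orderOf_coe]; exact ho) (n := n) ?_
      rw [← hqk, ← Subgroup.coe_pow]
      obtain ⟨a, b, rfl⟩ := exists_dgU P (mem_TH.1 (center_le_TH P hg))
      have h1 : Fintype.card F + 1 = Nat.card (Nm F' (Fintype.card F)) := P.card_Nm.symm
      rw [h1, dgU_pow, pow_card_eq_one', pow_card_eq_one', dgU_one]
      rfl
  intro k hk
  rw [Subgroup.mem_center_iff]
  intro c
  exact hcentral k (by rw [← MonoidHom.mem_ker, hker]; exact hk) c

end Struct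

end Cfsg.Agent.Classification.QDW.WrFinal
end
end
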