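import Mathlib
import Cfsg.Agent.Classification.InvCent.SDMain
import Cfsg.Agent.Classification.QDW.CoreConst
import Cfsg.Agent.Classification.RTwo.SDChar
import Cfsg.Agent.Characters.SchurBound
import Cfsg.Agent.TwoFusion.DihedralFusion
import Cfsg.Agent.FastGrp
import Cfsg.Agent.Prune
set_option linter.all false

section
prune_inst 0x7fbefffeefecafffdfff7e3ffedbfff811c1cfffe6dffb437fe9eb9f4f9f13a13dc56b859de050ffced7e2b410b87803fb7eefffea6fdc7ffffdfff41ffbee4fe5f7b78911d880240f342fff03f17f8a6f3ffffffffffffffffffffffffffffffffffbfeffff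

-- part: Classification/InvCent/SDFull
section
prune_inst 0x410001100040000000000000040001e42a200000000088000004002000680080000000020a0000010000020040030000811000000020000000000000001180080000004005089a008800000002000400000000000000000000000000000000000000000000
set_option linter.all false
open scoped Cfsg.Agent.FastGrp

/-!
# All values on `{x | t ∈ zpowers x}`, semidihedral case

`ValD h μ π X a b`: `X x = (a R_T(1) (π x) + b R_{T'}(1) (π x)) / 2` for all `x : C(t)` such that `z`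
is a power of `π x` (so also for the elements with `2`-part of order `4, 8, ...`).
-/

set_option autoImplicit false
set_option linter.unusedSectionVars false

open Cfsg
open scoped ComplexConjugate

namespace Cfsg.Agent.Classification.InvCent

open Cfsg.Agent.Characters Cfsg.Agent.Classification.BGIsometry
  Cfsg.Agent.Classification.BGOrder Cfsg.Agent.Classification.BGSplit
  Cfsg.Agent.Classification.BGBlockB0 SDGram GPair

universe w v

section Cside

variable {C : Type*} [Group C] [Fintype C] {t : C} {q : ℕ} {ε : ℤ} {Z T T' U : Subgroup C}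
  {s s' u : C} {h : CHyp t q ε Z T T' U s s' u} {b : C →* ℂˣ} {θ : T' →* ℂˣ} {n : ℕ} {μ : U →* ℂˣ}
  {χ : T →* ℂˣ}

/-- The function `2 ^ n` on the elements `x` of `T'` with `θ x = l`, zero on the others (`l ≠ 1`). -/
noncomputable def secl (θ : T' →* ℂˣ) (n : ℕ) (l : ℂ) : C → ℂ :=
  fun x => ∑ j ∈ Finset.range (2 ^ n), (-(l⁻¹) ^ j) * (1 - lin (θ ^ j) x)

namespace Gen

theorem lin_Z (g : Gen h b θ n) {w : C} (hw : w ∈ Z) : lin θ w = 1 ∨ lin θ w = -1 := by
  have hwT := h.Z_le_T' hw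
  have h1 : lin (h.torus'.sc θ * θ) w = lin (θ ^ 2 ^ (n - 1)) w := by rw [g.sc]
  rw [lin_mul_hom, h.torus'.lin_sc θ hwT, lin_pow_hom _ _ hwT] at h1
  have h2 : s' * w * s'⁻¹ = w := by
    rw [h.Z_central w hw s', mul_inv_cancel_right]
  rw [h2] at h1
  have h3 : lin θ w ^ 2 ^ n = 1 := g.lin_pow hwT
  obtain ⟨k, rfl⟩ : ∃ k, n = k + 3 := ⟨n - 3, by have := g.three_le; omega⟩
  have e1 : k + 3 - 1 = k + 2 := by omega
  rw [e1] at h1
  have h4 : lin θ w ^ 4 = 1 := by
    have h5 : (lin θ w * lin θ w) ^ 2 = 1 := by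
      rw [h1, ← pow_mul, ← pow_succ]
      exact h3
    calc lin θ w ^ 4 = (lin θ w * lin θ w) ^ 2 := by ring
      _ = 1 := h5
  have h6 : lin θ w * lin θ w = 1 := by
    rw [h1, show 2 ^ (k + 2) = 4 * 2 ^ k by ring, pow_mul, h4, one_pow]
  exact mul_self_eq_one_iff.1 h6

theorem sum_inv (g : Gen h b θ n) {x : C} (hx : x ∈ T') (h1 : lin θ x ≠ 1) :
    ∑ j ∈ Finset.range (2 ^ n), ((lin θ x)⁻¹) ^ j = 0 := by
  refine geom_zero ?_ ?_
  · rw [inv_pow, g.lin_pow hx, inv_one]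
  · intro h2
    exact h1 (inv_eq_one.1 h2)

open Classical in
theorem secl_eq (g : Gen h b θ n) {y : C} (hy : y ∈ T') (hy1 : lin θ y ≠ 1) {x : C} (hx : x ∈ T') :
    secl θ n (lin θ y) x = if lin θ x = lin θ y then (2 : ℂ) ^ n else 0 := by
  have hy0 := lin_ne_zero θ hy
  have h2 : secl θ n (lin θ y) x = ∑ j ∈ Finset.range (2 ^ n), ((lin θ y)⁻¹ * lin θ x) ^ j := by
    have h3 : ∀ j ∈ Finset.range (2 ^ n), (-((lin θ y)⁻¹) ^ j) * (1 - lin (θ ^ j) x) =
        -((lin θ y)⁻¹) ^ j + ((lin θ y)⁻¹ * lin θ x) ^ j := by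
      intro j _
      rw [lin_pow_hom _ _ hx, mul_pow]
      ring
    unfold secl
    rw [Finset.sum_congr rfl h3, Finset.sum_add_distrib, Finset.sum_neg_distrib, g.sum_inv hy hy1,
      neg_zero, zero_add]
  rw [h2]
  split_ifs with h4
  · rw [h4, inv_mul_cancel₀ hy0]
    simp
  · refine geom_zero ?_ ?_
    · rw [mul_pow, inv_pow, g.lin_pow hy, g.lin_pow hx, inv_one, one_mul]
    · intro h5
      apply h4
      rw [inv_mul_eq_one₀ hy0] at h5
      exact h5.symm

theorem ssum_secl (g : Gen h b θ n) {y : C} (hy : y ∈ T') (hy1 : lin θ y ≠ 1) :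
    ssum T' (secl θ n (lin θ y)) = Nat.card T' := by
  classical
  have h1 : ssum T' (secl θ n (lin θ y)) = ∑ j ∈ Finset.range (2 ^ n),
      (-((lin θ y)⁻¹) ^ j) * ((Nat.card T' : ℂ) - if θ ^ j = 1 then (Nat.card T' : ℂ) else 0) := by
    have h2 : ∀ j ∈ Finset.range (2 ^ n),
        (-((lin θ y)⁻¹) ^ j) * ((Nat.card T' : ℂ) - if θ ^ j = 1 then (Nat.card T' : ℂ) else 0) =
        ssum T' (fun x => (-((lin θ y)⁻¹) ^ j) * (1 - lin (θ ^ j) x)) := by
      intro j _
      rw [ssum_mul, ssum_sub, ssum_lin_eq, ssum_const, mul_one]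
    rw [Finset.sum_congr rfl h2]
    unfold ssum secl
    rw [Finset.sum_comm]
    refine Finset.sum_congr rfl fun x _ => ?_
    split_ifs <;> simp
  rw [h1]
  have h3 : ∀ j ∈ Finset.range (2 ^ n), (-((lin θ y)⁻¹) ^ j) *
      ((Nat.card T' : ℂ) - if θ ^ j = 1 then (Nat.card T' : ℂ) else 0) =
      (-(Nat.card T' : ℂ)) * ((lin θ y)⁻¹) ^ j + if j = 0 then (Nat.card T' : ℂ) else 0 := by
    intro j hj
    rw [Finset.mem_range] at hj
    by_cases hj0 : j = 0
    · subst hj0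
      rw [if_pos ((g.pow_eq_one_iff 0).2 (dvd_zero _)), if_pos rfl]
      ring
    · rw [if_neg hj0, if_neg]
      · ring
      · rw [g.pow_eq_one_iff]
        intro h4
        exact absurd (Nat.le_of_dvd (Nat.pos_of_ne_zero hj0) h4) (not_le.2 hj)
  rw [Finset.sum_congr rfl h3, Finset.sum_add_distrib, ← Finset.mul_sum, g.sum_inv hy hy1,
    Finset.sum_ite_eq', if_pos (Finset.mem_range.2 (by positivity))]
  ring

theorem R_secl (_ : Gen h b θ n) (l : ℂ) : Torus.R T' h.base μ (secl θ n l) =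
    fun x => ∑ j ∈ Finset.range (2 ^ n), (-(l⁻¹) ^ j) * phi h μ θ j x := by
  unfold secl phi
  exact Torus.R_sum h.base _ _ _

/-- The support of `R_{T'}(secl)`. -/
theorem secl_supp (g : Gen h b θ n) (hμ : ∃ v : U, μ v ≠ 1) {y : C} (hy : y ∈ T')
    (hy1 : lin θ y ≠ 1) (hy2 : lin θ y ≠ -1) {x : C}
    (hx : Torus.R T' h.base μ (secl θ n (lin θ y)) x ≠ 0) :
    ∃ c : C, c * x * c⁻¹ ∈ T' ∧ lin θ (c * x * c⁻¹) = lin θ y := by
  classical
  refine h.support_T' hμ (P := fun x => ∃ c : C, c * x * c⁻¹ ∈ T' ∧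
    lin θ (c * x * c⁻¹) = lin θ y) ?_ ?_ (f := secl θ n (lin θ y)) ?_ hx
  · rintro x c ⟨d, hd1, hd2⟩
    have e : d * (c * x * c⁻¹) * d⁻¹ = (d * c) * x * (d * c)⁻¹ := by group
    rw [e] at hd1 hd2
    exact ⟨_, hd1, hd2⟩
  · rintro w hw v _ ⟨d, -, hd2⟩
    exfalso
    have e : d * w * d⁻¹ = w := by rw [h.Z_central w hw d, mul_inv_cancel_right]
    rw [e] at hd2
    rcases g.lin_Z hw with h1 | h1
    · exact hy1 (hd2.symm.trans h1)
    · exact hy2 (hd2.symm.trans h1)
  · intro x hx1 hx2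
    rw [g.secl_eq hy hy1 hx1] at hx2
    refine ⟨1, by simpa using hx1, ?_⟩
    by_contra h1
    rw [one_mul, inv_one, mul_one] at h1
    rw [if_neg h1] at hx2
    exact hx2 rfl

end Gen

/-- In `T` an element having `t` as a power is in the `2`-section of `t`. -/
theorem odd_of_T (c : Chi h b χ) {y : C} (hy : y ∈ T) (hz : t ∈ Subgroup.zpowers y) :
    Odd (orderOf (t * y)) := by
  have key : ∀ {y : C}, y ∈ T → t ∈ Subgroup.zpowers y → lin χ y = -1 := by
    intro y hy hz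
    rcases c.lin_cases hy with h1 | h1
    · exfalso
      obtain ⟨k, hk⟩ := Subgroup.mem_zpowers_iff.1 hz
      have h2 : lin χ t = 1 := by
        rw [← hk, lin_apply χ (zpow_mem hy k)]
        have h3 : (⟨y ^ k, zpow_mem hy k⟩ : T) = (⟨y, hy⟩ : T) ^ k := rfl
        rw [h3, map_zpow]
        have h4 : χ ⟨y, hy⟩ = 1 := Units.ext (by rw [← lin_apply χ hy, h1, Units.val_one])
        rw [h4, one_zpow, Units.val_one]
      rw [c.lin_t] at h2
      norm_num at h2
    · exact h1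
  refine c.odd y hy (key hy hz) (key (h.s_conj y hy) ?_)
  apply h.zpowers_conj (s * y * s⁻¹) s⁻¹
  have e : s⁻¹ * (s * y * s⁻¹) * s⁻¹⁻¹ = y := by group
  rwa [e]

end Cside

section Gside

variable {G : Type w} [Group G] [Fintype G] {C : Type v} [Group C] [Fintype C] {t : G} {z : C}
  {π : (Subgroup.centralizer ({t} : Set G)) →* C}
  {q : ℕ} {ε : ℤ} {Z T T' U : Subgroup C} {s s' u : C}
  {h : CHyp z q ε Z T T' U s s' u} {b : C →* ℂˣ} {θ : T' →* ℂˣ} {n : ℕ} {μ : U →* ℂˣ}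
  {χ : T →* ℂˣ}

/-- A character of the principal `2`-block at an element above `T'` whose `2`-part is not above `Z`
depends only on the `2`-part. -/
theorem irr_two_part (H : RTwo.General.Hyp t z π) (g : Gen h b θ n) {M : Ideal AlgInt}
    (hM : IsPModular 2 M) (X : IrrCharacter G) (hX : X ∈ principalBlock M G)
    {x : Subgroup.centralizer ({t} : Set G)} (hx : π x ∈ T') (h1 : lin θ (π x) ≠ 1)
    (h2 : lin θ (π x) ≠ -1) {k m r : ℕ} (hk : (x ^ k) ^ 2 ^ m = 1) (hr : Odd r)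
    (hkr : ((x ^ k)⁻¹ * x) ^ r = 1) : (X : G → ℂ) x = (X : G → ℂ) (x ^ k : Subgroup.centralizer ({t} : Set G)) := by
  have : Fact (Nat.Prime 2) := ⟨Nat.prime_two⟩
  set a := x ^ k with ha
  set d := a⁻¹ * x with hd
  have had : Commute a d := ((Commute.refl a).inv_right).mul_right ((Commute.refl x).pow_left k)
  have haT : π a ∈ T' := by rw [ha, map_pow]; exact pow_mem hx k
  have hdT : π d ∈ T' := by rw [hd, map_mul, map_inv]; exact mul_mem (inv_mem haT) hx
  have hdo : Odd (orderOf d) := hr.of_dvd_nat (orderOf_dvd_of_pow_eq_one hkr)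
  have hdo' : Odd (orderOf (π d)) := hdo.of_dvd_nat (orderOf_map_dvd π d)
  have hla : lin θ (π a) = lin θ (π x) := by
    have e : π x = π a * π d := by rw [← map_mul, hd, mul_inv_cancel_left]
    rw [e, lin_mul θ haT hdT, g.lin_odd hdT hdo', mul_one]
  have haZ : π a ∉ Z := by
    intro hZ
    rcases g.lin_Z hZ with h3 | h3
    · exact h1 (hla.symm.trans h3)
    · exact h2 (hla.symm.trans h3)
  -- `t` is a power of `a`
  have hzx : z ∈ Subgroup.zpowers (π a) := by
    refine h.zpowers_T' haT fun ho => ?_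
    exact h1 (hla.symm.trans (g.lin_odd haT ho))
  have hta : t ∈ Subgroup.zpowers (a : G) := RTwo.General.mem_zpowers_of_map H hzx
  have hcent : ∀ c : G, Commute (a : G) c → c ∈ Subgroup.centralizer ({t} : Set G) := by
    intro c hc
    rw [Subgroup.mem_centralizer_singleton_iff]
    obtain ⟨j, hj⟩ := Subgroup.mem_zpowers_iff.1 hta
    rw [← hj]
    exact (hc.symm.zpow_right j).eq
  -- the normal complement
  set K : Subgroup C := θ.ker.map T'.subtype with hK
  have hKmem : ∀ y : C, y ∈ K ↔ ∃ hy : y ∈ T', θ ⟨y, hy⟩ = 1 := by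
    intro y
    rw [hK, Subgroup.mem_map]
    constructor
    · rintro ⟨w, hw, rfl⟩
      exact ⟨w.2, hw⟩
    · rintro ⟨hy, h3⟩
      exact ⟨⟨y, hy⟩, h3, rfl⟩
  have hKodd : Odd (Nat.card K) := by
    by_contra hcon
    rw [Nat.not_odd_iff_even, even_iff_two_dvd] at hcon
    obtain ⟨y, hy⟩ := exists_prime_orderOf_dvd_card' (G := K) 2 hcon
    obtain ⟨hy1, hy2⟩ := (hKmem y).1 y.2
    have h3 : Odd (orderOf ((y : K) : C)) := g.faithful ⟨y, hy1⟩ hy2
    rw [Subgroup.orderOf_coe, hy] at h3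
    norm_num at h3
  set N0 : Subgroup (Subgroup.centralizer ({t} : Set G)) :=
    K.comap π ⊓ Subgroup.centralizer ({a} : Set (Subgroup.centralizer ({t} : Set G))) with hN0
  set N : Subgroup G := N0.map (Subgroup.centralizer ({t} : Set G)).subtype with hN
  have hmem : ∀ x : G, x ∈ N ↔ ∃ y : Subgroup.centralizer ({t} : Set G),
      π y ∈ K ∧ Commute a y ∧ (y : G) = x := by
    intro x
    rw [hN, Subgroup.mem_map]
    constructor
    · rintro ⟨y, hy, rfl⟩
      rw [hN0, Subgroup.mem_inf, Subgroup.mem_comap, Subgroup.mem_centralizer_singleton_iff] at hy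
      exact ⟨y, hy.1, Commute.symm hy.2, rfl⟩
    · rintro ⟨y, h1, h2, rfl⟩
      refine ⟨y, ?_, rfl⟩
      rw [hN0, Subgroup.mem_inf, Subgroup.mem_comap, Subgroup.mem_centralizer_singleton_iff]
      exact ⟨h1, h2.symm⟩
  have hN0odd : Odd (Nat.card N0) := by
    have e1 := Subgroup.card_mul_index ((π.comp N0.subtype).ker)
    rw [Subgroup.index_ker] at e1
    rw [← e1]
    refine Odd.mul ?_ ?_
    · refine H.odd_ker.of_dvd_nat (Subgroup.card_dvd_of_injective
        ((N0.subtype.comp (π.comp N0.subtype).ker.subtype).codRestrict π.ker (fun x => x.2)) ?_)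
      intro x y hxy
      have h3 : (((x : N0) : Subgroup.centralizer ({t} : Set G))) =
          (((y : N0) : Subgroup.centralizer ({t} : Set G))) := by
        have h4 := congrArg (fun w : π.ker => (w : Subgroup.centralizer ({t} : Set G))) hxy
        exact h4
      exact Subtype.ext (Subtype.ext h3)
    · refine hKodd.of_dvd_nat (Subgroup.card_dvd_of_le ?_)
      rintro _ ⟨y, rfl⟩
      exact y.2.1
  have key := Cfsg.Agent.Blocks.PrincipalConstGen.irr_const 2 M hM (u := (a : G)) (y := 1)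
    (n := (d : G)) (by
      have h3 : (a : G) ^ 2 ^ m = 1 := congrArg Subtype.val hk
      obtain ⟨l, -, hl⟩ := (Nat.dvd_prime_pow Nat.prime_two).1 (orderOf_dvd_of_pow_eq_one h3)
      exact ⟨l, hl⟩) N (by
      intro x hx
      obtain ⟨y, -, hy, rfl⟩ := (hmem x).1 hx
      exact congrArg Subtype.val hy.eq) (by
      intro c hc x hx
      obtain ⟨y, hy1, hy2, rfl⟩ := (hmem x).1 hx
      have hcC := hcent c hc
      have hc' : Commute a (⟨c, hcC⟩ : Subgroup.centralizer ({t} : Set G)) := Subtype.ext hc.eq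
      have hcT : π ⟨c, hcC⟩ ∈ T' := by
        refine h.cent_T' (π a) haT haZ _ ?_
        rw [← map_mul, ← map_mul, hc'.eq]
      obtain ⟨hyT, hyθ⟩ := (hKmem _).1 hy1
      refine (hmem _).2 ⟨⟨c, hcC⟩ * y * (⟨c, hcC⟩)⁻¹, ?_, ?_, rfl⟩
      · have e : π (⟨c, hcC⟩ * y * (⟨c, hcC⟩)⁻¹) = π y := by
          rw [map_mul, map_mul, map_inv, h.T'_comm _ hcT _ hyT, mul_inv_cancel_right]
        rw [e]
        exact hy1
      · exact (hc'.mul_right hy2).mul_right hc'.inv_right) (by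
      rw [Nat.coprime_two_right]
      have h3 : Nat.card N = Nat.card N0 :=
        Nat.card_congr (N0.equivMapOfInjective _ (Subgroup.subtype_injective _)).toEquiv.symm
      rw [h3]
      exact hN0odd) (Commute.one_right _) (by rw [orderOf_one]; norm_num) (by
      refine (hmem _).2 ⟨d, (hKmem _).2 ⟨hdT, ?_⟩, had, rfl⟩
      exact Units.ext (by rw [← lin_apply θ hdT, g.lin_odd hdT hdo', Units.val_one])) X hX
  rw [mul_one] at key
  rw [← key, ← Subgroup.coe_mul, hd, mul_inv_cancel_left]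

/-- Two elements above `T'` with the same value of `θ`, `≠ 1, -1`. -/
theorem inB_of_lin (H : RTwo.General.Hyp t z π) (g : Gen h b θ n) {M : Ideal AlgInt}
    (hM : IsPModular 2 M) {X : G → ℂ} (hX : InB (principalBlock M G) X)
    {x y : Subgroup.centralizer ({t} : Set G)} (hx : π x ∈ T') (hy : π y ∈ T')
    (hxy : lin θ (π x) = lin θ (π y)) (h1 : lin θ (π x) ≠ 1) (h2 : lin θ (π x) ≠ -1) :
    X x = X y := by
  obtain ⟨m, r, k, hr, hk, e2, e3⟩ :=
    QDW.CoreConst.exists_exponent (Subgroup.centralizer ({t} : Set G))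
  have key : ∀ X : IrrCharacter G, X ∈ principalBlock M G → (X : G → ℂ) x = (X : G → ℂ) y := by
    intro X hX
    rw [irr_two_part H g hM X hX hx h1 h2 (e2 x) hr (e3 x),
      irr_two_part H g hM X hX hy (by rw [← hxy]; exact h1) (by rw [← hxy]; exact h2) (e2 y) hr
        (e3 y)]
    have hxk : π (x ^ k) ∈ T' := by rw [map_pow]; exact pow_mem hx k
    have hyk : π (y ^ k) ∈ T' := by rw [map_pow]; exact pow_mem hy k
    have hlk : ∀ {w : C}, w ∈ T' → ∀ j : ℕ, lin θ (w ^ j) = lin θ w ^ j := by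
      intro w hw j
      rw [lin_apply θ (pow_mem hw j), lin_apply θ hw, ← Units.val_pow_eq_pow_val, ← map_pow]
      rfl
    have hlin : lin θ (π (x ^ k)) = lin θ (π (y ^ k)) := by
      rw [map_pow, map_pow, hlk hx, hlk hy, hxy]
    -- `π (x ^ k) = π (y ^ k)`
    have hpi : π (x ^ k) = π (y ^ k) := by
      have hc : Commute (π (x ^ k)) (π (y ^ k)) := h.T'_comm _ hxk _ hyk
      have h3 : lin θ ((π (x ^ k))⁻¹ * π (y ^ k)) = 1 := by
        have h4 : lin θ (π (x ^ k)) * lin θ ((π (x ^ k))⁻¹ * π (y ^ k)) = lin θ (π (y ^ k)) := by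
          rw [← lin_mul θ hxk (mul_mem (inv_mem hxk) hyk), mul_inv_cancel_left]
        rw [hlin] at h4
        exact (mul_eq_left₀ (lin_ne_zero θ hyk)).1 h4
      have h5 := (g.lin_eq_one_iff (mul_mem (inv_mem hxk) hyk)).1 h3
      have h6 : ((π (x ^ k))⁻¹ * π (y ^ k)) ^ 2 ^ m = 1 := by
        rw [(hc.inv_left).mul_pow, inv_pow, ← map_pow, ← map_pow, e2, e2, map_one, inv_one,
          one_mul]
      have h7 : orderOf ((π (x ^ k))⁻¹ * π (y ^ k)) = 1 := by
        refine Nat.eq_one_of_dvd_coprimes ?_ (orderOf_dvd_of_pow_eq_one h6) dvd_rfl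
        exact Nat.Coprime.pow_left _ (Nat.coprime_two_left.2 h5)
      rw [orderOf_eq_one_iff] at h7
      exact inv_mul_eq_one.1 h7
    have hz : z ∈ Subgroup.zpowers (π (x ^ k)) := by
      refine h.zpowers_T' hxk fun ho => h1 ?_
      have h3 := g.lin_odd hxk ho
      have h4 : π x = π (x ^ k) * π ((x ^ k)⁻¹ * x) := by
        rw [← map_mul, mul_inv_cancel_left]
      have h5 : π ((x ^ k)⁻¹ * x) ∈ T' := by
        rw [map_mul, map_inv]; exact mul_mem (inv_mem hxk) hx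
      rw [h4, lin_mul θ hxk h5, h3, one_mul]
      refine g.lin_odd h5 (hr.of_dvd_nat (orderOf_dvd_of_pow_eq_one ?_))
      rw [← map_pow, e3, map_one]
    exact QDW.CoreConst.irr_eq_of_map H M hM X hX _ _ hz hpi
  obtain ⟨χ, hχ, rfl | rfl⟩ := hX
  · exact key χ hχ
  · rw [Pi.neg_apply, Pi.neg_apply, key χ hχ]


/-- The value at an element above `T'` whose `2`-part is not above `Z`. -/
theorem val_T' (H : RTwo.General.Hyp t z π) (g : Gen h b θ n) (hμ : ∃ v : U, μ v ≠ 1)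
    {M : Ideal AlgInt} (hM : IsPModular 2 M) {X : G → ℂ} (hX : InB (principalBlock M G) X)
    {xθ xs : ℤ} (h1 : ∀ f ∈ g.Fam μ, classInner (Ind π f) X = xθ)
    (h2 : classInner (Ind π (phi h μ θ (2 ^ (n - 1)))) X = xs)
    {x : Subgroup.centralizer ({t} : Set G)} (hx : π x ∈ T') (hx1 : lin θ (π x) ≠ 1)
    (hx2 : lin θ (π x) ≠ -1) :
    X x = xθ - lin θ (π x) ^ 2 ^ (n - 1) * (xs - xθ) := by
  have hXc : IsClassFunction G X := isClassFunction_signed hX.signedIrr
  have e1 : classInner (Ind π (Torus.R T' h.base μ (secl θ n (lin θ (π x))))) X =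
      classInner (Torus.R T' h.base μ (secl θ n (lin θ (π x)))) (X x • (1 : C → ℂ)) := by
    refine RTwo.General.classInner_ind_values H hXc ?_
    intro y hy
    obtain ⟨c, hc1, hc2⟩ := g.secl_supp hμ hx hx1 hx2 hy
    obtain ⟨d, rfl⟩ := H.surj c
    have e : π (d * y * d⁻¹) = π d * π y * (π d)⁻¹ := by rw [map_mul, map_mul, map_inv]
    rw [← e] at hc1 hc2
    rw [Pi.smul_apply, Pi.one_apply, smul_eq_mul, mul_one, ← hXc (y : G) (d : G)]
    have e' : (d : G) * (y : G) * (d : G)⁻¹ =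
      ((d * y * d⁻¹ : Subgroup.centralizer ({t} : Set G)) : G) := by push_cast; rfl
    rw [e']
    exact inB_of_lin H g hM hX hc1 hx hc2 (by rw [hc2]; exact hx1) (by rw [hc2]; exact hx2)
  rw [Core.classInner_smul_right, h.inner_T'_one hμ, g.ssum_secl hx hx1,
    inv_mul_cancel₀ Core.card_ne_zero_complex, mul_one, g.R_secl, Ind_sum] at e1
  set l := lin θ (π x) with hl
  have e2 : (fun y => ∑ j ∈ Finset.range (2 ^ n), (-(l⁻¹) ^ j) * Ind π (phi h μ θ j) y) =
      ∑ j ∈ Finset.range (2 ^ n), (-(l⁻¹) ^ j) • Ind π (phi h μ θ j) := by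
    funext y
    simp only [Finset.sum_apply, Pi.smul_apply, smul_eq_mul]
  rw [e2, Core.classInner_sum_left] at e1
  have hhalf : 2 ^ (n - 1) < 2 ^ n := by
    have := g.three_le
    exact Nat.pow_lt_pow_right (by norm_num) (by omega)
  have h0 : (0 : ℕ) ≠ 2 ^ (n - 1) := (by positivity : (0 : ℕ) < 2 ^ (n - 1)).ne
  have hval : ∀ j ∈ Finset.range (2 ^ n), classInner (Ind π (phi h μ θ j)) X =
      xθ + (if j = 0 then -(xθ : ℂ) else 0) + (if j = 2 ^ (n - 1) then (xs : ℂ) - xθ else 0) := by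
    intro j hj
    rw [Finset.mem_range] at hj
    by_cases hj0 : j = 0
    · subst hj0
      rw [g.phi_eq_zero ((g.pow_eq_one_iff 0).2 (dvd_zero _)), if_pos rfl, if_neg h0]
      have : Ind π (0 : C → ℂ) = 0 := by
        have := Ind_sum (π := π) (∅ : Finset ℕ) (fun _ => 1) (fun _ => (0 : C → ℂ))
        simp only [Finset.sum_empty] at this
        exact this
      rw [this, Core.classInner_zero_left]
      ring
    by_cases hj1 : j = 2 ^ (n - 1)
    · rw [hj1, if_neg h0.symm, if_pos rfl, h2]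
      ring
    rw [if_neg hj0, if_neg hj1, add_zero, add_zero]
    refine h1 _ (g.phi_mem_Fam ?_)
    rintro ⟨c, hc⟩
    have h3 := g.half_add
    have h4 : (0 : ℕ) < 2 ^ (n - 1) := by positivity
    have h5 : c < 2 := by
      by_contra h6
      have : 2 ^ (n - 1) * 2 ≤ 2 ^ (n - 1) * c := Nat.mul_le_mul_left _ (by omega)
      omega
    interval_cases c
    · exact hj0 (by rw [hc, mul_zero])
    · exact hj1 (by rw [hc, mul_one])
  have hlh : (l⁻¹) ^ 2 ^ (n - 1) = l ^ 2 ^ (n - 1) := by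
    have h3 : l ^ 2 ^ (n - 1) * l ^ 2 ^ (n - 1) = 1 := by
      rw [← pow_add, g.half_add, hl, g.lin_pow hx]
    rw [inv_pow]
    exact inv_eq_of_mul_eq_one_left h3
  have e3 : ∑ j ∈ Finset.range (2 ^ n), classInner ((-(l⁻¹) ^ j) • Ind π (phi h μ θ j)) X =
      xθ - l ^ 2 ^ (n - 1) * (xs - xθ) := by
    have e4 : ∀ j ∈ Finset.range (2 ^ n), classInner ((-(l⁻¹) ^ j) • Ind π (phi h μ θ j)) X =
        (-(xθ : ℂ)) * (l⁻¹) ^ j + (if j = 0 then (xθ : ℂ) else 0) +
          (if j = 2 ^ (n - 1) then -(l ^ 2 ^ (n - 1) * ((xs : ℂ) - xθ)) else 0) := by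
      intro j hj
      rw [Core.classInner_smul_left, hval j hj]
      by_cases hj0 : j = 0
      · subst hj0
        rw [if_pos rfl, if_pos rfl, if_neg h0, if_neg h0]
        ring
      by_cases hj1 : j = 2 ^ (n - 1)
      · rw [if_neg hj0, if_neg hj0, if_pos hj1, if_pos hj1, hj1, hlh]
        ring
      rw [if_neg hj0, if_neg hj0, if_neg hj1, if_neg hj1]
      ring
    rw [Finset.sum_congr rfl e4, Finset.sum_add_distrib, Finset.sum_add_distrib, ← Finset.mul_sum,
      hl, g.sum_inv hx hx1, ← hl, Finset.sum_ite_eq', Finset.sum_ite_eq',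
      if_pos (Finset.mem_range.2 (by positivity)), if_pos (Finset.mem_range.2 hhalf)]
    ring
  rw [e3] at e1
  have hlr : conj (l ^ 2 ^ (n - 1)) = l ^ 2 ^ (n - 1) := by
    have h3 : l ^ 2 ^ (n - 1) * l ^ 2 ^ (n - 1) = 1 := by
      rw [← pow_add, g.half_add, hl, g.lin_pow hx]
    rcases mul_self_eq_one_iff.1 h3 with h4 | h4 <;> rw [h4] <;> simp
  have e5 := congrArg conj e1
  rw [Complex.conj_conj, map_sub, map_mul, map_sub, hlr, map_intCast, map_intCast] at e5
  exact e5.symm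

/-- `X x = β (π x) (a R_T(1) (π x) + b R_{T'}(1) (π x)) / 2` for all `x : C(t)` such that `z` is a
power of `π x`. -/
def ValD (h : CHyp z q ε Z T T' U s s' u) (μ : U →* ℂˣ)
    (π : (Subgroup.centralizer ({t} : Set G)) →* C) (β : C → ℂ) (X : G → ℂ) (a b : ℂ) : Prop :=
  ∀ x : Subgroup.centralizer ({t} : Set G), z ∈ Subgroup.zpowers (π x) →
    X x = β (π x) * ((a * Torus.R T h.base μ (fun _ => 1) (π x) +
      b * Torus.R T' h.base μ (fun _ => 1) (π x)) / 2)

/-- From `Val` to `ValD`. -/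
theorem Val.valD (H : RTwo.General.Hyp t z π) (g : Gen h b θ n) (c : Chi h b χ)
    (hμ : ∃ v : U, μ v ≠ 1) {X : G → ℂ} (hX : IsClassFunction G X) {β : C → ℂ}
    (hβc : IsClassFunction C β) (hβ : ∀ x, Odd (orderOf (z * x)) → β x = 1) {a₀ b₀ : ℂ}
    (hV : Val h μ π X a₀ b₀)
    (hT' : ∀ x : Subgroup.centralizer ({t} : Set G), π x ∈ T' → lin θ (π x) ≠ 1 →
      lin θ (π x) ≠ -1 → X x = β (π x) * b₀) : ValD h μ π β X a₀ b₀ := by
  intro x hx
  obtain ⟨d, hd⟩ := h.exhaust (π x)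
  obtain ⟨w, rfl⟩ := H.surj d
  have e : π (w * x * w⁻¹) = π w * π x * (π w)⁻¹ := by rw [map_mul, map_mul, map_inv]
  rw [← hX (x : G) (w : G), ← hβc (π x) (π w), ← Torus.R_isClassFunction h.base _ (π x) (π w),
    ← Torus.R_isClassFunction h.base _ (π x) (π w)]
  have e' : (w : G) * (x : G) * (w : G)⁻¹ =
    ((w * x * w⁻¹ : Subgroup.centralizer ({t} : Set G)) : G) := by push_cast; rfl
  have hx' : z ∈ Subgroup.zpowers (π w * π x * (π w)⁻¹) := by
    apply h.zpowers_conj (π w * π x * (π w)⁻¹) (π w)⁻¹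
    have e1 : (π w)⁻¹ * (π w * π x * (π w)⁻¹) * (π w)⁻¹⁻¹ = π x := by group
    rwa [e1]
  rw [e', ← e]
  rw [← e] at hd hx'
  generalize w * x * w⁻¹ = y at hd hx'
  have key : Odd (orderOf (z * π y)) → X y = β (π y) * ((a₀ * Torus.R T h.base μ (fun _ => 1) (π y) +
      b₀ * Torus.R T' h.base μ (fun _ => 1) (π y)) / 2) := by
    intro ho
    rw [hV y (z * π y) (by rw [← mul_assoc, h.tt, one_mul]) ho, hβ _ ho, one_mul,
      h.torus.R_one_mul h.torus' rfl h.base hμ h.exhaust h.t_mem,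
      h.torus'.R_one_mul h.torus (by ring) h.base hμ h.exh' h.t_mem]
  rcases hd with hy | hy | ⟨a, ha, v, hv, hy⟩
  · exact key (odd_of_T c hy hx')
  · by_cases ho : Odd (orderOf (z * π y))
    · exact key ho
    have hzT := h.Z_le_T' h.t_mem
    have l1 : lin θ (π y) ≠ 1 := by
      intro h1
      have h2 := (g.lin_eq_one_iff hy).1 h1
      have h3 : orderOf z ∣ orderOf (π y) := orderOf_dvd_of_mem_zpowers hx'
      rw [h.orderOf_t] at h3
      exact (Nat.not_even_iff_odd.2 h2) (even_iff_two_dvd.2 h3)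
    have l2 : lin θ (π y) ≠ -1 := by
      intro h1
      refine ho ((g.lin_eq_one_iff (mul_mem hzT hy)).1 ?_)
      rw [lin_mul _ hzT hy, g.lin_t, h1]
      ring
    have hyZ : π y ∉ Z := by
      intro h1
      rcases g.lin_Z h1 with h2 | h2
      · exact l1 h2
      · exact l2 h2
    have hne : ε ≠ -ε := by rcases h.eps with h1 | h1 <;> rw [h1] <;> norm_num
    rw [hT' y hy l1 l2, h.torus.R_T' h.torus' hne.symm h.base _ hy hyZ,
      h.torus'.R_T h.base _ hy hyZ]
    ring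
  · refine key ?_
    rw [hy]
    refine h.odd_ZU a ha v hv (odd_of_T c (h.Z_le_T ha) ?_)
    rw [hy] at hx'
    obtain ⟨k, hk⟩ := Subgroup.mem_zpowers_iff.1 hx'
    have hcom : Commute a v := (h.Z_central a ha v).symm
    rw [hcom.mul_zpow] at hk
    have h2 : v ^ k = 1 := by
      refine h.base.eq_one_of_mem ?_ (zpow_mem hv _)
      have h3 : v ^ k = (a ^ k)⁻¹ * z := by rw [← hk, inv_mul_cancel_left]
      rw [h3]
      exact mul_mem (inv_mem (zpow_mem ha _)) h.t_mem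
    rw [h2, mul_one] at hk
    exact Subgroup.mem_zpowers_iff.2 ⟨k, hk⟩

/-- The characters of `G` in the semidihedral case, with their values on `{x | t ∈ zpowers x}` and
all the relations between them. -/
structure SDFull (M : Ideal AlgInt) (h : CHyp z q ε Z T T' U s s' u) (b : C →* ℂˣ)
    (θ : T' →* ℂˣ) (n : ℕ) (χ : T →* ℂˣ) (μ : U →* ℂˣ)
    (π : (Subgroup.centralizer ({t} : Set G)) →* C) (X₂ X₃ X₄ X₅ : G → ℂ) (L : ℕ → G → ℂ)
    (f x : ℤ) : Prop extends SDRes M h μ π X₂ X₃ X₄ X₅ (L 1) f x where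
  inL' : ∀ j, ¬ 2 ^ (n - 1) ∣ j → InB (principalBlock M G) (L j)
  /-- the relations -/
  eqΦ : ∀ j, ¬ 2 ^ (n - 1) ∣ j → Ind π (phi h μ θ j) = 1 - X₂ + L j
  eqS : Ind π (phi h μ θ (2 ^ (n - 1))) = 1 - X₂ + X₄ - X₅
  eqP : Ind π (psi h μ θ n χ) = 1 + X₃ + X₄
  /-- orthogonality -/
  orth₂ : classInner X₂ 1 = 0
  orth₃ : classInner X₃ 1 = 0
  orth₄ : classInner X₄ 1 = 0
  orth₅ : classInner X₅ 1 = 0
  orthL : ∀ j, ¬ 2 ^ (n - 1) ∣ j → classInner (L j) 1 = 0
  x₂₃ : classInner X₂ X₃ = 0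
  x₂₄ : classInner X₂ X₄ = 0
  x₂₅ : classInner X₂ X₅ = 0
  x₃₄ : classInner X₃ X₄ = 0
  x₃₅ : classInner X₃ X₅ = 0
  x₄₅ : classInner X₄ X₅ = 0
  L₂ : ∀ j, ¬ 2 ^ (n - 1) ∣ j → classInner (L j) X₂ = 0
  L₃ : ∀ j, ¬ 2 ^ (n - 1) ∣ j → classInner (L j) X₃ = 0
  L₄ : ∀ j, ¬ 2 ^ (n - 1) ∣ j → classInner (L j) X₄ = 0
  L₅ : ∀ j, ¬ 2 ^ (n - 1) ∣ j → classInner (L j) X₅ = 0
  /-- inner products with the induced functions -/
  Φ₂ : ∀ j, ¬ 2 ^ (n - 1) ∣ j → classInner (Ind π (phi h μ θ j)) X₂ = -1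
  Φ₃ : ∀ j, ¬ 2 ^ (n - 1) ∣ j → classInner (Ind π (phi h μ θ j)) X₃ = 0
  S₂ : classInner (Ind π (phi h μ θ (2 ^ (n - 1)))) X₂ = -1
  P₂ : classInner (Ind π (psi h μ θ n χ)) X₂ = 0
  P₃ : classInner (Ind π (psi h μ θ n χ)) X₃ = 1
  /-- the values -/
  valD₂ : ∀ y : Subgroup.centralizer ({t} : Set G), z ∈ Subgroup.zpowers (π y) →
    X₂ y = (Torus.R T h.base μ (fun _ => 1) (π y) - Torus.R T' h.base μ (fun _ => 1) (π y)) / 2
  valD₃ : ∀ y : Subgroup.centralizer ({t} : Set G), z ∈ Subgroup.zpowers (π y) →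
    X₃ y = Torus.R T h.base μ (fun _ => 1) (π y)
  valD₄ : ∀ y : Subgroup.centralizer ({t} : Set G), z ∈ Subgroup.zpowers (π y) →
    X₄ y = ((b (π y) : ℂˣ) : ℂ) *
      ((Torus.R T h.base μ (fun _ => 1) (π y) - Torus.R T' h.base μ (fun _ => 1) (π y)) / 2)
  valD₅ : ∀ y : Subgroup.centralizer ({t} : Set G), z ∈ Subgroup.zpowers (π y) →
    X₅ y = ((b (π y) : ℂˣ) : ℂ)
  /-- the degrees -/
  oneL : ∀ j, ¬ 2 ^ (n - 1) ∣ j → L j 1 = f - 1
  one₃ : X₃ 1 = -1 - x
  one₅ : X₅ 1 = 1 - f + x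

/-- **The characters of `G` in the semidihedral case**, for given `μ`, `θ`, `χ`. -/
theorem exists_sdFull (H : RTwo.General.Hyp t z π) (g : Gen h b θ n) (c : Chi h b χ)
    (hD : DetHyp q ε T T' U s s' u 2 b) (hμ : ∃ v : U, μ v ≠ 1) {M : Ideal AlgInt}
    (hM : IsPModular 2 M) (hlin : ∀ X : G → ℂ, SignedIrr X → X 1 = 1 → X = 1) :
    ∃ (X₂ X₃ X₄ X₅ : G → ℂ) (L : ℕ → G → ℂ) (f x : ℤ),
      SDFull M h b θ n χ μ π X₂ X₃ X₄ X₅ L f x := by
  classical
  let _ : Fintype (g.Fam μ) := g.Fam_finite.fintype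
  have hcard : 3 ≤ Fintype.card (g.Fam μ) := by
    obtain ⟨f₁, h1, f₂, h2, f₃, h3, h12, h13, h23⟩ := g.exists_three hμ
    have : 2 < Fintype.card (g.Fam μ) := Fintype.two_lt_card_iff.2
      ⟨⟨f₁, h1⟩, ⟨f₂, h2⟩, ⟨f₃, h3⟩, fun e => h12 (congrArg Subtype.val e),
        fun e => h13 (congrArg Subtype.val e), fun e => h23 (congrArg Subtype.val e)⟩
    omega
  obtain ⟨X₂, X₃, X₄, X₅, L, S⟩ := exists_sdSplit hcard (sdHyp H g c hD hμ)
  -- supports
  have hj1 : ¬ 2 ^ (n - 1) ∣ 1 := by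
    intro h1
    have h2 := Nat.le_of_dvd one_pos h1
    have h3 : 1 < 2 ^ (n - 1) := Nat.one_lt_two_pow (by have := g.three_le; omega)
    omega
  let i₁ : g.Fam μ := ⟨phi h μ θ 1, g.phi_mem_Fam hj1⟩
  let L' : ℕ → G → ℂ := fun j =>
    if hj : ¬ 2 ^ (n - 1) ∣ j then L ⟨phi h μ θ j, g.phi_mem_Fam hj⟩ else 0
  have hL' : ∀ j, (hj : ¬ 2 ^ (n - 1) ∣ j) → L' j = L ⟨phi h μ θ j, g.phi_mem_Fam hj⟩ :=
    fun j hj => dif_pos hj
  have s1 : ∀ x, phi h μ θ 1 x ≠ 0 → z ∈ Subgroup.zpowers x := fun x hx => g.phi_supp hμ _ hx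
  have ss : ∀ x, phi h μ θ (2 ^ (n - 1)) x ≠ 0 → z ∈ Subgroup.zpowers x :=
    fun x hx => g.phi_supp hμ _ hx
  have sp : ∀ x, psi h μ θ n χ x ≠ 0 → z ∈ Subgroup.zpowers x :=
    fun x hx => psi_supp g c hD hμ hx
  have sF : ∀ i : g.Fam μ, ∀ x, (i : C → ℂ) x ≠ 0 → z ∈ Subgroup.zpowers x := by
    rintro ⟨f, j, hj, rfl⟩ x hx
    exact g.phi_supp hμ j hx
  have oddLi : ∀ i : g.Fam μ, ∀ g, Odd (orderOf g) → 1 - X₂ g + L i g = 0 := by
    intro i g hg
    have h1 := congrFun (S.eqΦ i) g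
    rw [Ind_odd H (sF i) hg] at h1
    exact h1.symm
  have oddL : ∀ g, Odd (orderOf g) → 1 - X₂ g + L i₁ g = 0 := oddLi i₁
  have oddS : ∀ g, Odd (orderOf g) → 1 - X₂ g + X₄ g - X₅ g = 0 := by
    intro g hg
    have h1 := congrFun S.eqS g
    rw [Ind_odd H ss hg] at h1
    exact h1.symm
  have oddP : ∀ g, Odd (orderOf g) → 1 + X₃ g + X₄ g = 0 := by
    intro g hg
    have h1 := congrFun S.eqP g
    rw [Ind_odd H sp hg] at h1
    exact h1.symm
  -- blocks
  have inLi : ∀ i : g.Fam μ, InB (principalBlock M G) (-X₂) ∧ InB (principalBlock M G) (L i) :=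
    fun i => inB_of_three hM (signed_neg S.s₂) (S.sL i) (fun g hg => by
      have := oddLi i g hg
      simp only [Pi.add_apply, Pi.one_apply, Pi.neg_apply]
      linear_combination this)
  have in2' := (inLi i₁).1
  have in2 : InB (principalBlock M G) X₂ := by
    have := InB.neg in2'
    rwa [neg_neg] at this
  obtain ⟨in3, in4⟩ := inB_of_three hM S.s₃ S.s₄ (fun g hg => oddP g hg)
  have in5 : InB (principalBlock M G) X₅ := by
    have h1 := inB_of_four hM in2' in4 (signed_neg S.s₅) (fun g hg => by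
      have := oddS g hg
      simp only [Pi.add_apply, Pi.one_apply, Pi.neg_apply]
      linear_combination this)
    have := InB.neg h1
    rwa [neg_neg] at this
  -- inner products
  have e22 := signed_self S.s₂
  have e33 := signed_self S.s₃
  have e44 := signed_self S.s₄
  have e55 := signed_self S.s₅
  have y12 := inner_symm_zero S.one₂
  have y13 := inner_symm_zero S.one₃
  have y14 := inner_symm_zero S.one₄
  have y15 := inner_symm_zero S.one₅
  have y32 := inner_symm_zero S.x₂₃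
  have y42 := inner_symm_zero S.x₂₄
  have y52 := inner_symm_zero S.x₂₅
  have y43 := inner_symm_zero S.x₃₄
  have y53 := inner_symm_zero S.x₃₅
  have y54 := inner_symm_zero S.x₄₅
  have F2 : ∀ f ∈ g.Fam μ, classInner (Ind π f) X₂ = ((-1 : ℤ) : ℂ) := by
    intro f hf
    have h1 := S.eqΦ ⟨f, hf⟩
    simp only at h1
    rw [h1, Core.classInner_add_left, Core.classInner_sub_left, y12, e22, S.L₂]
    norm_num
  have F3 : ∀ f ∈ g.Fam μ, classInner (Ind π f) X₃ = ((0 : ℤ) : ℂ) := by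
    intro f hf
    have h1 := S.eqΦ ⟨f, hf⟩
    simp only at h1
    rw [h1, Core.classInner_add_left, Core.classInner_sub_left, y13, S.x₂₃, S.L₃]
    norm_num
  have F4 : ∀ f ∈ g.Fam μ, classInner (Ind π f) X₄ = ((0 : ℤ) : ℂ) := by
    intro f hf
    have h1 := S.eqΦ ⟨f, hf⟩
    simp only at h1
    rw [h1, Core.classInner_add_left, Core.classInner_sub_left, y14, S.x₂₄, S.L₄]
    norm_num
  have F5 : ∀ f ∈ g.Fam μ, classInner (Ind π f) X₅ = ((0 : ℤ) : ℂ) := by
    intro f hf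
    have h1 := S.eqΦ ⟨f, hf⟩
    simp only at h1
    rw [h1, Core.classInner_add_left, Core.classInner_sub_left, y15, S.x₂₅, S.L₅]
    norm_num
  have S2 : classInner (Ind π (phi h μ θ (2 ^ (n - 1)))) X₂ = ((-1 : ℤ) : ℂ) := by
    rw [S.eqS, Core.classInner_sub_left, Core.classInner_add_left, Core.classInner_sub_left,
      y12, e22, y42, y52]
    norm_num
  have S3 : classInner (Ind π (phi h μ θ (2 ^ (n - 1)))) X₃ = ((0 : ℤ) : ℂ) := by
    rw [S.eqS, Core.classInner_sub_left, Core.classInner_add_left, Core.classInner_sub_left,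
      y13, S.x₂₃, y43, y53]
    norm_num
  have S4 : classInner (Ind π (phi h μ θ (2 ^ (n - 1)))) X₄ = ((1 : ℤ) : ℂ) := by
    rw [S.eqS, Core.classInner_sub_left, Core.classInner_add_left, Core.classInner_sub_left,
      y14, S.x₂₄, e44, y54]
    norm_num
  have S5 : classInner (Ind π (phi h μ θ (2 ^ (n - 1)))) X₅ = ((-1 : ℤ) : ℂ) := by
    rw [S.eqS, Core.classInner_sub_left, Core.classInner_add_left, Core.classInner_sub_left,
      y15, S.x₂₅, S.x₄₅, e55]
    norm_num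
  have P2 : classInner (Ind π (psi h μ θ n χ)) X₂ = ((0 : ℤ) : ℂ) := by
    rw [S.eqP, Core.classInner_add_left, Core.classInner_add_left, y12, y32, y42]
    norm_num
  have P3 : classInner (Ind π (psi h μ θ n χ)) X₃ = ((1 : ℤ) : ℂ) := by
    rw [S.eqP, Core.classInner_add_left, Core.classInner_add_left, y13, e33, y43]
    norm_num
  have P4 : classInner (Ind π (psi h μ θ n χ)) X₄ = ((1 : ℤ) : ℂ) := by
    rw [S.eqP, Core.classInner_add_left, Core.classInner_add_left, y14, S.x₃₄, e44]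
    norm_num
  have P5 : classInner (Ind π (psi h μ θ n χ)) X₅ = ((0 : ℤ) : ℂ) := by
    rw [S.eqP, Core.classInner_add_left, Core.classInner_add_left, y15, S.x₃₅, S.x₄₅]
    norm_num
  -- values
  have V2 : Val h μ π X₂ 1 (-1) := by
    obtain ⟨a₀, b₀, hV⟩ := blockEval H h hM in2 hμ
    have hb := val_b H g hμ (isClassFunction_signed S.s₂) hV F2 S2
    have ha := val_a H g c hD hμ (isClassFunction_signed S.s₂) hV P2 S2
    have e1 : a₀ = 1 := by rw [ha]; norm_num
    have e2 : b₀ = -1 := by rw [hb]; norm_num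
    subst e1 e2
    exact hV
  have V3 : Val h μ π X₃ 2 0 := by
    obtain ⟨a₀, b₀, hV⟩ := blockEval H h hM in3 hμ
    have hb := val_b H g hμ (isClassFunction_signed S.s₃) hV F3 S3
    have ha := val_a H g c hD hμ (isClassFunction_signed S.s₃) hV P3 S3
    have e1 : a₀ = 2 := by rw [ha]; norm_num
    have e2 : b₀ = 0 := by rw [hb]; norm_num
    subst e1 e2
    exact hV
  have V4 : Val h μ π X₄ 1 (-1) := by
    obtain ⟨a₀, b₀, hV⟩ := blockEval H h hM in4 hμ
    have hb := val_b H g hμ (isClassFunction_signed S.s₄) hV F4 S4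
    have ha := val_a H g c hD hμ (isClassFunction_signed S.s₄) hV P4 S4
    have e1 : a₀ = 1 := by rw [ha]; norm_num
    have e2 : b₀ = -1 := by rw [hb]; norm_num
    subst e1 e2
    exact hV
  have V5 : Val h μ π X₅ 1 1 := by
    obtain ⟨a₀, b₀, hV⟩ := blockEval H h hM in5 hμ
    have hb := val_b H g hμ (isClassFunction_signed S.s₅) hV F5 S5
    have ha := val_a H g c hD hμ (isClassFunction_signed S.s₅) hV P5 S5
    have e1 : a₀ = 1 := by rw [ha]; norm_num
    have e2 : b₀ = 1 := by rw [hb]; norm_num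
    subst e1 e2
    exact hV
  have VL : Val h μ π (L i₁) 0 2 := by
    have h1 : Val h μ π (Ind π (phi h μ θ 1)) 0 4 := by
      intro x y hx hy
      have h2 : z ∈ Subgroup.zpowers (π x) := by
        refine h.zpowers_of_odd ?_
        rw [hx, ← mul_assoc, h.tt, one_mul]
        exact hy
      rw [Ind_apply H (g.phi_class 1) s1 h2, hx, g.phi_section hμ 1 hy]
      ring
    have h2 : L i₁ = Ind π (phi h μ θ 1) - 1 + X₂ := by
      have h3 := S.eqΦ i₁
      have h4 : Ind π (phi h μ θ 1) = 1 - X₂ + L i₁ := h3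
      rw [h4]
      abel
    rw [h2]
    have h3 := (h1.sub (Val.one (h := h) (π := π) hμ)).add V2
    have e1 : (0 : ℂ) - 1 + 1 = 0 := by norm_num
    have e2 : (4 : ℂ) - 1 + -1 = 2 := by norm_num
    rw [e1, e2] at h3
    exact h3
  -- values at `t`
  have t2 : X₂ t = ε * q := by rw [V2.apply_t H]; ring
  have t3 : X₃ t = 1 + ε * q := by rw [V3.apply_t H]; ring
  have t4 : X₄ t = ε * q := by rw [V4.apply_t H]; ring
  have t5 : X₅ t = 1 := by rw [V5.apply_t H]; ring
  have tL : L i₁ t = 1 - ε * q := by rw [VL.apply_t H]; ring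
  -- degrees
  obtain ⟨f, hf0, hf⟩ := InvCent.WreathedGram.signed_degree S.s₂
  obtain ⟨x, hx0, hx⟩ := InvCent.WreathedGram.signed_degree S.s₄
  have ho : Odd (orderOf (1 : G)) := by rw [orderOf_one]; exact odd_one
  have dLi : ∀ i : g.Fam μ, L i 1 = f - 1 := by
    intro i
    have := oddLi i 1 ho
    rw [hf] at this
    linear_combination this
  have dL : L i₁ 1 = f - 1 := dLi i₁
  have d3 : X₃ 1 = -1 - x := by
    have := oddP 1 ho
    rw [hx] at this
    linear_combination this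
  have d5 : X₅ 1 = 1 - f + x := by
    have := oddS 1 ho
    rw [hf, hx] at this
    linear_combination -this
  have hf1 : f ≠ 1 := by
    rintro rfl
    exact (S.sL i₁).apply_one_ne_zero (by rw [dL]; norm_num)
  have hx1 : x ≠ -1 := by
    rintro rfl
    exact S.s₃.apply_one_ne_zero (by rw [d3]; norm_num)
  have hfx : f ≠ x := by
    rintro rfl
    have h1 : X₅ = 1 := hlin X₅ S.s₅ (by rw [d5]; ring)
    have h2 := S.one₅
    rw [h1, InvCent.WreathedGram.one_one] at h2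
    exact one_ne_zero h2
  have cf0 : (f : ℂ) ≠ 0 := by exact_mod_cast hf0
  have cx0 : (x : ℂ) ≠ 0 := by exact_mod_cast hx0
  have cf1 : (f : ℂ) - 1 ≠ 0 := by
    intro h1
    exact hf1 (by exact_mod_cast sub_eq_zero.1 h1)
  have c5 : (1 : ℂ) - f + x ≠ 0 := by
    rw [← d5]
    exact S.s₅.apply_one_ne_zero
  have hε : (ε : ℂ) * ε = 1 := by exact_mod_cast h.torus.sq_sign
  have hn0 : ((Subgroup.centralizer ({t} : Set G)).index : ℂ) ≠ 0 := by
    have : (Subgroup.centralizer ({t} : Set G)).index ≠ 0 := Subgroup.index_ne_zero_of_finite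
    exact_mod_cast this
  -- all values
  have c1 : IsClassFunction C (fun _ => (1 : ℂ)) := fun _ _ => rfl
  have cb : IsClassFunction C (fun y => ((b y : ℂˣ) : ℂ)) := by
    intro y w
    show ((b (w * y * w⁻¹) : ℂˣ) : ℂ) = ((b y : ℂˣ) : ℂ)
    rw [map_mul, map_mul, map_inv, mul_inv_cancel_comm]
  have ob : ∀ y, Odd (orderOf (z * y)) → (fun y => ((b y : ℂˣ) : ℂ)) y = 1 := by
    intro y hy
    have hbz : b z = 1 := by
      refine hD.b_T₀ z (h.Z_le_T h.t_mem) ?_
      rw [h.Z_central z h.t_mem s, mul_inv_cancel_right, h.tt]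
    have h1 : b (z * y) = b y := by rw [map_mul, hbz, one_mul]
    have h2 : orderOf (b (z * y)) ∣ orderOf (z * y) := orderOf_map_dvd b _
    have h3 : orderOf (b (z * y)) ∣ 2 := orderOf_dvd_of_pow_eq_one (hD.pow_eq_one _)
    have h4 : orderOf (b (z * y)) = 1 :=
      Nat.eq_one_of_dvd_coprimes (Nat.coprime_two_left.2 hy) h3 h2
    rw [orderOf_eq_one_iff, h1] at h4
    simp only [h4, Units.val_one]
  have D2 : ValD h μ π (fun _ => 1) X₂ 1 (-1) := by
    refine V2.valD H g c hμ (isClassFunction_signed S.s₂) c1 (fun _ _ => rfl) ?_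
    intro y hy h1 h2
    rw [val_T' H g hμ hM in2 F2 S2 hy h1 h2]
    push_cast
    ring
  have D3 : ValD h μ π (fun _ => 1) X₃ 2 0 := by
    refine V3.valD H g c hμ (isClassFunction_signed S.s₃) c1 (fun _ _ => rfl) ?_
    intro y hy h1 h2
    rw [val_T' H g hμ hM in3 F3 S3 hy h1 h2]
    push_cast
    ring
  have D4 : ValD h μ π (fun y => ((b y : ℂˣ) : ℂ)) X₄ 1 (-1) := by
    refine V4.valD H g c hμ (isClassFunction_signed S.s₄) cb ob ?_
    intro y hy h1 h2
    rw [val_T' H g hμ hM in4 F4 S4 hy h1 h2, ← lin_pow_hom _ _ hy, g.lin_half hy]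
    push_cast
    ring
  have D5 : ValD h μ π (fun y => ((b y : ℂˣ) : ℂ)) X₅ 1 1 := by
    refine V5.valD H g c hμ (isClassFunction_signed S.s₅) cb ob ?_
    intro y hy h1 h2
    rw [val_T' H g hμ hM in5 F5 S5 hy h1 h2, ← lin_pow_hom _ _ hy, g.lin_half hy]
    push_cast
    ring
  refine ⟨X₂, X₃, X₄, X₅, L', f, x,
    { in₂ := in2, in₃ := in3, in₄ := in4, in₅ := in5, inL := by rw [hL' 1 hj1]; exact (inLi i₁).2,
      val₂ := V2, val₃ := V3, val₄ := V4, val₅ := V5, valL := by rw [hL' 1 hj1]; exact VL,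
      odd_L := by rw [hL' 1 hj1]; exact oddL
      odd_S := oddS, odd_P := oddP,
      one₂ := hf, one₄ := hx, t₂ := t2, t₃ := t3, t₄ := t4, t₅ := t5
      tL := by rw [hL' 1 hj1]; exact tL
      f_ne_zero := hf0, f_ne_one := hf1, x_ne_zero := hx0, x_ne := hx1, f_ne_x := hfx,
      eqA := ?_, eqB := ?_
      inL' := fun j hj => by rw [hL' j hj]; exact (inLi _).2
      eqΦ := fun j hj => by rw [hL' j hj]; exact S.eqΦ ⟨_, g.phi_mem_Fam hj⟩
      eqS := S.eqS, eqP := S.eqP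
      orth₂ := S.one₂, orth₃ := S.one₃, orth₄ := S.one₄, orth₅ := S.one₅
      orthL := fun j hj => by rw [hL' j hj]; exact S.oneL _
      x₂₃ := S.x₂₃, x₂₄ := S.x₂₄, x₂₅ := S.x₂₅, x₃₄ := S.x₃₄, x₃₅ := S.x₃₅, x₄₅ := S.x₄₅
      L₂ := fun j hj => by rw [hL' j hj]; exact S.L₂ _
      L₃ := fun j hj => by rw [hL' j hj]; exact S.L₃ _
      L₄ := fun j hj => by rw [hL' j hj]; exact S.L₄ _
      L₅ := fun j hj => by rw [hL' j hj]; exact S.L₅ _
      Φ₂ := fun j hj => by rw [F2 _ (g.phi_mem_Fam hj)]; norm_num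
      Φ₃ := fun j hj => by rw [F3 _ (g.phi_mem_Fam hj)]; norm_num
      S₂ := by rw [S2]; norm_num
      P₂ := by rw [P2]; norm_num
      P₃ := by rw [P3]; norm_num
      valD₂ := fun y hy => by rw [D2 y hy]; ring
      valD₃ := fun y hy => by rw [D3 y hy]; ring
      valD₄ := fun y hy => by rw [D4 y hy]; ring
      valD₅ := fun y hy => by rw [D5 y hy, one_mul, one_mul, ← h.two_one hμ, mul_one]
      oneL := fun j hj => by rw [hL' j hj]; exact dLi _
      one₃ := d3, one₅ := d5 }⟩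
  · have h1 : Ind π (phi h μ θ 1) = 1 + -X₂ + L i₁ := by
      rw [← sub_eq_add_neg]
      exact S.eqΦ i₁
    have h2 := cf_three H h s1 (signed_neg S.s₂) (S.sL i₁) h1
    rw [g.pairSum_phi hμ hj1, Pi.neg_apply, Pi.neg_apply, t2, tL, hf, dL] at h2
    have h3 : (((Subgroup.centralizer ({t} : Set G)).index : ℤ) * (f - ε * q) ^ 2 : ℤ) =
      (((kap π u : ℤ) ^ 2 * ((ε * q) * (ε * q - 1) * (ε * q + 1) ^ 2 * f * (f - 1)) : ℤ) : ℂ) := by
      push_cast
      field_simp at h2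
      linear_combination h2 - (kap π u : ℂ) ^ 2 * f * (f - 1) *
        (((ε : ℂ) ^ 2 + 1) * q ^ 4 + ε * q ^ 3 - q ^ 2) * hε
    exact_mod_cast h3
  · have h1 : Ind π (phi h μ θ (2 ^ (n - 1))) = 1 + -X₂ + X₄ + -X₅ := by
      rw [← sub_eq_add_neg, ← sub_eq_add_neg]
      exact S.eqS
    have h2 := cf_four H h ss (signed_neg S.s₂) S.s₄ (signed_neg S.s₅) h1
    rw [g.pairSum_phis hD hμ, mul_zero] at h2
    have h3 := (mul_eq_zero.1 h2).resolve_left hn0
    simp only [Pi.neg_apply] at h3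
    rw [t2, t4, t5, hf, hx, d5] at h3
    have h4 : ((x : ℂ) - f) * (f * x - (ε * q) ^ 2 * (1 - f + x)) = 0 := by
      field_simp at h3
      linear_combination h3
    have h5 : (x : ℂ) - f ≠ 0 := by
      intro h6
      apply hfx
      have : (x : ℂ) = f := sub_eq_zero.1 h6
      exact_mod_cast this.symm
    have h6 := (mul_eq_zero.1 h4).resolve_left h5
    have h7 : ((x * (f - (ε * q) ^ 2) : ℤ) : ℂ) = ((-(ε * q) ^ 2 * (f - 1) : ℤ) : ℂ) := by
      push_cast
      linear_combination h6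
    exact_mod_cast h7

end Gside

end Cfsg.Agent.Classification.InvCent
end

-- part: Classification/QDW/NumBridgeG
section
prune_inst 0x3100020000000012000060204100019000000800600009040805e0208942a0004a8000020000028000050000000000500000000000000000000101208000000021400004040009800007190c00000000000000000000000000000000004010000
set_option linter.all false
open scoped Cfsg.Agent.FastGrp

-- part: Classification/QDW/NumBridge
section
/-!
# The numbers of the quasi-dihedral case, with an arbitrary core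

`Q = ε q`, `Q ≡ 3 mod 4`; `f = X₂(1)`, `x = X₄(1)`, `X₃(1) = -1-x`, `n = |G : C(t)|`.  With
`d₂ = f - Q²`, `d₃ = -x - Q²`: `d₂ d₃ = Q²(Q²-1)`.  The slacks are
`n₂ = f - Q - (Q²-1) = d₂ - Q + 1` and `n₃ = -x - Q - 2 - (Q²-1) = d₃ - Q - 1`.
-/

set_option autoImplicit false

namespace Cfsg.Agent.Classification.QDW.NumBridge

/-- The numerical data of the quasi-dihedral case, before the lower bounds. -/
structure Num (q : ℕ) (ε n κ f x : ℤ) : Prop where
  q_ge : 3 ≤ q
  eps : ε = 1 ∨ ε = -1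
  mod_q : (4 : ℤ) ∣ ε * q + 1
  odd_n : Odd n
  odd_κ : Odd κ
  eqA : n * (f - ε * q) ^ 2 =
    κ ^ 2 * ((ε * q) * (ε * q - 1) * (ε * q + 1) ^ 2 * f * (f - 1))
  eqB : x * (f - (ε * q) ^ 2) = -(ε * q) ^ 2 * (f - 1)
  f_ne_zero : f ≠ 0
  f_ne_one : f ≠ 1
  x_ne_zero : x ≠ 0
  x_ne : x ≠ -1
  mod_f : (4 : ℤ) ∣ f - ε * q

section

variable {q : ℕ} {ε n κ f x : ℤ}

theorem eps_sq (h : ε = 1 ∨ ε = -1) : ε * ε = 1 := by
  rcases h with h | h <;> rw [h] <;> norm_num

theorem Num.sq (h : Num q ε n κ f x) : (ε * q) ^ 2 = (q : ℤ) ^ 2 := by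
  rw [mul_pow, _root_.sq ε, eps_sq h.eps, one_mul]

/-- The product formula. -/
theorem Num.prod (h : Num q ε n κ f x) :
    (f - (q : ℤ) ^ 2) * (-x - (q : ℤ) ^ 2) = (q : ℤ) ^ 2 * ((q : ℤ) ^ 2 - 1) := by
  have h1 := h.eqB
  rw [h.sq] at h1
  have h2 : -(q : ℤ) ^ 2 * (f - 1) = -((q : ℤ) ^ 2 * (f - 1)) := by ring
  rw [h2] at h1
  linear_combination -h1

theorem Num.q_cases (h : Num q ε n κ f x) :
    (ε = 1 ∧ (q : ℤ) % 4 = 3) ∨ (ε = -1 ∧ (q : ℤ) % 4 = 1) := by
  have h1 := h.mod_q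
  rcases h.eps with h2 | h2
  · left
    refine ⟨h2, ?_⟩
    rw [h2] at h1
    omega
  · right
    refine ⟨h2, ?_⟩
    rw [h2] at h1
    omega

theorem Num.d₂_ne (h : Num q ε n κ f x) : f - (q : ℤ) ^ 2 ≠ 0 := by
  intro h1
  have h2 := h.prod
  have h3 := h.q_ge
  rw [h1, zero_mul] at h2
  have h4 : (3 : ℤ) ≤ q := by exact_mod_cast h3
  linarith only [h2, mul_pos (show (0 : ℤ) < (q : ℤ) ^ 2 by positivity)
    (show (0 : ℤ) < (q : ℤ) ^ 2 - 1 by nlinarith)]

/-- `2`-adic content of the order formula. -/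
theorem Num.two_pow_dvd (h : Num q ε n κ f x) {k : ℕ} (hk : (2 : ℤ) ^ k ∣ ε * q + 1) :
    (2 : ℤ) ^ (k + 1) ∣ f - ε * q := by
  -- it is enough to treat `2 ≤ k`
  wlog h2k : 2 ≤ k with H
  · have h1 := H h (k := 2) (by norm_num; exact h.mod_q) le_rfl
    refine (pow_dvd_pow 2 ?_).trans h1
    omega
  obtain ⟨g, hg⟩ := h.mod_f
  obtain ⟨j, rfl⟩ : ∃ j, k = 2 + j := ⟨k - 2, by omega⟩
  obtain ⟨v, hv⟩ := hk
  have hQ : (ε * q) % 4 = 3 := by have := h.mod_q; omega
  obtain ⟨c, hc⟩ : ∃ c : ℤ, ε * q = 4 * c + 3 := ⟨(ε * q) / 4, by omega⟩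
  have hf3 : f = 4 * (g + c) + 3 := by linear_combination hg + hc
  -- `n g² = κ² Q (2c+1) (2^j v)² f (4 (..) + 2) ...`
  have e1 : n * g ^ 2 = κ ^ 2 * ((ε * q) * (2 * c + 1) * f * (2 * (g + c) + 1)) *
      (4 * (2 ^ j * v) ^ 2) := by
    have h1 := h.eqA
    rw [hg] at h1
    have h2 : ε * q + 1 = 4 * (2 ^ j * v) := by rw [hv]; ring
    have h3 : ε * q - 1 = 2 * (2 * c + 1) := by linear_combination hc
    have h4 : f - 1 = 2 * (2 * (g + c) + 1) := by linear_combination hf3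
    rw [h2, h3, h4] at h1
    have h5 : (16 : ℤ) ≠ 0 := by norm_num
    apply mul_left_cancel₀ h5
    linear_combination h1
  have h6 : (2 ^ (j + 1) : ℤ) ^ 2 ∣ n * g ^ 2 := by
    rw [e1]
    refine Dvd.dvd.mul_left ?_ _
    refine ⟨v ^ 2, ?_⟩
    ring
  have h7 : IsCoprime ((2 ^ (j + 1) : ℤ) ^ 2) n := by
    refine IsCoprime.pow_left (IsCoprime.pow_left ?_)
    obtain ⟨r, hr⟩ := h.odd_n
    exact ⟨-r, 1, by rw [hr]; ring⟩
  have h8 := h7.dvd_of_dvd_mul_left h6
  have h9 : (2 ^ (j + 1) : ℤ) ∣ g := (Int.pow_dvd_pow_iff two_ne_zero).1 h8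
  rw [hg, show 2 + j + 1 = 2 + (j + 1) by ring, pow_add]
  have : ((2 : ℤ) ^ 2) = 4 := by norm_num
  rw [this]
  exact mul_dvd_mul_left 4 h9

theorem Num.eight_dvd (h : Num q ε n κ f x) : (8 : ℤ) ∣ f - ε * q := by
  have := h.two_pow_dvd (k := 2) (by norm_num; exact h.mod_q)
  norm_num at this
  exact this

/-- If `2^k ∣ Q + 1` then `2^(k+2)` divides the slack of `X₂`. -/
theorem Num.dvd_slack₂ (h : Num q ε n κ f x) {k : ℕ} (hk : (2 : ℤ) ^ k ∣ ε * q + 1) :
    (2 : ℤ) ^ (k + 2) ∣ f - ε * q - ((q : ℤ) ^ 2 - 1) := by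
  -- choose the exact power
  wlog hex : ¬ (2 : ℤ) ^ (k + 1) ∣ ε * q + 1 with H
  · rw [not_not] at hex
    by_contra hcon
    -- a maximal exponent
    have hne : ε * (q : ℤ) + 1 ≠ 0 := by
      have h1 := h.q_ge
      rcases h.eps with h2 | h2 <;> rw [h2] <;> omega
    have hfin : FiniteMultiplicity (2 : ℤ) (ε * q + 1) :=
      Int.finiteMultiplicity_iff.2 ⟨by norm_num, hne⟩
    have h3 : (2 : ℤ) ^ multiplicity (2 : ℤ) (ε * q + 1) ∣ ε * q + 1 :=
      pow_multiplicity_dvd _ _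
    have h4 : ¬ (2 : ℤ) ^ (multiplicity (2 : ℤ) (ε * q + 1) + 1) ∣ ε * q + 1 :=
      hfin.not_pow_dvd_of_multiplicity_lt (Nat.lt_succ_self _)
    have h5 := H h h3 h4
    apply hcon
    refine (pow_dvd_pow 2 ?_).trans h5
    have h6 : k ≤ multiplicity (2 : ℤ) (ε * q + 1) := hfin.le_multiplicity_of_pow_dvd hk
    omega
  have hk2 : 2 ≤ k := by
    by_contra h1
    apply hex
    have h2 := h.mod_q
    exact (pow_dvd_pow 2 (by omega)).trans (by norm_num; exact h2 : (2 : ℤ) ^ 2 ∣ ε * q + 1)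
  obtain ⟨g, hg⟩ := h.two_pow_dvd hk
  obtain ⟨v, hv⟩ := hk
  have hvo : Odd v := by
    by_contra h1
    rw [Int.not_odd_iff_even] at h1
    obtain ⟨r, hr⟩ := h1
    apply hex
    exact ⟨r, by rw [hv, hr]; ring⟩
  have hQ : (ε * q) % 4 = 3 := by have := h.mod_q; omega
  obtain ⟨c, hc⟩ : ∃ c : ℤ, ε * q = 4 * c + 3 := ⟨(ε * q) / 4, by omega⟩
  obtain ⟨w, hw⟩ : ∃ w : ℤ, f = 4 * w + 3 := by
    have := h.mod_f
    exact ⟨f / 4, by (clear * - hc this; omega)⟩
  -- `g` is odd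
  have hgo : Odd g := by
    by_contra h1
    rw [Int.not_odd_iff_even] at h1
    have e1 : n * g ^ 2 = κ ^ 2 * ((ε * q) * (2 * c + 1) * f * (2 * w + 1)) * v ^ 2 := by
      have h1 := h.eqA
      rw [hg] at h1
      have h3 : ε * q - 1 = 2 * (2 * c + 1) := by linear_combination hc
      have h4 : f - 1 = 2 * (2 * w + 1) := by linear_combination hw
      rw [hv, h3, h4] at h1
      have h5 : ((2 : ℤ) ^ (k + 1)) ^ 2 ≠ 0 := by positivity
      apply mul_left_cancel₀ h5
      linear_combination h1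
    have h2 : Even (n * g ^ 2) := by
      refine Even.mul_left ?_ _
      exact h1.pow_of_ne_zero two_ne_zero
    rw [e1] at h2
    have hQo : Odd (ε * (q : ℤ)) := by rw [hc]; exact ⟨2 * c + 1, by ring⟩
    have hfo : Odd f := by rw [hw]; exact ⟨2 * w + 1, by ring⟩
    have h3 : Odd (κ ^ 2 * ((ε * q) * (2 * c + 1) * f * (2 * w + 1)) * v ^ 2) :=
      (h.odd_κ.pow.mul (((hQo.mul ⟨c, rfl⟩).mul hfo).mul ⟨w, rfl⟩)).mul hvo.pow
    exact (Int.not_even_iff_odd.2 h3) h2
  -- `Q² - 1 = 2^(k+1) v (2c+1)`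
  have e2 : (q : ℤ) ^ 2 - 1 = 2 ^ (k + 1) * (v * (2 * c + 1)) := by
    rw [← h.sq]
    have h3 : ε * q - 1 = 2 * (2 * c + 1) := by linear_combination hc
    calc (ε * (q : ℤ)) ^ 2 - 1 = (ε * q + 1) * (ε * q - 1) := by ring
      _ = _ := by rw [hv, h3]; ring
  rw [hg, e2, ← mul_sub, show k + 2 = k + 1 + 1 by ring, pow_succ]
  refine mul_dvd_mul_left _ ?_
  have h5 : Even (g - v * (2 * c + 1)) := hgo.sub_odd (hvo.mul ⟨c, rfl⟩)
  exact h5.two_dvd

/-- If `2^k ∣ Q + 1` then `2^(k+2)` divides the slack of `X₃`. -/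
theorem Num.dvd_slack₃ (h : Num q ε n κ f x) {k : ℕ} (hk : (2 : ℤ) ^ k ∣ ε * q + 1) :
    (2 : ℤ) ^ (k + 2) ∣ -x - ε * q - 2 - ((q : ℤ) ^ 2 - 1) := by
  wlog h2k : 2 ≤ k with H
  · have h1 := H h (k := 2) (by norm_num; exact h.mod_q) le_rfl
    refine (pow_dvd_pow 2 ?_).trans h1
    omega
  obtain ⟨g, hg⟩ := h.dvd_slack₂ hk
  obtain ⟨v, hv⟩ := hk
  have hQ : (ε * q) % 4 = 3 := by have := h.mod_q; omega
  obtain ⟨c, hc⟩ : ∃ c : ℤ, ε * q = 4 * c + 3 := ⟨(ε * q) / 4, by omega⟩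
  have hp := h.prod
  have hs := h.sq
  -- `f - q² = 2 m`, `m = (2c+1) + 2^(k+1) g`
  set m : ℤ := 2 * c + 1 + 2 ^ (k + 1) * g with hm
  have h1 : f - (q : ℤ) ^ 2 = 2 * m := by
    rw [hm]
    have : f - (q : ℤ) ^ 2 = 2 ^ (k + 2) * g + (ε * q - 1) := by linear_combination hg
    rw [this, hc]
    ring
  have hmo : Odd m := by
    rw [hm]
    refine Odd.add_even ⟨c, rfl⟩ ?_
    refine Even.mul_right ?_ _
    rw [Int.even_pow]
    exact ⟨by decide, by omega⟩
  set y : ℤ := -x - ε * q - 2 - ((q : ℤ) ^ 2 - 1) with hy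
  have h2 : -x - (q : ℤ) ^ 2 = y + (ε * q + 1) := by rw [hy]; ring
  rw [h1, h2, ← hs] at hp
  -- `m y = (Q+1) (Q² (2c+1) - m)`
  have h3 : m * y = (ε * q + 1) * ((ε * q) ^ 2 * (2 * c + 1) - m) := by
    have h4 : (2 : ℤ) ≠ 0 := two_ne_zero
    apply mul_left_cancel₀ h4
    have h5 : ε * q - 1 = 2 * (2 * c + 1) := by linear_combination hc
    have h6 : (ε * (q : ℤ)) ^ 2 - 1 = (ε * q + 1) * (2 * (2 * c + 1)) := by
      rw [← h5]; ring
    rw [h6] at hp
    linear_combination hp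
  have h4 : (2 : ℤ) ^ (k + 2) ∣ m * y := by
    rw [h3, hv]
    have h5 : (2 : ℤ) ^ 2 ∣ (ε * q) ^ 2 * (2 * c + 1) - m := by
      rw [hm, hc]
      obtain ⟨j, rfl⟩ : ∃ j, k = 1 + j := ⟨k - 1, by omega⟩
      refine ⟨(2 * c + 1) * (4 * c ^ 2 + 6 * c + 2) - 2 ^ j * g, ?_⟩
      rw [show 1 + j + 1 = 2 + j by ring, pow_add]
      ring
    obtain ⟨b, hb⟩ := h5
    rw [hb, pow_add]
    exact ⟨v * b, by ring⟩
  have h7 : IsCoprime ((2 : ℤ) ^ (k + 2)) m := by
    refine IsCoprime.pow_left ?_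
    obtain ⟨r, hr⟩ := hmo
    exact ⟨-r, 1, by rw [hr]; ring⟩
  exact h7.dvd_of_dvd_mul_left h4

/-! ### The lower bounds -/

/-- `ε = 1`. -/
theorem Num.pos (h : Num q 1 n κ f x) (lb₂ : (q : ℤ) ^ 2 - 1 ≤ |f - 1 * q|)
    (lb₃ : (q : ℤ) ^ 2 - 1 ≤ |x + 1 * q + 2|) :
    (q : ℤ) ^ 2 - 1 ≤ f - q ∧ (q : ℤ) ^ 2 - 1 ≤ -x - q - 2 ∧
      (f - q < 2 * (q : ℤ) ^ 2 - q - 1 ∨ -x - q - 2 < 2 * (q : ℤ) ^ 2 - q - 1) := by
  have hq : (3 : ℤ) ≤ q := by exact_mod_cast h.q_ge
  have hp := h.prod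
  rw [one_mul] at lb₂ lb₃
  have hqq : (9 : ℤ) ≤ (q : ℤ) ^ 2 := by nlinarith only [hq]
  have h2 : (q : ℤ) ^ 2 - 1 ≤ f - q := by
    rcases le_abs'.1 lb₂ with h1 | h1
    · exfalso
      -- `f < 0`
      have hf : f < 0 := by nlinarith only [hq, h1]
      have h3 : 0 < -x := by
        have := h.eqB
        rw [h.sq] at this
        by_contra hcon
        nlinarith only [hp, hqq, hf, hcon]
      have h4 : -x < (q : ℤ) ^ 2 := by
        by_contra hcon
        push Not at hcon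
        nlinarith only [hp, hqq, hf, hcon]
      rcases le_abs'.1 lb₃ with h5 | h5 <;> nlinarith only [hq, h4, h5, h3]
    · exact h1
  have hd2 : 0 < f - (q : ℤ) ^ 2 := by linarith
  have hd3 : 0 < -x - (q : ℤ) ^ 2 := by
    by_contra hcon
    push Not at hcon
    nlinarith only [hq, hp, hqq, h2, hcon]
  have h3 : (q : ℤ) ^ 2 - 1 ≤ -x - q - 2 := by
    rcases le_abs'.1 lb₃ with h5 | h5
    · linarith
    · nlinarith only [hqq, hd3, h5]
  refine ⟨h2, h3, ?_⟩
  by_contra hcon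
  push Not at hcon
  obtain ⟨h4, h5⟩ := hcon
  have h6 : (q : ℤ) ^ 2 - 1 ≤ f - (q : ℤ) ^ 2 := by linarith
  have h7 : (q : ℤ) ^ 2 + 1 ≤ -x - (q : ℤ) ^ 2 := by linarith
  nlinarith only [hp, hqq, h4, h5]

/-- The equality case for `X₃`. -/
theorem Num.slack₃_eq_zero (h : Num q ε n κ f x) :
    -x - ε * q - 2 - ((q : ℤ) ^ 2 - 1) = 0 ↔ f = (ε * q) ^ 3 := by
  have hp := h.prod
  have hs := h.sq
  have hne : ε * (q : ℤ) + 1 ≠ 0 := by
    have h1 := h.q_ge
    rcases h.eps with h2 | h2 <;> rw [h2] <;> omega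
  have hne' : ε * (q : ℤ) - 1 ≠ 0 := by
    have h1 := h.q_ge
    rcases h.eps with h2 | h2 <;> rw [h2] <;> omega
  have hq0 : ε * (q : ℤ) ≠ 0 := by
    have h1 := h.q_ge
    rcases h.eps with h2 | h2 <;> rw [h2] <;> omega
  rw [← hs] at hp ⊢
  constructor
  · intro h1
    have h2 : -x - (ε * q) ^ 2 = ε * q + 1 := by linear_combination h1
    rw [h2] at hp
    apply mul_right_cancel₀ hne
    linear_combination hp
  · intro h1
    have h2 : f - (ε * q) ^ 2 = (ε * q) ^ 2 * (ε * q - 1) := by rw [h1]; ring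
    rw [h2] at hp
    have h3 : (ε * (q : ℤ)) ^ 2 * (ε * q - 1) ≠ 0 := mul_ne_zero (pow_ne_zero 2 hq0) hne'
    have h4 : (ε * (q : ℤ)) ^ 2 * (ε * q - 1) * (-x - (ε * q) ^ 2 - (ε * q + 1)) = 0 := by
      linear_combination hp
    rcases mul_eq_zero.1 h4 with h5 | h5
    · exact absurd h5 h3
    · linear_combination h5

/-- The equality case for `X₂`. -/
theorem Num.slack₂_eq_zero :
    f - ε * q - ((q : ℤ) ^ 2 - 1) = 0 ↔ f = (q : ℤ) ^ 2 + ε * q - 1 := by
  constructor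
  · intro h1; linear_combination h1
  · intro h1; linear_combination h1

theorem dvd_nat {p e σ N : ℕ} (hp : p.Prime) (hσ : σ ≠ 0) (h : σ ∣ (p ^ e) ^ 2 * N)
    (hn : ¬ p ^ e ∣ σ) : σ ∣ p ^ e * N := by
  obtain ⟨i, σ', h1, rfl⟩ := Nat.exists_eq_pow_mul_and_not_dvd hσ p hp.ne_one
  have hi : i < e := by
    by_contra h2
    exact hn ((pow_dvd_pow p (not_lt.1 h2)).mul_right _)
  have hc : Nat.Coprime σ' (p ^ e) :=
    (Nat.Coprime.pow_right e ((hp.coprime_iff_not_dvd.2 h1).symm))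
  have h2 : σ' ∣ N := by
    have h3 : σ' ∣ (p ^ e) ^ 2 * N := (dvd_mul_left σ' (p ^ i)).trans h
    exact (hc.pow_right 2).dvd_of_dvd_mul_left h3
  exact mul_dvd_mul (pow_dvd_pow p hi.le) h2

theorem dvd_int {q : ℕ} (hq : IsPrimePow q) {σ N : ℤ} (hσ : σ ≠ 0) (h : σ ∣ (q : ℤ) ^ 2 * N)
    (hn : ¬ (q : ℤ) ∣ σ) : σ ∣ (q : ℤ) * N := by
  obtain ⟨p, e, hp, -, rfl⟩ := hq
  rw [← Int.natAbs_dvd_natAbs] at h hn ⊢
  rw [Int.natAbs_mul] at h ⊢
  rw [Int.natAbs_pow] at h
  simp only [Int.natAbs_natCast] at h hn ⊢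
  exact dvd_nat hp.nat_prime (Int.natAbs_ne_zero.2 hσ) h hn

/-- `ε = -1`. -/
theorem Num.neg (h : Num q (-1) n κ f x) (hpp : IsPrimePow q)
    (lb₂ : (q : ℤ) ^ 2 - 1 ≤ |f - -1 * q|)
    (lb₃ : (q : ℤ) ^ 2 - 1 ≤ |x + -1 * q + 2|) :
    (0 < f ∧ f < (q : ℤ) ^ 2 ∧ (q : ℤ) ^ 2 - 1 ≤ f + q ∧ f + q - ((q : ℤ) ^ 2 - 1) ≤ q) ∨
    ((q : ℤ) ^ 2 < f ∧ (q : ℤ) ^ 2 - 1 ≤ -x + q - 2 ∧
      (f + q < 2 * ((q : ℤ) ^ 2 - 1) ∨ -x + q - 2 < 2 * ((q : ℤ) ^ 2 - 1))) ∨
    (f < 0 ∧ (q : ℤ) ^ 2 - 1 ≤ -x + q - 2 ∧ -x + q - 2 - ((q : ℤ) ^ 2 - 1) ≤ q - 2) := by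
  have hq4 : (q : ℤ) % 4 = 1 := by
    rcases h.q_cases with ⟨h1, -⟩ | ⟨-, h1⟩
    · exact absurd h1 (by norm_num)
    · exact h1
  have hq3 : (3 : ℤ) ≤ q := by exact_mod_cast h.q_ge
  have hq : (5 : ℤ) ≤ q := by omega
  have hp := h.prod
  have hqq : (25 : ℤ) ≤ (q : ℤ) ^ 2 := by nlinarith only [hq]
  have lb₂' : (q : ℤ) ^ 2 - 1 ≤ |f + q| := by
    have : f - -1 * (q : ℤ) = f + q := by ring
    rwa [this] at lb₂
  have lb₃' : (q : ℤ) ^ 2 - 1 ≤ |x - q + 2| := by
    have : x + -1 * (q : ℤ) + 2 = x - q + 2 := by ring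
    rwa [this] at lb₃
  rcases le_abs'.1 lb₂' with h1 | h1
  · -- `f < 0`
    right; right
    have hf : f < 0 := by linarith only [hq, hqq, h1]
    have hx : x < 0 := by
      have := h.eqB
      rw [h.sq] at this
      by_contra hcon
      push Not at hcon
      nlinarith only [hp, hqq, h1, hcon]
    have hx2 : -x < (q : ℤ) ^ 2 := by
      by_contra hcon
      push Not at hcon
      nlinarith only [hp, hqq, h1, hcon]
    refine ⟨hf, ?_, ?_⟩
    · rcases le_abs'.1 lb₃' with h5 | h5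
      · linarith
      · linarith only [hq, hqq, hx, h5]
    · linarith
  · rcases lt_trichotomy f ((q : ℤ) ^ 2) with h2 | h2 | h2
    · left
      exact ⟨by nlinarith only [hq3, h1], h2, h1, by linarith⟩
    · exfalso
      exact h.d₂_ne (by rw [h2, sub_self])
    · right; left
      have hd2 : 0 < f - (q : ℤ) ^ 2 := by linarith
      have hd3 : 0 < -x - (q : ℤ) ^ 2 := by
        by_contra hcon
        push Not at hcon
        nlinarith only [hp, hqq, h2, hcon]
      refine ⟨h2, by linarith, ?_⟩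
      by_contra hcon
      push Not at hcon
      obtain ⟨h4, h5⟩ := hcon
      -- `d₂ = 2 σ`, `q + 1 = 2 m`, `q - 1 = 2^j w`
      obtain ⟨c, hc⟩ : ∃ c : ℤ, (q : ℤ) = 4 * c + 1 := ⟨(q : ℤ) / 4, by omega⟩
      have hmf : (4 : ℤ) ∣ f + q := by
        have := h.mod_f
        have h6 : f - -1 * (q : ℤ) = f + q := by ring
        rwa [h6] at this
      obtain ⟨g, hg⟩ := hmf
      set σ : ℤ := 2 * (g - 4 * c ^ 2 - 3 * c) - 1 with hσ
      have e2 : f - (q : ℤ) ^ 2 = 2 * σ := by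
        rw [hσ]
        have : f = 4 * g - q := by linear_combination hg
        rw [this, hc]
        ring
      have hσo : Odd σ := ⟨g - 4 * c ^ 2 - 3 * c - 1, by rw [hσ]; ring⟩
      set m : ℤ := 2 * c + 1 with hm
      have e3 : (q : ℤ) + 1 = 2 * m := by rw [hm, hc]; ring
      have hd3' : (q : ℤ) ^ 2 - q ≤ -x - (q : ℤ) ^ 2 := by linarith only [h5]
      have hσ1 : ((q : ℤ) - 2) * m ≤ σ := by nlinarith only [h4, hc, e2]
      have hσ2 : σ ≤ q * m := by
        have : 2 * σ * ((q : ℤ) ^ 2 - q) ≤ (q : ℤ) ^ 2 * ((q : ℤ) ^ 2 - 1) := by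
          rw [← hp, e2]
          exact mul_le_mul_of_nonneg_left hd3' (by linarith only [h2, e2])
        have h6 : (q : ℤ) ^ 2 * ((q : ℤ) ^ 2 - 1) = 2 * (q * m) * ((q : ℤ) ^ 2 - q) := by
          rw [show 2 * ((q : ℤ) * m) = q * (2 * m) by ring, ← e3]; ring
        rw [h6] at this
        have h7 : (0 : ℤ) < (q : ℤ) ^ 2 - q := by linarith only [hqq, hc, hg, e2, _root_.sq_nonneg (c : ℤ)]
        have h8 := le_of_mul_le_mul_right this h7
        linarith only [h8]
      have hσ0 : 0 < σ := by linarith only [h2, e2]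
      have hm1 : 1 ≤ m := by rw [hm]; omega
      by_cases hqσ : (q : ℤ) ∣ σ
      · obtain ⟨σ₁, hσ₁⟩ := hqσ
        have h6 : m - 1 ≤ σ₁ := by
          by_contra h7
          push Not at h7
          have : σ₁ ≤ m - 2 := by omega
          nlinarith only [hqq, h4, hc, e2, hσ₁, h7]
        have h7 : σ₁ ≤ m := by
          rw [hσ₁] at hσ2
          exact le_of_mul_le_mul_left hσ2 (by linarith only [hq3])
        have h8 : σ₁ = m := by
          rcases eq_or_lt_of_le h7 with h9 | h9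
          · exact h9
          · exfalso
            have h10 : σ₁ = m - 1 := by omega
            have h11 : Even σ := by
              rw [hσ₁, h10, hm]
              exact ⟨q * c, by ring⟩
            exact (Int.not_even_iff_odd.2 hσo) h11
        have h9 := h.eight_dvd
        have h10 : f - -1 * (q : ℤ) = 2 * q * (q + 1) := by
          have : f = (q : ℤ) ^ 2 + 2 * (q * m) := by
            rw [h8] at hσ₁
            linear_combination e2 + 2 * hσ₁
          rw [this, show 2 * ((q : ℤ) * m) = q * (2 * m) by ring, ← e3]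
          ring
        rw [h10, hc] at h9
        have h11 : 2 * (4 * c + 1) * (4 * c + 1 + 1) = 8 * (4 * c ^ 2 + 3 * c) + 4 := by ring
        rw [h11] at h9
        omega
      · -- `σ ∣ q m w`
        obtain ⟨j, w, hw1, hw2⟩ := Nat.exists_eq_pow_mul_and_not_dvd
          (show q - 1 ≠ 0 by have := h.q_ge; omega) 2 (by norm_num)
        have hw3 : (q : ℤ) - 1 = 2 ^ j * w := by
          have h6 : ((q - 1 : ℕ) : ℤ) = ((2 ^ j * w : ℕ) : ℤ) := by rw [hw2]
          rw [Nat.cast_sub (by have := h.q_ge; omega)] at h6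
          push_cast at h6
          exact h6
        have hj : 2 ≤ j := by
          by_contra h6
          have h7 : j = 0 ∨ j = 1 := by omega
          have hwo : w % 2 = 1 := by omega
          rcases h7 with h7 | h7
          · rw [h7, pow_zero, one_mul] at hw3
            omega
          · rw [h7, pow_one] at hw3
            omega
        have h6 : σ * (-x - (q : ℤ) ^ 2) = (q : ℤ) ^ 2 * (m * w) * 2 ^ j := by
          have h7 : (q : ℤ) ^ 2 - 1 = 2 * m * (2 ^ j * w) := by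
            rw [← e3, ← hw3]; ring
          rw [e2, h7] at hp
          have h8 : (2 : ℤ) ≠ 0 := two_ne_zero
          apply mul_left_cancel₀ h8
          linear_combination hp
        have h7 : σ ∣ (q : ℤ) ^ 2 * (m * w) := by
          have h8 : IsCoprime σ ((2 : ℤ) ^ j) := by
            refine IsCoprime.pow_right ?_
            obtain ⟨r, hr⟩ := hσo
            exact ⟨1, -r, by rw [hr]; ring⟩
          exact h8.dvd_of_dvd_mul_right ⟨_, h6.symm⟩
        obtain ⟨τ, hτ⟩ := dvd_int hpp hσ0.ne' h7 hqσ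
        have hw0 : (0 : ℤ) < w := by
          have : (0 : ℤ) < 2 ^ j * w := by rw [← hw3]; linarith only [hq3]
          exact pos_of_mul_pos_right this (by positivity)
        have h9 : σ < q * m := by
          rcases eq_or_lt_of_le hσ2 with h10 | h10
          · exact absurd ⟨m, h10⟩ hqσ
          · exact h10
        have h10 : (w : ℤ) + 1 ≤ τ := by
          by_contra h11
          push Not at h11
          have h12 : τ ≤ w := by omega
          have h13 : (q : ℤ) * (m * w) ≤ σ * w := by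
            rw [hτ]
            exact mul_le_mul_of_nonneg_left h12 hσ0.le
          nlinarith only [hw0, h9, h13]
        have h11 : ((q : ℤ) - 2) * m * (w + 1) ≤ q * (m * w) := by
          rw [hτ]
          calc ((q : ℤ) - 2) * m * (w + 1) ≤ σ * (w + 1) :=
                mul_le_mul_of_nonneg_right hσ1 (by linarith only [hw0])
            _ ≤ σ * τ := mul_le_mul_of_nonneg_left h10 hσ0.le
        have h12 : (q : ℤ) ≤ 2 * w + 2 := by
          have h13 : m * (((q : ℤ) - 2) * (w + 1)) ≤ m * (q * w) := by linarith only [h11]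
          have h14 := le_of_mul_le_mul_left h13 (by linarith only [hc])
          linarith only [h14]
        have h13 : 4 * (w : ℤ) ≤ q - 1 := by
          rw [hw3]
          have h14 : (4 : ℤ) ≤ 2 ^ j := by
            calc (4 : ℤ) = 2 ^ 2 := by norm_num
              _ ≤ 2 ^ j := pow_le_pow_right₀ (by norm_num) hj
          exact mul_le_mul_of_nonneg_right h14 hw0.le
        (clear * - hw1 h12 h13; omega)

/-! ### Regular blocks -/

theorem mul_eq_cases {q : ℤ} (hq : 3 ≤ q) {l j : ℤ} (h : (q * l - 1) * j = q ^ 2 - 1) :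
    l = q ∨ l = 1 ∨ l = -1 ∨ l = 0 := by
  obtain ⟨i, hi⟩ : ∃ i, j = 1 + q * i := ⟨l * j - q, by linear_combination -h⟩
  have h1 : l * (1 + q * i) = q + i := by
    rw [hi] at h
    have h2 : q * (l * (1 + q * i)) = q * (q + i) := by linear_combination h
    exact mul_left_cancel₀ (by linarith) h2
  by_cases h0 : i = 0
  · left
    rw [h0] at h1
    linarith
  by_cases h2 : i = 1
  · right; left
    rw [h2] at h1
    have h3 : (q + 1) * (l - 1) = 0 := by linear_combination h1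
    rcases mul_eq_zero.1 h3 with h4 | h4 <;> linarith
  by_cases h3 : i = -1
  · right; right; left
    rw [h3] at h1
    have h4 : (q - 1) * (l + 1) = 0 := by linear_combination -h1
    rcases mul_eq_zero.1 h4 with h5 | h5 <;> linarith
  right; right; right
  by_contra hl
  have h4 : 2 ≤ i ∨ i ≤ -2 := by omega
  rcases h4 with h4 | h4
  · have hP : 0 < 1 + q * i := by nlinarith only [hq, h4]
    have h5 : 0 < l := by
      by_contra h6
      push Not at h6
      have h7 := mul_nonpos_of_nonpos_of_nonneg h6 hP.le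
      linarith
    have h6 : 1 * (1 + q * i) ≤ l * (1 + q * i) := mul_le_mul_of_nonneg_right h5 hP.le
    have h7 : 0 < (q - 1) * (i - 1) := mul_pos (by linarith) (by linarith)
    linarith only [h1, h6, h7]
  · have hP : 1 + q * i < 0 := by nlinarith only [hq, h4]
    have h5 : 1 ≤ l ∨ l ≤ -1 := by omega
    rcases h5 with h5 | h5
    · have h6 : l * (1 + q * i) ≤ 1 * (1 + q * i) := mul_le_mul_of_nonpos_right h5 hP.le
      have h7 : (q - 1) * (i - 1) < 0 := mul_neg_of_pos_of_neg (by linarith) (by linarith)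
      linarith only [h1, h6, h7]
    · have h6 : -1 * (1 + q * i) ≤ l * (1 + q * i) := mul_le_mul_of_nonpos_right h5 hP.le
      have h7 : (q + 1) * (i + 1) < 0 := mul_neg_of_pos_of_neg (by linarith) (by linarith)
      linarith only [h1, h6, h7]

theorem isCoprime_of_prime {p : ℕ} (hp : p.Prime) {a : ℤ} (h : ¬ (p : ℤ) ∣ a) (k : ℕ) :
    IsCoprime ((p : ℤ) ^ k) a :=
  IsCoprime.pow_left ((Nat.prime_iff_prime_int.1 hp).coprime_iff_not_dvd.2 h)

/-- **The numbers of a regular block**: `k = 1`. -/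
theorem Num.eq_cube (h : Num q ε n κ f x) (hpp : IsPrimePow q) {a : ℤ}
    (ha : a * (q : ℤ) ^ 2 * (f - ε * q) ^ 2 =
      (q + ε) * ((ε * q) * (ε * q - 1) * (ε * q + 1) ^ 2 * f * (f - 1))) :
    f = (ε * q) ^ 3 := by
  have hq3 : (3 : ℤ) ≤ q := by exact_mod_cast h.q_ge
  have h8 := h.eight_dvd
  have hprod := h.prod
  have hε2 := eps_sq h.eps
  obtain ⟨p, e, hp', he, hqe⟩ := hpp
  have hp : p.Prime := hp'.nat_prime
  have hpZ : Prime (p : ℤ) := Nat.prime_iff_prime_int.1 hp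
  have hqe' : (q : ℤ) = (p : ℤ) ^ e := by rw [← hqe]; push_cast; rfl
  have hpq : (p : ℤ) ∣ q := by rw [hqe']; exact dvd_pow_self _ he.ne'
  have hp1 : ¬ (p : ℤ) ∣ 1 := fun h1 => hpZ.not_isUnit (isUnit_of_dvd_one h1)
  have hpm : ¬ (p : ℤ) ∣ ε * q - 1 := fun h1 => hp1 (by
    have h2 := dvd_sub (hpq.mul_left ε) h1
    rwa [sub_sub_cancel] at h2)
  have hpp1 : ¬ (p : ℤ) ∣ ε * q + 1 := fun h1 => hp1 (by
    have h2 := dvd_sub h1 (hpq.mul_left ε)
    rwa [add_sub_cancel_left] at h2)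
  have hpe : ¬ (p : ℤ) ∣ q + ε := fun h1 => hp1 (by
    have h2 := (dvd_sub h1 hpq).mul_left ε
    rwa [add_sub_cancel_left, hε2] at h2)
  have hεn : ε ≠ 0 := by
    rintro rfl
    norm_num at hε2
  have hq0 : (q : ℤ) ≠ 0 := by linarith only [hq3]
  by_cases hpf : (p : ℤ) ∣ f
  · have hpf1 : ¬ (p : ℤ) ∣ f - 1 := fun h1 => hp1 (by
      have h2 := dvd_sub hpf h1
      rwa [sub_sub_cancel] at h2)
    -- `q ∣ f`
    have hqf : (q : ℤ) ∣ f := by
      by_contra hcon
      have hfm : FiniteMultiplicity (p : ℤ) f :=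
        Int.finiteMultiplicity_iff.2 ⟨by rw [Int.natAbs_natCast]; exact hp.ne_one, h.f_ne_zero⟩
      obtain ⟨f₀, hff', hf₀⟩ := hfm.exists_eq_pow_mul_and_not_dvd
      obtain ⟨j, hff⟩ : ∃ j : ℕ, f = (p : ℤ) ^ j * f₀ := ⟨_, hff'⟩
      clear hff'
      have hj : j < e := by
        by_contra h1
        apply hcon
        rw [hff, hqe']
        exact (pow_dvd_pow _ (not_lt.1 h1)).mul_right _
      obtain ⟨i, rfl⟩ : ∃ i, e = j + (i + 1) := ⟨e - j - 1, by omega⟩
      have h1 : f - ε * q = (p : ℤ) ^ j * (f₀ - ε * (p : ℤ) ^ (i + 1)) := by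
        rw [hff, hqe', pow_add]; ring
      have h2 : (p : ℤ) ∣ (q + ε) * (ε * (ε * q - 1) * (ε * q + 1) ^ 2 * f₀ * (f - 1)) := by
        have h3 : (p : ℤ) ^ j * (q : ℤ) * (a * q * (p : ℤ) ^ j * (f₀ - ε * (p : ℤ) ^ (i + 1)) ^ 2) =
            (p : ℤ) ^ j * (q : ℤ) *
              ((q + ε) * (ε * (ε * q - 1) * (ε * q + 1) ^ 2 * f₀ * (f - 1))) := by
          rw [h1] at ha
          have h4 : (q + ε) * ((ε * q) * (ε * q - 1) * (ε * q + 1) ^ 2 * f * (f - 1)) =
              (q + ε) * ((ε * q) * (ε * q - 1) * (ε * q + 1) ^ 2 * ((p : ℤ) ^ j * f₀) *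
                (f - 1)) := by rw [← hff]
          rw [h4] at ha
          linear_combination ha
        have h5 := mul_left_cancel₀ (mul_ne_zero (pow_ne_zero j hpZ.ne_zero) hq0) h3
        rw [← h5]
        exact (((hpq.mul_left a).mul_right _).mul_right _)
      rcases hpZ.dvd_or_dvd h2 with h3 | h3
      · exact hpe h3
      rcases hpZ.dvd_or_dvd h3 with h3 | h3
      · rcases hpZ.dvd_or_dvd h3 with h3 | h3
        · rcases hpZ.dvd_or_dvd h3 with h3 | h3
          · rcases hpZ.dvd_or_dvd h3 with h3 | h3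
            · apply hp1
              have := h3.mul_left ε
              rwa [hε2] at this
            · exact hpm h3
          · exact hpp1 (hpZ.dvd_of_dvd_pow h3)
        · exact hf₀ h3
      · exact hpf1 h3
    obtain ⟨f₁, hf₁⟩ := hqf
    have h1 : (q : ℤ) ^ 2 ∣ f₁ := by
      have h2 : (q : ℤ) ^ 2 * (a * (f₁ - ε) ^ 2) =
          f₁ * ((q + ε) * (ε * (ε * q - 1) * (ε * q + 1) ^ 2 * (f - 1))) := by
        have h3 : f - ε * q = q * (f₁ - ε) := by rw [hf₁]; ring
        rw [h3] at ha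
        have h4 : (q + ε) * ((ε * q) * (ε * q - 1) * (ε * q + 1) ^ 2 * f * (f - 1)) =
              (q + ε) * ((ε * q) * (ε * q - 1) * (ε * q + 1) ^ 2 * (q * f₁) *
                (f - 1)) := by rw [← hf₁]
        rw [h4] at ha
        apply mul_left_cancel₀ (pow_ne_zero 2 hq0)
        linear_combination ha
      have h3 : IsCoprime ((q : ℤ) ^ 2)
          ((q + ε) * (ε * (ε * q - 1) * (ε * q + 1) ^ 2 * (f - 1))) := by
        rw [hqe', ← pow_mul, ← hqe']
        refine isCoprime_of_prime hp ?_ _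
        intro h4
        rcases hpZ.dvd_or_dvd h4 with h4 | h4
        · exact hpe h4
        rcases hpZ.dvd_or_dvd h4 with h4 | h4
        · rcases hpZ.dvd_or_dvd h4 with h4 | h4
          · rcases hpZ.dvd_or_dvd h4 with h4 | h4
            · apply hp1
              have := h4.mul_left ε
              rwa [hε2] at this
            · exact hpm h4
          · exact hpp1 (hpZ.dvd_of_dvd_pow h4)
        · exact hpf1 h4
      exact h3.dvd_of_dvd_mul_right ⟨_, h2.symm⟩
    obtain ⟨l, hl⟩ := h1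
    have hfl : f = (q : ℤ) ^ 3 * l := by rw [hf₁, hl]; ring
    have h2 : ((q : ℤ) * l - 1) * (-x - (q : ℤ) ^ 2) = (q : ℤ) ^ 2 - 1 := by
      apply mul_left_cancel₀ (pow_ne_zero 2 hq0)
      rw [hfl] at hprod
      linear_combination hprod
    rcases mul_eq_cases hq3 h2 with h3 | h3 | h3 | h3
    · -- `f = q⁴`
      exfalso
      rw [hfl, h3] at h8
      rcases h.q_cases with ⟨h4, h5⟩ | ⟨h4, h5⟩
      · obtain ⟨c, hc⟩ : ∃ c : ℤ, (q : ℤ) = 4 * c + 3 := ⟨(q : ℤ) / 4, by omega⟩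
        have h6 : (4 : ℤ) ∣ (q : ℤ) ^ 3 * q - ε * q := (by norm_num : (4 : ℤ) ∣ 8).trans h8
        rw [h4, hc] at h6
        have h7 : (4 * c + 3) ^ 3 * (4 * c + 3) - 1 * (4 * c + 3) =
          4 * (64 * c ^ 4 + 192 * c ^ 3 + 216 * c ^ 2 + 107 * c + 19) + 2 := by ring
        rw [h7] at h6
        omega
      · obtain ⟨c, hc⟩ : ∃ c : ℤ, (q : ℤ) = 4 * c + 1 := ⟨(q : ℤ) / 4, by omega⟩
        have h6 : (4 : ℤ) ∣ (q : ℤ) ^ 3 * q - ε * q := (by norm_num : (4 : ℤ) ∣ 8).trans h8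
        rw [h4, hc] at h6
        have h7 : (4 * c + 1) ^ 3 * (4 * c + 1) - -1 * (4 * c + 1) =
          4 * (64 * c ^ 4 + 64 * c ^ 3 + 24 * c ^ 2 + 5 * c) + 2 := by ring
        rw [h7] at h6
        omega
    · rcases h.q_cases with ⟨h4, h5⟩ | ⟨h4, h5⟩
      · rw [hfl, h3, h4]; ring
      · exfalso
        obtain ⟨c, hc⟩ : ∃ c : ℤ, (q : ℤ) = 4 * c + 1 := ⟨(q : ℤ) / 4, by omega⟩
        have h6 : (4 : ℤ) ∣ f - ε * q := (by norm_num : (4 : ℤ) ∣ 8).trans h8
        rw [hfl, h3, h4, hc] at h6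
        have h7 : (4 * c + 1) ^ 3 * 1 - -1 * (4 * c + 1) =
          4 * (16 * c ^ 3 + 12 * c ^ 2 + 4 * c) + 2 := by ring
        rw [h7] at h6
        omega
    · rcases h.q_cases with ⟨h4, h5⟩ | ⟨h4, h5⟩
      · exfalso
        obtain ⟨c, hc⟩ : ∃ c : ℤ, (q : ℤ) = 4 * c + 3 := ⟨(q : ℤ) / 4, by omega⟩
        have h6 : (4 : ℤ) ∣ f - ε * q := (by norm_num : (4 : ℤ) ∣ 8).trans h8
        rw [hfl, h3, h4, hc] at h6
        have h7 : (4 * c + 3) ^ 3 * -1 - 1 * (4 * c + 3) =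
          4 * (-16 * c ^ 3 - 36 * c ^ 2 - 28 * c - 8) + 2 := by ring
        rw [h7] at h6
        omega
      · rw [hfl, h3, h4]; ring
    · exfalso
      apply h.f_ne_zero
      rw [hfl, h3, mul_zero]
  · -- `p ∤ f`
    have hpfq : ¬ (p : ℤ) ∣ f - ε * q := fun h1 => hpf (by
      have h2 := dvd_add h1 (hpq.mul_left ε)
      rwa [sub_add_cancel] at h2)
    have h1 : (q : ℤ) ∣ f - 1 := by
      have h2 : (q : ℤ) * (a * (f - ε * q) ^ 2) =
          (f - 1) * ((q + ε) * (ε * (ε * q - 1) * (ε * q + 1) ^ 2 * f)) := by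
        apply mul_left_cancel₀ hq0
        linear_combination ha
      have h3 : IsCoprime (q : ℤ) ((q + ε) * (ε * (ε * q - 1) * (ε * q + 1) ^ 2 * f)) := by
        rw [hqe', ← hqe']
        have h4 : IsCoprime ((p : ℤ) ^ e) ((q + ε) * (ε * (ε * q - 1) * (ε * q + 1) ^ 2 * f)) := by
          refine isCoprime_of_prime hp ?_ _
          intro h4
          rcases hpZ.dvd_or_dvd h4 with h4 | h4
          · exact hpe h4
          rcases hpZ.dvd_or_dvd h4 with h4 | h4
          · rcases hpZ.dvd_or_dvd h4 with h4 | h4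
            · rcases hpZ.dvd_or_dvd h4 with h4 | h4
              · apply hp1
                have := h4.mul_left ε
                rwa [hε2] at this
              · exact hpm h4
            · exact hpp1 (hpZ.dvd_of_dvd_pow h4)
          · exact hpf h4
        rwa [← hqe'] at h4
      exact h3.dvd_of_dvd_mul_right ⟨_, h2.symm⟩
    obtain ⟨l', hl'⟩ := h1
    -- `q² ∣ d₃`
    have h2 : (q : ℤ) ^ 2 ∣ -x - (q : ℤ) ^ 2 := by
      have h3 : IsCoprime ((q : ℤ) ^ 2) (f - (q : ℤ) ^ 2) := by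
        have h4 : IsCoprime ((p : ℤ) ^ (e * 2)) (f - (q : ℤ) ^ 2) := by
          refine isCoprime_of_prime hp ?_ _
          intro h5
          apply hpf
          have h6 := dvd_add h5 (hpq.trans (dvd_pow_self (q : ℤ) two_ne_zero))
          rwa [sub_add_cancel] at h6
        rwa [pow_mul, ← hqe'] at h4
      exact h3.dvd_of_dvd_mul_left ⟨_, hprod⟩
    obtain ⟨j, hj⟩ := h2
    have h3 : (f - (q : ℤ) ^ 2) * j = (q : ℤ) ^ 2 - 1 := by
      apply mul_left_cancel₀ (pow_ne_zero 2 hq0)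
      rw [hj] at hprod
      linear_combination hprod
    set i : ℤ := l' - q with hi
    have h4 : f - (q : ℤ) ^ 2 = 1 + q * i := by rw [hi]; linear_combination hl'
    rw [h4] at h3
    obtain ⟨l, hl⟩ : ∃ l, j = q * l - 1 := ⟨q - i * j, by linear_combination h3⟩
    have h5 : ((q : ℤ) * l - 1) * (1 + q * i) = (q : ℤ) ^ 2 - 1 := by
      rw [← hl, mul_comm]; exact h3
    have hd : f - (q : ℤ) ^ 2 = 1 ∨ f - (q : ℤ) ^ 2 = q + 1 ∨ f - (q : ℤ) ^ 2 = 1 - q ∨
        f - (q : ℤ) ^ 2 = 1 - (q : ℤ) ^ 2 := by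
      rw [h4]
      rcases mul_eq_cases hq3 h5 with h6 | h6 | h6 | h6
      · left
        have h7 : ((q : ℤ) ^ 2 - 1) * (1 + q * i - 1) = 0 := by
          rw [h6] at h5; linear_combination h5
        rcases mul_eq_zero.1 h7 with h8 | h8
        · nlinarith only [hq3, h8]
        · linarith only [h8]
      · right; left
        have h7 : ((q : ℤ) - 1) * (1 + q * i - (q + 1)) = 0 := by
          rw [h6] at h5; linear_combination h5
        rcases mul_eq_zero.1 h7 with h8 | h8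
        · linarith only [hq3, h8]
        · linarith only [h8]
      · right; right; left
        have h7 : ((q : ℤ) + 1) * (1 + q * i - (1 - q)) = 0 := by
          rw [h6] at h5; linear_combination -h5
        rcases mul_eq_zero.1 h7 with h8 | h8
        · linarith only [h8]
        · linarith only [h8]
      · right; right; right
        rw [h6] at h5; linear_combination -h5
    exfalso
    rcases h.q_cases with ⟨hε, h5'⟩ | ⟨hε, h5'⟩
    · obtain ⟨c, hc⟩ : ∃ c : ℤ, (q : ℤ) = 4 * c + 3 := ⟨(q : ℤ) / 4, by omega⟩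
      have h6 : (4 : ℤ) ∣ f - ε * q := (by norm_num : (4 : ℤ) ∣ 8).trans h8
      rcases hd with h7 | h7 | h7 | h7
      · have h9 : f - ε * q = 4 * (4 * c ^ 2 + 5 * c + 1) + 3 := by
          have : f = 1 + (q : ℤ) ^ 2 := by linear_combination h7
          rw [this, hε, hc]; ring
        omega
      · have h9 : f - ε * q = 4 * (4 * c ^ 2 + 6 * c + 2) + 2 := by
          have : f = (q : ℤ) + 1 + (q : ℤ) ^ 2 := by linear_combination h7
          rw [this, hε, hc]; ring
        omega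
      · have h9 : f - ε * q = 8 * (2 * c ^ 2 + 2 * c) + 4 := by
          have : f = 1 - (q : ℤ) + (q : ℤ) ^ 2 := by linear_combination h7
          rw [this, hε, hc]; ring
        omega
      · exact h.f_ne_one (by linear_combination h7)
    · obtain ⟨c, hc⟩ : ∃ c : ℤ, (q : ℤ) = 4 * c + 1 := ⟨(q : ℤ) / 4, by omega⟩
      have h6 : (4 : ℤ) ∣ f - ε * q := (by norm_num : (4 : ℤ) ∣ 8).trans h8
      rcases hd with h7 | h7 | h7 | h7
      · have h9 : f - ε * q = 4 * (4 * c ^ 2 + 3 * c) + 3 := by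
          have : f = 1 + (q : ℤ) ^ 2 := by linear_combination h7
          rw [this, hε, hc]; ring
        omega
      · have h9 : f - ε * q = 8 * (2 * c ^ 2 + 2 * c) + 4 := by
          have : f = (q : ℤ) + 1 + (q : ℤ) ^ 2 := by linear_combination h7
          rw [this, hε, hc]; ring
        omega
      · have h9 : f - ε * q = 4 * (4 * c ^ 2 + 2 * c) + 2 := by
          have : f = 1 - (q : ℤ) + (q : ℤ) ^ 2 := by linear_combination h7
          rw [this, hε, hc]; ring
        omega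
      · exact h.f_ne_one (by linear_combination h7)

end

end Cfsg.Agent.Classification.QDW.NumBridge
end

-- part: Classification/QDW/NumBridgeG
section
/-!
# The numbers of the quasi-dihedral case: from `SDRes` to `Num`
-/

set_option autoImplicit false
set_option linter.unusedSectionVars false

open Cfsg

namespace Cfsg.Agent.Classification.QDW.NumBridgeG

open Cfsg.Agent.Characters Cfsg.Agent.Classification.BGOrder Cfsg.Agent.Classification.BGSplit
  Cfsg.Agent.Classification.BGIsometry Cfsg.Agent.Classification.BGBlockB0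
  Cfsg.Agent.Classification.InvCent Cfsg.Agent.Classification.InvCent.GPair
  Cfsg.Agent.TwoFusion.DihedralFusion
  Cfsg.Agent.Classification.QDW.NumBridge

universe w v

/-- The sum of a generalized character over a four-group. -/
theorem exists_sum_four {G : Type w} [Group G] [Fintype G] {θ : G → ℂ}
    (hθ : IsGeneralizedCharacter G θ) {a b : G} (ha : a * a = 1) (hb : b * b = 1)
    (hab : a * b = b * a) (ha1 : a ≠ 1) (hb1 : b ≠ 1) (hne : a ≠ b) :
    ∃ z : ℤ, θ 1 + θ a + θ b + θ (a * b) = 4 * z := by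
  classical
  have hV := isKleinFour_fourGroup ha hb hab ha1 hb1 hne
  set V := fourGroup a b ha hb hab with hVdef
  have := Fintype.ofFinite V
  obtain ⟨z, hz⟩ := SchurBound.exists_int_sum (G := V) (GL23Assembly.isGen_comp V.subtype hθ)
  refine ⟨z, ?_⟩
  rw [hV.card_four] at hz
  have hab1 : a * b ≠ 1 := by
    intro h1
    apply hne
    have h2 := eq_inv_of_mul_eq_one_left h1
    have h3 : b⁻¹ = b := inv_eq_of_mul_eq_one_left hb
    rw [h2, h3]
  have m1 : (1 : G) ∈ V := Or.inl rfl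
  have ma : a ∈ V := Or.inr (Or.inl rfl)
  have mb : b ∈ V := Or.inr (Or.inr (Or.inl rfl))
  have mab : a * b ∈ V := Or.inr (Or.inr (Or.inr rfl))
  have hu : (Finset.univ : Finset V) = {(⟨1, m1⟩ : V), ⟨a, ma⟩, ⟨b, mb⟩, ⟨a * b, mab⟩} := by
    ext x
    simp only [Finset.mem_univ, Finset.mem_insert, Finset.mem_singleton, true_iff]
    rcases x.2 with h | h | h | h
    · left; exact Subtype.ext h
    · right; left; exact Subtype.ext h
    · right; right; left; exact Subtype.ext h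
    · right; right; right; exact Subtype.ext h
  have n1 : (⟨b, mb⟩ : V) ≠ ⟨a * b, mab⟩ := fun h1 =>
    ha1 (mul_eq_right.1 (congrArg Subtype.val h1).symm)
  have n2 : (⟨a, ma⟩ : V) ≠ ⟨b, mb⟩ := fun h1 => hne (congrArg Subtype.val h1)
  have n3 : (⟨a, ma⟩ : V) ≠ ⟨a * b, mab⟩ := fun h1 =>
    hb1 (mul_eq_left.1 (congrArg Subtype.val h1).symm)
  have n4 : (⟨1, m1⟩ : V) ≠ ⟨a, ma⟩ := fun h1 => ha1 (congrArg Subtype.val h1).symm
  have n5 : (⟨1, m1⟩ : V) ≠ ⟨b, mb⟩ := fun h1 => hb1 (congrArg Subtype.val h1).symm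
  have n6 : (⟨1, m1⟩ : V) ≠ ⟨a * b, mab⟩ := fun h1 => hab1 (congrArg Subtype.val h1).symm
  rw [hu, Finset.sum_insert, Finset.sum_insert, Finset.sum_insert, Finset.sum_singleton] at hz
  · simp only [Function.comp_apply, Subgroup.subtype_apply] at hz
    push_cast at hz
    rw [← hz]
    ring
  · rw [Finset.mem_singleton]; exact n1
  · rw [Finset.mem_insert, Finset.mem_singleton]
    rintro (h1 | h1)
    · exact n2 h1
    · exact n3 h1
  · rw [Finset.mem_insert, Finset.mem_insert, Finset.mem_singleton]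
    rintro (h1 | h1 | h1)
    · exact n4 h1
    · exact n5 h1
    · exact n6 h1

section

variable {G : Type w} [Group G] [Fintype G] {C : Type v} [Group C] [Fintype C] {t : G} {z : C}
  {π : (Subgroup.centralizer ({t} : Set G)) →* C}
  {q : ℕ} {ε : ℤ} {Z T T' U : Subgroup C} {s s' u : C}
  {b : C →* ℂˣ}

/-- An involution over `u`, a four-group with all involutions conjugate. -/
theorem exists_over (H : RTwo.General.Hyp t z π) (h : CHyp z q ε Z T T' U s s' u) :
    ∃ x : Subgroup.centralizer ({t} : Set G), orderOf x = 2 ∧ π x = u := by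
  have h1 := (kap_odd H h).pos
  have h2 : Nonempty {x : Subgroup.centralizer ({t} : Set G) // orderOf x = 2 ∧ π x = u} :=
    (Nat.card_pos_iff.1 h1).1
  obtain ⟨x, hx⟩ := h2
  exact ⟨x, hx⟩

/-- `X(1) + 3 X(t) ≡ 0 mod 4`. -/
theorem exists_mod_four (H : RTwo.General.Hyp t z π) (h : CHyp z q ε Z T T' U s s' u)
    {X : G → ℂ} (hX : SignedIrr X) : ∃ k : ℤ, X 1 + 3 * X t = 4 * k := by
  obtain ⟨x, hx, hxu⟩ := exists_over H h
  have hcl := isClassFunction_signed hX
  have hx2 : orderOf (x : G) = 2 := by rw [Subgroup.orderOf_coe]; exact hx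
  have ha := RTwo.General.t_mul_t H
  have hb : (x : G) * x = 1 := by
    have h1 := pow_orderOf_eq_one (x : G)
    rwa [hx2, _root_.sq] at h1
  have hab : t * (x : G) = x * t := (Subgroup.mem_centralizer_singleton_iff.1 x.2).symm
  have ha1 : t ≠ 1 := RTwo.General.t_ne_one H
  have hb1 : (x : G) ≠ 1 := by
    intro h1
    rw [h1, orderOf_one] at hx2
    exact absurd hx2 (by norm_num)
  have hne : t ≠ (x : G) := by
    intro h1
    apply h.u_ne
    rw [← hxu, ← RTwo.General.map_tt H]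
    congr 1
    exact Subtype.ext h1.symm
  obtain ⟨k, hk⟩ := exists_sum_four (generalized_signed hX) ha hb hab ha1 hb1 hne
  refine ⟨k, ?_⟩
  rw [← hk]
  have e1 : X x = X t := by
    obtain ⟨c, hc⟩ := isConj_iff.1 (H.one_class _ hx2)
    rw [← hc]
    exact hcl t c
  have e2 : X (t * x) = X t := by
    have h1 : orderOf (t * (x : G)) = 2 := by
      refine orderOf_eq_prime ?_ ?_
      · rw [_root_.sq]
        calc t * (x : G) * (t * x) = t * ((x : G) * t) * x := by group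
          _ = (t * t) * (x * x) := by rw [← hab]; group
          _ = 1 := by rw [ha, hb, one_mul]
      · intro h2
        apply hne
        exact (eq_inv_of_mul_eq_one_left h2).trans (inv_eq_of_mul_eq_one_left hb)
    obtain ⟨c, hc⟩ := isConj_iff.1 (H.one_class _ h1)
    rw [← hc]
    exact hcl t c
  rw [e1, e2]
  ring

/-- **The numbers.** -/
theorem num {M : Ideal AlgInt} {μ : U →* ℂˣ} {X₂ X₃ X₄ X₅ L : G → ℂ} {f x : ℤ}
    (H : RTwo.General.Hyp t z π) {h : CHyp z q ε Z T T' U s s' u} (h4 : ¬ (4 : ℤ) ∣ q - ε)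
    (R : SDRes M h μ π X₂ X₃ X₄ X₅ L f x) :
    Num q ε ((Subgroup.centralizer ({t} : Set G)).index) (kap π u) f x where
  q_ge := by
    have h1 := h.one_lt_q
    obtain ⟨k, hk⟩ := h.odd_q
    omega
  eps := h.eps
  mod_q := by
    obtain ⟨k, hk⟩ := h.odd_q
    rcases h.eps with h1 | h1 <;> rw [h1] at h4 ⊢ <;> omega
  odd_n := by exact_mod_cast RTwo.SDChar.odd_index H.orderOf_t H.one_class
  odd_κ := by exact_mod_cast kap_odd H h
  eqA := by rw [R.eqA]
  eqB := by rw [R.eqB]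
  f_ne_zero := R.f_ne_zero
  f_ne_one := R.f_ne_one
  x_ne_zero := R.x_ne_zero
  x_ne := R.x_ne
  mod_f := by
    obtain ⟨k, hk⟩ := exists_mod_four H h R.in₂.signedIrr
    rw [R.one₂, R.t₂] at hk
    have hk' : f + 3 * (ε * q) = 4 * k := by exact_mod_cast hk
    exact ⟨k - ε * q, by linear_combination hk'⟩

end

end Cfsg.Agent.Classification.QDW.NumBridgeG
end
end
end
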